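import Cfsg.Agent.Omega.TC.RSwap
import Cfsg.Agent.Omega.Node.MulC

/-!
# CARD #18791 over the general frame `MulG` (`HypL` and the case (L) of GammaFF)

* `exists_BO_top`, **`offK_of_top`** : `OffK` over a weakly closed level `K₀` (`Top S P K₀`);
* **`false_of_uni`** : (E), `k = 2 = q`, over `MulG` with the field `uni` and the nonlocal case only; `nonloc_of_gen`;
* **`eEndTwo_kl : MLK → NoInp → MulC.EEndTwo K`** : the end of (E), `k = 2 = q`, over `MulG`, UNI+ and block generation.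
-/

set_option autoImplicit false
set_option linter.unusedSectionVars false

namespace Cfsg.Agent.Omega.TC.LevTop

open Subgroup Cfsg Cfsg.Agent.ZN Cfsg.Agent.PLocal.ThompsonJ Cfsg.Agent.PLocal.ElemAbSup
open Cfsg.Agent.Omega.MinPar
open Cfsg.Agent.Omega.OM.KTwo (CC QQ WU NU EU FF ne_add_one eq_add_one add_one_add_one le_normalizer_V le_V)
open Cfsg.Agent.ZN.ChoiceSit (Syl o2_le_syl syl_not_dvd)
open Cfsg.Agent.Omega.FFThm (OffM ElemM)
open Cfsg.Agent.Omega.NO1.BestOff (Best)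
open Cfsg.Agent.MinSimple.MinParabolic (IsMinPar)
open Phi FixEL
open scoped Pointwise

universe u

section mul

open Cfsg.Agent.Omega.OM
open Cfsg.Agent.Omega.Node.MultiOf
open Cfsg.Agent.Omega.NO3S.Level (lev nxt BO Lev)

variable {G : Type u} [Group G] [Finite G] {S : Sylow 2 G} {P' K B ZJ : Subgroup G}
  {L W Z C R : Fin 2 → Subgroup G} {v : Fin 2 → G}

/-- a best offender over `K₀` outside `O₂(P)` -/
theorem exists_BO_top (hG : IsCharacteristicTwoType G) (hP : IsParS (S : Subgroup G) P') {K₀ : Subgroup G}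
    (hl : Lev (S : Subgroup G) K₀) (h1 : K₀ ≤ o2 P') (h2 : ¬ nxt (S : Subgroup G) K₀ ≤ o2 P') :
    ∃ A ∈ BO (S : Subgroup G) K₀, ¬ A ≤ o2 P' := by
  by_contra hcon
  push Not at hcon
  apply h2
  refine sup_le ?_ (sSup_le hcon)
  have h3 : zl (S : Subgroup G) P' ≤ zc K₀ :=
    (hP.isLoc.zl_le S hG).trans (hl.zc_o2_le h1 (hP.isLoc.o2_le S))
  have h4 := IsParS.inf_centralizer S hG hP
  rw [← h4]
  exact inf_le_inf_left _ (centralizer_le h3)

/-- **`OffK` over a weakly closed level `K₀`** -/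
theorem offK_of_top (hF : Fr ((S : Subgroup G) ⊓ normalizer (Z 0 : Set G)) W R v)
    (D : KTwo.Sit S P' ((S : Subgroup G) ⊓ normalizer (Z 0 : Set G)) W v) {K₀ : Subgroup G}
    (hlev : Lev (S : Subgroup G) K₀) (hn : K₀ ≤ o2 P') (hn1 : ¬ nxt (S : Subgroup G) K₀ ≤ o2 P')
    (hT : nxt (S : Subgroup G) K₀ ≤ (S : Subgroup G) ⊓ normalizer (Z 0 : Set G)) :
    OffK ((S : Subgroup G) ⊓ normalizer (Z 0 : Set G)) W (K₀) := by
  set T := (S : Subgroup G) ⊓ normalizer (Z 0 : Set G) with hTdef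
  have hOO := OO_eq D
  have hTS : T ≤ (S : Subgroup G) := inf_le_left
  have hKO : K₀ ≤ OO T W := by rw [hOO]; exact hn
  have hOOS : OO T W ≤ (S : Subgroup G) := fun x hx => hTS (mem_OO.1 hx).1
  set X := zc (K₀) with hX
  have hVX : ∀ i, W i ≤ X := by
    intro i x hx
    have h1 : x ∈ zc (OO T W) := mem_zc.2 ⟨V_le_OO hF i hx, fun o ho => OO_comm hF ho (V_le_sup W i hx), hF.sqV i x hx⟩
    exact hlev.zc_le_zc hKO hOOS h1
  have hXc : ∀ x ∈ X, ∀ y ∈ X, x * y = y * x := fun x hx y hy => NO3S.Level.Lev.zc_comm hx hy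
  -- a best offender which moves `W 0 W 1`
  obtain ⟨A, hA, hAQ⟩ := exists_BO_top D.hyp.ctx.char2 D.hyp.star hlev hn hn1
  have hAT : A ≤ T := (NO3S.Level.BO.le_nxt hA).trans hT
  have hAX : Best X A := hA.2
  -- the family of best offenders in `T` on `X`
  have key : ∃ i j : Fin 2, i ≠ j ∧ ∃ A' ≤ T, A' ≤ centralizer (W j : Set G) ∧ ¬ A' ≤ centralizer (W i : Set G) ∧
      Best X A' := by
    have h01 : (0 : Fin 2) ≠ 1 := by decide
    by_cases h1 : A ≤ centralizer (W 1 : Set G)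
    · refine ⟨0, 1, h01, A, hAT, h1, fun h0 => hAQ ?_, hAX⟩
      rw [← hOO]
      exact fun a ha => (mem_OO' h01).2 ⟨hAT ha, h0 ha, h1 ha⟩
    by_cases h0 : A ≤ centralizer (W 0 : Set G)
    · exact ⟨1, 0, h01.symm, A, hAT, h0, h1, hAX⟩
    -- `A` moves both
    obtain ⟨τ, hτ, hτ1⟩ := SetLike.not_le_iff_exists.1 h1
    have hτo : τ ∉ o2 (R 1) := fun hh => hτ1 (by rw [o2_P hF] at hh; exact hh.2)
    have hA2 : Nat.card A ≤ 2 * Nat.card ↥(A ⊓ centralizer (W 1 : Set G)) := by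
      refine LevFix.le_two_mul hτ inf_le_left fun a ha => ?_
      by_cases hao : a ∈ o2 (R 1)
      · rw [o2_P hF] at hao
        exact Or.inl ⟨ha, hao.2⟩
      · have h2 := mul_mem_o2 hF (hAT hτ) hτo (hAT ha) hao
        rw [o2_P hF] at h2
        exact Or.inr ⟨mul_mem hτ ha, h2.2⟩
    have hb := best_inf hAX (hVX 1) hXc hA2 h1
    refine ⟨0, 1, h01, A ⊓ centralizer (W 1 : Set G), inf_le_left.trans hAT, inf_le_right, fun hcon => ?_, hb⟩
    -- otherwise `A` induces on `W 0 W 1` a group of order 2, `|W 0 W 1 : C(A)| = 4`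
    have hoff := hAX.offM (W := W 0 ⊔ W 1) (sup_le (hVX 0) (hVX 1))
      (fun hh => h1 (hh.trans (centralizer_le (V_le_sup W 1))))
    have hle := hoff.le
    have hcC : Nat.card ↥(A ⊓ centralizer (W 1 : Set G)) ≤
        Nat.card ↥(A ⊓ centralizer ((W 0 ⊔ W 1 : Subgroup G) : Set G)) := by
      refine Subgroup.card_le_of_le (le_inf inf_le_left fun a ha => ?_)
      have hc0 := hcon ha
      have h2 : W 0 ⊔ W 1 ≤ centralizer ({a} : Set G) := by
        refine sup_le ?_ ?_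
        · exact fun y hy => mem_centralizer_singleton_iff.2 (mem_centralizer_iff.1 hc0 y hy)
        · exact fun y hy => mem_centralizer_singleton_iff.2 (mem_centralizer_iff.1 ha.2 y hy)
      exact mem_centralizer_iff.2 fun y hy => mem_centralizer_singleton_iff.1 (h2 hy)
    have hfix : Nat.card ↥((W 0 ⊔ W 1) ⊓ centralizer (A : Set G)) ≤ 4 := by
      refine (Subgroup.card_le_of_le ?_).trans (card_zc_le hF)
      rintro x ⟨hx, hxA⟩
      obtain ⟨a, ha, b, hb', rfl⟩ := FixEL.mem_sup hF hx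
      obtain ⟨σ, hσ, hσ0⟩ := SetLike.not_le_iff_exists.1 h0
      -- an element moving both
      have hσ1 : σ ∉ centralizer (W 1 : Set G) := fun hh => hσ0 (hcon ⟨hσ, hh⟩)
      have h4 : σ * (a * b) * σ⁻¹ = a * b := by
        have := mem_centralizer_iff.1 hxA σ hσ
        rw [this, mul_inv_cancel_right]
      have h5 : σ * a * σ⁻¹ ∈ W 0 := (mem_normalizer_iff.1 (hF.T_le_N 0 (hAT hσ)) a).1 ha
      have h6 : σ * b * σ⁻¹ ∈ W 1 := (mem_normalizer_iff.1 (hF.T_le_N 1 (hAT hσ)) b).1 hb'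
      have h7 : a⁻¹ * (σ * a * σ⁻¹) = b * (σ * b * σ⁻¹)⁻¹ := by
        have e : σ * (a * b) * σ⁻¹ = (σ * a * σ⁻¹) * (σ * b * σ⁻¹) := by group
        rw [e] at h4
        calc a⁻¹ * (σ * a * σ⁻¹) = a⁻¹ * ((σ * a * σ⁻¹) * (σ * b * σ⁻¹)) * (σ * b * σ⁻¹)⁻¹ := by group
          _ = b * (σ * b * σ⁻¹)⁻¹ := by rw [h4]; group
      have h8 : a⁻¹ * (σ * a * σ⁻¹) ∈ W 0 ⊓ W 1 :=
        mem_inf.2 ⟨mul_mem (inv_mem ha) h5, by rw [h7]; exact mul_mem hb' (inv_mem h6)⟩
      rw [FixEL.V_inf hF h01, mem_bot] at h8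
      have h9 : σ * a * σ⁻¹ = a := by rw [inv_mul_eq_one] at h8; exact h8.symm
      have h10 : σ * b * σ⁻¹ = b := by
        rw [h8, eq_comm, mul_inv_eq_one] at h7
        exact h7.symm
      refine mul_mem ?_ ?_
      · rcases FixEL.eq_of_fix hF (hAT hσ) hσ0 ha h9 with h | h
        · rw [h]; exact one_mem _
        · rw [h]; exact hF.v_mem_zc 0
      · rcases FixEL.eq_of_fix hF (hAT hσ) hσ1 hb' h10 with h | h
        · rw [h]; exact one_mem _
        · rw [h]; exact hF.v_mem_zc 1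
    rw [FixEL.card_V_sup hF h01] at hle
    have hpos : 0 < Nat.card ↥(A ⊓ centralizer ((W 0 ⊔ W 1 : Subgroup G) : Set G)) := Nat.card_pos
    have h11 : Nat.card A * Nat.card ↥((W 0 ⊔ W 1) ⊓ centralizer (A : Set G)) ≤
        (2 * Nat.card ↥(A ⊓ centralizer ((W 0 ⊔ W 1 : Subgroup G) : Set G))) * 4 :=
      Nat.mul_le_mul (hA2.trans (Nat.mul_le_mul_left _ hcC)) hfix
    omega
  -- the swap
  have all : ∀ i j : Fin 2, i ≠ j → ∃ A' ≤ T, A' ≤ centralizer (W j : Set G) ∧ ¬ A' ≤ centralizer (W i : Set G) ∧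
      Best X A' := by
    obtain ⟨i₀, j₀, hij₀, A', hA'T, hA'j, hA'i, hA'b⟩ := key
    intro i j hij
    by_cases hi : i = i₀
    · have hj : j = j₀ := by rw [eq_add_one hij, hi, ← eq_add_one hij₀]
      rw [hi, hj]
      exact ⟨A', hA'T, hA'j, hA'i, hA'b⟩
    · have hi' : i = j₀ := by
        have := eq_add_one (i := i₀) (j := i) (Ne.symm hi)
        rw [this, ← eq_add_one hij₀]
      have hj' : j = i₀ := by
        have h1 := eq_add_one hij
        rw [hi'] at h1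
        have h2 := eq_add_one hij₀.symm
        rw [h1, ← h2]
      obtain ⟨s, hs, -, hsw⟩ := D.swap
      have hsT : MulAut.conj s • T = T := by
        refine Subgroup.eq_of_le_of_card_ge ?_ (ZN.ChoiceBase.card_cj s T).ge
        rintro _ ⟨t, ht, rfl⟩
        change s * t * s⁻¹ ∈ T
        have h2 : t ∈ (S : Subgroup G) ⊓ normalizer (W 0 : Set G) := by
          have h1 : t ∈ T := ht
          rwa [D.T_eq 0] at h1
        rw [D.T_eq 1]
        refine mem_inf.2 ⟨mul_mem (mul_mem hs h2.1) (inv_mem hs), ?_⟩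
        have h3 : t ∈ normalizer (W 0 : Set G) := h2.2
        rw [ZN.ChoiceBase.mem_normalizer_iff_cj] at h3 ⊢
        have e : ∀ (g : G) (Y : Subgroup G), ZN.ChoiceBase.cj g Y = MulAut.conj g • Y := fun g Y => rfl
        rw [e] at h3 ⊢
        rw [← (hsw 0 1 (by decide)).1, ← mul_smul, ← map_mul]
        have e2 : s * t * s⁻¹ * s = s * t := by group
        rw [e2, map_mul, mul_smul, h3]
      have hsK : s ∈ normalizer (K₀ : Set G) := hlev.S_norm hs
      have hsX : s ∈ normalizer (X : Set G) := NO3S.Level.normalizer_le_zc _ hsK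
      have cc : ∀ (Y Y' : Subgroup G), Y ≤ centralizer (Y' : Set G) ↔
          MulAut.conj s • Y ≤ centralizer ((MulAut.conj s • Y' : Subgroup G) : Set G) := by
        intro Y Y'
        have e : MulAut.conj s • centralizer (Y' : Set G) = centralizer ((MulAut.conj s • Y' : Subgroup G) : Set G) :=
          ZN.ChoiceBase.cj_centralizer s _
        rw [← e, NoFF.Basic.conj_le_iff]
      refine ⟨MulAut.conj s • A', ?_, ?_, ?_, hA'b.conj_smul hsX⟩
      · rw [← hsT]; exact NoFF.Basic.conj_le_iff.2 hA'T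
      · rw [hj', ← (hsw j₀ i₀ hij₀.symm).1]
        exact (cc _ _).1 hA'j
      · rw [hi', ← (hsw i₀ j₀ hij₀).1]
        exact fun hh => hA'i ((cc _ _).2 hh)
  refine ⟨hKO, fun H h1 h2 => hlev.le_norm_of_o2 (hKO.trans h1) (h2.trans hTS), fun i j hij => ?_⟩
  obtain ⟨A', h1, h2, h3, h4⟩ := all i j hij
  refine ⟨A', h1, h2, h3, fun F hFO hFK hVF hFc hFs _ => h4.offM ?_ fun hh =>
    h3 (hh.trans (centralizer_le ((V_le_sup W i).trans hVF)))⟩
  -- `F ≤ X`
  intro x hx
  refine hlev.mem_of_comm (hOOS (hFO hx)) (by rw [pow_two]; exact hFs x hx) fun y hy => ?_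
  exact (mem_centralizer_iff.1 (hFK hx) y hy)

end mul

section plug

open Cfsg.Agent.Omega.Node.MulG Cfsg.Agent.Omega.Node.MulC Cfsg.Agent.Omega.Node.MultiOf
open Cfsg.Agent.Omega.Frame (Cls)
open Cfsg.Agent.Omega.OM
open Cfsg.Agent.Omega.NO3S

/-- **(E), `k = 2 = q`, over `MulG`**: the only inputs are the field `uni` and the nonlocal case. -/
theorem false_of_uni {G : Type u} [Group G] [Finite G] {S : Sylow 2 G} {P K' B ZJ : Subgroup G}
    {L W Z C : Fin 2 → Subgroup G} (hML : ML.Final.MLK.{u, u}) (hKL : KL.Quo.NoInp.{u, u})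
    (hM : MulG S P K' B ZJ L W Z C 2)
    (uni : ∀ i j, i ≠ j → ∀ R : Subgroup G, IsMinPar ((S : Subgroup G) ⊓ normalizer (Z 0 : Set G)) R →
      R ≤ normalizer (Z j : Set G) → ¬ R ≤ normalizer (Z i : Set G) → R ≤ normalizer (W i : Set G))
    (nonloc : NonLoc (normalizer (Z 0 : Set G)) (normalizer (Z 1 : Set G))) : False := by
  obtain ⟨v, R, hv, hD, hF⟩ := OfBg.exists_fr hM.bg uni nonloc
  have hK : IsKProper G := hM.hyp.ctx.kproper
  have hKT : K' ≤ (S : Subgroup G) ⊓ normalizer (Z 0 : Set G) :=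
    hM.lb.KB.trans (le_inf hM.lb.BS ((hM.lb.Bc.trans (centralizer_le (hM.bg.fr.Z_le 0))).trans
      (centralizer_le_normalizer _)))
  have hO : ∃ K₀, OffK ((S : Subgroup G) ⊓ normalizer (Z 0 : Set G)) W K₀ := by
    cases hM.stg with
    | neg hj => exact ⟨_, offK_of_hJ hF (hJ_of hD hF hKT hj)⟩
    | lev K₀ h => exact ⟨_, offK_of_top hF hD h.lev h.le h.nxt hKT⟩
  obtain ⟨K₀, hO⟩ := hO
  exact hF.false_offK hML hKL hK (swap_of hD) hO

/-- The nonlocal case from `⟨C_G(Z_J), L_0, L_1⟩`. -/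
theorem nonloc_of_gen {G : Type u} [Group G] [Finite G] {S : Sylow 2 G} {P B ZJ : Subgroup G}
    {L W Z C : Fin 2 → Subgroup G} (h : EThree.Frame.Bg S P B ZJ L W Z C 2)
    (hE : NLoc (centralizer (ZJ : Set G) ⊔ ⨆ i, L i)) :
    NonLoc (normalizer (Z 0 : Set G)) (normalizer (Z 1 : Set G)) := by
  have hL : ∀ i, L i ≤ normalizer (Z 0 : Set G) ∨ L i ≤ normalizer (Z 1 : Set G) := by
    intro i
    have h2 : ∀ a : Fin 2, a = 0 ∨ a = 1 := by decide
    rcases h2 i with rfl | rfl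
    · exact Or.inr (h.L_norm (i := 1) (j := 0) (by decide))
    · exact Or.inl (h.L_norm (i := 0) (j := 1) (by decide))
  have hc : centralizer (ZJ : Set G) ≤ normalizer (Z 0 : Set G) :=
    (centralizer_le (h.fr.Z_le 0)).trans (centralizer_le_normalizer _)
  intro U hU h0 h1
  refine hE U hU (sup_le (hc.trans h0) (iSup_le fun i => ?_))
  rcases hL i with h3 | h3
  · exact h3.trans h0
  · exact h3.trans h1

/-- **The end of (E), `k = 2 = q`, over `MulG`.** -/
theorem eEndTwo_kl {K : Cls.{u}} (hML : ML.Final.MLK.{u, u}) (hKL : KL.Quo.NoInp.{u, u}) : EEndTwo K := by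
  intro G _ _ _ S P K' B ZJ L W Z C hM hN hu hb
  exfalso
  obtain ⟨v, R, hv, hD, hF⟩ := OfMul.exists_fr hM.bg hM.lb hu hb hN
  have hK : IsKProper G := hM.hyp.ctx.kproper
  have hKT : K' ≤ (S : Subgroup G) ⊓ normalizer (Z 0 : Set G) :=
    hM.lb.KB.trans (le_inf hM.lb.BS ((hM.lb.Bc.trans (centralizer_le (hM.bg.fr.Z_le 0))).trans
      (centralizer_le_normalizer _)))
  have hO : ∃ K₀, OffK ((S : Subgroup G) ⊓ normalizer (Z 0 : Set G)) W K₀ := by
    cases hM.stg with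
    | neg hj => exact ⟨_, offK_of_hJ hF (hJ_of hD hF hKT hj)⟩
    | lev K₀ h => exact ⟨_, offK_of_top hF hD h.lev h.le h.nxt hKT⟩
  obtain ⟨K₀, hO⟩ := hO
  exact hF.false_offK hML hKL hK (swap_of hD) hO

end plug

end Cfsg.Agent.Omega.TC.LevTop
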