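import Cfsg.Agent.Omega.TC.OfMul
import Cfsg.Agent.Omega.OM.Lev.LowBlk
import Cfsg.Agent.Omega.OM.Lev.UniPlus
import Cfsg.Agent.Omega.OM.Lev.BlkGen

/-!
# NO-3S, MultiTwoL, case (E), `k = 2`: the level input `UniLev` (`TC/OfMul.lean`)

* `uni_all` : UNI+ at stage `n` for **all** FF-blocks over `B = C_S(Ω₁(Z(lev S (n + 1))))` (any `q`), from
  `LowBlk.V_le` and `UniPlus.uniPlusX`; `uniTwo` : the form `UniTwo` (`q = 2`);
* `T_eq` : `k = 2`, `q = 2`: `S ⊓ N(Z 0) = B`;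
* `NoLow` : no minimal parabolic over `B` of smaller stage moves `Ω₁(Z(B))`;
* `uniLev_of` : **`NoLow` gives `UniLev`**.
-/

set_option autoImplicit false
set_option linter.unusedSectionVars false

namespace Cfsg.Agent.Omega.TC.UniLev

open Subgroup Cfsg Cfsg.Agent.ZN.ChoiceBase
open Cfsg.Agent.ZN (jj zj bau zc zl o2)
open Cfsg.Agent.ZN.ChoiceSit (Syl)
open Cfsg.Agent.Omega.OM Cfsg.Agent.Omega.OM.Uni
open Cfsg.Agent.Omega.NO3S (HypJ HypN Hyp HypL)
open Cfsg.Agent.Omega.NO3S.Level (lev lev_isLev lev_mono)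
open Cfsg.Agent.Omega.NO3S.EThree.Frame
open Cfsg.Agent.MinSimple.MinParabolic (IsMinPar)
open Cfsg.Agent.Omega.FFThm (NatK NatKM)
open Cfsg.Agent.Omega.FrameFF (cv)
open Cfsg.Agent.Omega.Frame (Cls)
open Cfsg.Agent.Omega.Node.MultiOf
open Cfsg.Agent.Omega.TC.OfMul
open Cfsg.Agent.Omega.OM.Lev.Uni (FrL)
open scoped Pointwise

universe u

/-! ### UNI+ -/

section uni

variable {G : Type u} [Group G] [Finite G]

/-- **UNI+ at stage `n`, all FF-blocks over `B`.** -/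
theorem uni_all {ι : Type*} [Finite ι] (S : Sylow 2 G) {n : ℕ} {B Q V ZJ : Subgroup G} {L W Z C A : ι → Subgroup G}
    {q : ℕ} (eqZ : ZJ = zc (lev (S : Subgroup G) (n + 1)))
    (eqB : B = (S : Subgroup G) ⊓ centralizer (zc (lev (S : Subgroup G) (n + 1)) : Set G))
    (h : FrL B Q V (zc (lev (S : Subgroup G) n)) ZJ L W Z C A q) {L' V' : Subgroup G} (h' : FBl B L' V') :
    ∃ Z', FB B L' V' Z' q ∧ ∃ i, Z' = Z i ∧ UniPlus.NB B L' V' (Z i) q ∧ V' ≤ W i ⊔ ZJ ∧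
      (∀ z ∈ ZJ, z ∈ C i ↔ ∀ l ∈ L', l * z = z * l) ∧
        (q = 2 → V' = W i ∧ L' ≤ L i ⊔ centralizer ((W i ⊔ ZJ : Subgroup G) : Set G)) := by
  subst eqZ
  obtain ⟨⟨Z', q', hF⟩, hb⟩ := h'
  have hX := Lev.LowBlk.V_le S eqB h hF hb.irr
  have hB : IsPGroup 2 B := S.isPGroup'.to_le (eqB ▸ inf_le_left)
  have hWC := Lev.Wc.wc_lev S (n + 1) eqB
  have hp : ∀ g ∈ normalizer (B : Set G), ∀ j, ∃ k, cj g (Z j) = Z k := by
    intro g hg j
    have h1 := Lev.Wc.norm_B_Lev (lev_isLev (S : Subgroup G) n) eqB hg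
    obtain ⟨k, hk, -⟩ := (h.norm_of hg (NO3S.Level.normalizer_le_zc _ h1)).2 j
    exact ⟨k, hk⟩
  obtain ⟨rfl, i, hZ, h1⟩ := Lev.UniPlus.uniPlusX h hB hWC hp hF hX
  exact ⟨Z', hF, i, hZ, h1⟩

/-- **UNI+, `q = 2`.** -/
theorem uniTwo (S : Sylow 2 G) {n k : ℕ} {B Q V ZJ : Subgroup G} {L W Z C A : Fin k → Subgroup G}
    (eqZ : ZJ = zc (lev (S : Subgroup G) (n + 1)))
    (eqB : B = (S : Subgroup G) ⊓ centralizer (zc (lev (S : Subgroup G) (n + 1)) : Set G))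
    (h : FrL B Q V (zc (lev (S : Subgroup G) n)) ZJ L W Z C A 2) : UniTwo B ZJ L W := by
  intro L' V' h'
  obtain ⟨-, -, i, -, -, -, -, h1⟩ := uni_all S eqZ eqB h h'
  exact ⟨i, h1 rfl⟩

/-- `k = 2`, `q = 2`: `N_S(Z 0) = B`. -/
theorem T_eq {S : Sylow 2 G} {P B ZJ : Subgroup G} {L W Z C : Fin 2 → Subgroup G}
    (h : Bg S P B ZJ L W Z C 2) : (S : Subgroup G) ⊓ normalizer (Z 0 : Set G) = B := by
  obtain ⟨v, hv1, hv, -⟩ := OfBg.exists_sit h
  apply le_antisymm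
  · rintro s ⟨hs, hsZ⟩
    have hc : ∀ i, s * v i = v i * s := by
      have h1 : ∀ i, cj s (Z i) = Z i → s * v i = v i * s := by
        intro i hi
        have h2 : s * v i * s⁻¹ ∈ Z i := by
          rw [← hi]
          exact ⟨v i, (hv i _).2 (Or.inr rfl), rfl⟩
        rcases (hv i _).1 h2 with h3 | h3
        · exact absurd (by
            have : v i = s⁻¹ * (s * v i * s⁻¹) * s := by group
            rw [h3] at this
            rw [this]; group) (hv1 i)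
        · exact mul_inv_eq_iff_eq_mul.1 h3
      obtain ⟨σ, hσ⟩ := h.perm_S hs
      have h0 : cj s (Z 0) = Z 0 := cj_eq_of_mem_normalizer hsZ
      have hσ0 : σ 0 = 0 := by
        by_contra hne
        have h4 := (hσ 0).2.1
        rw [h0] at h4
        exact hne (h.Z_inj h4).symm
      have hσ1 : σ 1 = 1 := by
        have h5 : σ 1 ≠ 0 := fun e => by
          have := σ.injective (e.trans hσ0.symm)
          exact absurd this (by decide)
        have h6 : ∀ a : Fin 2, a ≠ 0 → a = 1 := by decide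
        exact h6 _ h5
      intro i
      have h7 : ∀ a : Fin 2, a = 0 ∨ a = 1 := by decide
      rcases h7 i with rfl | rfl
      · exact h1 0 h0
      · refine h1 1 ?_
        rw [(hσ 1).2.1, hσ1]
    refine h.mem_B hs fun z hz => ?_
    rcases (OfBg.mem_ZJ_iff h hv).1 hz with rfl | rfl | rfl | rfl
    · simp
    · exact hc 0
    · exact hc 1
    · have c1 : Commute s (v 0) := hc 0
      have c2 : Commute s (v 1) := hc 1
      exact (c1.mul_right c2).eq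
  · exact h.bau_le_T 0

end uni

/-! ### `UniLev` -/

/-- **No minimal parabolic of smaller stage over `B` moves `Ω₁(Z(B))`** (`k = 2`, `q = 2`, stage `n`, case (E)). -/
def NoLow (K : Cls.{u}) : Prop :=
  ∀ (G : Type u) [Group G] [Finite G], K G → ∀ (S : Sylow 2 G) (P : Subgroup G), HypL S P → ∀ n : ℕ,
    (∀ R, MinPar.IsParS (S : Subgroup G) R → lev (S : Subgroup G) n ≤ o2 R) →
    ¬ lev (S : Subgroup G) (n + 1) ≤ o2 P →
    ∀ (F : Type) [Field F] [Finite F] [CharP F 2], Nat.card F = 2 →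
      NatKM F (S : Subgroup G) P (zl (S : Subgroup G) P) (cv (S : Subgroup G) P) 2 →
        ∀ B ZJ : Subgroup G, ZJ = zc (lev (S : Subgroup G) (n + 1)) →
          B = (S : Subgroup G) ⊓ centralizer (zc (lev (S : Subgroup G) (n + 1)) : Set G) → NLoc (KZ B ZJ) →
          ∀ L W Z C A : Fin 2 → Subgroup G, Bg S P B ZJ L W Z C 2 →
            FrL B (o2 P) (zl (S : Subgroup G) P) (zc (lev (S : Subgroup G) n)) ZJ L W Z C A 2 →
            ∀ R : Subgroup G, IsMinPar B R → Syl B R → R ⊓ centralizer (o2 R : Set G) ≤ o2 R →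
              ¬ lev (S : Subgroup G) n ≤ o2 R → R ≤ centralizer (zc B : Set G)

/-- **The level input.** -/
theorem uniLev_of {K : Cls.{u}} (hN : NoLow K) : UniLev K := by
  intro G _ _ hG S P h n hall hn1 F _ _ _ hF N B ZJ eqZ eqB hE
  have hn := hall P h.star
  obtain ⟨M, L, Z, A, -, hfr, hbg, -⟩ := Lev.Main.bg_lev h.toHypN hn hn1 le_rfl N eqB
  rw [← eqZ, hF] at hfr hbg
  refine ⟨L, _, Z, _, hbg, uniTwo S eqZ eqB hfr, ?_⟩
  rw [T_eq hbg]
  intro R hR hT hc hK hZ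
  by_cases hlow : lev (S : Subgroup G) n ≤ o2 R
  · have hB : LevB.BL (S : Subgroup G) (n + 1) = B := eqB.symm
    obtain ⟨L', V', h1, ⟨h2, h3⟩, h4⟩ := LevB.exists_fblk S hT hB.le hR hc hlow hK hZ
    rw [hB] at h2 h3
    exact ⟨L', V', ⟨h2, h3⟩, h1, h4.trans (sup_comm _ _).le⟩
  · exact absurd (hN G hG S P h n hall hn1 F hF N B ZJ eqZ eqB hE L _ Z _ A hbg hfr R hR hT hc hlow) hZ

end Cfsg.Agent.Omega.TC.UniLev
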