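import Cfsg.Agent.Omega.TC.UniOne
import Cfsg.Agent.Omega.Node.MultiOf

/-!
# NO-3S, MultiTwoL, case (E), `k = 2`: from the tree (`Node/MultiOf.lean`) to the common frame `TC.Fr`

* `EFr K` : the end over the common frame `TC.Fr` (with the data `Mul`, `KTwo.Sit`);
* `BlkS K B T` : minimal parabolics over `T` which move `Ω₁(Z(T))`, `K ≰ O₂(R)`, are generated by `T` and a block;
* `UniLev` : the level input (stage `n ≥ 0`): the frame `Bg` with UNI+ (`UniTwo`) and `BlkS` over `S ⊓ N(Z 0)`;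
* `nonloc_of`, `exists_fr` : the common frame `TC.Fr` from `Bg`, `UniTwo`, `BlkS` and case (E);
* `eOf_two` : `EFr K`, `UniLev` give `EOf K (k = 2 ∧ q = 2)`; stage `-1` needs nothing.
-/

set_option autoImplicit false
set_option linter.unusedSectionVars false

namespace Cfsg.Agent.Omega.TC.OfMul

open Subgroup Cfsg Cfsg.Agent.ZN.ChoiceBase
open Cfsg.Agent.ZN (jj zj bau zc zl o2)
open Cfsg.Agent.ZN.ChoiceSit (Syl)
open Cfsg.Agent.Omega.OM Cfsg.Agent.Omega.OM.Uni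
open Cfsg.Agent.Omega.NO3S (HypJ HypN Hyp HypL)
open Cfsg.Agent.Omega.NO3S.Level (lev)
open Cfsg.Agent.Omega.NO3S.EThree.Frame
open Cfsg.Agent.Omega.MinPar (NonLoc)
open Cfsg.Agent.MinSimple.MinParabolic (IsMinPar)
open Cfsg.Agent.Omega.FFThm (NatK NatKM)
open Cfsg.Agent.Omega.FrameFF (cv)
open Cfsg.Agent.Omega.Frame (Cls)
open Cfsg.Agent.Omega.Node.MultiOf
open scoped Pointwise

universe u

/-- **(E), `k = 2`, `q = 2`, over the common frame.** -/
def EFr (K : Cls.{u}) : Prop :=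
  ∀ (G : Type u) [Group G] [Finite G], K G → ∀ (S : Sylow 2 G) (P K' B ZJ : Subgroup G)
    (L W Z C R : Fin 2 → Subgroup G) (v : Fin 2 → G), Mul S P K' B ZJ L W Z C 2 → NLoc (KZ B ZJ) →
      (∀ i, ∀ x, x ∈ Z i ↔ x = 1 ∨ x = v i) →
      KTwo.Sit S P ((S : Subgroup G) ⊓ normalizer (Z 0 : Set G)) W v →
      Fr ((S : Subgroup G) ⊓ normalizer (Z 0 : Set G)) W R v → IsKnownSimple' G

/-- Minimal parabolics over `T` which move `Ω₁(Z(T))`, `K ≰ O₂(R)`, are generated by `T` and an FF-block over `B`. -/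
def BlkS {G : Type u} [Group G] (K B T : Subgroup G) : Prop :=
  ∀ R : Subgroup G, IsMinPar T R → Syl T R → R ⊓ centralizer (o2 R : Set G) ≤ o2 R →
    ¬ K ≤ o2 R → ¬ R ≤ centralizer (zc T : Set G) → ∃ L' V' : Subgroup G, FBl B L' V' ∧ L' ≤ R ∧ R ≤ L' ⊔ T

/-- **The level input.** -/
def UniLev (K : Cls.{u}) : Prop :=
  ∀ (G : Type u) [Group G] [Finite G], K G → ∀ (S : Sylow 2 G) (P : Subgroup G), HypL S P → ∀ n : ℕ,
    (∀ R, MinPar.IsParS (S : Subgroup G) R → lev (S : Subgroup G) n ≤ o2 R) →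
    ¬ lev (S : Subgroup G) (n + 1) ≤ o2 P →
    ∀ (F : Type) [Field F] [Finite F] [CharP F 2], Nat.card F = 2 →
      NatKM F (S : Subgroup G) P (zl (S : Subgroup G) P) (cv (S : Subgroup G) P) 2 →
        ∀ B ZJ : Subgroup G, ZJ = zc (lev (S : Subgroup G) (n + 1)) →
          B = (S : Subgroup G) ⊓ centralizer (zc (lev (S : Subgroup G) (n + 1)) : Set G) → NLoc (KZ B ZJ) →
          ∃ L W Z C : Fin 2 → Subgroup G, Bg S P B ZJ L W Z C 2 ∧ UniTwo B ZJ L W ∧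
            BlkS (lev (S : Subgroup G) (n + 1)) B ((S : Subgroup G) ⊓ normalizer (Z 0 : Set G))

section

variable {G : Type u} [Group G] [Finite G] {S : Sylow 2 G} {P K B ZJ : Subgroup G} {L W Z C : Fin 2 → Subgroup G}

/-- UNI+ and the nonlocal case. -/
theorem nonloc_of (h : Bg S P B ZJ L W Z C 2) (hu : UniTwo B ZJ L W) (hE : NLoc (KZ B ZJ)) :
    NonLoc (normalizer (Z 0 : Set G)) (normalizer (Z 1 : Set G)) := by
  have hL : ∀ i, L i ≤ normalizer (Z 0 : Set G) ∨ L i ≤ normalizer (Z 1 : Set G) := by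
    intro i
    have h2 : ∀ a : Fin 2, a = 0 ∨ a = 1 := by decide
    rcases h2 i with rfl | rfl
    · exact Or.inr (h.L_norm (i := 1) (j := 0) (by decide))
    · exact Or.inl (h.L_norm (i := 0) (j := 1) (by decide))
  have hc : centralizer (ZJ : Set G) ≤ normalizer (Z 0 : Set G) :=
    (centralizer_le (h.fr.Z_le 0)).trans (centralizer_le_normalizer _)
  intro U hU h0 h1
  refine hE U hU (sup_le (hc.trans h0) (iSup_le ?_))
  rintro ⟨⟨L', V'⟩, hb⟩
  obtain ⟨i, -, hle⟩ := hu L' V' hb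
  refine hle.trans (sup_le ?_ ?_)
  · rcases hL i with h3 | h3
    · exact h3.trans h0
    · exact h3.trans h1
  · refine (centralizer_le ?_).trans (hc.trans h0)
    exact_mod_cast (le_sup_right : ZJ ≤ W i ⊔ ZJ)

/-- the hypothesis of `UniOne.uni_of` -/
theorem hblk_of (h : Bg S P B ZJ L W Z C 2) (hu : UniTwo B ZJ L W) {T : Subgroup G} (hb : BlkS K B T)
    (R : Subgroup G) (hR : IsMinPar T R) (hT : Syl T R) (hc : R ⊓ centralizer (o2 R : Set G) ≤ o2 R)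
    (hK : ¬ K ≤ o2 R) (hZ : ¬ R ≤ centralizer (zc T : Set G)) :
    ∃ (L' : Subgroup G) (l : Fin 2), L' ≤ R ∧ R ≤ L' ⊔ T ∧ L' ≤ normalizer (W l : Set G) ∧
      ¬ L' ≤ normalizer (Z l : Set G) := by
  obtain ⟨L', V', hbl, h1, h2⟩ := hb R hR hT hc hK hZ
  obtain ⟨i, rfl, -⟩ := hu L' _ hbl
  obtain ⟨⟨Z', q', hF⟩, -⟩ := hbl
  refine ⟨L', i, h1, h2, fun l hl => ?_, fun hcon => ?_⟩
  · rw [mem_normalizer_iff_cj]
    refine Subgroup.eq_of_le_of_card_ge ?_ (by rw [card_cj])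
    rintro _ ⟨w, hw, rfl⟩
    exact hF.nV l hl w hw
  · obtain ⟨l, hl, hne, -⟩ := hF.exists_mv
    apply hne
    have hZ' : Z' = Z i := by
      ext x
      rw [hF.toMd.mem_Z_iff, (h.fr.blk i).toMd.mem_Z_iff]
    rw [hZ']
    exact mem_normalizer_iff_cj.1 (hcon hl)

/-- **`TC.Fr` from the tree**, at every level. -/
theorem exists_fr (h : Bg S P B ZJ L W Z C 2) (hK : LevD.LB S K B ZJ) (hu : UniTwo B ZJ L W)
    (hb : BlkS K B ((S : Subgroup G) ⊓ normalizer (Z 0 : Set G))) (hE : NLoc (KZ B ZJ)) :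
    ∃ (v : Fin 2 → G) (R : Fin 2 → Subgroup G), (∀ i, ∀ x, x ∈ Z i ↔ x = 1 ∨ x = v i) ∧
      KTwo.Sit S P ((S : Subgroup G) ⊓ normalizer (Z 0 : Set G)) W v ∧
      Fr ((S : Subgroup G) ⊓ normalizer (Z 0 : Set G)) W R v :=
  UniOne.exists_fr_of h hK (hblk_of h hu hb) (nonloc_of h hu hE)

end

/-- **(E), `k = 2`, `q = 2`, from the common frame.** -/
theorem eOf_two {K : Cls.{u}} (hFF : FFThm.Stmt.{u}) (hL : UniLev K) (hE : EFr K) :
    EOf K fun k q => k = 2 ∧ q = 2 := by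
  rintro G _ _ hG S P K' B ZJ k L W Z C q - ⟨rfl, rfl⟩ hM hN
  obtain ⟨F, _, _, _, hF, ⟨N⟩⟩ := hM.nat
  cases hM.stg with
  | neg hj =>
    have hJ : HypJ S P := ⟨hM.hyp.toHypN, hj⟩
    obtain ⟨L', W', Z', C', A', hB, hfr⟩ := UniOne.exists_fr_neg hJ hFF hF N.toNatK
    have hN' := hN
    rw [KZ_neg] at hN'
    obtain ⟨v, R, hv, D, hR⟩ := hfr (UniOne.nonloc_bs hB hN')
    have hbg := Bg.of_bs hB fun h2 => absurd h2 (by omega)
    exact hE G hG S P _ _ _ L' W' Z' C' R v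
      ⟨hM.hyp, StgP.neg hj, hbg, F, inferInstance, inferInstance, inferInstance, hF, ⟨N⟩⟩ hN hv D hR
  | lev n hall hn hn1 =>
    obtain ⟨L', W', Z', C', hbg, hu, hb⟩ := hL G hG S P hM.hyp n hall hn1 F hF N _ _ rfl rfl hN
    obtain ⟨v, R, hv, D, hR⟩ := exists_fr hbg (LevD.LB.lev S (n + 1)) hu hb hN
    exact hE G hG S P _ _ _ L' W' Z' C' R v
      ⟨hM.hyp, StgP.lev n hall hn hn1, hbg, F, inferInstance, inferInstance, inferInstance, hF, ⟨N⟩⟩ hN hv D hR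

end Cfsg.Agent.Omega.TC.OfMul
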