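import Cfsg.Agent.Omega.TC.Crit
import Cfsg.Agent.Omega.ML.Final
import Cfsg.Agent.Omega.OM.PG.Int

/-!
# CARD #18791 "(E) = TWO CENTRES", `q = 2`: (NO), stabilisers of cosets, LEMMA Q (helper716 #19420), LIFTING

`D : Fr T V P v`; `T ≤ H ≤ C_i`; `NH v i H = ⟨v (i+1) ^ H⟩`.

* `Fr.stab_le` : `H` normalises `Y`, `v (i+1) ∉ Y` : the stabiliser in `H` of `v (i+1) Y` is in `D`; `Fr.ker_le` : the
  kernel of `H` on `NH v i H / Y` centralises `NH v i H`;
* `Fr.no` : **(NO)** for `H` on `NH v i H / Y`, `A ≤ O₂(D)` elementary abelian: `|A : C_A(NH)| ≤ |NH : M|` for all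
  `M ≤ NH` with `[M, A] ≤ Y`; `Fr.no_H`, `Fr.no_N` : `Y = 1`;
* `Ex B N` : `|B : C_B(N)| = |N : C_N(B)|` : exactness; `Fr.ex` : `N_0`, `N_1` are exact on each other, `Fr.ex_H` : so are
  `NH v 0 H₀`, `NH v 1 H₁`;
* `Fr.lift_H` : **LIFTING** : `B ≤ O₂(D)` exact on `NH v i H`, `M ≤ NH v i H`, `[M, B] ≤ Y`, `Y` a proper submodule
  ⇒ `[M, B] = 1`; `Fr.sub_comm` = **LEMMA Q**: every proper submodule of `N_i` is centralised by `N_{i+1}`.
-/

set_option autoImplicit false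
set_option linter.unusedSectionVars false

namespace Cfsg.Agent.Omega.TC

open Subgroup Cfsg Cfsg.Agent.ZN Cfsg.Agent.Omega.MinPar
open Cfsg.Agent.Omega.OM.KTwo (CC QQ WU NU EU FF ne_add_one eq_add_one add_one_add_one le_normalizer_V le_V
  le_o2_of_commutator)
open Cfsg.Agent.MinSimple.MinParabolic (IsMinPar)
open Cfsg.Agent.Omega.NoFF.Basic (conj_conj mem_conj conj_le_iff conj_le_centralizer comm_symm comm_mono
  Z_le_V V_le conj_V_mul)
open Cfsg.Agent.Omega.NoFF.Main (normalizer_conj)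
open Cfsg.Agent.Omega.NOThreeL.Pair (conj_eq_of_mem conj_le_normalizer clo le_clo le_clo' clo_le
  le_normalizer_clo clo_comm clo_isPGroup)
open Cfsg.Agent.ZN.ChoiceSit (Syl exists_syl syl_conj o2_le_syl)
open Cfsg.Agent.MinSimple.VModule (mem_zc zc_le normalizer_le_normalizer_zc le_o2
  o2_isPGroup zc_le_centralizer le_centralizer_zc)
open scoped Pointwise

universe u

variable {G : Type u} [Group G]

/-- `⟨v (i+1) ^ H⟩` -/
def NH (v : Fin 2 → G) (i : Fin 2) (H : Subgroup G) : Subgroup G := NoFF.Basic.V (zpowers (v (i + 1))) H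

theorem mem_NH (v : Fin 2 → G) (i : Fin 2) (H : Subgroup G) : v (i + 1) ∈ NH v i H :=
  le_V _ _ (mem_zpowers _)

theorem le_normalizer_NH (v : Fin 2 → G) (i : Fin 2) (H : Subgroup G) : H ≤ normalizer (NH v i H : Set G) :=
  le_normalizer_V _ _

theorem NH_le {v : Fin 2 → G} {i : Fin 2} {H U : Subgroup G} (hv : v (i + 1) ∈ U) (hU : H ≤ normalizer (U : Set G)) :
    NH v i H ≤ U :=
  V_le fun h hh => by
    rw [← conj_eq_of_mem (hU hh)]
    exact conj_le_iff.2 (by rw [zpowers_le]; exact hv)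

/-- subgroups of K-groups -/
theorem kgroup_mono {C H : Subgroup G} (hC : IsKGroup C) (hH : H ≤ C) : IsKGroup H :=
  ML.Final.kgroup_of_surj hC (H.subgroupOf C) (subgroupOfEquivOfLe hH).toMonoidHom (subgroupOfEquivOfLe hH).surjective

namespace Fr

variable [Finite G] {T : Subgroup G} {V P : Fin 2 → Subgroup G} {v : Fin 2 → G} (D : Fr T V P v)

include D

theorem NH_CC (i : Fin 2) : NH v i (CC v i) = NU V v i := by
  apply le_antisymm
  · exact NH_le (D.mem_N i) (D.C_le_N_N i)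
  · refine V_le fun c hc => ?_
    rw [← conj_eq_of_mem (le_normalizer_NH v i (CC v i) hc)]
    refine conj_le_iff.2 fun x hx => ?_
    by_cases hx1 : x = 1
    · rw [hx1]; exact one_mem _
    obtain ⟨l, hl, -, hlx⟩ := D.tr (ne_add_one i).symm hx hx1
    rw [← hlx]
    exact (mem_normalizer_iff.1 (le_normalizer_NH v i (CC v i) (D.PC (i + 1) i (ne_add_one i).symm hl)) _).1
      (mem_NH v i _)

theorem NH_le_N {i : Fin 2} {H : Subgroup G} (hH : H ≤ CC v i) : NH v i H ≤ NU V v i :=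
  NH_le (D.mem_N i) (hH.trans (D.C_le_N_N i))

theorem V_le_NH {i : Fin 2} {H : Subgroup G} (hP : P (i + 1) ≤ H) : V (i + 1) ≤ NH v i H := by
  intro x hx
  by_cases hx1 : x = 1
  · rw [hx1]; exact one_mem _
  obtain ⟨l, hl, -, hlx⟩ := D.tr (ne_add_one i).symm hx hx1
  rw [← hlx]
  exact (mem_normalizer_iff.1 (le_normalizer_NH v i H (hP hl)) _).1 (mem_NH v i _)

/-- **the stabiliser of the coset `v (i+1) Y` is in `D`** -/
theorem stab_le {i : Fin 2} {H Y : Subgroup G} (hT : T ≤ H) (hH : H ≤ CC v i) (hY : H ≤ normalizer (Y : Set G))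
    (hv : v (i + 1) ∉ Y) : ∀ g ∈ H, g * v (i + 1) * g⁻¹ * (v (i + 1))⁻¹ ∈ Y → g ∈ centralizer (zc T : Set G) := by
  have hji := (ne_add_one i).symm
  set w := v (i + 1) with hw
  let K : Subgroup G :=
    { carrier := {g | g ∈ H ∧ g * w * g⁻¹ * w⁻¹ ∈ Y}
      one_mem' := ⟨one_mem _, by simp⟩
      mul_mem' := by
        rintro a b ⟨ha, ha'⟩ ⟨hb, hb'⟩
        refine ⟨mul_mem ha hb, ?_⟩
        have e : a * b * w * (a * b)⁻¹ * w⁻¹ = (a * (b * w * b⁻¹ * w⁻¹) * a⁻¹) * (a * w * a⁻¹ * w⁻¹) := by group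
        rw [e]
        exact mul_mem ((mem_normalizer_iff.1 (hY ha) _).1 hb') ha'
      inv_mem' := by
        rintro a ⟨ha, ha'⟩
        refine ⟨inv_mem ha, ?_⟩
        have e : a⁻¹ * w * a⁻¹⁻¹ * w⁻¹ = a⁻¹ * (a * w * a⁻¹ * w⁻¹)⁻¹ * a⁻¹⁻¹ := by group
        rw [e]
        exact (mem_normalizer_iff.1 (hY (inv_mem ha)) _).1 (inv_mem ha') }
  have hTK : T ≤ K := fun t ht => ⟨hT ht, by rw [D.cen (i + 1) ht, mul_inv_cancel]; exact one_mem _⟩
  have hKC : K ≤ CC v i := fun k hk => hH hk.1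
  suffices h : K ≤ centralizer (zc T : Set G) from fun g hg hgY => h ⟨hg, hgY⟩
  refine Cfsg.Agent.MinSimple.MinParabolic.le_of_forall hTK ((inf_le_inf_right _ hKC).trans (D.norm_T_le i)) ?_
  intro R hR hRK
  by_cases hm : R ≤ CC v (i + 1)
  · exact fun r hr => (D.mem_D_iff hji).2 ⟨hm hr, hKC (hRK hr)⟩
  exfalso
  have hRN := D.uni (i + 1) i hji R hR (hRK.trans hKC) hm
  obtain ⟨x, hx, hx1, hxw⟩ := D.exists_ne_v (i + 1)
  have key : ∀ y ∈ V (i + 1), y ≠ 1 → y * w⁻¹ ∈ Y := by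
    intro y hy hy1
    obtain ⟨r, hr, hry⟩ := D.trans_of hR.le hRN hm hy hy1
    have h1 := (hRK hr).2
    rwa [hry] at h1
  have h1 := key x hx hx1
  have hxw1 : x * w ≠ 1 := by
    intro h
    apply hxw
    have := eq_inv_of_mul_eq_one_left h
    rw [this, inv_eq_of_mul_eq_one_left (D.v_sq (i + 1))]
  have h2 := key (x * w) (mul_mem hx (D.mem _)) hxw1
  rw [mul_inv_cancel_right] at h2
  -- `x ∈ Y`, `x w⁻¹ ∈ Y`
  apply hv
  have h3 := mul_mem (inv_mem h1) h2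
  have e : (x * w⁻¹)⁻¹ * x = w := by group
  rwa [e] at h3

/-- the kernel of `H` on `⟨v (i+1) ^ H⟩ / Y` centralises `⟨v (i+1) ^ H⟩` -/
theorem ker_le {i : Fin 2} {H Y : Subgroup G} (hT : T ≤ H) (hH : H ≤ CC v i) (hY : H ≤ normalizer (Y : Set G))
    (hv : v (i + 1) ∉ Y) {k : G} (hk : k ∈ H) (hkY : ∀ x ∈ NH v i H, k * x * k⁻¹ * x⁻¹ ∈ Y) :
    k ∈ centralizer (NH v i H : Set G) := by
  have hst := D.stab_le hT hH hY hv
  have hN := le_normalizer_NH v i H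
  have key : ∀ h ∈ H, (h * v (i + 1) * h⁻¹) * k = k * (h * v (i + 1) * h⁻¹) := by
    intro h hh
    have h1 : h * v (i + 1) * h⁻¹ ∈ NH v i H := (mem_normalizer_iff.1 (hN hh) _).1 (mem_NH v i H)
    have h2 := hkY _ h1
    have h3 : (h⁻¹ * k * h) * v (i + 1) * (h⁻¹ * k * h)⁻¹ * (v (i + 1))⁻¹ ∈ Y := by
      have h4 := (mem_normalizer_iff.1 (hY (inv_mem hh)) _).1 h2
      have e : (h⁻¹ * k * h) * v (i + 1) * (h⁻¹ * k * h)⁻¹ * (v (i + 1))⁻¹ =
          h⁻¹ * (k * (h * v (i + 1) * h⁻¹) * k⁻¹ * (h * v (i + 1) * h⁻¹)⁻¹) * h⁻¹⁻¹ := by group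
      rw [e]
      exact h4
    have h5 := hst _ (mul_mem (mul_mem (inv_mem hh) hk) hh) h3
    have h6 : (h⁻¹ * k * h) * v (i + 1) = v (i + 1) * (h⁻¹ * k * h) :=
      mem_centralizer_singleton_iff.1 (D.cent_zc_le (i + 1) h5)
    calc (h * v (i + 1) * h⁻¹) * k = h * (v (i + 1) * (h⁻¹ * k * h)) * h⁻¹ := by group
      _ = h * ((h⁻¹ * k * h) * v (i + 1)) * h⁻¹ := by rw [h6]
      _ = k * (h * v (i + 1) * h⁻¹) := by group
  have h7 : NH v i H ≤ centralizer ({k} : Set G) := by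
    refine V_le fun h hh x hx => ?_
    rw [mem_conj] at hx
    obtain ⟨n, hn⟩ := mem_zpowers_iff.1 hx
    have h8 : x = (h * v (i + 1) * h⁻¹) ^ n := by
      have e : x = h * (h⁻¹ * x * h) * h⁻¹ := by group
      rw [e, ← hn, conj_zpow]
    rw [mem_centralizer_singleton_iff, h8]
    have h9 : Commute (h * v (i + 1) * h⁻¹) k := key h hh
    exact (h9.zpow_left n).eq
  rw [mem_centralizer_iff]
  intro x hx
  exact mem_centralizer_singleton_iff.1 (h7 hx)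

/-- **(NO)** for `H` acting on `⟨v (i+1) ^ H⟩ / Y`. -/
theorem no (hML : ML.Final.MLK.{u, u}) {i : Fin 2} {H Y A M : Subgroup G} (hK : IsKGroup (CC v i)) (hT : T ≤ H)
    (hH : H ≤ CC v i) (hY : H ≤ normalizer (Y : Set G)) (hYW : Y ≤ NH v i H) (hv : v (i + 1) ∉ Y)
    (hA : A ≤ o2 (centralizer (zc T : Set G))) (hAH : A ≤ H) (hA2 : ∀ a ∈ A, a ^ 2 = 1)
    (hM : M ≤ NH v i H) (hMY : ∀ m ∈ M, ∀ a ∈ A, a * m * a⁻¹ * m⁻¹ ∈ Y) :
    (centralizer (NH v i H : Set G)).relIndex A ≤ M.relIndex (NH v i H) := by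
  have hWN := D.NH_le_N hH
  have hst := D.stab_le hT hH hY hv
  have hWc : NH v i H ≤ centralizer (NH v i H : Set G) := comm_mono (D.N_comm i) hWN hWN
  have hYn : Y ≤ normalizer (NH v i H : Set G) := (hYW.trans hWc).trans (centralizer_le_normalizer _)
  have hAn : A ≤ normalizer (Y : Set G) := hAH.trans hY
  -- `C_{N/Y}(A)`
  let CW : Subgroup G :=
    { carrier := {x | x ∈ NH v i H ∧ ∀ a ∈ A, a * x * a⁻¹ * x⁻¹ ∈ Y}
      one_mem' := ⟨one_mem _, fun a _ => by simp⟩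
      mul_mem' := by
        rintro x y ⟨hx, hx'⟩ ⟨hy, hy'⟩
        refine ⟨mul_mem hx hy, fun a ha => ?_⟩
        have h1 := hx' a ha
        have h2 := hy' a ha
        have h3 : x * (a * y * a⁻¹ * y⁻¹) * x⁻¹ = a * y * a⁻¹ * y⁻¹ := by
          have h4 := mem_centralizer_iff.1 (hWc hx) _ (hYW h2)
          rw [← h4]; group
        have e : a * (x * y) * a⁻¹ * (x * y)⁻¹ = (a * x * a⁻¹ * x⁻¹) * (x * (a * y * a⁻¹ * y⁻¹) * x⁻¹) := by group
        rw [e, h3]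
        exact mul_mem h1 h2
      inv_mem' := by
        rintro x ⟨hx, hx'⟩
        refine ⟨inv_mem hx, fun a ha => ?_⟩
        have h1 := inv_mem (hx' a ha)
        have h4 := mem_centralizer_iff.1 (hWc (inv_mem hx)) _ (hYW h1)
        have e : a * x⁻¹ * a⁻¹ * x⁻¹⁻¹ = x⁻¹ * (a * x * a⁻¹ * x⁻¹)⁻¹ * x⁻¹⁻¹ := by group
        rw [e, ← h4]
        have e2 : (a * x * a⁻¹ * x⁻¹)⁻¹ * x⁻¹ * x⁻¹⁻¹ = (a * x * a⁻¹ * x⁻¹)⁻¹ := by group
        rw [e2]
        exact h1 }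
  have hMC : M ≤ CW := fun m hm => ⟨hM hm, fun a ha => hMY m hm a ha⟩
  have hmain : (A ⊓ centralizer (NH v i H : Set G)).relIndex A ≤ CW.relIndex (NH v i H) := by
    refine hML.grp (C := H) (W := NH v i H) (Y := Y) (T := T) (Q := o2 (centralizer (zc T : Set G)) ⊓ H) (A := A)
      (w := v (i + 1)) (kgroup_mono hK hH) ?_ (KA := A ⊓ centralizer (NH v i H : Set G)) (CW := CW) ?_
      (fun x => Iff.rfl)
    · refine ⟨le_normalizer_NH v i H, hY, hYW, ?_, ?_, mem_NH v i H, ?_, hT, D.T_isPGroup, ?_, ?_, inf_le_right,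
        (o2_isPGroup _).to_le inf_le_left, ?_, ?_, le_inf hA hAH, ?_⟩
      · -- `N_i` is abelian
        refine le_trans ?_ (centralizer_le_normalizer _)
        exact comm_mono (D.N_comm i) hWN (hYW.trans hWN)
      · intro x hx
        rw [← pow_two, D.N_sq i x (hWN hx)]
        exact one_mem _
      · intro U hU _ hHU
        exact NH_le hU hHU
      · -- `T` is Sylow in `H`
        have hS : Syl T H := ⟨hT, D.T_isPGroup, fun R hR hR2 hTR => (D.syl i).2.2 R (hR.trans hH) hR2 hTR⟩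
        exact Cfsg.Agent.ZN.ChoiceSit.syl_not_dvd hS
      · intro t ht
        rw [D.cen (i + 1) ht, mul_inv_cancel]
        exact one_mem _
      · intro q hq
        have h1 : q ∈ CC v (i + 1) := D.cent_zc_le (i + 1) (o2_le _ hq.1)
        have h2 : q * v (i + 1) = v (i + 1) * q := mem_centralizer_singleton_iff.1 h1
        rw [h2, mul_inv_cancel_right, mul_inv_cancel]
        exact one_mem _
      · intro g hg hgY q hq
        have h1 := hst g hg hgY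
        exact mem_inf.2 ⟨(mem_normalizer_iff.1 (le_normalizer_o2 _ h1) q).1 hq.1,
          H.mul_mem (H.mul_mem hg hq.2) (H.inv_mem hg)⟩
      · intro a ha x _
        have h1 : a * a = 1 := by rw [← pow_two]; exact hA2 a ha
        have e : a * (a * x * a⁻¹) * a⁻¹ * x⁻¹ = (a * a) * x * (a * a)⁻¹ * x⁻¹ := by group
        rw [e, h1]
        simp
    · intro a
      constructor
      · rintro ⟨h1, h2⟩
        refine ⟨h1, fun x hx => ?_⟩
        have h3 := mem_centralizer_iff.1 h2 x hx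
        rw [← h3, mul_inv_cancel_right, mul_inv_cancel]
        exact one_mem _
      · rintro ⟨h1, h2⟩
        exact ⟨h1, D.ker_le hT hH hY hv (hAH h1) h2⟩
  rw [inf_relIndex_left] at hmain
  refine hmain.trans ?_
  have h1 := relIndex_mul_relIndex M CW (NH v i H) hMC fun x hx => hx.1
  rw [← h1]
  exact Nat.le_mul_of_pos_left _ (Nat.pos_of_ne_zero (OM.PG.Int.rix_ne _ _))

/-- **(NO)** for `H` on `⟨v (i+1) ^ H⟩` -/
theorem no_H (hML : ML.Final.MLK.{u, u}) {i : Fin 2} {H A : Subgroup G} (hK : IsKGroup (CC v i)) (hT : T ≤ H)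
    (hH : H ≤ CC v i) (hA : A ≤ o2 (centralizer (zc T : Set G))) (hAH : A ≤ H) (hA2 : ∀ a ∈ A, a ^ 2 = 1) :
    (centralizer (NH v i H : Set G)).relIndex A ≤ (centralizer (A : Set G)).relIndex (NH v i H) := by
  have h := D.no hML (M := NH v i H ⊓ centralizer (A : Set G)) (Y := ⊥) hK hT hH ?_ bot_le ?_ hA hAH hA2 inf_le_left ?_
  · rwa [inf_relIndex_left] at h
  · exact fun h _ => by
      rw [mem_normalizer_iff]
      intro x
      rw [mem_bot, mem_bot, conj_eq_one_iff]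
  · rw [mem_bot]; exact D.ne _
  · intro m hm a ha
    rw [mem_bot, mem_centralizer_iff.1 hm.2 a ha, mul_inv_cancel_right, mul_inv_cancel]

/-- **(NO)** for `C_i` on `N_i` -/
theorem no_N (hML : ML.Final.MLK.{u, u}) {i : Fin 2} {A : Subgroup G} (hK : IsKGroup (CC v i))
    (hA : A ≤ o2 (centralizer (zc T : Set G))) (hA2 : ∀ a ∈ A, a ^ 2 = 1) :
    (centralizer (NU V v i : Set G)).relIndex A ≤ (centralizer (A : Set G)).relIndex (NU V v i) := by
  have h := D.no_H hML (H := CC v i) hK (D.T_le_C i) le_rfl hA ((hA.trans (o2_le _)).trans (D.cent_zc_le i)) hA2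
  rwa [D.NH_CC] at h

/-- **LIFTING / LEMMA Q**: `B ≤ O₂(D)` exact on `N = ⟨v (i+1) ^ H⟩`, `Y` a proper submodule, `[M, B] ≤ Y`: `[M, B] = 1`. -/
theorem lift_H (hML : ML.Final.MLK.{u, u}) {i : Fin 2} {H Y B M : Subgroup G} (hK : IsKGroup (CC v i)) (hT : T ≤ H)
    (hH : H ≤ CC v i) (hY : H ≤ normalizer (Y : Set G)) (hYW : Y ≤ NH v i H) (hv : v (i + 1) ∉ Y)
    (hB : B ≤ o2 (centralizer (zc T : Set G))) (hBH : B ≤ H) (hB2 : ∀ a ∈ B, a ^ 2 = 1)
    (hEx : OM.PG.Int.Ex B (NH v i H)) (hM : M ≤ NH v i H) (hMY : ∀ m ∈ M, ∀ a ∈ B, a * m * a⁻¹ * m⁻¹ ∈ Y) :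
    M ≤ centralizer (B : Set G) := by
  have hWN := D.NH_le_N hH
  have hWc : NH v i H ≤ centralizer (NH v i H : Set G) := comm_mono (D.N_comm i) hWN hWN
  -- `M' = M C_N(B)`
  have key : ∀ m ∈ M ⊔ (NH v i H ⊓ centralizer (B : Set G)), ∀ a ∈ B, a * m * a⁻¹ * m⁻¹ ∈ Y := by
    intro m hm a ha
    have hn : NH v i H ⊓ centralizer (B : Set G) ≤ normalizer (M : Set G) :=
      ((inf_le_left.trans hWc).trans (centralizer_le hM)).trans (centralizer_le_normalizer _)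
    obtain ⟨x, hx, c, hc, rfl⟩ := OM.KTwo.exists_mul_of_mem_sup hn hm
    have h1 := mem_centralizer_iff.1 hc.2 a ha
    have h2 := hMY x hx a ha
    have e : a * (x * c) * a⁻¹ * (x * c)⁻¹ = (a * x * a⁻¹) * (a * c * a⁻¹) * c⁻¹ * x⁻¹ := by group
    rw [e, h1]
    have e2 : a * x * a⁻¹ * (c * a * a⁻¹) * c⁻¹ * x⁻¹ = a * x * a⁻¹ * x⁻¹ := by group
    rw [e2]
    exact h2
  have hM' : M ⊔ (NH v i H ⊓ centralizer (B : Set G)) ≤ NH v i H := sup_le hM inf_le_left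
  have h := D.no hML hK hT hH hY hYW hv hB hBH hB2 hM' key
  have h1 : (NH v i H ⊓ centralizer (B : Set G)).relIndex (NH v i H) = (centralizer (B : Set G)).relIndex (NH v i H) :=
    inf_relIndex_left _ _
  have h2 := relIndex_mul_relIndex (NH v i H ⊓ centralizer (B : Set G)) (M ⊔ (NH v i H ⊓ centralizer (B : Set G)))
    (NH v i H) le_sup_right hM'
  rw [h1, ← hEx] at h2
  set r := (M ⊔ (NH v i H ⊓ centralizer (B : Set G))).relIndex (NH v i H) with hr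
  set q := (NH v i H ⊓ centralizer (B : Set G)).relIndex (M ⊔ (NH v i H ⊓ centralizer (B : Set G))) with hq
  have hr0 : r ≠ 0 := OM.PG.Int.rix_ne _ _
  have hq1 : q ≤ 1 := by
    by_contra hcon
    push Not at hcon
    have h3 : r < q * r := by
      calc r = 1 * r := by rw [one_mul]
        _ < q * r := Nat.mul_lt_mul_of_pos_right hcon (Nat.pos_of_ne_zero hr0)
    omega
  have hq0 : q ≠ 0 := OM.PG.Int.rix_ne _ _
  have h3 : M ⊔ (NH v i H ⊓ centralizer (B : Set G)) ≤ NH v i H ⊓ centralizer (B : Set G) :=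
    relIndex_eq_one.1 (by omega)
  exact (le_sup_left.trans h3).trans inf_le_right

/-! ### Exactness -/

theorem NH_sq {i : Fin 2} {H : Subgroup G} (hH : H ≤ CC v i) : ∀ x ∈ NH v i H, x ^ 2 = 1 :=
  fun x hx => D.N_sq i x (D.NH_le_N hH hx)

theorem N_le_oD (i : Fin 2) : NU V v i ≤ o2 (centralizer (zc T : Set G)) := (D.N_le_Q i).trans (D.Q_le_o2D i)

/-- exactness of `⟨v 1 ^ H₀⟩`, `⟨v 0 ^ H₁⟩` -/
theorem ex_H (hML : ML.Final.MLK.{u, u}) (hK : ∀ i, IsKGroup (CC v i)) {i j : Fin 2} {H H' : Subgroup G}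
    (hT : T ≤ H) (hH : H ≤ CC v i) (hT' : T ≤ H') (hH' : H' ≤ CC v j) : OM.PG.Int.Ex (NH v j H') (NH v i H) := by
  have hO : ∀ (k : Fin 2) (X : Subgroup G), X ≤ CC v k → NH v k X ≤ o2 (centralizer (zc T : Set G)) := fun k X hX =>
    (D.NH_le_N hX).trans (D.N_le_oD k)
  have h1 := D.no_H hML (hK i) hT hH (hO j H' hH') ((hO j H' hH').trans (D.o2D_le_T.trans hT)) (D.NH_sq hH')
  have h2 := D.no_H hML (hK j) hT' hH' (hO i H hH) ((hO i H hH).trans (D.o2D_le_T.trans hT')) (D.NH_sq hH)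
  exact le_antisymm h1 h2

/-- **exactness of `(N_0, N_1)`** -/
theorem ex (hML : ML.Final.MLK.{u, u}) (hK : ∀ i, IsKGroup (CC v i)) (i j : Fin 2) :
    OM.PG.Int.Ex (NU V v j) (NU V v i) := by
  have h := D.ex_H hML hK (D.T_le_C i) le_rfl (D.T_le_C j) le_rfl
  rwa [D.NH_CC, D.NH_CC] at h

/-- **LEMMA Q** (716 #19420), LIFTING form: `Y` a proper submodule of `N_i`, `m ∈ N_i`, `[m, N_{i+1}] ≤ Y` ⇒
`[m, N_{i+1}] = 1`. -/
theorem lemQ (hML : ML.Final.MLK.{u, u}) (hK : ∀ i, IsKGroup (CC v i)) {i : Fin 2} {Y M : Subgroup G}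
    (hY : CC v i ≤ normalizer (Y : Set G)) (hYW : Y ≤ NU V v i) (hv : v (i + 1) ∉ Y) (hM : M ≤ NU V v i)
    (hMY : ∀ m ∈ M, ∀ a ∈ NU V v (i + 1), a * m * a⁻¹ * m⁻¹ ∈ Y) : M ≤ centralizer (NU V v (i + 1) : Set G) := by
  have hO := D.N_le_oD (i + 1)
  refine D.lift_H hML (H := CC v i) (B := NU V v (i + 1)) (hK i) (D.T_le_C i) le_rfl hY (by rwa [D.NH_CC]) hv hO
    (hO.trans (D.o2D_le_T.trans (D.T_le_C i))) (D.N_sq (i + 1)) ?_ (by rwa [D.NH_CC]) hMY
  rw [D.NH_CC]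
  exact D.ex hML hK i (i + 1)

/-- **LEMMA Q**: every proper submodule of `N_i` is centralised by `N_{i+1}`. -/
theorem sub_comm (hML : ML.Final.MLK.{u, u}) (hK : ∀ i, IsKGroup (CC v i)) {i : Fin 2} {Y : Subgroup G}
    (hY : CC v i ≤ normalizer (Y : Set G)) (hYW : Y ≤ NU V v i) (hv : v (i + 1) ∉ Y) :
    Y ≤ centralizer (NU V v (i + 1) : Set G) := by
  refine D.lemQ hML hK hY hYW hv hYW fun m hm a ha => mul_mem ?_ (inv_mem hm)
  exact (mem_normalizer_iff.1 (hY (D.N_le_C (i + 1) i ha)) _).1 hm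

end Fr

end Cfsg.Agent.Omega.TC
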