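import Cfsg.Agent.Omega.TC.Fr
import Cfsg.Agent.ZN.Facts
import Cfsg.Agent.Lib.NormalAbelian

/-!
# LEMMA PHI and COROLLARY PHI (helper364 #19949 (1), #20327; CARD #18791 TWO CENTRES)

* `phi` : **LEMMA PHI**: `A ∈ A(T)`, `A₀ ≤ A` of index 2, `τ ∈ A`, `M ≤ T` elementary abelian, normalised by `A₀`,
  `[M, M^τ] = 1 = M ∩ M^τ`, `|[M, A₀]| ≤ 2`: `|M| ≤ 2`;
* `cor_phi` : abstract **COROLLARY PHI**;
* `Fr.o2_P` : `O₂(P i) = C_T(V i)`; `Fr.zc_o2` : `Ω₁Z(O₂(P i)) = V i ⟨v j⟩` if `J(T) ≰ O₂(P i)`;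
* `Fr.phi` : an involution `w ∈ O₂(P i)` with `[w, O₂(P i)] ≤ ⟨v i⟩` is in `V i ⟨v j⟩` if `J(T) ≰ O₂(P i)`;
* `Fr.phi_N`, `Fr.phi_W` : the vectors of `N_i`, `W_i` fixed by `C_T(V i)` modulo `v i`;
* `Fr.sub_le` : a proper `P j`-submodule `X ∌ v j` of `N_i` which does not contain `V i` is `≤ ⟨v i⟩`.
-/

set_option autoImplicit false
set_option linter.unusedSectionVars false

namespace Cfsg.Agent.Omega.TC.Phi

open Subgroup Cfsg Cfsg.Agent.ZN Cfsg.Agent.PLocal.ThompsonJ Cfsg.Agent.PLocal.ElemAbSup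
open Cfsg.Agent.Omega.NoFF.Basic (comm_symm)
open scoped Pointwise

universe u

variable {G : Type u} [Group G]

/-! ### A count -/

theorem sum_phi {B : Type*} [Group B] [Fintype B] (t : B → ℤˣ) (ht : ∀ b b', t (b * b') = t b * t b') :
    ∑ b, ((t b : ℤˣ) : ℤ) = by classical exact if (∀ b, t b = 1) then (Fintype.card B : ℤ) else 0 := by
  classical
  split_ifs with h
  · simp [h]
  · push Not at h
    obtain ⟨c, hc⟩ := h
    have hc' : t c = -1 := (Int.units_eq_one_or (t c)).resolve_left hc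
    have h1 : ∑ b, ((t b : ℤˣ) : ℤ) = ∑ b, ((t (c * b) : ℤˣ) : ℤ) :=
      (Fintype.sum_equiv (Equiv.mulLeft c) _ _ (fun b => rfl)).symm
    have h2 : ∑ b, ((t (c * b) : ℤˣ) : ℤ) = - ∑ b, ((t b : ℤˣ) : ℤ) := by
      rw [← Finset.sum_neg_distrib]
      refine Finset.sum_congr rfl fun b _ => ?_
      rw [ht, hc']
      simp
    omega

/-- double counting for a pairing with values `±1` -/
theorem pairing_phi {A B : Type*} [Group A] [Group B] [Finite A] [Finite B] (s : A → B → ℤˣ)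
    (hl : ∀ a a' b, s (a * a') b = s a b * s a' b) (hr : ∀ a b b', s a (b * b') = s a b * s a b') :
    Nat.card {a // ∀ b, s a b = 1} * Nat.card B = Nat.card A * Nat.card {b // ∀ a, s a b = 1} := by
  classical
  have := Fintype.ofFinite A
  have := Fintype.ofFinite B
  have h1 : ∑ a, ∑ b, ((s a b : ℤˣ) : ℤ) = Nat.card {a // ∀ b, s a b = 1} * Nat.card B := by
    have : ∀ a, ∑ b, ((s a b : ℤˣ) : ℤ) = if (∀ b, s a b = 1) then (Fintype.card B : ℤ) else 0 :=
      fun a => by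
        rw [sum_phi (s a) (hr a)]
    simp only [this]
    rw [Finset.sum_ite, Finset.sum_const_zero, add_zero, Finset.sum_const, nsmul_eq_mul,
      Nat.card_eq_fintype_card, Nat.card_eq_fintype_card, Fintype.card_subtype]
  have h2 : ∑ b, ∑ a, ((s a b : ℤˣ) : ℤ) = Nat.card {b // ∀ a, s a b = 1} * Nat.card A := by
    have : ∀ b, ∑ a, ((s a b : ℤˣ) : ℤ) = if (∀ a, s a b = 1) then (Fintype.card A : ℤ) else 0 :=
      fun b => by
        rw [sum_phi (fun a => s a b) (fun a a' => hl a a' b)]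
    simp only [this]
    rw [Finset.sum_ite, Finset.sum_const_zero, add_zero, Finset.sum_const, nsmul_eq_mul,
      Nat.card_eq_fintype_card, Nat.card_eq_fintype_card, Fintype.card_subtype]
  rw [Finset.sum_comm, h2] at h1
  have h3 : (Nat.card {a // ∀ b, s a b = 1} * Nat.card B : ℤ) =
      Nat.card A * Nat.card {b // ∀ a, s a b = 1} := by rw [← h1, mul_comm]
  exact_mod_cast h3

/-- `|C_A(M)| |M| = |A| |C_M(A)|` if `[M, A]` has order `≤ 2` -/
theorem card_pairing [Finite G] {A M : Subgroup G} {p : G} (hpp : p * p = 1)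
    (hpA : ∀ a ∈ A, a * p = p * a) (hpM : ∀ m ∈ M, m * p = p * m)
    (h : ∀ a ∈ A, ∀ m ∈ M, a * m * a⁻¹ * m⁻¹ = 1 ∨ a * m * a⁻¹ * m⁻¹ = p) :
    Nat.card (A ⊓ centralizer (M : Set G) : Subgroup G) * Nat.card M =
      Nat.card A * Nat.card (M ⊓ centralizer (A : Set G) : Subgroup G) := by
  classical
  by_cases hp1 : p = 1
  · have h1 : ∀ a ∈ A, ∀ m ∈ M, a * m = m * a := by
      intro a ha m hm
      have h2 : a * m * a⁻¹ * m⁻¹ = 1 := by
        rcases h a ha m hm with h2 | h2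
        · exact h2
        · rw [h2, hp1]
      calc a * m = (a * m * a⁻¹ * m⁻¹) * m * a := by group
        _ = m * a := by rw [h2, one_mul]
    have h2 : A ⊓ centralizer (M : Set G) = A :=
      inf_eq_left.2 fun a ha => mem_centralizer_iff.2 fun m hm => (h1 a ha m hm).symm
    have h3 : M ⊓ centralizer (A : Set G) = M :=
      inf_eq_left.2 fun m hm => mem_centralizer_iff.2 fun a ha => h1 a ha m hm
    rw [h2, h3]
  let s : A → M → ℤˣ := fun a m => if (a : G) * m = m * a then 1 else -1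
  have hs : ∀ (a : A) (m : M), (s a m = 1 ↔ (a : G) * m = m * a) := by
    intro a m
    change (if (a : G) * m = m * a then (1 : ℤˣ) else -1) = 1 ↔ _
    split_ifs with h1
    · simp [h1]
    · simp [h1]
  have hs' : ∀ (a : A) (m : M), (a : G) * m = (if s a m = 1 then 1 else p) * m * a := by
    intro a m
    by_cases h1 : (a : G) * m = m * a
    · rw [if_pos ((hs a m).2 h1), one_mul, h1]
    · rw [if_neg fun h2 => h1 ((hs a m).1 h2)]
      rcases h a a.2 m m.2 with h2 | h2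
      · exfalso
        apply h1
        calc (a : G) * m = (a * m * (a : G)⁻¹ * (m : G)⁻¹) * m * a := by group
          _ = m * a := by rw [h2, one_mul]
      · rw [← h2]; group
  have key : ∀ (a : A) (m : M) (e : ℤˣ), (a : G) * m = (if e = 1 then 1 else p) * m * a → s a m = e := by
    intro a m e h1
    have h2 := hs' a m
    rw [h1] at h2
    have h3 : (if e = 1 then (1 : G) else p) = if s a m = 1 then 1 else p :=
      mul_right_cancel (mul_right_cancel h2)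
    rcases Int.units_eq_one_or e with he | he <;> rcases Int.units_eq_one_or (s a m) with h4 | h4
    · rw [he, h4]
    · exfalso
      rw [he, h4] at h3
      simp at h3
      exact hp1 h3.symm
    · exfalso
      rw [he, h4] at h3
      simp at h3
      exact hp1 h3
    · rw [he, h4]
  have hmul : ∀ e e' : ℤˣ, (if e * e' = 1 then (1 : G) else p) =
      (if e = 1 then 1 else p) * (if e' = 1 then 1 else p) := by
    intro e e'
    rcases Int.units_eq_one_or e with he | he <;> rcases Int.units_eq_one_or e' with he' | he' <;>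
      rw [he, he'] <;> simp [hpp]
  have hcA : ∀ (e : ℤˣ), ∀ a ∈ A, a * (if e = 1 then (1 : G) else p) = (if e = 1 then 1 else p) * a := by
    intro e a ha
    split_ifs
    · rw [mul_one, one_mul]
    · exact hpA a ha
  have hcM : ∀ (e : ℤˣ), ∀ m ∈ M, m * (if e = 1 then (1 : G) else p) = (if e = 1 then 1 else p) * m := by
    intro e a ha
    split_ifs
    · rw [mul_one, one_mul]
    · exact hpM a ha
  have hl : ∀ a a' b, s (a * a') b = s a b * s a' b := by
    intro a a' b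
    apply key
    push_cast
    rw [hmul]
    calc (a : G) * a' * b = a * ((a' : G) * b) := by group
      _ = a * ((if s a' b = 1 then 1 else p) * b * a') := by rw [hs' a' b]
      _ = (a * (if s a' b = 1 then (1 : G) else p)) * b * a' := by group
      _ = (if s a' b = 1 then (1 : G) else p) * (a * b) * a' := by rw [hcA _ a a.2]; group
      _ = (if s a' b = 1 then (1 : G) else p) * ((if s a b = 1 then 1 else p) * b * a) * a' := by rw [← hs' a b]
      _ = ((if s a' b = 1 then (1 : G) else p) * (if s a b = 1 then 1 else p)) * b * (a * a') := by group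
      _ = (if s a b = 1 then (1 : G) else p) * (if s a' b = 1 then 1 else p) * b * (a * a') := by
        congr 2
        split_ifs <;> simp
  have hr : ∀ a b b', s a (b * b') = s a b * s a b' := by
    intro a b b'
    apply key
    push_cast
    rw [hmul]
    calc (a : G) * (b * b') = (a * b) * b' := by group
      _ = ((if s a b = 1 then 1 else p) * b * a) * b' := by rw [← hs' a b]
      _ = (if s a b = 1 then 1 else p) * b * ((a : G) * b') := by group
      _ = (if s a b = 1 then 1 else p) * b * ((if s a b' = 1 then 1 else p) * b' * a) := by rw [← hs' a b']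
      _ = (if s a b = 1 then 1 else p) * (b * (if s a b' = 1 then (1 : G) else p)) * b' * a := by group
      _ = (if s a b = 1 then (1 : G) else p) * (if s a b' = 1 then 1 else p) * (b * b') * a := by
        rw [hcM _ b b.2]; group
  have h0 := pairing_phi s hl hr
  have e1 : Nat.card {a : A // ∀ b, s a b = 1} = Nat.card (A ⊓ centralizer (M : Set G) : Subgroup G) := by
    refine Nat.card_congr ⟨fun a => ⟨a.1, a.1.2, mem_centralizer_iff.2 fun m hm =>
      ((hs a.1 ⟨m, hm⟩).1 (a.2 ⟨m, hm⟩)).symm⟩, fun a => ⟨⟨a.1, a.2.1⟩, fun m =>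
      (hs _ m).2 (mem_centralizer_iff.1 a.2.2 m m.2).symm⟩, fun a => rfl, fun a => rfl⟩
  have e2 : Nat.card {b : M // ∀ a, s a b = 1} = Nat.card (M ⊓ centralizer (A : Set G) : Subgroup G) := by
    refine Nat.card_congr ⟨fun m => ⟨m.1, m.1.2, mem_centralizer_iff.2 fun a ha =>
      (hs ⟨a, ha⟩ m.1).1 (m.2 ⟨a, ha⟩)⟩, fun m => ⟨⟨m.1, m.2.1⟩, fun a =>
      (hs a _).2 (mem_centralizer_iff.1 m.2.2 a a.2)⟩, fun a => rfl, fun a => rfl⟩
  rw [e1, e2] at h0
  exact h0

/-! ### LEMMA PHI -/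

/-- **LEMMA PHI** -/
theorem phi [Finite G] {T A A₀ M : Subgroup G} {τ p : G} (hA : IsMaxIn T A) (hτ : τ ∈ A) (hA₀ : A₀ ≤ A)
    (hidx : ∀ a ∈ A, a ∈ A₀ ∨ τ * a ∈ A₀) (hMT : M ≤ T) (hMe : IsElementaryAbelian 2 M)
    (hMM : ∀ x ∈ M, ∀ y ∈ M, x * (τ * y * τ⁻¹) = τ * y * τ⁻¹ * x)
    (hinf : ∀ x ∈ M, ∀ y ∈ M, x = τ * y * τ⁻¹ → x = 1)
    (hA₀M : A₀ ≤ normalizer (M : Set G)) (hpM : p ∈ M)
    (hp : ∀ a ∈ A₀, ∀ m ∈ M, a * m * a⁻¹ * m⁻¹ = 1 ∨ a * m * a⁻¹ * m⁻¹ = p) : Nat.card M ≤ 2 := by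
  classical
  have hAc := (isElementaryAbelian_iff.1 hA.2.1).1
  have hA2 := (isElementaryAbelian_iff.1 hA.2.1).2
  have hMc := (isElementaryAbelian_iff.1 hMe).1
  have hM2 := (isElementaryAbelian_iff.1 hMe).2
  have hττ : τ * τ = 1 := by rw [← pow_two]; exact hA2 τ hτ
  have hpp : p * p = 1 := by rw [← pow_two]; exact hM2 p hpM
  -- `A₀` centralises `p`
  have hpA : ∀ a ∈ A₀, a * p = p * a := by
    intro a ha
    rcases hp a ha p hpM with h | h
    · calc a * p = (a * p * a⁻¹ * p⁻¹) * p * a := by group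
        _ = p * a := by rw [h, one_mul]
    · -- `a p a⁻¹ = p p = 1`
      have h1 : a * p * a⁻¹ = 1 := by
        calc a * p * a⁻¹ = (a * p * a⁻¹ * p⁻¹) * p := by group
          _ = 1 := by rw [h, hpp]
      rw [conj_eq_one_iff.1 h1, mul_one, one_mul]
  -- `M' = M^τ`
  set M' : Subgroup G := MulAut.conj τ • M with hM'
  have memM' : ∀ x, x ∈ M' ↔ ∃ y ∈ M, x = τ * y * τ⁻¹ := by
    intro x
    rw [hM', mem_smul_pointwise_iff_exists]
    constructor
    · rintro ⟨y, hy, rfl⟩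
      exact ⟨y, hy, rfl⟩
    · rintro ⟨y, hy, rfl⟩
      exact ⟨y, hy, rfl⟩
  have hcard' : Nat.card M' = Nat.card M := by
    rw [hM']
    exact Nat.card_congr (Subgroup.equivSMul (MulAut.conj τ) M).symm.toEquiv
  have hM'e : IsElementaryAbelian 2 M' := by
    rw [isElementaryAbelian_iff]
    refine ⟨fun a ha b hb => ?_, fun a ha => ?_⟩
    · obtain ⟨x, hx, rfl⟩ := (memM' a).1 ha
      obtain ⟨y, hy, rfl⟩ := (memM' b).1 hb
      calc τ * x * τ⁻¹ * (τ * y * τ⁻¹) = τ * (x * y) * τ⁻¹ := by group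
        _ = τ * (y * x) * τ⁻¹ := by rw [hMc x hx y hy]
        _ = τ * y * τ⁻¹ * (τ * x * τ⁻¹) := by group
    · obtain ⟨x, hx, rfl⟩ := (memM' a).1 ha
      calc (τ * x * τ⁻¹) ^ 2 = τ * x ^ 2 * τ⁻¹ := by rw [pow_two, pow_two]; group
        _ = 1 := by rw [hM2 x hx]; group
  have hMM' : M' ≤ centralizer (M : Set G) := by
    intro x hx
    obtain ⟨y, hy, rfl⟩ := (memM' x).1 hx
    exact mem_centralizer_iff.2 fun m hm => hMM m hm y hy
  have hbot : M ⊓ M' = ⊥ := by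
    rw [eq_bot_iff]
    rintro x ⟨hx, hx'⟩
    obtain ⟨y, hy, e⟩ := (memM' x).1 hx'
    exact mem_bot.2 (hinf x hx y hy e)
  set E : Subgroup G := M ⊔ M' with hE
  have hEe : IsElementaryAbelian 2 E := isElementaryAbelian_sup hMe hM'e hMM'
  have hEcard : Nat.card E = Nat.card M * Nat.card M := by
    have h1 := card_sup_mul_card_inf hMM'
    rw [hbot, Subgroup.card_bot, mul_one, hcard'] at h1
    exact h1
  have hM'T : M' ≤ T := by
    intro x hx
    obtain ⟨y, hy, rfl⟩ := (memM' x).1 hx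
    exact mul_mem (mul_mem (hA.1 hτ) (hMT hy)) (inv_mem (hA.1 hτ))
  have hET : E ≤ T := sup_le hMT hM'T
  set A' : Subgroup G := A₀ ⊓ centralizer (M : Set G) with hA'
  have hA'A : A' ≤ A := inf_le_left.trans hA₀
  have hA'e : IsElementaryAbelian 2 A' := isElementaryAbelian_mono hA.2.1 hA'A
  have hA'E : A' ≤ centralizer (E : Set G) := by
    refine comm_symm (sup_le (comm_symm inf_le_right) (comm_symm fun a ha => mem_centralizer_iff.2 fun x hx => ?_))
    obtain ⟨y, hy, rfl⟩ := (memM' x).1 hx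
    have h1 := mem_centralizer_iff.1 ha.2 y hy
    have h2 := hAc a (hA'A ha) τ hτ
    have h3 : τ⁻¹ * a = a * τ⁻¹ := by
      calc τ⁻¹ * a = τ⁻¹ * (a * τ) * τ⁻¹ := by group
        _ = τ⁻¹ * (τ * a) * τ⁻¹ := by rw [h2]
        _ = a * τ⁻¹ := by group
    calc τ * y * τ⁻¹ * a = τ * y * (τ⁻¹ * a) := by group
      _ = τ * (y * a) * τ⁻¹ := by rw [h3]; group
      _ = τ * a * y * τ⁻¹ := by rw [h1]; group
      _ = a * (τ * y * τ⁻¹) := by rw [← h2]; group
  have hmax : Nat.card (E ⊔ A' : Subgroup G) ≤ Nat.card A :=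
    hA.2.2 _ (sup_le hET (hA'A.trans hA.1)) (isElementaryAbelian_sup hEe hA'e hA'E)
  have hc2 := card_sup_mul_card_inf hA'E
  have hAcard : Nat.card A ≤ 2 * Nat.card A₀ := by
    have h1 : A₀.relIndex A ≤ 2 := by
      by_cases hD : A ≤ A₀
      · rw [relIndex_eq_one.mpr hD]; norm_num
      · obtain ⟨a, ha, ha'⟩ := SetLike.not_le_iff_exists.mp hD
        have hτ' : τ ∉ A₀ := fun h => by
          rcases hidx a ha with h2 | h2
          · exact ha' h2
          · exact ha' ((mul_mem_cancel_left h).1 h2)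
        have : A₀.relIndex A = 2 := by
          rw [relIndex_eq_two_iff_exists_notMem_and]
          refine ⟨τ, hτ, hτ', fun b hb => ?_⟩
          rcases hidx b hb with h2 | h2
          · exact Or.inr h2
          · left; rw [hAc b hb τ hτ]; exact h2
        rw [this]
    have h2 := relIndex_mul_relIndex (⊥ : Subgroup G) A₀ A bot_le hA₀
    rw [relIndex_bot_left, relIndex_bot_left] at h2
    rw [← h2, mul_comm]
    exact Nat.mul_le_mul_right _ h1
  -- `|E ∩ A'| ≤ |C_M(A₀)|`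
  have hle : Nat.card (E ⊓ A' : Subgroup G) ≤ Nat.card (M ⊓ centralizer (A₀ : Set G) : Subgroup G) := by
    have huniq : ∀ y ∈ M, ∀ z ∈ M, ∀ y' ∈ M, ∀ z' ∈ M, y * (τ * z * τ⁻¹) = y' * (τ * z' * τ⁻¹) → y = y' ∧ z = z' := by
      intro y hy z hz y' hy' z' hz' e
      have h1 : y'⁻¹ * y = τ * (z' * z⁻¹) * τ⁻¹ := by
        calc y'⁻¹ * y = y'⁻¹ * (y * (τ * z * τ⁻¹)) * (τ * z * τ⁻¹)⁻¹ := by group
          _ = τ * (z' * z⁻¹) * τ⁻¹ := by rw [e]; group
      have h2 := hinf _ (mul_mem (inv_mem hy') hy) _ (mul_mem hz' (inv_mem hz)) h1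
      rw [h2] at h1
      have h3 := conj_eq_one_iff.1 h1.symm
      exact ⟨(inv_mul_eq_one.1 h2).symm, (mul_inv_eq_one.1 h3).symm⟩
    have hex : ∀ x ∈ E ⊓ A', ∃ y ∈ M ⊓ centralizer (A₀ : Set G), x = y * (τ * y * τ⁻¹) := by
      rintro x ⟨hxE, hxA⟩
      have h1 : (x : G) ∈ ((M ⊔ M' : Subgroup G) : Set G) := hxE
      rw [coe_sup_of_le_centralizer hMM'] at h1
      obtain ⟨y, hy, m', hm', hx⟩ := h1
      obtain ⟨z, hz, rfl⟩ := (memM' m').1 hm'
      have hx : x = y * (τ * z * τ⁻¹) := hx.symm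
      -- `x` commutes with `τ`
      have h2 : τ * x * τ⁻¹ = x := by rw [hAc τ hτ x (hA'A hxA)]; group
      have hyz : y = z := by
        rw [hx] at h2
        have h3 : τ * (y * (τ * z * τ⁻¹)) * τ⁻¹ = z * (τ * y * τ⁻¹) := by
          have e1 : τ * (τ * z * τ⁻¹) * τ⁻¹ = z := by
            calc τ * (τ * z * τ⁻¹) * τ⁻¹ = (τ * τ) * z * (τ * τ)⁻¹ := by group
              _ = z := by rw [hττ]; group
          calc τ * (y * (τ * z * τ⁻¹)) * τ⁻¹ = (τ * y * τ⁻¹) * (τ * (τ * z * τ⁻¹) * τ⁻¹) := by group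
            _ = (τ * y * τ⁻¹) * z := by rw [e1]
            _ = z * (τ * y * τ⁻¹) := (hMM z hz y hy).symm
        rw [h3] at h2
        exact (huniq z hz y hy y hy z hz h2).2
      refine ⟨y, ⟨hy, mem_centralizer_iff.2 fun a ha => ?_⟩, by rw [hx, hyz]⟩
      have h4 : a * x * a⁻¹ = x := by rw [hAc a (hA₀ ha) x (hA'A hxA)]; group
      rw [hx, ← hyz] at h4
      have h5 : a * y * a⁻¹ ∈ M := (mem_normalizer_iff.1 (hA₀M ha) y).1 hy
      have h6 : a * (y * (τ * y * τ⁻¹)) * a⁻¹ = (a * y * a⁻¹) * (τ * (a * y * a⁻¹) * τ⁻¹) := by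
        have h7 := hAc a (hA₀ ha) τ hτ
        have h8 : a⁻¹ * τ⁻¹ = τ⁻¹ * a⁻¹ := by rw [← mul_inv_rev, ← mul_inv_rev, h7]
        calc a * (y * (τ * y * τ⁻¹)) * a⁻¹ = (a * y * a⁻¹) * ((a * τ) * y * (τ⁻¹ * a⁻¹)) := by group
          _ = (a * y * a⁻¹) * ((τ * a) * y * (a⁻¹ * τ⁻¹)) := by rw [h7, h8]
          _ = (a * y * a⁻¹) * (τ * (a * y * a⁻¹) * τ⁻¹) := by group
      rw [h6] at h4
      have h7 := (huniq _ h5 _ h5 y hy y hy h4).1
      calc a * y = (a * y * a⁻¹) * a := by group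
        _ = y * a := by rw [h7]
    refine Nat.card_le_card_of_surjective (fun y : (M ⊓ centralizer (A₀ : Set G) : Subgroup G) =>
      if h : (y : G) * (τ * y * τ⁻¹) ∈ E ⊓ A' then (⟨_, h⟩ : (E ⊓ A' : Subgroup G)) else 1) fun x => ?_
    obtain ⟨y, hy, e⟩ := hex x x.2
    refine ⟨⟨y, hy⟩, ?_⟩
    have h1 : y * (τ * y * τ⁻¹) ∈ E ⊓ A' := by rw [← e]; exact x.2
    exact (dif_pos h1).trans (Subtype.ext e.symm)
  have hpair := card_pairing (A := A₀) (M := M) hpp hpA (fun m hm => hMc m hm p hpM) hp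
  have hposA' : 0 < Nat.card A' := Nat.card_pos
  have hposM : 0 < Nat.card M := Nat.card_pos
  rw [hEcard] at hc2
  -- `|M|² |A'| ≤ 2 |A₀| |C_M(A₀)| = 2 |A'| |M|`
  have h1 : Nat.card M * Nat.card M * Nat.card A' ≤ 2 * (Nat.card A' * Nat.card M) := by
    calc Nat.card M * Nat.card M * Nat.card A' = Nat.card (E ⊔ A' : Subgroup G) * Nat.card (E ⊓ A' : Subgroup G) :=
          hc2.symm
      _ ≤ (2 * Nat.card A₀) * Nat.card (M ⊓ centralizer (A₀ : Set G) : Subgroup G) :=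
          Nat.mul_le_mul (hmax.trans hAcard) hle
      _ = 2 * (Nat.card A' * Nat.card M) := by rw [hpair]; ring
  have h2 : Nat.card M * (Nat.card M * Nat.card A') ≤ 2 * (Nat.card M * Nat.card A') := by
    calc Nat.card M * (Nat.card M * Nat.card A') = Nat.card M * Nat.card M * Nat.card A' := by ring
      _ ≤ _ := h1
      _ = _ := by ring
  exact Nat.le_of_mul_le_mul_right h2 (Nat.mul_pos hposM hposA')

/-! ### COROLLARY PHI -/

theorem exists_four {a b : G} (ha : a * a = 1) (hb : b * b = 1) (hab : a * b = b * a) :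
    ∃ M : Subgroup G, (∀ x, x ∈ M ↔ x = 1 ∨ x = a ∨ x = b ∨ x = a * b) ∧ IsElementaryAbelian 2 M := by
  have h1 : a * (a * b) = b := by rw [← mul_assoc, ha, one_mul]
  have h2 : b * (a * b) = a := by rw [hab, ← mul_assoc, hb, one_mul]
  have h3 : a * b * a = b := by rw [hab, mul_assoc, ha, mul_one]
  have h4 : a * b * b = a := by rw [mul_assoc, hb, mul_one]
  have h5 : a * b * (a * b) = 1 := by rw [mul_assoc, h2, ha]
  have h6 : a⁻¹ = a := inv_eq_of_mul_eq_one_left ha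
  have h7 : b⁻¹ = b := inv_eq_of_mul_eq_one_left hb
  let M : Subgroup G :=
    { carrier := {x | x = 1 ∨ x = a ∨ x = b ∨ x = a * b}
      one_mem' := Or.inl rfl
      mul_mem' := by
        rintro x y (hx | hx | hx | hx) (hy | hy | hy | hy) <;> rw [hx, hy]
        · left; exact one_mul 1
        · right; left; exact one_mul a
        · right; right; left; exact one_mul b
        · right; right; right; exact one_mul _
        · right; left; exact mul_one a
        · left; exact ha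
        · right; right; right; rfl
        · right; right; left; exact h1
        · right; right; left; exact mul_one b
        · right; right; right; exact hab.symm
        · left; exact hb
        · right; left; exact h2
        · right; right; right; exact mul_one _
        · right; right; left; exact h3
        · right; left; exact h4
        · left; exact h5
      inv_mem' := by
        rintro x (hx | hx | hx | hx) <;> rw [hx]
        · left; exact inv_one
        · right; left; exact h6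
        · right; right; left; exact h7
        · right; right; right; rw [mul_inv_rev, h6, h7, hab] }
  refine ⟨M, fun x => Iff.rfl, isElementaryAbelian_iff.2 ⟨?_, ?_⟩⟩
  · rintro x (hx | hx | hx | hx) y (hy | hy | hy | hy) <;> rw [hx, hy]
    · rw [mul_one, one_mul]
    · rw [mul_one, one_mul]
    · rw [mul_one, one_mul]
    · rw [mul_one, one_mul]
    · rw [hab]
    · rw [h1, h3]
    · rw [mul_one, one_mul]
    · rw [hab]
    · rw [h2, h4]
    · rw [mul_one, one_mul]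
    · rw [h1, h3]
    · rw [h2, h4]
  · rintro x (hx | hx | hx | hx) <;> rw [hx, pow_two]
    · exact one_mul 1
    · exact ha
    · exact hb
    · exact h5

/-- **COROLLARY PHI**, abstract form: `w ∈ O` an involution with `[w, O] ≤ ⟨v⟩`; `g` normalises `O` and maps `v` to
`p ∈ Z(O)`; `τ ∈ A ∈ A(T)`, `|A : A ∩ O| ≤ 2`, `p^τ ≠ p`. -/
theorem cor_phi [Finite G] {T A O : Subgroup G} {τ g v p w : G} (hA : IsMaxIn T A) (hτ : τ ∈ A) (hOT : O ≤ T)
    (hidx : ∀ a ∈ A, a ∈ O ∨ τ * a ∈ O) (hτO : τ ∈ normalizer (O : Set G)) (hgO : g ∈ normalizer (O : Set G))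
    (hp : p = g * v * g⁻¹) (hpO : p ∈ O) (hpc : ∀ o ∈ O, o * p = p * o) (hp2 : p * p = 1) (hp1 : p ≠ 1)
    (hpτ : τ * p * τ⁻¹ ≠ p) (hw : w ∈ O) (hw2 : w * w = 1)
    (hwc : ∀ o ∈ O, w * o * w⁻¹ * o⁻¹ = 1 ∨ w * o * w⁻¹ * o⁻¹ = v) : ∀ o ∈ O, w * o = o * w := by
  classical
  set w₂ := g * w * g⁻¹ with hw₂
  have conjO : ∀ {t : G}, t ∈ normalizer (O : Set G) → ∀ o ∈ O, t * o * t⁻¹ ∈ O := fun ht o ho =>
    (mem_normalizer_iff.1 ht o).1 ho
  have conjO' : ∀ {t : G}, t ∈ normalizer (O : Set G) → ∀ o ∈ O, t⁻¹ * o * t ∈ O := fun ht o ho => by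
    have := (mem_normalizer_iff.1 (inv_mem ht) o).1 ho
    rwa [inv_inv] at this
  have hw₂O : w₂ ∈ O := conjO hgO w hw
  -- enough: `w₂` centralises `O`
  suffices hmain : ∀ o ∈ O, w₂ * o = o * w₂ by
    intro o ho
    have h1 := hmain _ (conjO hgO o ho)
    calc w * o = g⁻¹ * (w₂ * (g * o * g⁻¹)) * g := by rw [hw₂]; group
      _ = g⁻¹ * ((g * o * g⁻¹) * w₂) * g := by rw [h1]
      _ = o * w := by rw [hw₂]; group
  by_contra hcon
  have hw₂2 : w₂ * w₂ = 1 := by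
    calc w₂ * w₂ = g * (w * w) * g⁻¹ := by rw [hw₂]; group
      _ = 1 := by rw [hw2]; group
  have hc2 : ∀ o ∈ O, w₂ * o * w₂⁻¹ * o⁻¹ = 1 ∨ w₂ * o * w₂⁻¹ * o⁻¹ = p := by
    intro o ho
    have e : w₂ * o * w₂⁻¹ * o⁻¹ = g * (w * (g⁻¹ * o * g) * w⁻¹ * (g⁻¹ * o * g)⁻¹) * g⁻¹ := by
      rw [hw₂]; group
    rw [e]
    rcases hwc _ (conjO' hgO o ho) with h | h
    · left; rw [h]; group
    · right; rw [h, hp]
  have hwp : w₂ * p = p * w₂ := hpc w₂ hw₂O
  obtain ⟨M, hM, hMe⟩ := exists_four hw₂2 hp2 hwp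
  have hpM : p ∈ M := (hM p).2 (Or.inr (Or.inr (Or.inl rfl)))
  have hwM : w₂ ∈ M := (hM w₂).2 (Or.inr (Or.inl rfl))
  have hMO : M ≤ O := by
    intro x hx
    rcases (hM x).1 hx with h | h | h | h <;> rw [h]
    · exact one_mem _
    · exact hw₂O
    · exact hpO
    · exact mul_mem hw₂O hpO
  have hMc := (isElementaryAbelian_iff.1 hMe).1
  -- commutators of `M` with `O`
  have hM1 : ∀ x ∈ M, ∀ o ∈ O, x * o * x⁻¹ * o⁻¹ = 1 ∨ x * o * x⁻¹ * o⁻¹ = p := by
    intro x hx o ho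
    have hpo := hpc o ho
    have e1 : p * o * p⁻¹ = o := by rw [← hpo, mul_inv_cancel_right]
    rcases (hM x).1 hx with h | h | h | h
    · left; rw [h]; group
    · rw [h]; exact hc2 o ho
    · left; rw [h, e1, mul_inv_cancel]
    · rw [h]
      have e : w₂ * p * o * (w₂ * p)⁻¹ * o⁻¹ = w₂ * (p * o * p⁻¹) * w₂⁻¹ * o⁻¹ := by group
      rw [e, e1]
      exact hc2 o ho
  set r := τ * p * τ⁻¹ with hr
  have hM2 : ∀ y ∈ M, ∀ o ∈ O, (τ * y * τ⁻¹) * o * (τ * y * τ⁻¹)⁻¹ * o⁻¹ = 1 ∨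
      (τ * y * τ⁻¹) * o * (τ * y * τ⁻¹)⁻¹ * o⁻¹ = r := by
    intro y hy o ho
    have e : (τ * y * τ⁻¹) * o * (τ * y * τ⁻¹)⁻¹ * o⁻¹ =
        τ * (y * (τ⁻¹ * o * τ) * y⁻¹ * (τ⁻¹ * o * τ)⁻¹) * τ⁻¹ := by group
    rw [e]
    rcases hM1 y hy _ (conjO' hτO o ho) with h | h
    · left; rw [h]; group
    · right; rw [h]
  have hpinv : p⁻¹ = p := inv_eq_of_mul_eq_one_left hp2
  have comm_of : ∀ {x o : G}, x * o * x⁻¹ * o⁻¹ = 1 → x * o = o * x := by
    intro x o h
    calc x * o = (x * o * x⁻¹ * o⁻¹) * o * x := by group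
      _ = o * x := by rw [h, one_mul]
  -- an element of `M ∩ M^τ` is central in `O`
  have hcen : ∀ x ∈ M, ∀ y ∈ M, x = τ * y * τ⁻¹ → ∀ o ∈ O, x * o = o * x := by
    intro x hx y hy e o ho
    apply comm_of
    rcases hM1 x hx o ho with h | h
    · exact h
    · rcases hM2 y hy o ho with h' | h'
      · rw [← e] at h'; exact h'
      · exfalso
        rw [← e, h] at h'
        exact hpτ h'.symm
  have hw₂of : ∀ x ∈ M, x ≠ 1 → x ≠ p → (∀ o ∈ O, x * o = o * x) → False := by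
    intro x hx hx1 hxp hxc
    apply hcon
    intro o ho
    rcases (hM x).1 hx with h | h | h | h
    · exact absurd h hx1
    · rw [← h]; exact hxc o ho
    · exact absurd h hxp
    · have h1 := hxc o ho
      rw [h] at h1
      have h2 := hpc o ho
      have e0 : w₂ * p * (p * o) = w₂ * o := by
        calc w₂ * p * (p * o) = w₂ * ((p * p) * o) := by simp only [mul_assoc]
          _ = w₂ * o := by rw [hp2, one_mul]
      calc w₂ * o = w₂ * p * (p * o) := e0.symm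
        _ = (w₂ * p * o) * p := by rw [← h2]; group
        _ = o * w₂ * (p * p) := by rw [h1]; group
        _ = o * w₂ := by rw [hp2, mul_one]
  have hinf : ∀ x ∈ M, ∀ y ∈ M, x = τ * y * τ⁻¹ → x = 1 := by
    intro x hx y hy e
    by_contra hx1
    have hxc := hcen x hx y hy e
    by_cases hxp : x = p
    · have hy1 : y ≠ 1 := by
        intro h
        apply hx1
        rw [e, h]; group
      have hyp : y ≠ p := by
        intro h
        apply hpτ
        rw [hr, ← h, ← e, hxp, h]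
      refine hw₂of y hy hy1 hyp fun o ho => ?_
      have h1 := hxc _ (conjO hτO o ho)
      rw [e] at h1
      calc y * o = τ⁻¹ * (τ * y * τ⁻¹ * (τ * o * τ⁻¹)) * τ := by group
        _ = τ⁻¹ * (τ * o * τ⁻¹ * (τ * y * τ⁻¹)) * τ := by rw [h1]
        _ = o * y := by group
    · exact hw₂of x hx hx1 hxp hxc
  have hMM : ∀ x ∈ M, ∀ y ∈ M, x * (τ * y * τ⁻¹) = τ * y * τ⁻¹ * x := by
    intro x hx y hy
    have hyO : τ * y * τ⁻¹ ∈ O := conjO hτO y (hMO hy)
    apply comm_of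
    rcases hM1 x hx _ hyO with h | h
    · exact h
    · exfalso
      rcases hM2 y hy x (hMO hx) with h' | h'
      · have h1 : x * (τ * y * τ⁻¹) * x⁻¹ * (τ * y * τ⁻¹)⁻¹ =
            ((τ * y * τ⁻¹) * x * (τ * y * τ⁻¹)⁻¹ * x⁻¹)⁻¹ := by group
        rw [h1, h', inv_one] at h
        exact hp1 h.symm
      · have h1 : x * (τ * y * τ⁻¹) * x⁻¹ * (τ * y * τ⁻¹)⁻¹ =
            ((τ * y * τ⁻¹) * x * (τ * y * τ⁻¹)⁻¹ * x⁻¹)⁻¹ := by group
        rw [h1, h', inv_eq_iff_eq_inv, hpinv] at h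
        exact hpτ h
  have hcomm' : ∀ a ∈ A ⊓ O, ∀ m ∈ M, a * m * a⁻¹ * m⁻¹ = 1 ∨ a * m * a⁻¹ * m⁻¹ = p := by
    rintro a ⟨_, haO⟩ m hm
    have e : a * m * a⁻¹ * m⁻¹ = (m * a * m⁻¹ * a⁻¹)⁻¹ := by group
    rw [e]
    rcases hM1 m hm a haO with h | h
    · left; rw [h, inv_one]
    · right; rw [h, hpinv]
  have hnM : A ⊓ O ≤ normalizer (M : Set G) := by
    have key : ∀ a ∈ A ⊓ O, ∀ m ∈ M, a * m * a⁻¹ ∈ M := by
      intro a ha m hm
      have e : a * m * a⁻¹ = (a * m * a⁻¹ * m⁻¹) * m := by group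
      rw [e]
      rcases hcomm' a ha m hm with h | h
      · rw [h, one_mul]; exact hm
      · rw [h]; exact mul_mem hpM hm
    intro a ha
    rw [mem_normalizer_iff]
    intro x
    refine ⟨key a ha x, fun hx => ?_⟩
    have h1 := key a⁻¹ (inv_mem ha) _ hx
    have e : a⁻¹ * (a * x * a⁻¹) * a⁻¹⁻¹ = x := by group
    rwa [e] at h1
  have hcard : Nat.card M ≤ 2 := by
    have hτinv : τ⁻¹ = τ := by
      refine inv_eq_of_mul_eq_one_left ?_
      rw [← pow_two]
      exact (isElementaryAbelian_iff.1 hA.2.1).2 τ hτ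
    refine phi (A₀ := A ⊓ O) hA hτ inf_le_left (fun a ha => ?_) (hMO.trans hOT) hMe hMM hinf hnM hpM hcomm'
    rcases hidx a ha with h | h
    · exact Or.inl ⟨ha, h⟩
    · exact Or.inr ⟨mul_mem hτ ha, h⟩
  have hzp : zpowers p = M := by
    refine Subgroup.eq_of_le_of_card_ge (zpowers_le.2 hpM) ?_
    have h1 : orderOf p = 2 := orderOf_eq_prime (by rw [pow_two]; exact hp2) hp1
    rw [Nat.card_zpowers, h1]
    exact hcard
  have h1 : w₂ ∈ zpowers p := by rw [hzp]; exact hwM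
  apply hcon
  intro o ho
  obtain ⟨n, hn⟩ := mem_zpowers_iff.1 h1
  rw [← hn]
  have h2 : Commute o p := hpc o ho
  exact (h2.zpow_right n).eq.symm

/-- a nontrivial section `B / A` has a nontrivial fixed point under a 2-group -/
theorem exists_fixed_mod [Finite G] {T B A : Subgroup G} (hT : IsPGroup 2 T) (hBT : B ≤ T)
    (hB : T ≤ normalizer (B : Set G)) (hA : T ≤ normalizer (A : Set G)) (hne : ¬ B ≤ A) :
    ∃ m ∈ B, m ∉ A ∧ ∀ t ∈ T, t * m * t⁻¹ * m⁻¹ ∈ A := by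
  have : Fact (Nat.Prime 2) := ⟨Nat.prime_two⟩
  have hnA : (A.subgroupOf T).Normal := normal_subgroupOf_of_le_normalizer hA
  have hnB : (B.subgroupOf T).Normal := normal_subgroupOf_of_le_normalizer hB
  have hp : IsPGroup 2 (T ⧸ A.subgroupOf T) := hT.to_quotient _
  have : Group.IsNilpotent (T ⧸ A.subgroupOf T) := hp.isNilpotent
  let N : Subgroup (T ⧸ A.subgroupOf T) := (B.subgroupOf T).map (QuotientGroup.mk' (A.subgroupOf T))
  have hN : N.Normal := hnB.map _ (QuotientGroup.mk'_surjective _)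
  have hN1 : N ≠ ⊥ := by
    intro h
    apply hne
    intro x hx
    have h1 : QuotientGroup.mk' (A.subgroupOf T) ⟨x, hBT hx⟩ ∈ N := ⟨⟨x, hBT hx⟩, hx, rfl⟩
    rw [h, mem_bot] at h1
    exact (QuotientGroup.eq_one_iff (⟨x, hBT hx⟩ : T)).1 h1
  have h2 := Lib.NormalAbelian.normal_inf_center_ne_bot N hN1
  obtain ⟨⟨y, hy⟩, hy1⟩ := Subgroup.ne_bot_iff_exists_ne_one.1 h2
  obtain ⟨⟨m, hm, rfl⟩, hyc⟩ := mem_inf.1 hy
  refine ⟨m, hm, fun h => hy1 ?_, fun t ht => ?_⟩
  · apply Subtype.ext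
    exact (QuotientGroup.eq_one_iff m).2 h
  · have h3 := mem_center_iff.1 hyc (QuotientGroup.mk' (A.subgroupOf T) ⟨t, ht⟩)
    rw [← map_mul, ← map_mul] at h3
    have h4 : QuotientGroup.mk' (A.subgroupOf T) (⟨t, ht⟩ * m * (⟨t, ht⟩ : T)⁻¹ * m⁻¹) = 1 := by
      rw [mul_assoc, map_mul, h3, ← map_mul]
      rw [show m * ⟨t, ht⟩ * ((⟨t, ht⟩ : T)⁻¹ * m⁻¹) = 1 by group, map_one]
    have h5 := (QuotientGroup.eq_one_iff ((⟨t, ht⟩ : T) * m * (⟨t, ht⟩ : T)⁻¹ * m⁻¹)).1 h4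
    exact h5

/-! ### The frame -/

section frame

open Cfsg.Agent.Omega.OM.KTwo (CC QQ WU NU EU ne_add_one)
open Cfsg.Agent.ZN.ChoiceSit (Syl o2_le_syl syl_not_dvd)

variable [Finite G] {T : Subgroup G} {V P : Fin 2 → Subgroup G} {v : Fin 2 → G} (D : Fr T V P v)

include D

theorem sylP (i : Fin 2) : Syl T (P i) :=
  ⟨D.T_le_P i, D.T_isPGroup, fun Q hQ hQ2 hTQ =>
    (D.syl (i + 1)).2.2 Q (hQ.trans (D.PC i (i + 1) (ne_add_one i))) hQ2 hTQ⟩

/-- **`O₂(P i) = C_T(V i)`** -/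
theorem o2_P (i : Fin 2) : o2 (P i) = T ⊓ centralizer (V i : Set G) := by
  apply le_antisymm
  · have hoT : o2 (P i) ≤ T := o2_le_syl (sylP D i)
    refine le_inf hoT fun o ho => mem_centralizer_iff.2 fun x hx => ?_
    by_cases hx1 : x = 1
    · rw [hx1, one_mul, mul_one]
    obtain ⟨l, hl, -, hlx⟩ := D.tr (ne_add_one i) hx hx1
    have h1 : l⁻¹ * o * l ∈ o2 (P i) := by
      have := (mem_normalizer_iff.1 (le_normalizer_o2 _ (inv_mem hl)) o).1 ho
      rwa [inv_inv] at this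
    have h2 := D.comm_v i (hoT h1)
    rw [← hlx]
    calc l * v i * l⁻¹ * o = l * (v i * (l⁻¹ * o * l)) * l⁻¹ := by group
      _ = l * (l⁻¹ * o * l * v i) * l⁻¹ := by rw [h2]
      _ = o * (l * v i * l⁻¹) := by group
  · have hfact : Fact (Nat.Prime 2) := ⟨Nat.prime_two⟩
    have hN : P i ≤ normalizer ((P i ⊓ centralizer (V i : Set G) : Subgroup G) : Set G) := by
      have key : ∀ t ∈ P i, ∀ x ∈ P i ⊓ centralizer (V i : Set G), t * x * t⁻¹ ∈ P i ⊓ centralizer (V i : Set G) := by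
        intro t ht x hx
        refine ⟨(P i).mul_mem ((P i).mul_mem ht hx.1) ((P i).inv_mem ht), mem_centralizer_iff.2 fun z hz => ?_⟩
        have h1 : t⁻¹ * z * t ∈ V i := by
          have := (mem_normalizer_iff.1 (inv_mem (D.PN i i ht)) z).1 hz
          rwa [inv_inv] at this
        have h2 := mem_centralizer_iff.1 hx.2 _ h1
        calc z * (t * x * t⁻¹) = t * (t⁻¹ * z * t * x) * t⁻¹ := by group
          _ = t * (x * (t⁻¹ * z * t)) * t⁻¹ := by rw [h2]
          _ = t * x * t⁻¹ * z := by group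
      intro t ht
      rw [mem_normalizer_iff]
      intro x
      refine ⟨key t ht x, fun hx => ?_⟩
      have h1 := key t⁻¹ (inv_mem ht) _ hx
      have e : t⁻¹ * (t * x * t⁻¹) * t⁻¹⁻¹ = x := by group
      rwa [e] at h1
    rcases (D.par i).sup_eq_or_inf_le D.T_isPGroup (syl_not_dvd (sylP D i)) inf_le_left hN with h | h
    · exfalso
      apply D.mv i
      rw [← h]
      refine sup_le (inf_le_right.trans ?_) (D.T_le_C i)
      exact centralizer_le (Set.singleton_subset_iff.2 (D.mem i))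
    · exact le_trans (le_inf inf_le_left (le_inf (inf_le_left.trans (D.T_le_P i)) inf_le_right)) h

/-- an element of `T` outside `C_T(V i)` moves every `p ∈ V i - ⟨v i⟩` -/
theorem moves {i : Fin 2} {t : G} (ht : t ∈ T) (hto : t ∉ o2 (P i)) {p : G} (hp : p ∈ V i) (hp1 : p ≠ 1)
    (hpv : p ≠ v i) : t * p * t⁻¹ = p * v i := by
  have h1 : t * p * t⁻¹ ∈ V i := (mem_normalizer_iff.1 (D.T_le_N i ht) p).1 hp
  have h2 : t * p * t⁻¹ ≠ 1 := fun h => hp1 (conj_eq_one_iff.1 h)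
  rcases D.eq_of_V hp hp1 (D.mem i) (D.ne i) hpv h1 h2 with h | h | h
  · exfalso
    apply hto
    rw [o2_P D i]
    refine ⟨ht, mem_centralizer_iff.2 fun x hx => ?_⟩
    have h3 : t * p = p * t := by
      calc t * p = t * p * t⁻¹ * t := by group
        _ = p * t := by rw [h]
    by_cases hx1 : x = 1
    · rw [hx1, one_mul, mul_one]
    rcases D.eq_of_V hp hp1 (D.mem i) (D.ne i) hpv hx hx1 with h' | h' | h'
    · rw [h', h3]
    · rw [h', D.comm_v i ht]
    · rw [h']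
      calc p * v i * t = p * (t * v i) := by rw [D.comm_v i ht]; group
        _ = t * (p * v i) := by rw [← mul_assoc, ← h3]; group
  · exfalso
    apply hpv
    have h3 := D.cen i (T.inv_mem ht)
    rw [← h, inv_inv] at h3
    have e : t⁻¹ * (t * p * t⁻¹) * t = p := by group
    rw [e] at h3
    rw [h3, h]
  · exact h

/-- `|T : O₂(P i)| = 2` -/
theorem mul_mem_o2 {i : Fin 2} {s t : G} (hs : s ∈ T) (hso : s ∉ o2 (P i)) (ht : t ∈ T) (hto : t ∉ o2 (P i)) :
    s * t ∈ o2 (P i) := by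
  obtain ⟨p, hp, hp1, hpv⟩ := D.exists_ne_v i
  by_contra hcon
  have h1 := moves D (mul_mem hs ht) hcon hp hp1 hpv
  have h2 := moves D ht hto hp hp1 hpv
  have h3 := moves D hs hso hp hp1 hpv
  have h4 := D.cen i hs
  have e : s * t * p * (s * t)⁻¹ = s * (t * p * t⁻¹) * s⁻¹ := by group
  rw [e, h2] at h1
  have e2 : s * (p * v i) * s⁻¹ = (s * p * s⁻¹) * (s * v i * s⁻¹) := by group
  rw [e2, h3, h4, mul_assoc, D.v_sq, mul_one] at h1
  exact D.ne i (by simpa using h1.symm)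

theorem exists_max {i : Fin 2} (hJ : ¬ jj T ≤ o2 (P i)) : ∃ A, IsMaxIn T A ∧ ∃ τ ∈ A, τ ∉ o2 (P i) ∧
    ∀ a ∈ A, a ∈ o2 (P i) ∨ τ * a ∈ o2 (P i) := by
  obtain ⟨A, hA, hAo⟩ : ∃ A, IsMaxIn T A ∧ ¬ A ≤ o2 (P i) := by
    by_contra hcon
    push Not at hcon
    exact hJ (jj_le_of_forall hcon)
  obtain ⟨τ, hτ, hτo⟩ := SetLike.not_le_iff_exists.1 hAo
  refine ⟨A, hA, τ, hτ, hτo, fun a ha => ?_⟩
  by_cases hao : a ∈ o2 (P i)
  · exact Or.inl hao
  · exact Or.inr (mul_mem_o2 D (hA.1 hτ) hτo (hA.1 ha) hao)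

theorem v_ne {i j : Fin 2} (hij : i ≠ j) : v i ≠ v j := fun h => D.mv i (by rw [h]; exact D.PC i j hij)

theorem v_notMem {i j : Fin 2} (hij : i ≠ j) : v j ∉ V i := by
  intro h
  exact v_ne D hij (D.eq_v h (D.ne j) fun t ht => D.cen j ht).symm

/-- **COROLLARY PHI**: an involution `w ∈ O₂(P i)` with `[w, O₂(P i)] ≤ ⟨v i⟩` is in `Z(O₂(P i))`. -/
theorem phi_comm {i : Fin 2} (hJ : ¬ jj T ≤ o2 (P i)) {w : G} (hw : w ∈ o2 (P i)) (hw2 : w * w = 1)
    (hwc : ∀ o ∈ o2 (P i), w * o * w⁻¹ * o⁻¹ ∈ zpowers (v i)) : ∀ o ∈ o2 (P i), w * o = o * w := by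
  obtain ⟨A, hA, τ, hτ, hτo, hidx⟩ := exists_max D hJ
  obtain ⟨p, hp, hp1, hpv⟩ := D.exists_ne_v i
  obtain ⟨g, hg, -, hgp⟩ := D.tr (ne_add_one i) hp hp1
  have ho : o2 (P i) = T ⊓ centralizer (V i : Set G) := o2_P D i
  have hVo : V i ≤ o2 (P i) := by
    rw [ho]
    exact le_inf (D.V_le_T i) fun a ha => mem_centralizer_iff.2 fun b hb => D.V_comm hb ha
  have hcen : ∀ o ∈ o2 (P i), ∀ x ∈ V i, o * x = x * o := by
    intro o ho' x hx
    rw [ho] at ho'
    exact (mem_centralizer_iff.1 ho'.2 x hx).symm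
  refine cor_phi (v := v i) (p := p) (g := g) hA hτ (by rw [ho]; exact inf_le_left) hidx
    (le_normalizer_o2 _ (D.T_le_P i (hA.1 hτ))) (le_normalizer_o2 _ hg) hgp.symm (hVo hp)
    (fun o ho' => hcen o ho' p hp) (by rw [← pow_two]; exact D.sqV i p hp) hp1 ?_ hw hw2 fun o ho' => ?_
  · rw [moves D (hA.1 hτ) hτo hp hp1 hpv]
    intro h
    exact D.ne i (by simpa using h)
  · obtain ⟨n, hn⟩ := mem_zpowers_iff.1 (hwc o ho')
    rw [← hn]
    rcases Int.even_or_odd' n with ⟨k, rfl | rfl⟩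
    · left; rw [zpow_mul, zpow_two, D.v_sq, one_zpow]
    · right; rw [zpow_add, zpow_mul, zpow_two, D.v_sq, one_zpow, one_mul, zpow_one]

theorem card_zc_le : Nat.card (zc T) ≤ 4 := by
  have h3 : ((zc T : Subgroup G) : Set G) ⊆ {1, v 0, v 1, v 0 * v 1} := fun y hy => by
    rcases (D.zT y).1 hy with h | h | h | h <;> simp [h]
  have h4 : Nat.card (zc T) = ((zc T : Subgroup G) : Set G).ncard := rfl
  rw [h4]
  refine (Set.ncard_le_ncard h3).trans ?_
  refine (Set.ncard_insert_le _ _).trans ?_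
  have h5 := Set.ncard_insert_le (v 0) ({v 1, v 0 * v 1} : Set G)
  have h6 := Set.ncard_insert_le (v 1) ({v 0 * v 1} : Set G)
  rw [Set.ncard_singleton] at h6
  omega

/-- **`Ω₁Z(O₂(P i)) = V i ⟨v j⟩`** if `J(T) ≰ O₂(P i)` -/
theorem zc_o2 {i j : Fin 2} (hij : i ≠ j) (hJ : ¬ jj T ≤ o2 (P i)) :
    zc (o2 (P i)) = V i ⊔ zpowers (v j) := by
  obtain ⟨A, hA, τ, hτ, hτo, hidx⟩ := exists_max D hJ
  have ho : o2 (P i) = T ⊓ centralizer (V i : Set G) := o2_P D i
  have hoT : o2 (P i) ≤ T := by rw [ho]; exact inf_le_left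
  set Y := zc (o2 (P i)) with hY
  have hYo : Y ≤ o2 (P i) := zc_le _
  have hYe : IsElementaryAbelian 2 Y := isElementaryAbelian_zc _
  set A' := A ⊓ o2 (P i) with hA'
  have hA'A : A' ≤ A := inf_le_left
  have hA'Y : A' ≤ centralizer (Y : Set G) := by
    intro a ha
    exact mem_centralizer_iff.2 fun y hy => ((mem_zc.1 hy).2.1 a ha.2).symm
  have hmax : Nat.card (Y ⊔ A' : Subgroup G) ≤ Nat.card A :=
    hA.2.2 _ (sup_le (hYo.trans hoT) (hA'A.trans hA.1))
      (isElementaryAbelian_sup hYe (isElementaryAbelian_mono hA.2.1 hA'A) hA'Y)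
  have hc := card_sup_mul_card_inf hA'Y
  have hle : Y ⊓ A' ≤ zc T := by
    rintro y ⟨hy, hyA⟩
    have hy' := mem_zc.1 hy
    have hAc := (isElementaryAbelian_iff.1 hA.2.1).1
    refine mem_zc.2 ⟨hoT (hYo hy), fun t ht => ?_, hy'.2.2⟩
    by_cases hto : t ∈ o2 (P i)
    · exact hy'.2.1 t hto
    · have h1 := hy'.2.1 _ (mul_mem_o2 D (hA.1 hτ) hτo ht hto)
      have h2 := hAc τ hτ y (hA'A hyA)
      have h3 : τ⁻¹ * y = y * τ⁻¹ := by
        calc τ⁻¹ * y = τ⁻¹ * (y * τ) * τ⁻¹ := by group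
          _ = τ⁻¹ * (τ * y) * τ⁻¹ := by rw [h2]
          _ = y * τ⁻¹ := by group
      calc t * y = τ⁻¹ * (τ * t * y) := by group
        _ = τ⁻¹ * (y * (τ * t)) := by rw [h1]
        _ = (τ⁻¹ * y) * (τ * t) := by group
        _ = y * t := by rw [h3]; group
  have hAcard : Nat.card A ≤ 2 * Nat.card A' := by
    have h1 : A'.relIndex A ≤ 2 := by
      have hτ' : τ ∉ A' := fun h => hτo h.2
      have : A'.relIndex A = 2 := by
        rw [relIndex_eq_two_iff_exists_notMem_and]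
        refine ⟨τ, hτ, hτ', fun b hb => ?_⟩
        rcases hidx b hb with h2 | h2
        · exact Or.inr ⟨hb, h2⟩
        · left
          rw [(isElementaryAbelian_iff.1 hA.2.1).1 b hb τ hτ]
          exact ⟨mul_mem hτ hb, h2⟩
      rw [this]
    have h2 := relIndex_mul_relIndex (⊥ : Subgroup G) A' A bot_le hA'A
    rw [relIndex_bot_left, relIndex_bot_left] at h2
    rw [← h2, mul_comm]
    exact Nat.mul_le_mul_right _ h1
  have hYcard : Nat.card Y ≤ 8 := by
    have h1 : Nat.card (Y ⊓ A' : Subgroup G) ≤ 4 := (Subgroup.card_le_of_le hle).trans (card_zc_le D)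
    have h2 : 0 < Nat.card A' := Nat.card_pos
    have h3 : Nat.card Y * Nat.card A' ≤ 8 * Nat.card A' := by
      rw [← hc]
      calc Nat.card (Y ⊔ A' : Subgroup G) * Nat.card (Y ⊓ A' : Subgroup G) ≤ (2 * Nat.card A') * 4 :=
            Nat.mul_le_mul (hmax.trans hAcard) h1
        _ = 8 * Nat.card A' := by ring
    exact Nat.le_of_mul_le_mul_right h3 h2
  -- `V i ⟨v j⟩ ≤ Y` has order 8
  have hVY : V i ≤ Y := by
    intro x hx
    have hxo : x ∈ o2 (P i) := by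
      rw [ho]
      exact ⟨D.V_le_T i hx, mem_centralizer_iff.2 fun b hb => D.V_comm hb hx⟩
    refine mem_zc.2 ⟨hxo, fun o ho' => ?_, D.sqV i x hx⟩
    rw [ho] at ho'
    exact (mem_centralizer_iff.1 ho'.2 x hx).symm
  have hvj : v j ∈ Y := by
    have hvo : v j ∈ o2 (P i) := by
      rw [ho]
      refine ⟨D.v_mem_T j, mem_centralizer_iff.2 fun b hb => ?_⟩
      exact D.comm_v j (D.V_le_T i hb)
    exact mem_zc.2 ⟨hvo, fun o ho' => D.comm_v j (hoT ho'), D.v_sq' j⟩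
  have hWY : V i ⊔ zpowers (v j) ≤ Y := sup_le hVY (zpowers_le.2 hvj)
  have hzc : zpowers (v j) ≤ centralizer (V i : Set G) := by
    rw [zpowers_le, mem_centralizer_iff]
    intro b hb
    exact D.comm_v j (D.V_le_T i hb)
  have hinf : V i ⊓ zpowers (v j) = ⊥ := by
    rw [eq_bot_iff]
    rintro x ⟨hx, hxz⟩
    obtain ⟨n, rfl⟩ := mem_zpowers_iff.1 hxz
    rcases Int.even_or_odd' n with ⟨k, rfl | rfl⟩
    · rw [zpow_mul, zpow_two, D.v_sq, one_zpow]; exact one_mem _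
    · exfalso
      rw [zpow_add, zpow_mul, zpow_two, D.v_sq, one_zpow, one_mul, zpow_one] at hx
      exact v_notMem D hij hx
  have hW := card_sup_mul_card_inf hzc
  rw [hinf, Subgroup.card_bot, mul_one, D.four i, Nat.card_zpowers,
    orderOf_eq_prime (D.v_sq' j) (D.ne j)] at hW
  exact (Subgroup.eq_of_le_of_card_ge hWY (by rw [hW]; exact hYcard)).symm

theorem mem_V_sup {i j : Fin 2} {x : G} (hx : x ∈ V i ⊔ zpowers (v j)) : ∃ a ∈ V i, x = a ∨ x = a * v j := by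
  have hzc : zpowers (v j) ≤ centralizer (V i : Set G) := by
    rw [zpowers_le, mem_centralizer_iff]
    intro b hb
    exact D.comm_v j (D.V_le_T i hb)
  have h1 : (x : G) ∈ ((V i ⊔ zpowers (v j) : Subgroup G) : Set G) := hx
  rw [coe_sup_of_le_centralizer hzc] at h1
  obtain ⟨a, ha, b, hb, hx⟩ := h1
  refine ⟨a, ha, ?_⟩
  have hx : x = a * b := hx.symm
  obtain ⟨n, rfl⟩ := mem_zpowers_iff.1 hb
  rcases Int.even_or_odd' n with ⟨k, rfl | rfl⟩
  · left; rw [hx, zpow_mul, zpow_two, D.v_sq, one_zpow, mul_one]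
  · right; rw [hx, zpow_add, zpow_mul, zpow_two, D.v_sq, one_zpow, one_mul, zpow_one]

/-- **COROLLARY PHI**: an involution `w ∈ O₂(P i)` with `[w, O₂(P i)] ≤ ⟨v i⟩` is in `V i ∪ V i v j`. -/
theorem phi_mem {i j : Fin 2} (hij : i ≠ j) (hJ : ¬ jj T ≤ o2 (P i)) {w : G} (hw : w ∈ o2 (P i)) (hw2 : w * w = 1)
    (hwc : ∀ o ∈ o2 (P i), w * o * w⁻¹ * o⁻¹ ∈ zpowers (v i)) : ∃ a ∈ V i, w = a ∨ w = a * v j := by
  apply mem_V_sup D
  rw [← zc_o2 D hij hJ]
  exact mem_zc.2 ⟨hw, fun o ho => (phi_comm D hJ hw hw2 hwc o ho).symm, by rw [pow_two]; exact hw2⟩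

/-- `N_i ≤ O₂(P i)` -/
theorem N_le_o2 (i : Fin 2) : NU V v i ≤ o2 (P i) := by
  rw [o2_P D i]
  exact le_inf (D.N_le_T i) ((D.N_le_cent_Q i).trans (centralizer_le (D.U_le_Q i)))

/-- `W_i ≤ O₂(P i)` -/
theorem W_le_o2 (i : Fin 2) : WU V v i ≤ o2 (P i) := by
  rw [o2_P D i]
  exact le_inf (D.W_le_T i) ((D.W_comm i).trans (centralizer_le (D.V_le_W i)))

/-- the vectors of `N_i` fixed by `C_T(V i)` modulo `v i` -/
theorem phi_N {i j : Fin 2} (hij : i ≠ j) (hJ : ¬ jj T ≤ o2 (P i)) {n : G} (hn : n ∈ NU V v i)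
    (hnc : ∀ o ∈ o2 (P i), n * o * n⁻¹ * o⁻¹ ∈ zpowers (v i)) : ∃ a ∈ V i, n = a ∨ n = a * v j :=
  phi_mem D hij hJ (N_le_o2 D i hn) (by rw [← pow_two]; exact D.N_sq i n hn) hnc

/-- the vectors of `W_i` fixed by `C_T(V i)` modulo `v i` -/
theorem phi_W {i j : Fin 2} (hij : i ≠ j) (hJ : ¬ jj T ≤ o2 (P i)) {n : G} (hn : n ∈ WU V v i)
    (hnc : ∀ o ∈ o2 (P i), n * o * n⁻¹ * o⁻¹ ∈ zpowers (v i)) : ∃ a ∈ V i, n = a ∨ n = a * v j :=
  phi_mem D hij hJ (W_le_o2 D i hn) (by rw [← pow_two]; exact D.W_sq i n hn) hnc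

/-- **consequence (3)**: `V j ≰ N_j` : the elements `n ∈ N_j` with `[n, O₂(P j)] ≤ ⟨v j⟩` lie in `⟨v i, v j⟩`. -/
theorem phi_N_zc {i j : Fin 2} (hij : i ≠ j) (hJ : ¬ jj T ≤ o2 (P i)) (hV : ¬ V i ≤ NU V v i) {n : G}
    (hn : n ∈ NU V v i) (hnc : ∀ o ∈ o2 (P i), n * o * n⁻¹ * o⁻¹ ∈ zpowers (v i)) : n ∈ zc T := by
  obtain ⟨a, ha, h⟩ := phi_N D hij hJ hn hnc
  have hvN : v j ∈ NU V v i := by
    have : j = i + 1 := Cfsg.Agent.Omega.OM.KTwo.eq_add_one hij
    rw [this]; exact D.mem_N i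
  have haN : a ∈ NU V v i := by
    rcases h with h | h
    · rw [← h]; exact hn
    · have e : a = n * (v j)⁻¹ := by rw [h]; group
      rw [e]; exact mul_mem hn (inv_mem hvN)
  have haz : a ∈ zc T := by
    by_cases ha1 : a = 1
    · rw [ha1]; exact one_mem _
    by_cases hav : a = v i
    · rw [hav]; exact D.v_mem_zc i
    exfalso
    apply hV
    -- `[a, t] = v i` for a `t ∈ T`
    obtain ⟨t, ht, hta⟩ := D.exists_swap ha ha1 hav
    have h1 : t * a * t⁻¹ ∈ NU V v i := (mem_normalizer_iff.1 (D.C_le_N_N i (D.T_le_C i ht)) a).1 haN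
    rw [hta] at h1
    have h2 : v i ∈ NU V v i := by
      have e : v i = a⁻¹ * (a * v i) := by group
      rw [e]; exact mul_mem (inv_mem haN) h1
    rcases D.le_or h2 with h3 | h3
    · exact h3
    · rcases h3 a ⟨ha, haN⟩ with h4 | h4
      · exact absurd h4 ha1
      · exact absurd h4 hav
  rcases h with h | h
  · rw [h]; exact haz
  · rw [h]; exact mul_mem haz (D.v_mem_zc j)

theorem T_le_N_v (i : Fin 2) : T ≤ normalizer ((zpowers (v i) : Subgroup G) : Set G) := by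
  intro t ht
  rw [mem_normalizer_iff]
  have key : ∀ {s : G}, s ∈ T → ∀ x ∈ zpowers (v i), s * x * s⁻¹ ∈ zpowers (v i) := by
    intro s hs x hx
    obtain ⟨n, rfl⟩ := mem_zpowers_iff.1 hx
    have h1 : Commute s (v i) := D.comm_v i hs
    rw [(h1.zpow_right n).eq, mul_inv_cancel_right]
    exact hx
  intro x
  refine ⟨key ht x, fun hx => ?_⟩
  have h1 := key (T.inv_mem ht) _ hx
  have e : t⁻¹ * (t * x * t⁻¹) * t⁻¹⁻¹ = x := by group
  rwa [e] at h1

/-- **consequence (2)**: a `P j`-submodule `X` of `N_i` with `v j ∉ X` and `V i ≰ X` is `≤ ⟨v i⟩`. -/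
theorem sub_le {i j : Fin 2} (hij : i ≠ j) (hJ : ¬ jj T ≤ o2 (P i)) {X : Subgroup G} (hX : X ≤ NU V v i)
    (hPX : P j ≤ normalizer (X : Set G)) (hvX : v j ∉ X) (hVX : ¬ V i ≤ X) : X ≤ zpowers (v i) := by
  by_contra hne
  have hTX : T ≤ normalizer (X : Set G) := (D.T_le_P j).trans hPX
  obtain ⟨u, hu, huz, hut⟩ := exists_fixed_mod D.T_isPGroup (hX.trans (D.N_le_T i)) hTX (T_le_N_v D i) hne
  have hoT : o2 (P i) ≤ T := by rw [o2_P D i]; exact inf_le_left
  obtain ⟨a, ha, h⟩ := phi_N D hij hJ (hX hu) fun o ho => by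
    have h1 := inv_mem (hut o (hoT ho))
    have e : (o * u * o⁻¹ * u⁻¹)⁻¹ = u * o * u⁻¹ * o⁻¹ := by group
    rwa [e] at h1
  -- `v i ∈ X` as soon as `T` moves an element of `X` by `v i`
  have hvi : ∀ x ∈ X, ∀ t ∈ T, t * x * t⁻¹ = x * v i → v i ∈ X := by
    intro x hx t ht e
    have h1 : t * x * t⁻¹ ∈ X := (mem_normalizer_iff.1 (hTX ht) x).1 hx
    rw [e] at h1
    have e2 : v i = x⁻¹ * (x * v i) := by group
    rw [e2]; exact mul_mem (inv_mem hx) h1
  rcases h with h | h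
  · -- `u ∈ V i - ⟨v i⟩`
    rw [h] at hu huz
    have ha1 : a ≠ 1 := fun h1 => huz (by rw [h1]; exact one_mem _)
    have hav : a ≠ v i := fun h1 => huz (by rw [h1]; exact mem_zpowers _)
    obtain ⟨t, ht, hta⟩ := D.exists_swap ha ha1 hav
    rcases D.le_or (hvi a hu t ht hta) with h3 | h3
    · exact hVX h3
    · rcases h3 a ⟨ha, hu⟩ with h4 | h4
      · exact ha1 h4
      · exact hav h4
  · -- `u = a v j`: an element of `P j` centralising `V i` moves `v j`
    rw [h] at hu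
    obtain ⟨y, hy, hy1, hyv⟩ := D.exists_ne_v j
    obtain ⟨l, hl, hlV, hly⟩ := D.tr hij.symm hy hy1
    have h1 : l * (a * v j) * l⁻¹ ∈ X := (mem_normalizer_iff.1 (hPX hl) _).1 hu
    have h2 := mem_centralizer_iff.1 hlV a ha
    have e : l * (a * v j) * l⁻¹ = a * y := by
      calc l * (a * v j) * l⁻¹ = (l * a) * l⁻¹ * (l * v j * l⁻¹) := by group
        _ = (a * l) * l⁻¹ * y := by rw [← h2, hly]
        _ = a * y := by group
    rw [e] at h1
    -- `v j y ∈ X` is a nontrivial element of `V j`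
    have h3 : (v j)⁻¹ * y ∈ X := by
      have h4 := mul_mem (inv_mem hu) h1
      have e2 : (a * v j)⁻¹ * (a * y) = (v j)⁻¹ * y := by group
      rwa [e2] at h4
    have h4 : (v j)⁻¹ * y ∈ V j := mul_mem (inv_mem (D.mem j)) hy
    have h5 : (v j)⁻¹ * y ≠ 1 := fun h6 => hyv (by rw [inv_mul_eq_one] at h6; exact h6.symm)
    obtain ⟨m, hm, -, hmy⟩ := D.tr hij.symm h4 h5
    apply hvX
    rw [← hmy] at h3
    have h6 : m⁻¹ * (m * v j * m⁻¹) * m⁻¹⁻¹ ∈ X := (mem_normalizer_iff.1 (inv_mem (hPX hm)) _).1 h3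
    have e3 : m⁻¹ * (m * v j * m⁻¹) * m⁻¹⁻¹ = v j := by group
    rwa [e3] at h6

end frame

end Cfsg.Agent.Omega.TC.Phi
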