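import Cfsg.Agent.Omega.ML.CD
import Cfsg.Agent.Omega.IId.BSTrick

/-!
# CARD #18791 [A], LEMMA TT: no transvection in `O₂(C_X(x)) ⊓ O₂(C_X(y))` (helper529)

`X` acts on the elementary abelian 2-group `M`, `C_X(x y) ≤ C_X(x)`; `A` and `B` are 2-subgroups of `X` which are
normalised by `C_X(x)` and by `C_X(y)`, respectively.  If `t ∈ A ⊓ B` acts as a transvection on `M`, then
`t ∈ O₂(X)`.

[Baer–Suzuki: otherwise `⟨t, t'⟩` is not a 2-group for some conjugate `t'` of `t`.  `t'` does not centralise `x`, and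
not `y`; so `t' x = x b'`, `t' y = y b'`, and `t'` fixes `x y`, so `x`.]
-/

set_option autoImplicit false

namespace Cfsg.Agent.Omega.TC.TT

open Subgroup Cfsg.Agent.Omega.NOThree.NoOver Cfsg.Agent.ClassTwoFusion.Quad

variable {X : Type*} [Group X] {M : Type*} [Group M] [MulDistribMulAction X M]

/-- **LEMMA TT** -/
theorem mem_pCore [Finite X] (sq : ∀ m : M, m * m = 1) {x y : M} (hst : ∀ g : X, g • (x * y) = x * y → g • x = x)
    {A B : Subgroup X} (hA : IsPGroup 2 A) (hB : IsPGroup 2 B)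
    (hAn : ∀ g : X, g • x = x → ∀ a ∈ A, g * a * g⁻¹ ∈ A) (hBn : ∀ g : X, g • y = y → ∀ b ∈ B, g * b * g⁻¹ ∈ B)
    {t : X} (htA : t ∈ A) (htB : t ∈ B) (htt : t * t = 1) {b : M} (htb : ∀ m : M, t • m = m ∨ t • m = m * b) :
    t ∈ Cfsg.pCore 2 X := by
  have hcomm : ∀ a c : M, a * c = c * a := fun a c => by
    have h1 : a * c * (a * c) = 1 := sq _
    calc a * c = a * (a * c * (a * c)) * c := by rw [h1, mul_one]
      _ = (a * a) * c * a * (c * c) := by group
      _ = c * a := by rw [sq, sq, one_mul, mul_one]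
  refine Involutions.BaerSuzuki.mem_pCore_of_conj_pairs t fun g => ?_
  -- the conjugate and its centre
  have hcc : g * t * g⁻¹ * (g * t * g⁻¹) = 1 := by
    have : g * t * g⁻¹ * (g * t * g⁻¹) = g * (t * t) * g⁻¹ := by group
    rw [this, htt, mul_one, mul_inv_cancel]
  have hinv : (g * t * g⁻¹)⁻¹ = g * t * g⁻¹ := inv_eq_of_mul_eq_one_right hcc
  have hcen : ∀ m : M, (g * t * g⁻¹) • m = m ∨ (g * t * g⁻¹) • m = m * (g • b) := by
    intro m
    rw [mul_smul, mul_smul]
    rcases htb (g⁻¹ • m) with h | h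
    · left; rw [h, smul_inv_smul]
    · right; rw [h, smul_mul', smul_inv_smul]
  have hfix : ∀ (C : Subgroup X) (c : M), IsPGroup 2 C → (∀ g : X, g • c = c → ∀ a ∈ C, g * a * g⁻¹ ∈ C) → t ∈ C →
      (g * t * g⁻¹) • c = c → IsPGroup 2 (Subgroup.closure {t, g * t * g⁻¹} : Subgroup X) := by
    intro C c hC hCn htC hc
    refine IId.BSTrick.pair_isPGroup hC htC ?_ hcc
    rw [Subgroup.mem_normalizer_iff]
    intro a
    refine ⟨fun ha => hCn _ hc a ha, fun ha => ?_⟩
    have := hCn _ hc _ ha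
    rw [hinv] at this
    have e : g * t * g⁻¹ * (g * t * g⁻¹ * a * (g * t * g⁻¹)) * (g * t * g⁻¹) =
      (g * t * g⁻¹ * (g * t * g⁻¹)) * a * (g * t * g⁻¹ * (g * t * g⁻¹)) := by group
    rwa [e, hcc, one_mul, mul_one] at this
  rcases hcen x with hx | hx
  · exact hfix A x hA hAn htA hx
  rcases hcen y with hy | hy
  · exact hfix B y hB hBn htB hy
  refine hfix A x hA hAn htA (hst _ ?_)
  rw [smul_mul', hx, hy]
  calc x * g • b * (y * g • b) = x * (g • b * y) * g • b := by group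
    _ = x * (y * g • b) * g • b := by rw [hcomm (g • b) y]
    _ = x * y * (g • b * g • b) := by group
    _ = x * y := by rw [sq, mul_one]

/-- an involution with `|M : C_M(t)| ≤ 2` is a transvection -/
theorem exists_centre (sq : ∀ m : M, m * m = 1) {t : X} (hi : (cv M ({t} : Set X)).index ≤ 2)
    (hi0 : (cv M ({t} : Set X)).index ≠ 0) :
    ∃ b : M, ∀ m : M, t • m = m ∨ t • m = m * b := by
  have hcomm : ∀ a c : M, a * c = c * a := fun a c => by
    have h1 : a * c * (a * c) = 1 := sq _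
    calc a * c = a * (a * c * (a * c)) * c := by rw [h1, mul_one]
      _ = (a * a) * c * a * (c * c) := by group
      _ = c * a := by rw [sq, sq, one_mul, mul_one]
  by_cases hall : ∀ m : M, t • m = m
  · exact ⟨1, fun m => Or.inl (hall m)⟩
  push Not at hall
  obtain ⟨u, hu⟩ := hall
  have hmem : ∀ m : M, m ∈ cv M ({t} : Set X) ↔ t • m = m := fun m => mem_cv_singleton
  have hi2 : (cv M ({t} : Set X)).index = 2 := by
    have : (cv M ({t} : Set X)).index ≠ 1 := fun h => hu ((hmem u).1 ((index_eq_one.1 h) ▸ mem_top u))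
    omega
  refine ⟨u⁻¹ * t • u, fun m => ?_⟩
  by_cases hm : t • m = m
  · exact Or.inl hm
  right
  have h1 : m * u⁻¹ ∈ cv M ({t} : Set X) := by
    by_contra hc
    have h2 := (Subgroup.mul_mem_iff_of_index_two hi2 (a := m * u⁻¹) (b := u))
    rw [inv_mul_cancel_right] at h2
    exact (fun h3 => hm ((hmem m).1 (h2.2 (iff_of_false hc h3)))) fun h3 => hu ((hmem u).1 h3)
  rw [hmem, smul_mul', smul_inv'] at h1
  have h3 : t • m = m * u⁻¹ * t • u := by rw [← h1, inv_mul_cancel_right]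
  rw [h3, mul_assoc]

/-- **LEMMA TT**, index form -/
theorem not_trans [Finite X] [Finite M] (sq : ∀ m : M, m * m = 1) {x y : M}
    (hst : ∀ g : X, g • (x * y) = x * y → g • x = x) {A B : Subgroup X} (hA : IsPGroup 2 A) (hB : IsPGroup 2 B)
    (hAn : ∀ g : X, g • x = x → ∀ a ∈ A, g * a * g⁻¹ ∈ A) (hBn : ∀ g : X, g • y = y → ∀ b ∈ B, g * b * g⁻¹ ∈ B)
    {t : X} (htA : t ∈ A) (htB : t ∈ B) (htt : t * t = 1) (ht : t ∉ Cfsg.pCore 2 X) :
    2 < (cv M ({t} : Set X)).index := by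
  by_contra hc
  obtain ⟨b, hb⟩ := exists_centre sq (not_lt.1 hc) Subgroup.index_ne_zero_of_finite
  exact ht (mem_pCore sq hst hA hB hAn hBn htA htB htt hb)

end Cfsg.Agent.Omega.TC.TT
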