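import Cfsg.Agent.Omega.TC.Crit
import Cfsg.Agent.Omega.OM.PG.Int
import Cfsg.Agent.Omega.IId.SideOf

/-!
# CARD #18791, variant (MT): THEOREM INT (helper15, #20259)

`D : Fr T V P v` with the swap: `V 0 ≰ N_0` implies `N_0 ∩ N_1 ≤ Ω₁Z(T)`.

* `Swap` : the swap; `NoD`, `NoQ` : `(NO)` for the elementary abelian subgroups of `O₂(D)` acting on `N_i` and on
  `N_i/⟨v i⟩`; `ThmG` : THEOREM G (#19750 (2)); `FixL` : LEMMA FIX (#19750 (1));
* `Fr.lift` : **(0) lifting**; `Fr.exists_mv` : **(1)** some `A ∈ AA O₂(D)` moves `V i`;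
* `Fr.inter` : **THEOREM INT**.
-/

set_option autoImplicit false
set_option linter.unusedSectionVars false

namespace Cfsg.Agent.Omega.TC

open Subgroup Cfsg Cfsg.Agent.ZN Cfsg.Agent.Omega.MinPar
open Cfsg.Agent.Omega.OM.KTwo (CC QQ WU NU EU FF ne_add_one eq_add_one add_one_add_one le_normalizer_V le_V
  le_o2_of_commutator)
open Cfsg.Agent.MinSimple.MinParabolic (IsMinPar)
open Cfsg.Agent.Omega.NoFF.Basic (conj_conj mem_conj conj_le_iff conj_le_centralizer comm_symm comm_mono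
  Z_le_V V_le conj_V_mul)
open Cfsg.Agent.Omega.NOThreeL.Pair (conj_eq_of_mem)
open Cfsg.Agent.ZN.ChoiceBase (AA mm mm_eq mem_AA_iff AA_nonempty card_le_mm cj_mem_AA mm_cj mm_mono jj_eq_of_jj_le)
open Cfsg.Agent.Omega.NO3S.EThree.ExactA (eab_iff eab_mono eab_sup swp)
open Cfsg.Agent.Omega.OM.PG.Int (Ex rix_ne core)
open Cfsg.Agent.Omega.NO3S.ML (card_mul_relIndex card_sup_mul_of_comm)
open scoped Pointwise

universe u

variable {G : Type u} [Group G]

/-- the swap -/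
def Swap (T : Subgroup G) (V : Fin 2 → Subgroup G) (v : Fin 2 → G) : Prop :=
  ∃ s : G, MulAut.conj s • T = T ∧ ∀ i, MulAut.conj s • V i = V (i + 1) ∧ s * v i * s⁻¹ = v (i + 1)

/-- `(NO)` for `O₂(D)` on `N_i` -/
def NoD (T : Subgroup G) (V : Fin 2 → Subgroup G) (v : Fin 2 → G) : Prop :=
  ∀ i, ∀ B : Subgroup G, IsElementaryAbelian 2 B → B ≤ o2 (centralizer (zc T : Set G)) →
    (centralizer (NU V v i : Set G)).relIndex B ≤ (centralizer (B : Set G)).relIndex (NU V v i)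

/-- `(NO)` for `O₂(D)` on `N_i / ⟨v i⟩` -/
def NoQ (T : Subgroup G) (V : Fin 2 → Subgroup G) (v : Fin 2 → G) : Prop :=
  ∀ i, ∀ B : Subgroup G, IsElementaryAbelian 2 B → B ≤ o2 (centralizer (zc T : Set G)) →
    ∀ M : Subgroup G, M ≤ NU V v i → (∀ m ∈ M, ∀ b ∈ B, m * b * m⁻¹ * b⁻¹ ∈ zpowers (v i)) →
    (centralizer (NU V v i : Set G)).relIndex B ≤ M.relIndex (NU V v i)

/-- THEOREM G of #19750 -/
def ThmG (V : Fin 2 → Subgroup G) (v : Fin 2 → G) : Prop :=
  ∀ i, ∀ c ∈ CC v i, (∀ x ∈ WU V v i ⊔ NU V v i, x * c * x⁻¹ * c⁻¹ ∈ NU V v i) →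
    c ∈ centralizer (NU V v i : Set G)

/-- LEMMA FIX of #19750 -/
def FixL (T : Subgroup G) (V : Fin 2 → Subgroup G) (v : Fin 2 → G) : Prop :=
  ∀ i, ∀ n ∈ T, n ^ 2 = 1 → (∀ j, n ∈ centralizer (V j : Set G)) →
    (∀ b ∈ T, (∀ j, b ∈ centralizer (V j : Set G)) → n * b * n⁻¹ * b⁻¹ ∈ zpowers (v i)) → n ∈ V 0 ⊔ V 1

section gen

variable [Finite G]

/-- the offender inequality for `A ∈ AA O` -/
theorem off {O X A : Subgroup G} (hX : IsElementaryAbelian 2 X) (hXO : X ≤ O) (hA : A ∈ AA O) :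
    (centralizer (A : Set G)).relIndex X ≤ (centralizer (X : Set G)).relIndex A := by
  have hAe := hA.1
  have hX' := (eab_iff.1 hX).1
  have hA' := (eab_iff.1 hAe).1
  set K := A ⊓ centralizer (X : Set G) with hK
  set E := X ⊓ centralizer (A : Set G) with hE
  have hKe : IsElementaryAbelian 2 K := eab_mono hAe inf_le_left
  have hKX : IsElementaryAbelian 2 (K ⊔ X : Subgroup G) := eab_sup hKe hX inf_le_right
  have hKXO : K ⊔ X ≤ O := sup_le (inf_le_left.trans hA.2.1) hXO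
  have hc : Nat.card (K ⊔ X : Subgroup G) ≤ Nat.card A := hA.2.2 _ hKX hKXO
  have h1 : Nat.card (K ⊔ X : Subgroup G) * Nat.card (K ⊓ X : Subgroup G) = Nat.card K * Nat.card X :=
    card_sup_mul_of_comm fun a ha b hb => (mem_centralizer_iff.1 ((inf_le_right : K ≤ _) ha) b hb).symm
  have hKE : K ⊓ X ≤ E := le_inf inf_le_right ((inf_le_left.trans inf_le_left).trans hA')
  have h2 : Nat.card (K ⊓ X : Subgroup G) ≤ Nat.card E := Subgroup.card_le_of_le hKE
  have h3 : Nat.card K * (centralizer (X : Set G)).relIndex A = Nat.card A := by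
    rw [hK, ← Subgroup.inf_relIndex_left]
    exact card_mul_relIndex inf_le_left
  have h4 : Nat.card E * (centralizer (A : Set G)).relIndex X = Nat.card X := by
    rw [hE, ← Subgroup.inf_relIndex_left]
    exact card_mul_relIndex inf_le_left
  have pK : 0 < Nat.card K := Nat.card_pos
  have pE : 0 < Nat.card E := Nat.card_pos
  have h5 : Nat.card K * Nat.card E * (centralizer (A : Set G)).relIndex X ≤
      Nat.card K * Nat.card E * (centralizer (X : Set G)).relIndex A := by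
    calc _ = Nat.card K * Nat.card X := by rw [← h4]; ring
      _ = Nat.card (K ⊔ X : Subgroup G) * Nat.card (K ⊓ X : Subgroup G) := h1.symm
      _ ≤ Nat.card A * Nat.card E := Nat.mul_le_mul hc h2
      _ = _ := by rw [← h3]; ring
  exact Nat.le_of_mul_le_mul_left h5 (Nat.mul_pos pK pE)

/-- `|X : C_X(A)| ≤ |N : C_N(A)|`, `N ≤ X`: `X = N C_X(A)`. -/
theorem le_sup_of_relIndex {A N X : Subgroup G} (hNX : N ≤ X)
    (h : (centralizer (A : Set G)).relIndex X ≤ (centralizer (A : Set G)).relIndex N)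
    (hX : X ≤ centralizer (X : Set G)) {x : G} (hx : x ∈ X) :
    ∃ n ∈ N, ∃ k ∈ X, k ∈ centralizer (A : Set G) ∧ x = n * k := by
  set K := X ⊓ centralizer (A : Set G) with hK
  have h1 : K.relIndex X = (centralizer (A : Set G)).relIndex X := inf_relIndex_left _ _
  have h2 : K.relIndex N = (centralizer (A : Set G)).relIndex N := by
    rw [← inf_relIndex_right K, ← inf_relIndex_right (centralizer (A : Set G)), hK, inf_comm X, inf_assoc,
      inf_eq_right.2 hNX]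
  have hK' : K ≤ X := inf_le_left
  have h3 := relIndex_mul_relIndex K (N ⊔ K) X le_sup_right (sup_le hNX hK')
  have h4 : K.relIndex N ≤ K.relIndex (N ⊔ K) := relIndex_le_of_le_right le_sup_left index_ne_zero_of_finite
  have h5 : K.relIndex (N ⊔ K) * (N ⊔ K).relIndex X ≤ K.relIndex (N ⊔ K) * 1 := by
    rw [h3, mul_one, h1]
    exact h.trans (h2 ▸ h4)
  have h6 : (N ⊔ K).relIndex X ≤ 1 :=
    Nat.le_of_mul_le_mul_left h5 (Nat.pos_of_ne_zero (rix_ne _ _))
  have h7 := rix_ne (N ⊔ K) X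
  have h8 : X ≤ N ⊔ K := relIndex_eq_one.1 (by omega)
  have h9 : K ≤ normalizer (N : Set G) := by
    refine (hK'.trans hX).trans ((centralizer_le hNX).trans (centralizer_le_normalizer _))
  obtain ⟨n, hn, k, hk, e⟩ := OM.KTwo.exists_mul_of_mem_sup h9 (h8 hx)
  exact ⟨n, hn, k, hk.1, hk.2, e⟩

end gen

namespace Fr

variable [Finite G] {T : Subgroup G} {V P : Fin 2 → Subgroup G} {v : Fin 2 → G} (D : Fr T V P v)

include D

theorem N_eab (i : Fin 2) : IsElementaryAbelian 2 (NU V v i) := eab_iff.2 ⟨D.N_comm i, D.N_sq i⟩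

theorem WN_eab (i : Fin 2) : IsElementaryAbelian 2 (WU V v i ⊔ NU V v i : Subgroup G) :=
  eab_iff.2 ⟨D.WN_comm i, D.WN_sq i⟩

theorem N_le_O (i : Fin 2) : NU V v i ≤ o2 (centralizer (zc T : Set G)) := (D.N_le_Q i).trans (D.Q_le_o2D i)

theorem T_norm_N (i : Fin 2) {t n : G} (ht : t ∈ T) (hn : n ∈ NU V v i) : t * n * t⁻¹ ∈ NU V v i :=
  (mem_normalizer_iff.1 (D.C_le_N_N i (D.T_le_C i ht)) n).1 hn

/-- **(0) LIFTING.** -/
theorem lift (hQ : NoQ T V v) {i : Fin 2} {B : Subgroup G} (hB : IsElementaryAbelian 2 B)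
    (hBO : B ≤ o2 (centralizer (zc T : Set G))) (hE : Ex B (NU V v i)) {n : G} (hn : n ∈ NU V v i)
    (h : ∀ b ∈ B, n * b * n⁻¹ * b⁻¹ ∈ zpowers (v i)) : n ∈ centralizer (B : Set G) := by
  have hz : ∀ m ∈ NU V v i, ∀ z ∈ zpowers (v i), m * z * m⁻¹ = z := by
    rintro m hm _ ⟨k, rfl⟩
    have h1 : Commute m (v i) := D.comm_v i (D.N_le_T i hm)
    change m * v i ^ k * m⁻¹ = v i ^ k
    rw [(h1.zpow_right k).eq, mul_inv_cancel_right]
  let K : Subgroup G :=
    { carrier := {m | m ∈ NU V v i ∧ ∀ b ∈ B, m * b * m⁻¹ * b⁻¹ ∈ zpowers (v i)}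
      one_mem' := ⟨one_mem _, fun b _ => by simp⟩
      mul_mem' := by
        rintro m m' ⟨h1, h2⟩ ⟨h3, h4⟩
        refine ⟨mul_mem h1 h3, fun b hb => ?_⟩
        have e : m * m' * b * (m * m')⁻¹ * b⁻¹ = m * (m' * b * m'⁻¹ * b⁻¹) * m⁻¹ * (m * b * m⁻¹ * b⁻¹) := by group
        rw [e, hz m h1 _ (h4 b hb)]
        exact mul_mem (h4 b hb) (h2 b hb)
      inv_mem' := by
        rintro m ⟨h1, h2⟩
        refine ⟨inv_mem h1, fun b hb => ?_⟩
        have e : m⁻¹ * b * m⁻¹⁻¹ * b⁻¹ = m⁻¹ * (m * b * m⁻¹ * b⁻¹)⁻¹ * m⁻¹⁻¹ := by group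
        rw [e, hz m⁻¹ (inv_mem h1) _ (inv_mem (h2 b hb))]
        exact inv_mem (h2 b hb) }
  have hKN : K ≤ NU V v i := fun m hm => hm.1
  have h1 := hQ i B hB hBO K hKN fun m hm => hm.2
  have hle : NU V v i ⊓ centralizer (B : Set G) ≤ K := by
    rintro m ⟨h2, h3⟩
    refine ⟨h2, fun b hb => ?_⟩
    have e : m * b * m⁻¹ * b⁻¹ = 1 := by rw [← mem_centralizer_iff.1 h3 b hb]; group
    rw [e]; exact one_mem _
  have h2 := relIndex_mul_relIndex _ _ _ hle hKN
  have h3 : (NU V v i ⊓ centralizer (B : Set G)).relIndex (NU V v i) =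
      (centralizer (B : Set G)).relIndex (NU V v i) := inf_relIndex_left _ _
  have hE' : (centralizer (NU V v i : Set G)).relIndex B = (centralizer (B : Set G)).relIndex (NU V v i) := hE
  rw [h3, ← hE'] at h2
  have h4 : (NU V v i ⊓ centralizer (B : Set G)).relIndex K * K.relIndex (NU V v i) ≤
      1 * K.relIndex (NU V v i) := by rw [h2, one_mul]; exact h1
  have h5 : (NU V v i ⊓ centralizer (B : Set G)).relIndex K ≤ 1 :=
    Nat.le_of_mul_le_mul_right h4 (Nat.pos_of_ne_zero (rix_ne _ _))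
  have h6 := rix_ne (NU V v i ⊓ centralizer (B : Set G)) K
  have h7 : K ≤ NU V v i ⊓ centralizer (B : Set G) := relIndex_eq_one.1 (by omega)
  exact (h7 (⟨hn, h⟩ : n ∈ K)).2

/-- every `A ∈ AA O₂(D)` is exact on `N_i` -/
theorem exact_AA (hNO : NoD T V v) (i : Fin 2) {A : Subgroup G} (hA : A ∈ AA (o2 (centralizer (zc T : Set G)))) :
    Ex A (NU V v i) ∧ NU V v i ⊓ centralizer (A : Set G) ≤ A ∧
      (A ⊓ centralizer (NU V v i : Set G)) ⊔ NU V v i ∈ AA (o2 (centralizer (zc T : Set G))) :=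
  swp (D.N_eab i) (D.N_le_O i) hA (hNO i A hA.1 hA.2.1)

omit D in
theorem swap_O {s : G} (hs : MulAut.conj s • T = T) :
    MulAut.conj s • o2 (centralizer (zc T : Set G)) = o2 (centralizer (zc T : Set G)) := by
  have h1 : s ∈ normalizer (T : Set G) := ChoiceBase.mem_normalizer_iff_cj.2 hs
  have h2 := normalizer_le_normalizer_zc T h1
  have h3 := NO3L.LemP.normalizer_le_normalizer_cent (zc T) h2
  have h4 := Cfsg.Agent.Omega.normalizer_le_normalizer_o2' _ h3
  exact conj_eq_of_mem h4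

/-- some `A ∈ AA O₂(D)` moves `N_i` -/
theorem exists_moves (hs : Swap T V v) (hNO : NoD T V v) (i : Fin 2) :
    ∃ A ∈ AA (o2 (centralizer (zc T : Set G))), ¬ A ≤ centralizer (NU V v i : Set G) := by
  by_contra hcon
  push Not at hcon
  set O := o2 (centralizer (zc T : Set G)) with hO
  have h1 : jj O ≤ QQ v i := by
    refine le_trans (le_inf (ChoiceBase.jj_le O) ?_) (D.f3 i)
    rw [ChoiceBase.jj_eq]
    exact sSup_le hcon
  obtain ⟨s, hsT, hs⟩ := hs
  have h2 : MulAut.conj s • jj O = jj O := by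
    have h3 := ChoiceBase.jj_cj s O
    have h4 : ChoiceBase.cj s O = O := swap_O hsT
    rw [h4] at h3
    exact h3.symm
  have h3 : jj O ≤ QQ v (i + 1) := by
    rw [← h2]
    have h4 : MulAut.conj s • QQ v i = QQ v (i + 1) := by
      change MulAut.conj s • o2 (centralizer ({v i} : Set G)) = o2 (centralizer ({v (i + 1)} : Set G))
      rw [← (hs i).2, ← Cfsg.Agent.MinSimple.CosetFam.o2_conj]
      congr 1
      ext x
      rw [mem_conj, mem_centralizer_singleton_iff, mem_centralizer_singleton_iff]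
      constructor
      · intro h
        calc x * (s * v i * s⁻¹) = s * ((s⁻¹ * x * s) * v i) * s⁻¹ := by group
          _ = s * (v i * (s⁻¹ * x * s)) * s⁻¹ := by rw [h]
          _ = s * v i * s⁻¹ * x := by group
      · intro h
        calc s⁻¹ * x * s * v i = s⁻¹ * (x * (s * v i * s⁻¹)) * s := by group
          _ = s⁻¹ * (s * v i * s⁻¹ * x) * s := by rw [h]
          _ = v i * (s⁻¹ * x * s) := by group
    rw [← h4]
    exact conj_le_iff.2 h1
  have h4 : ∀ j, jj O ≤ QQ v j := by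
    intro j
    rcases eq_or_ne i j with h | h
    · rw [← h]; exact h1
    · rw [eq_add_one h]; exact h3
  have h5 : ∀ j, CC v j ≤ normalizer (jj O : Set G) := by
    intro j
    rw [← jj_eq_of_jj_le (h4 j) (D.Q_le_o2D j)]
    exact (le_normalizer_o2 _).trans (ChoiceBase.normalizer_le_jj _)
  have h6 := D.nonloc (jj O) ((MinSimple.VModule.o2_isPGroup _).to_le (ChoiceBase.jj_le O)) (h5 0) (h5 1)
  obtain ⟨A, hA⟩ := AA_nonempty O
  have h7 := (D.exact_AA hNO 1 hA).2.1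
  have h8 : v 0 ∈ A := by
    apply h7
    refine ⟨D.mem_N 1, mem_centralizer_iff.2 fun a ha => ?_⟩
    exact D.comm_v 0 (D.o2D_le_T (hA.2.1 ha))
  have h9 := ChoiceBase.le_jj hA h8
  rw [h6, mem_bot] at h9
  exact D.ne 0 h9

/-- **(1)** some `A ∈ AA O₂(D)` moves `V i` -/
theorem exists_mv (hs : Swap T V v) (hNO : NoD T V v) (hG : ThmG V v) (i : Fin 2) :
    ∃ A ∈ AA (o2 (centralizer (zc T : Set G))), ¬ A ≤ centralizer (V i : Set G) := by
  set O := o2 (centralizer (zc T : Set G)) with hO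
  obtain ⟨A, hA, hmv⟩ := D.exists_moves hs hNO i
  obtain ⟨hex, -, hB⟩ := D.exact_AA hNO i hA
  set B := (A ⊓ centralizer (NU V v i : Set G)) ⊔ NU V v i with hBdef
  by_contra hcon
  push Not at hcon
  have hBC : B ≤ centralizer (NU V v i : Set G) := sup_le inf_le_right (D.N_comm i)
  have hBQ : B ≤ QQ v i := (le_inf hB.2.1 hBC).trans (D.f3 i)
  have hBW : B ≤ centralizer (WU V v i : Set G) := by
    refine comm_symm (V_le fun c hc => comm_symm ?_)
    have h1 : MulAut.conj c⁻¹ • B ∈ AA O := by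
      have h2 := cj_mem_AA c⁻¹ hB
      rw [mem_AA_iff] at hB ⊢
      refine ⟨h2.1, ?_, ?_⟩
      · have h3 := conj_le_iff (g := c⁻¹) |>.2 hBQ
        rw [D.conj_QQ (inv_mem hc)] at h3
        exact h3.trans (D.Q_le_o2D i)
      · have h3 : Nat.card (MulAut.conj c⁻¹ • B : Subgroup G) = Nat.card B := ChoiceBase.card_cj c⁻¹ B
        rw [h3]; exact hB.2.2
    have h4 := conj_le_centralizer (g := c) (hcon _ h1)
    rw [conj_conj, mul_inv_cancel, map_one, one_smul] at h4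
    exact h4
  set X := WU V v i ⊔ NU V v i with hX
  have hAT : A ≤ T := hA.2.1.trans D.o2D_le_T
  have h1 : A ⊓ centralizer (NU V v i : Set G) ≤ centralizer (X : Set G) := by
    refine comm_symm (sup_le (comm_symm ?_) (comm_symm inf_le_right))
    exact (le_sup_left : _ ≤ B).trans hBW
  have h2 : (centralizer (X : Set G)).relIndex A = (centralizer (NU V v i : Set G)).relIndex A := by
    rw [← inf_relIndex_left, ← inf_relIndex_left (A) (centralizer (NU V v i : Set G))]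
    congr 1
    refine le_antisymm (inf_le_inf_left _ (centralizer_le ?_)) (le_inf inf_le_left h1)
    exact SetLike.coe_subset_coe.2 (le_sup_right : NU V v i ≤ X)
  have hXO : X ≤ O := sup_le ((D.W_le_Q i).trans (D.Q_le_o2D i)) (D.N_le_O i)
  have h3 := off (D.WN_eab i) hXO hA
  have hex' : (centralizer (NU V v i : Set G)).relIndex A = (centralizer (A : Set G)).relIndex (NU V v i) := hex
  rw [h2, hex'] at h3
  apply hmv
  intro a ha
  apply hG i a (D.T_le_C i (hAT ha))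
  intro x hx
  obtain ⟨n, hn, k, -, hk, e⟩ := le_sup_of_relIndex (le_sup_right : NU V v i ≤ X) h3 (D.WN_comm i) hx
  have h4 : k * a = a * k := (mem_centralizer_iff.1 hk a ha).symm
  have e1 : x * a * x⁻¹ * a⁻¹ = n * (a * n⁻¹ * a⁻¹) := by
    rw [e]
    calc n * k * a * (n * k)⁻¹ * a⁻¹ = n * (k * a) * k⁻¹ * n⁻¹ * a⁻¹ := by group
      _ = n * (a * n⁻¹ * a⁻¹) := by rw [h4]; group
  rw [e1]
  exact mul_mem hn (D.T_norm_N i (hAT ha) (inv_mem hn))

theorem v_ne {i j : Fin 2} (hij : i ≠ j) : v i ≠ v j := by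
  intro h
  apply D.mv i
  rw [h]
  exact D.PC i j hij

theorem mem_zp {j : Fin 2} {x : G} (hx : x ∈ zpowers (v j)) : x = 1 ∨ x = v j := by
  obtain ⟨n, rfl⟩ := hx
  have h1 : v j ^ (2 : ℤ) = 1 := by
    have := D.v_sq' j
    exact_mod_cast this
  rcases Int.even_or_odd' n with ⟨m, h | h⟩
  · left
    change v j ^ n = 1
    rw [h, zpow_mul, h1, one_zpow]
  · right
    change v j ^ n = v j
    rw [h, zpow_add, zpow_mul, h1, one_zpow, one_mul, zpow_one]

/-- `C_T(V i) ≤ O₂(P i) ≤ T`, and `O₂(P i)` centralises `V i` -/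
theorem o2P_le_T (i : Fin 2) : o2 (P i) ≤ T := by
  have hj : ∃ j : Fin 2, i ≠ j := ⟨i + 1, ne_add_one i⟩
  obtain ⟨j, hij⟩ := hj
  have hsyl : Cfsg.Agent.ZN.ChoiceSit.Syl T (P i) := ⟨D.T_le_P i, D.T_isPGroup, fun Q hQ hQ2 hTQ =>
    (D.syl j).2.2 Q (hQ.trans (D.PC i j hij)) hQ2 hTQ⟩
  exact Cfsg.Agent.ZN.ChoiceSit.o2_le_syl hsyl

theorem inf_le_o2P (i : Fin 2) : T ⊓ centralizer (V i : Set G) ≤ o2 (P i) := by
  have hfact : Fact (Nat.Prime 2) := ⟨Nat.prime_two⟩
  obtain ⟨j, hij⟩ : ∃ j : Fin 2, i ≠ j := ⟨i + 1, ne_add_one i⟩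
  have hsyl : Cfsg.Agent.ZN.ChoiceSit.Syl T (P i) := ⟨D.T_le_P i, D.T_isPGroup, fun Q hQ hQ2 hTQ =>
    (D.syl j).2.2 Q (hQ.trans (D.PC i j hij)) hQ2 hTQ⟩
  have hn : P i ≤ normalizer ((P i ⊓ centralizer (V i : Set G) : Subgroup G) : Set G) :=
    NO3L.LemP.le_normalizer_inf le_normalizer
      ((D.PN i i).trans (NO3L.LemP.normalizer_le_normalizer_cent (V i)))
  rcases (D.par i).sup_eq_or_inf_le (p := 2) D.T_isPGroup (Cfsg.Agent.ZN.ChoiceSit.syl_not_dvd hsyl)
    (N := P i ⊓ centralizer (V i : Set G)) inf_le_left hn with h1 | h1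
  · exfalso
    apply D.mv i
    rw [← h1]
    refine sup_le (inf_le_right.trans (centralizer_le (Set.singleton_subset_iff.2 (D.mem i)))) (D.T_le_C i)
  · refine le_trans (le_inf inf_le_left (le_inf (inf_le_left.trans (D.T_le_P i)) inf_le_right)) ?_
    exact h1

theorem o2P_cent {i : Fin 2} {b g : G} (hb : b ∈ o2 (P i)) (hg : g ∈ P i) :
    b * (g * v i * g⁻¹) = (g * v i * g⁻¹) * b := by
  have h1 : g⁻¹ * b * g ∈ o2 (P i) := by
    have := (mem_normalizer_iff.1 (le_normalizer_o2 (P i) (inv_mem hg)) b).1 hb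
    rwa [inv_inv] at this
  have h2 := D.comm_v i (D.o2P_le_T i h1)
  calc b * (g * v i * g⁻¹) = g * ((g⁻¹ * b * g) * v i) * g⁻¹ := by group
    _ = g * (v i * (g⁻¹ * b * g)) * g⁻¹ := by rw [h2]
    _ = (g * v i * g⁻¹) * b := by group

/-- `V j ∩ N_j ≤ ⟨v j⟩` if `V j ≰ N_j` -/
theorem inf_V {j : Fin 2} (hV : ¬ V j ≤ NU V v j) {f : G} (hf : f ∈ V j) (hfN : f ∈ NU V v j) :
    f = 1 ∨ f = v j := by
  by_contra hcon
  push Not at hcon
  obtain ⟨t, ht, htf⟩ := D.exists_swap hf hcon.1 hcon.2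
  have h1 : t * f * t⁻¹ ∈ NU V v j := D.T_norm_N j ht hfN
  rw [htf] at h1
  have h2 : v j ∈ NU V v j := by
    have h3 := mul_mem (inv_mem hfN) h1
    rwa [inv_mul_cancel_left] at h3
  rcases D.le_or h2 with h3 | h3
  · exact hV h3
  · rcases h3 f ⟨hf, hfN⟩ with h4 | h4
    · exact hcon.1 h4
    · exact hcon.2 h4

/-- **THEOREM INT.** -/
theorem inter (hs : Swap T V v) (hNO : NoD T V v) (hQ : NoQ T V v) (hG : ThmG V v) (hF : FixL T V v)
    (hV : ∀ i, ¬ V i ≤ NU V v i) : NU V v 0 ⊓ NU V v 1 ≤ zc T := by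
  have h01 : (0 : Fin 2) ≠ 1 := by decide
  have V0N : V 0 ≤ NU V v 1 := D.V_le_N 1
  have V1N : V 1 ≤ NU V v 0 := D.V_le_N 0
  have hI2 : IsPGroup 2 (NU V v 0 ⊓ NU V v 1 : Subgroup G) := D.T_isPGroup.to_le (inf_le_left.trans (D.N_le_T 0))
  have hTI : T ≤ normalizer ((NU V v 0 ⊓ NU V v 1 : Subgroup G) : Set G) :=
    NO3L.LemP.le_normalizer_inf ((D.T_le_C 0).trans (D.C_le_N_N 0)) ((D.T_le_C 1).trans (D.C_le_N_N 1))
  have hTz : T ≤ normalizer (zc T : Set G) := (le_centralizer_zc T).trans (centralizer_le_normalizer _)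
  by_contra hne
  by_cases hr : v 1 ∈ NU V v 1
  swap
  · -- no radical
    have hr0 : v 0 ∉ NU V v 0 := by
      intro h
      apply hr
      obtain ⟨s, hsT, hs⟩ := hs
      have h1 : MulAut.conj s • NU V v 0 ≤ NU V v 1 := by
        refine NoFF.Basic.conj_V_le fun p hp => ?_
        have hp' : s * p * s⁻¹ ∈ CC v 1 := by
          rw [mem_centralizer_singleton_iff]
          have h2 : v 1 = s * v 0 * s⁻¹ := ((hs 0).2).symm
          have h3 : p * v 0 = v 0 * p := mem_centralizer_singleton_iff.1 hp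
          rw [h2]
          calc s * p * s⁻¹ * (s * v 0 * s⁻¹) = s * (p * v 0) * s⁻¹ := by group
            _ = s * v 0 * s⁻¹ * (s * p * s⁻¹) := by rw [h3]; group
        have h2 : MulAut.conj (s * p) • V (0 + 1) = MulAut.conj (s * p * s⁻¹) • V 0 := by
          have h3 : MulAut.conj s • V (0 + 1) = V (0 + 1 + 1) := (hs (0 + 1)).1
          have h4 : MulAut.conj s⁻¹ • V 0 = V (0 + 1) := by
            have h5 : V 0 = V (0 + 1 + 1) := by rw [add_one_add_one]
            rw [h5, ← h3, conj_conj, inv_mul_cancel, map_one, one_smul]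
          rw [← h4, conj_conj]
        rw [h2]
        exact Z_le_V hp'
      apply h1
      rw [mem_conj]
      have h2 : v 1 = s * v 0 * s⁻¹ := ((hs 0).2).symm
      have e : s⁻¹ * v 1 * s = v 0 := by rw [h2]; group
      rw [e]; exact h
    have hne' : ¬ NU V v 0 ⊓ NU V v 1 ≤ (⊥ : Subgroup G) := fun h => hne (h.trans bot_le)
    obtain ⟨e, he, he1, het⟩ := IId.SideOf.exists_fixed_mod hne' (by
      intro x _; rw [mem_normalizer_iff]; intro y; simp [mem_bot]) hI2 D.T_isPGroup (by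
      intro x _; rw [mem_normalizer_iff]; intro y; simp [mem_bot]) hTI
    rw [mem_bot] at he1
    have h3 : e ∈ zc T := by
      refine mem_zc.2 ⟨D.N_le_T 0 he.1, fun t ht => ?_, D.N_sq 0 e he.1⟩
      have h4 := het t ht
      rw [mem_bot] at h4
      calc t * e = t * e * t⁻¹ * e⁻¹ * (e * t) := by group
        _ = e * t := by rw [h4, one_mul]
    rcases (D.zT e).1 h3 with h4 | h4 | h4 | h4
    · exact he1 h4
    · exact hr0 (h4 ▸ he.1)
    · exact hr (h4 ▸ he.2)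
    · apply hr
      have h5 := mul_mem (inv_mem (V0N (D.mem 0))) he.2
      rw [h4, inv_mul_cancel_left] at h5
      exact h5
  -- radical
  obtain ⟨i, hi, hiz, hit⟩ := IId.SideOf.exists_fixed_mod hne
    ((inf_le_left.trans (D.N_le_T 0)).trans hTz) hI2 D.T_isPGroup hTz hTI
  apply hiz
  have hiT : i ∈ T := D.N_le_T 0 hi.1
  have hicV : ∀ j, i ∈ centralizer (V j : Set G) := by
    intro j
    rcases Fin.exists_fin_two.1 ⟨j, rfl⟩ with h | h
    · rw [h]; exact (centralizer_le V0N) (D.N_comm 1 hi.2)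
    · rw [h]; exact (centralizer_le V1N) (D.N_comm 0 hi.1)
  -- `A` moves `V 0`
  obtain ⟨A, hA, hmv⟩ := D.exists_mv hs hNO hG 0
  have hAT : A ≤ T := hA.2.1.trans D.o2D_le_T
  obtain ⟨a, haA, ham⟩ := SetLike.not_le_iff_exists.1 hmv
  obtain ⟨x, hx, hxa⟩ : ∃ x ∈ V 0, a * x ≠ x * a := by
    by_contra hcon
    push Not at hcon
    exact ham (mem_centralizer_iff.2 fun x hx => (hcon x hx).symm)
  have hx1 : x ≠ 1 := fun h => hxa (by rw [h]; group)
  have hxv : x ≠ v 0 := fun h => hxa (by rw [h]; exact D.comm_v 0 (hAT haA))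
  obtain ⟨g, hg, hgV, hgx⟩ := D.tr h01 hx hx1
  have hAx : ∀ b ∈ A, b * x * b⁻¹ = x ∨ b * x * b⁻¹ = x * v 0 := by
    intro b hb
    have h1 : b * x * b⁻¹ ∈ V 0 := (mem_normalizer_iff.1 (D.T_le_N 0 (hAT hb)) x).1 hx
    have h2 : b * x * b⁻¹ ≠ 1 := fun h => hx1 (conj_eq_one_iff.1 h)
    rcases D.eq_of_V hx hx1 (D.mem 0) (D.ne 0) hxv h1 h2 with h | h | h
    · exact Or.inl h
    · exfalso
      apply hxv
      have h3 := D.cen 0 (inv_mem (hAT hb))
      rw [← h, inv_inv] at h3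
      have e : b⁻¹ * (b * x * b⁻¹) * b = x := by group
      rw [e] at h3
      rw [h3, h]
    · exact Or.inr h
  have hax : a * x * a⁻¹ = x * v 0 := by
    rcases hAx a haA with h | h
    · exfalso
      apply hxa
      calc a * x = a * x * a⁻¹ * a := by group
        _ = x * a := by rw [h]
    · exact h
  have sqx : x * x = 1 := by rw [← pow_two]; exact D.sqV 0 x hx
  have hgC : g ∈ CC v 1 := D.PC 0 1 h01 hg
  have hgv1 : g * v 1 * g⁻¹ = v 1 := by
    rw [mem_centralizer_singleton_iff.1 hgC, mul_inv_cancel_right]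
  set i' := g * i * g⁻¹ with hi'
  have hi'N : i' ∈ NU V v 1 := (mem_normalizer_iff.1 (D.C_le_N_N 1 hgC) i).1 hi.2
  have hcz : ∀ b : G, b ∈ T → ∀ z ∈ zpowers (v 1), b * z = z * b := by
    rintro b hb _ ⟨k, rfl⟩
    have h1 : Commute b (v 1) := D.comm_v 1 hb
    exact (h1.zpow_right k).eq
  have hxx : x * (x * v 0) = v 0 := by rw [← mul_assoc, sqx, one_mul]
  have hb' : ∀ b ∈ o2 (P 0), g⁻¹ * b * g ∈ o2 (P 0) := by
    intro b hb
    have := (mem_normalizer_iff.1 (le_normalizer_o2 (P 0) (inv_mem hg)) b).1 hb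
    rwa [inv_inv] at this
  have hb'' : ∀ b ∈ o2 (P 0), g * b * g⁻¹ ∈ o2 (P 0) := fun b hb =>
    (mem_normalizer_iff.1 (le_normalizer_o2 (P 0) hg) b).1 hb
  have hmain := core (O := o2 (centralizer (zc T : Set G))) (N := NU V v 1) (Z₂ := zpowers (v 1)) (A := A)
    (R := o2 (P 0)) (x := x) (y := x * v 0) (i := i') (a := a)
    (D.N_eab 1) (by rw [zpowers_le]; exact hr) (fun B hB hBO => hNO 1 B hB hBO)
    (fun B hB hBO hE n hn h => D.lift hQ hB hBO hE hn h) hA.1 hA.2.1 (D.exact_AA hNO 1 hA).1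
    (V0N hx) (V0N (mul_mem hx (D.mem 0))) hi'N haA hax hAx
    (fun b hb n hn => D.T_norm_N 1 (hAT hb) hn) (fun b hb z hz => hcz b (hAT hb) z hz)
    (by
      rw [hxx]
      intro h
      rcases D.mem_zp h with h1 | h1
      · exact D.ne 0 h1
      · exact D.v_ne h01 h1)
    (fun b hb hbx => D.inf_le_o2P 0 ⟨hAT hb, mem_centralizer_iff.2 fun w hw => by
      by_cases hw1 : w = 1
      · rw [hw1]; group
      rcases D.eq_of_V hx hx1 (D.mem 0) (D.ne 0) hxv hw hw1 with h | h | h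
      · rw [h]; exact hbx.symm
      · rw [h]; exact (D.comm_v 0 (hAT hb)).symm
      · rw [h]
        calc x * v 0 * b = x * (b * v 0) := by rw [D.comm_v 0 (hAT hb)]; group
          _ = b * (x * v 0) := by rw [← mul_assoc, ← hbx, mul_assoc]⟩)
    (fun b hb => by
      have := (mem_normalizer_iff.1 (le_normalizer_o2 (P 0) (inv_mem (D.T_le_P 0 (hAT haA)))) b).1 hb
      rwa [inv_inv] at this)
    (fun b hb => by rw [← hgx]; exact D.o2P_cent hb hg)
    (fun b hb => by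
      have h1 : x * v 0 = (a * g) * v 0 * (a * g)⁻¹ := by
        rw [← hax, ← hgx]; group
      rw [h1]
      exact D.o2P_cent hb (mul_mem (D.T_le_P 0 (hAT haA)) hg))
    (fun b hb => by
      have h1 := D.o2P_le_T 0 (hb' b hb)
      have h2 := (zc T).inv_mem (hit _ h1)
      have e : i' * b * i'⁻¹ * b⁻¹ =
          g * (g⁻¹ * b * g * i * (g⁻¹ * b * g)⁻¹ * i⁻¹)⁻¹ * g⁻¹ := by rw [hi']; group
      rw [e]
      rcases (D.zT _).1 h2 with h3 | h3 | h3 | h3
      · left; rw [h3, mul_one, mul_inv_cancel]; exact one_mem _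
      · right; rw [h3, hgx, sqx]; exact one_mem _
      · left; rw [h3, hgv1]; exact mem_zpowers _
      · right
        rw [h3]
        have e2 : g * (v 0 * v 1) * g⁻¹ = (g * v 0 * g⁻¹) * (g * v 1 * g⁻¹) := by group
        rw [e2, hgx, hgv1, ← mul_assoc, sqx, one_mul]; exact mem_zpowers _)
  -- LEMMA FIX
  have h5 : i ∈ V 0 ⊔ V 1 := by
    refine hF 1 i hiT (D.N_sq 0 i hi.1) hicV fun b hb hbV => ?_
    have h6 : g * b * g⁻¹ ∈ o2 (P 0) := hb'' b (D.inf_le_o2P 0 ⟨hb, hbV 0⟩)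
    have h7 := hmain _ h6
    have e : i * b * i⁻¹ * b⁻¹ = g⁻¹ * (i' * (g * b * g⁻¹) * i'⁻¹ * (g * b * g⁻¹)⁻¹) * g := by
      rw [hi']; group
    rw [e]
    rcases D.mem_zp h7 with h8 | h8
    · rw [h8]; simp
    · rw [h8]
      have e2 : g⁻¹ * v 1 * g = v 1 := by
        have h9 := congrArg (fun t => g⁻¹ * t * g) hgv1
        have h10 : g⁻¹ * (g * v 1 * g⁻¹) * g = g⁻¹ * v 1 * g := h9
        rw [← h10]; group
      rw [e2]; exact mem_zpowers _
  have h6 : V 1 ≤ normalizer (V 0 : Set G) := (D.V_le_T 1).trans (D.T_le_N 0)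
  obtain ⟨f, hf, n, hn, e⟩ := OM.KTwo.exists_mul_of_mem_sup h6 h5
  have hfN : f ∈ NU V v 0 := by
    have h7 : i * n⁻¹ ∈ NU V v 0 := mul_mem hi.1 (inv_mem (V1N hn))
    rw [e, mul_inv_cancel_right] at h7
    exact h7
  have hnN : n ∈ NU V v 1 := by
    have h7 : f⁻¹ * i ∈ NU V v 1 := mul_mem (inv_mem (V0N hf)) hi.2
    rw [e, inv_mul_cancel_left] at h7
    exact h7
  rw [e]
  have hf' : f ∈ zc T := by
    rcases D.inf_V (hV 0) hf hfN with h7 | h7
    · rw [h7]; exact one_mem _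
    · rw [h7]; exact D.v_mem_zc 0
  have hn' : n ∈ zc T := by
    rcases D.inf_V (hV 1) hn hnN with h7 | h7
    · rw [h7]; exact one_mem _
    · rw [h7]; exact D.v_mem_zc 1
  exact mul_mem hf' hn'

end Fr

end Cfsg.Agent.Omega.TC
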