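import Cfsg.Agent.Omega.TC.ExBoth
import Cfsg.Agent.Omega.TC.Int
import Cfsg.Agent.Omega.KL.GenTool

/-!
# CARD #18791: the vector `n ∈ N_k` with stabiliser `N(V k)` (helper836 #22393 (3); (0.1) of helper691 #21425)

`D : Fr T V P v`; `JJ V v k := C_k ∩ N(V_k N_k)`.

* `avg` : averaging over an odd orbit;
* `exists_vec` : some `n ∈ N_k` has `[n, g] ∈ ⟨v k⟩ ↔ g ∈ N(V k)` for all `g ∈ JJ V v k` (any frame, any `k`);
* `JJ_eq` : `JJ = C_k` if `V k ≤ N_k`; `K1_le_JJ` : `K_1 ≤ JJ V v (i+1)`; `gen_JJ` : `N_(i+1) = ⟨v i ^ JJ⟩` if side `i` fails;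
* `vec_not` : `n ∉ ⟨v k⟩` if `JJ` does not normalise `V k`.
-/

set_option autoImplicit false
set_option linter.unusedSectionVars false

namespace Cfsg.Agent.Omega.TC.Twist

open Subgroup Cfsg Cfsg.Agent.ZN Cfsg.Agent.Omega.MinPar Cfsg.Agent.Omega.TC.LemZ Cfsg.Agent.Omega.TC.ExBoth
open Cfsg.Agent.Omega.OM.KTwo (CC QQ WU NU EU ne_add_one eq_add_one add_one_add_one le_normalizer_V le_V)
open Cfsg.Agent.Omega.NoFF.Basic (conj_conj mem_conj conj_le_iff comm_symm comm_mono Z_le_V V_le)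
open Cfsg.Agent.Omega.NOThreeL.Pair (conj_eq_of_mem conj_le_normalizer)
open Cfsg.Agent.ZN.ChoiceBase (cj mem_normalizer_of_cj_le cj_eq_of_mem_normalizer)
open Cfsg.Agent.ZN.ChoiceSit (syl_not_dvd)
open scoped Pointwise

universe u

variable {G : Type u} [Group G]

/-- **averaging**: `w ∈ U` is fixed by `T` modulo `Z` and by `J` modulo `E`: some `m ∈ U` with `w m ∈ E` is fixed by `J`
modulo `Z`. -/
theorem avg [Finite G] {J T U E Z : Subgroup G} (hodd : ¬ 2 ∣ T.relIndex J)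
    (hJU : J ≤ normalizer (U : Set G)) (hJZ : J ≤ normalizer (Z : Set G)) (hUZ : U ≤ normalizer (Z : Set G))
    (hU2 : ∀ x ∈ U, x * x = 1) (hZE : Z ≤ E) {w : G} (hw : w ∈ U)
    (hT : ∀ t ∈ T, t * w * t⁻¹ * w⁻¹ ∈ Z) (hJ : ∀ g ∈ J, g * w * g⁻¹ * w⁻¹ ∈ E) :
    ∃ m ∈ U, w * m ∈ E ∧ ∀ g ∈ J, g * m * g⁻¹ * m⁻¹ ∈ Z := by
  have hnor : (Z.subgroupOf U).Normal := normal_subgroupOf_of_le_normalizer hUZ
  let _ := ML.Final.conjAct hJU hJZ
  let mk : U →* U ⧸ Z.subgroupOf U := QuotientGroup.mk' (Z.subgroupOf U)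
  have hmk : Function.Surjective mk := QuotientGroup.mk'_surjective _
  have hmem : ∀ (g : J) (n : U), (g : G) * n * (g : G)⁻¹ ∈ U := fun g n =>
    (mem_normalizer_iff.1 (hJU g.2) n).1 n.2
  have hsm : ∀ (g : J) (n : U), g • mk n = mk ⟨(g : G) * n * (g : G)⁻¹, hmem g n⟩ := fun _ _ => rfl
  have hone : ∀ a b : U, mk a = mk b ↔ (a : G) * (b : G)⁻¹ ∈ Z := by
    intro a b
    rw [← mul_inv_eq_one, ← map_inv, ← map_mul, ← MonoidHom.mem_ker, QuotientGroup.ker_mk']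
    exact Iff.rfl
  have hfix : ∀ (g : J) (n : U), g • mk n = mk n ↔ (g : G) * n * (g : G)⁻¹ * (n : G)⁻¹ ∈ Z := by
    intro g n
    rw [hsm, hone]
  obtain ⟨z, hz, hzE⟩ := KL.GenTool.exists_fixed_mod (H := J) (M := U ⧸ Z.subgroupOf U) (T := T.subgroupOf J)
    (y := mk ⟨w, hw⟩) (U := (E.subgroupOf U).map mk) (by
      intro m
      obtain ⟨n, rfl⟩ := hmk m
      rw [← map_mul, ← map_one mk, hone]
      have h1 := hU2 n n.2
      simp [h1]) hodd (by
      intro t ht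
      exact (hfix t _).2 (hT _ (mem_subgroupOf.1 ht))) (by
      intro g
      rw [hsm, ← map_mul]
      refine ⟨_, ?_, rfl⟩
      have h1 := hJ g g.2
      have h2 : w⁻¹ = w := inv_eq_of_mul_eq_one_left (hU2 w hw)
      rw [h2] at h1
      exact mem_subgroupOf.2 h1)
  obtain ⟨m, rfl⟩ := hmk z
  refine ⟨m, m.2, ?_, fun g hg => (hfix ⟨g, hg⟩ m).1 (hz ⟨g, hg⟩)⟩
  obtain ⟨e, he, heq⟩ := hzE
  rw [← map_mul] at heq
  have h1 := (hone _ _).1 heq.symm
  have h2 : (w * (m : G)) = (w * m * (e : G)⁻¹) * e := by group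
  rw [h2]
  exact mul_mem (hZE h1) (mem_subgroupOf.1 he)

/-- `J' = C_k ∩ N(V_k N_k)` -/
def JJ (V : Fin 2 → Subgroup G) (v : Fin 2 → G) (k : Fin 2) : Subgroup G :=
  CC v k ⊓ normalizer ((V k ⊔ NU V v k : Subgroup G) : Set G)

variable [Finite G] {T : Subgroup G} {V P : Fin 2 → Subgroup G} {v : Fin 2 → G} (D : Fr T V P v)

theorem JJ_le (k : Fin 2) : JJ V v k ≤ CC v k := inf_le_left

include D

theorem norm_le_JJ (k : Fin 2) : CC v k ⊓ normalizer (V k : Set G) ≤ JJ V v k := by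
  refine le_inf inf_le_left ?_
  apply le_norm_of
  rintro g ⟨hg, hgV⟩ x hx
  have h3 : cj g (V k ⊔ NU V v k) = V k ⊔ NU V v k := by
    rw [cj, Subgroup.map_sup]
    change cj g _ ⊔ cj g _ = _
    rw [cj_eq_of_mem_normalizer hgV, cj_eq_of_mem_normalizer (D.C_le_N_N k hg)]
  rw [← h3]
  exact ⟨x, hx, rfl⟩

theorem T_le_JJ (k : Fin 2) : T ≤ JJ V v k := (le_inf (D.T_le_C k) (D.T_le_N k)).trans (norm_le_JJ D k)

theorem P_le_JJ (k : Fin 2) : P (k + 1) ≤ JJ V v k :=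
  (le_inf (D.PC (k + 1) k (ne_add_one k).symm) (D.PN (k + 1) k)).trans (norm_le_JJ D k)

/-- `J' = C_k` if `V k ≤ N_k` -/
theorem JJ_eq {k : Fin 2} (hV : V k ≤ NU V v k) : JJ V v k = CC v k := by
  unfold JJ
  rw [sup_eq_right.2 hV]
  exact inf_eq_left.2 (D.C_le_N_N k)

theorem VN_le (k : Fin 2) : V k ⊔ NU V v k ≤ WU V v k ⊔ NU V v k := sup_le_sup_right (D.V_le_W k) _

theorem VN_sq (k : Fin 2) : ∀ x ∈ V k ⊔ NU V v k, x * x = 1 := fun x hx => by
  rw [← pow_two]; exact D.WN_sq k x (VN_le D k hx)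

theorem VN_comm (k : Fin 2) : ∀ x ∈ V k ⊔ NU V v k, ∀ y ∈ V k ⊔ NU V v k, x * y = y * x := fun x hx y hy =>
  (mem_centralizer_iff.1 (D.WN_comm k (VN_le D k hx)) y (VN_le D k hy)).symm

/-- `g ∈ C_k` normalises `V k` iff it fixes `w ∈ V k ∖ ⟨v k⟩` modulo `v k` -/
theorem mem_norm_iff {k : Fin 2} {w : G} (hw : w ∈ V k) (hw1 : w ≠ 1) (hwv : w ≠ v k) {g : G} (hg : g ∈ CC v k) :
    g * w * g⁻¹ * w⁻¹ ∈ zpowers (v k) ↔ g ∈ normalizer (V k : Set G) := by
  have hgv : g * v k * g⁻¹ = v k := by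
    rw [mem_centralizer_singleton_iff.1 hg, mul_inv_cancel_right]
  constructor
  · intro h
    have h1 : g * w * g⁻¹ ∈ V k := by
      have h2 : g * w * g⁻¹ * w⁻¹ ∈ V k := by
        obtain ⟨n, hn⟩ := mem_zpowers_iff.1 h
        rw [← hn]
        exact zpow_mem (D.mem k) n
      have e : g * w * g⁻¹ = (g * w * g⁻¹ * w⁻¹) * w := by group
      rw [e]
      exact mul_mem h2 hw
    apply mem_normalizer_of_cj_le
    rintro _ ⟨x, hx, rfl⟩
    change g * x * g⁻¹ ∈ V k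
    by_cases hx1 : x = 1
    · rw [hx1, mul_one, mul_inv_cancel]; exact one_mem _
    rcases D.eq_of_V (D.mem k) (D.ne k) hw hw1 (Ne.symm hwv) hx hx1 with h3 | h3 | h3
    · rw [h3, hgv]; exact D.mem k
    · rw [h3]; exact h1
    · have e : g * x * g⁻¹ = (g * v k * g⁻¹) * (g * w * g⁻¹) := by rw [h3]; group
      rw [e, hgv]
      exact mul_mem (D.mem k) h1
  · intro h
    have h1 : g * w * g⁻¹ ∈ V k := (mem_normalizer_iff.1 h w).1 hw
    have h2 : g * w * g⁻¹ ≠ 1 := fun h => hw1 (conj_eq_one_iff.1 h)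
    rcases D.eq_of_V (D.mem k) (D.ne k) hw hw1 (Ne.symm hwv) h1 h2 with h3 | h3 | h3
    · exfalso
      apply hwv
      rw [← hgv] at h3
      exact mul_left_cancel (mul_right_cancel h3)
    · rw [h3, mul_inv_cancel]; exact one_mem _
    · rw [h3, mul_inv_cancel_right]; exact mem_zpowers _

/-- **the vector** `n` -/
theorem exists_vec (k : Fin 2) : ∃ n ∈ NU V v k, ∀ g ∈ JJ V v k,
    g * n * g⁻¹ * n⁻¹ ∈ zpowers (v k) ↔ g ∈ normalizer (V k : Set G) := by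
  obtain ⟨w, hw, hw1, hwv⟩ := D.exists_ne_v k
  by_cases hV : V k ≤ NU V v k
  · exact ⟨w, hV hw, fun g hg => mem_norm_iff D hw hw1 hwv hg.1⟩
  set N : Subgroup G := NU V v k with hN
  set U : Subgroup G := V k ⊔ N with hU
  set Z : Subgroup G := zpowers (v k) with hZ
  set E : Subgroup G := N ⊔ Z with hE
  have hZV : Z ≤ V k := by rw [hZ, zpowers_le]; exact D.mem k
  have hU2 := VN_sq D k
  have hUc := VN_comm D k
  -- `w ∉ E`
  have hwE : w ∉ E := by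
    intro h
    obtain ⟨n, hn, z, hz, e⟩ := OM.KTwo.exists_mul_of_mem_sup (hZV.trans ((D.V_le_T k).trans ((D.T_le_C k).trans
      (D.C_le_N_N k)))) h
    have hn' : n = w * z⁻¹ := by rw [e]; group
    have hnV : n ∈ V k := by rw [hn']; exact mul_mem hw (inv_mem (hZV hz))
    have hnz : n = 1 ∨ n = v k := by
      by_contra hcon
      push Not at hcon
      obtain ⟨t, ht, htn⟩ := D.exists_swap hnV hcon.1 hcon.2
      apply hV
      have h1 : n * v k ∈ N := by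
        rw [← htn]
        exact (mem_normalizer_iff.1 (D.C_le_N_N k (D.T_le_C k ht)) n).1 hn
      have h2 : v k ∈ N := by
        have e : v k = n⁻¹ * (n * v k) := by group
        rw [e]
        exact mul_mem (inv_mem hn) h1
      rcases D.le_or h2 with h3 | h3
      · exact h3
      · exfalso
        rcases h3 n ⟨hnV, hn⟩ with h4 | h4
        · exact hcon.1 h4
        · exact hcon.2 h4
    have hwZ : w ∈ Z := by
      rw [e]
      rcases hnz with h1 | h1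
      · rw [h1, one_mul]; exact hz
      · rw [h1]; exact mul_mem (mem_zpowers _) hz
    have hZm : w = 1 ∨ w = v k := by
      obtain ⟨r, hr⟩ := mem_zpowers_iff.1 hwZ
      rcases Int.even_or_odd' r with ⟨s, rfl | rfl⟩
      · left; rw [← hr, zpow_mul, zpow_two, D.v_sq, one_zpow]
      · right; rw [← hr, zpow_add, zpow_mul, zpow_two, D.v_sq, one_zpow, one_mul, zpow_one]
    rcases hZm with h1 | h1
    · exact hw1 h1
    · exact hwv h1
  -- `U = E ∪ w E`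
  have hcos : ∀ x ∈ U, x ∈ E ∨ x * w⁻¹ ∈ E := by
    intro x hx
    obtain ⟨n, hn, a, ha, rfl⟩ := OM.KTwo.exists_mul_of_mem_sup ((D.V_le_T k).trans ((D.T_le_C k).trans
      (D.C_le_N_N k))) (by rw [sup_comm]; exact hx)
    by_cases ha1 : a = 1
    · left; rw [ha1, mul_one]; exact mem_sup_left hn
    rcases D.eq_of_V (D.mem k) (D.ne k) hw hw1 (Ne.symm hwv) ha ha1 with h3 | h3 | h3
    · left; rw [h3]; exact mul_mem (mem_sup_left hn) (mem_sup_right (mem_zpowers _))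
    · right; rw [h3, mul_inv_cancel_right]; exact mem_sup_left hn
    · right
      have e : n * a * w⁻¹ = n * v k := by rw [h3]; group
      rw [e]
      exact mul_mem (mem_sup_left hn) (mem_sup_right (mem_zpowers _))
  have hCZ : CC v k ≤ normalizer (Z : Set G) := (Fr.CC_le_cent_zpowers k).trans (centralizer_le_normalizer _)
  have hJE : JJ V v k ≤ normalizer (E : Set G) := by
    refine (JJ_le k).trans ?_
    apply le_norm_of
    intro g hg x hx
    have h3 : cj g E = E := by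
      rw [hE, cj, Subgroup.map_sup]
      change cj g _ ⊔ cj g _ = _
      rw [cj_eq_of_mem_normalizer (D.C_le_N_N k hg), cj_eq_of_mem_normalizer (hCZ hg)]
    rw [← h3]
    exact ⟨x, hx, rfl⟩
  have hwU : w ∈ U := mem_sup_left hw
  have hJw : ∀ g ∈ JJ V v k, g * w * g⁻¹ * w⁻¹ ∈ E := by
    intro g hg
    have h1 : g * w * g⁻¹ ∈ U := (mem_normalizer_iff.1 hg.2 w).1 hwU
    rcases hcos _ h1 with h2 | h2
    · exact absurd ((mem_normalizer_iff.1 (hJE hg) w).2 h2) hwE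
    · exact h2
  have hodd : ¬ 2 ∣ T.relIndex (JJ V v k) := by
    intro h2
    apply syl_not_dvd (D.syl k)
    rw [← relIndex_mul_relIndex T (JJ V v k) (CC v k) (T_le_JJ D k) (JJ_le k)]
    exact Dvd.dvd.mul_right h2 _
  have hTw : ∀ t ∈ T, t * w * t⁻¹ * w⁻¹ ∈ Z := fun t ht =>
    (mem_norm_iff D hw hw1 hwv (D.T_le_C k ht)).2 (D.T_le_N k ht)
  have hUT : U ≤ T := sup_le (D.V_le_T k) (D.N_le_T k)
  obtain ⟨m, hm, hwm, hJm⟩ := avg hodd (inf_le_right : JJ V v k ≤ normalizer (U : Set G))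
    ((JJ_le k).trans hCZ) ((hUT.trans (D.T_le_C k)).trans hCZ) hU2 (le_sup_right : Z ≤ E) hwU hTw hJw
  obtain ⟨n, hn, z, hz, e⟩ := OM.KTwo.exists_mul_of_mem_sup (hZV.trans ((D.V_le_T k).trans ((D.T_le_C k).trans
      (D.C_le_N_N k)))) hwm
  refine ⟨n, hn, fun g hg => ?_⟩
  rw [← mem_norm_iff D hw hw1 hwv hg.1]
  have hnU : n ∈ U := mem_sup_right hn
  have hzU : z ∈ U := hZV.trans le_sup_left hz
  have hgU : ∀ x ∈ U, g * x * g⁻¹ ∈ U := fun x hx => (mem_normalizer_iff.1 hg.2 x).1 hx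
  have hgz : g * z * g⁻¹ = z := by
    obtain ⟨r, rfl⟩ := mem_zpowers_iff.1 hz
    have h1 : Commute g (v k) := mem_centralizer_singleton_iff.1 hg.1
    rw [(h1.zpow_right r).eq, mul_inv_cancel_right]
  have hn' : n = w * m * z⁻¹ := by rw [e]; group
  -- `[n, g] = [w, g] [m, g]`
  have key : g * n * g⁻¹ * n⁻¹ = (g * w * g⁻¹ * w⁻¹) * (g * m * g⁻¹ * m⁻¹) := by
    have e1 : g * n * g⁻¹ = (g * w * g⁻¹) * (g * m * g⁻¹) * z⁻¹ := by
      have e2 : g * z⁻¹ * g⁻¹ = z⁻¹ := by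
        have := congrArg (·⁻¹) hgz
        simpa [mul_assoc] using this
      calc g * n * g⁻¹ = (g * w * g⁻¹) * (g * m * g⁻¹) * (g * z⁻¹ * g⁻¹) := by rw [hn']; group
        _ = _ := by rw [e2]
    have c1 : (g * m * g⁻¹) * w⁻¹ = w⁻¹ * (g * m * g⁻¹) := hUc _ (hgU m hm) _ (inv_mem hwU)
    have c2 : m⁻¹ * w⁻¹ = w⁻¹ * m⁻¹ := hUc _ (inv_mem hm) _ (inv_mem hwU)
    rw [e1, hn']
    calc (g * w * g⁻¹) * (g * m * g⁻¹) * z⁻¹ * (w * m * z⁻¹)⁻¹
        = (g * w * g⁻¹) * (g * m * g⁻¹) * (m⁻¹ * w⁻¹) := by group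
      _ = (g * w * g⁻¹) * ((g * m * g⁻¹) * w⁻¹) * m⁻¹ := by rw [c2]; group
      _ = (g * w * g⁻¹ * w⁻¹) * (g * m * g⁻¹ * m⁻¹) := by rw [c1]; group
  rw [key]
  constructor
  · intro h
    have h1 := mul_mem h (inv_mem (hJm g hg))
    rwa [mul_inv_cancel_right] at h1
  · exact fun h => mul_mem h (hJm g hg)

theorem vec_not {k : Fin 2} {n : G} (hst : ∀ g ∈ JJ V v k, g * n * g⁻¹ * n⁻¹ ∈ zpowers (v k) ↔
    g ∈ normalizer (V k : Set G)) (hJ : ¬ JJ V v k ≤ normalizer (V k : Set G)) : n ∉ zpowers (v k) := by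
  intro h
  apply hJ
  intro g hg
  rw [← hst g hg]
  have h1 : Commute g (v k) := mem_centralizer_singleton_iff.1 hg.1
  obtain ⟨r, rfl⟩ := mem_zpowers_iff.1 h
  rw [(h1.zpow_right r).eq, mul_inv_cancel_right, mul_inv_cancel]
  exact one_mem _

/-- `K_1 ≤ J'` -/
theorem K1_le_JJ (i : Fin 2) : K1 D i ≤ JJ V v (i + 1) := by
  refine le_inf (K1_le D i) ?_
  apply le_norm_of
  intro g hg x hx
  have h1 : V (i + 1) ⊔ NU V v (i + 1) ≤ MN V v i :=
    sup_le (((D.V_le_N i).trans (le_V _ _)).trans le_sup_left) le_sup_right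
  have h2 := K1_comm D hg (h1 hx)
  have e : g * x * g⁻¹ = (g * x * g⁻¹ * x⁻¹) * x := by group
  rw [e]
  exact mul_mem (mem_sup_right h2) hx

variable (hML : ML.Final.MLK.{u, u}) (hK : ∀ i, IsKGroup (CC v i))

include hML hK

/-- `N_(i+1) = ⟨v i ^ J'⟩` if side `i` fails -/
theorem gen_JJ {i : Fin 2} (hF : Fail V v i) {U : Subgroup G} (hv : v (i + 1 + 1) ∈ U)
    (hn : JJ V v (i + 1) ≤ normalizer (U : Set G)) : NU V v (i + 1) ≤ U := by
  rw [← D.NH_CC]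
  refine V_le fun c hc => ?_
  obtain ⟨k, hk, d, hd, rfl⟩ := K1_mul D hML hK hF c hc
  have h1 : MulAut.conj d • zpowers (v (i + 1 + 1)) = zpowers (v (i + 1 + 1)) := by
    apply conj_eq_of_mem
    apply centralizer_le_normalizer
    rw [mem_centralizer_iff]
    rintro _ ⟨n, rfl⟩
    have h1 : Commute d (v (i + 1 + 1)) := mem_centralizer_singleton_iff.1 (D.cent_zc_le _ hd)
    exact (h1.zpow_right n).eq.symm
  rw [← conj_conj, h1]
  have h2 : MulAut.conj k • U = U := conj_eq_of_mem (hn (K1_le_JJ D i hk))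
  rw [← h2, conj_le_iff, zpowers_le]
  exact hv

/-- `J'` does not normalise `V (i+1)` if side `i` fails -/
theorem JJ_not {i : Fin 2} (hF : Fail V v i) : ¬ JJ V v (i + 1) ≤ normalizer (V (i + 1) : Set G) := by
  intro h
  refine D.comp (i + 1) fun c hc => ?_
  obtain ⟨k, hk, d, hd, e⟩ := K1_mul D hML hK hF c⁻¹ (inv_mem hc)
  refine ⟨d⁻¹, inv_mem hd, k⁻¹, inv_mem (h (K1_le_JJ D i hk)), ?_⟩
  rw [← mul_inv_rev, ← e, inv_inv]

end Cfsg.Agent.Omega.TC.Twist
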