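import Mathlib
import Cfsg.Agent.Omega.FFThmM
import Cfsg.Agent.ZN.ChoiceBase

/-!
# LEMMA FIX, elementwise, for offenders (CARD #18791, all levels)

`V ≤ Z(O)` elementary abelian, `A` normalises `O`, `V` and induces a group of order 2 on `O`-cosets (`a ∈ O` or `τ a ∈ O`),
`p ∈ V` is moved by `τ`, `e ∈ O` an involution with `[e, O] ≤ ⟨p⟩`; `A` offends on every elementary abelian `A`-invariant
`F` with `V ≤ F ≤ ⟨V, e, e^τ⟩`. Then `[e, O] = 1`.
-/

set_option autoImplicit false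
set_option linter.unusedSectionVars false

namespace Cfsg.Agent.Omega.TC.LevFix

open Subgroup Cfsg Cfsg.Agent.Omega.FFThm
open Cfsg.Agent.ZN.ChoiceBase (mem_normalizer_iff_cj cj)
open scoped Pointwise

universe u

variable {G : Type u} [Group G] [Finite G]

theorem two_mul_le {H K : Subgroup G} (h : H ≤ K) {x : G} (hx : x ∈ K) (hxH : x ∉ H) :
    2 * Nat.card H ≤ Nat.card K := by
  have h1 : Nat.card H ∣ Nat.card K := card_dvd_of_le h
  obtain ⟨m, hm⟩ := h1
  have h2 : Nat.card H ≠ Nat.card K := fun he => hxH ((Subgroup.eq_of_le_of_card_ge h he.ge).symm ▸ hx)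
  have h3 : 0 < Nat.card K := Nat.card_pos
  have h4 : m ≠ 0 := by
    rintro rfl
    rw [mul_zero] at hm
    omega
  have h5 : m ≠ 1 := by rintro rfl; exact h2 (by rw [hm, mul_one])
  have h6 : 2 ≤ m := by omega
  rw [hm, mul_comm 2]
  exact Nat.mul_le_mul_left _ h6

theorem le_two_mul {A C : Subgroup G} {τ : G} (hτ : τ ∈ A) (hCA : C ≤ A)
    (hidx : ∀ a ∈ A, a ∈ C ∨ τ * a ∈ C) : Nat.card A ≤ 2 * Nat.card C := by
  classical
  have h1 : (A : Set G) ⊆ (C : Set G) ∪ (fun c => τ⁻¹ * c) '' (C : Set G) := by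
    intro a ha
    rcases hidx a ha with h | h
    · exact Or.inl h
    · exact Or.inr ⟨τ * a, h, by group⟩
  have h2 : (A : Set G).ncard ≤ (C : Set G).ncard + (C : Set G).ncard := by
    refine (Set.ncard_le_ncard h1 (Set.toFinite _)).trans ((Set.ncard_union_le _ _).trans ?_)
    exact Nat.add_le_add_left (Set.ncard_image_le (Set.toFinite _)) _
  have h3 : (A : Set G).ncard = Nat.card A := rfl
  have h4 : (C : Set G).ncard = Nat.card C := rfl
  rw [h3, h4] at h2
  omega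

/-- The hypotheses. -/
structure Dat (A O V : Subgroup G) (τ p e : G) : Prop where
  VO : V ≤ O
  OV : ∀ o ∈ O, ∀ x ∈ V, o * x = x * o
  V2 : ∀ x ∈ V, x * x = 1
  AO : ∀ a ∈ A, ∀ o ∈ O, a * o * a⁻¹ ∈ O
  AV : ∀ a ∈ A, ∀ x ∈ V, a * x * a⁻¹ ∈ V
  τA : τ ∈ A
  idx : ∀ a ∈ A, a ∈ O ∨ τ * a ∈ O
  pV : p ∈ V
  p1 : p ≠ 1
  pτ : τ * p * τ⁻¹ ≠ p
  eO : e ∈ O
  e2 : e * e = 1
  ec : ∀ o ∈ O, o * e * o⁻¹ = e ∨ o * e * o⁻¹ = e * p
  off : ∀ F : Subgroup G, F ≤ O → V ≤ F → F ≤ closure ((V : Set G) ∪ {e, τ * e * τ⁻¹}) →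
    (∀ x ∈ F, ∀ y ∈ F, x * y = y * x) → (∀ x ∈ F, x * x = 1) → A ≤ normalizer (F : Set G) → OffM F A

namespace Dat

variable {A O V : Subgroup G} {τ p e : G} (h : Dat A O V τ p e)

include h

theorem τO : τ ∉ O := by
  intro hτ
  apply h.pτ
  rw [h.OV τ hτ p h.pV]; group

theorem ττ : τ * τ ∈ O := (h.idx τ h.τA).resolve_left h.τO

theorem p2V : τ * p * τ⁻¹ ∈ V := h.AV τ h.τA p h.pV

theorem p'1 : τ * p * τ⁻¹ ≠ 1 := fun h1 => h.p1 (conj_eq_one_iff.1 h1)

theorem e'O : τ * e * τ⁻¹ ∈ O := h.AO τ h.τA e h.eO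

theorem AO' {a o : G} (ha : a ∈ A) (ho : o ∈ O) : a⁻¹ * o * a ∈ O := by
  have := h.AO a⁻¹ (inv_mem ha) o ho
  rwa [inv_inv] at this

/-- `[e^τ, O] ≤ ⟨p^τ⟩` -/
theorem ec' {o : G} (ho : o ∈ O) : o * (τ * e * τ⁻¹) * o⁻¹ = τ * e * τ⁻¹ ∨
    o * (τ * e * τ⁻¹) * o⁻¹ = (τ * e * τ⁻¹) * (τ * p * τ⁻¹) := by
  have e1 : o * (τ * e * τ⁻¹) * o⁻¹ = τ * ((τ⁻¹ * o * τ) * e * (τ⁻¹ * o * τ)⁻¹) * τ⁻¹ := by group
  rw [e1]
  rcases h.ec _ (h.AO' h.τA ho) with h1 | h1
  · left; rw [h1]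
  · right; rw [h1]; group

theorem ee' : e * (τ * e * τ⁻¹) = (τ * e * τ⁻¹) * e := by
  set e' := τ * e * τ⁻¹ with he'
  rcases h.ec _ h.e'O with h1 | h1
  · rw [← he'] at h1
    calc e * e' = (e' * e * e'⁻¹) * e' := by rw [h1]
      _ = e' * e := by group
  · rcases h.ec' h.eO with h2 | h2
    · rw [← he'] at h2
      calc e * e' = (e * e' * e⁻¹) * e := by group
        _ = e' * e := by rw [h2]
    · exfalso
      rw [← he'] at h1 h2
      -- `e' e e'⁻¹ = e p`, `e e' e⁻¹ = e' p'`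
      have hp := h.OV _ h.eO _ h.pV
      have h3 : e' * e = e * p * e' := by rw [← h1]; group
      have h4 : e * e' = e' * (τ * p * τ⁻¹) * e := by rw [← h2]; group
      have hpe' := h.OV _ h.e'O _ h.pV
      have hp'e := h.OV _ h.eO _ h.p2V
      rw [← he'] at hpe'
      have h5 : e' * e = e * e' * p := by rw [h3, mul_assoc, ← hpe', ← mul_assoc]
      have h6 : e * e' = e' * e * (τ * p * τ⁻¹) := by rw [h4, mul_assoc, ← hp'e, ← mul_assoc]
      rw [h6, mul_assoc (e' * e)] at h5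
      have h7 : (τ * p * τ⁻¹) * p = 1 := by
        have := mul_left_cancel (a := e' * e) (b := 1) (c := (τ * p * τ⁻¹) * p) (by rw [mul_one]; exact h5)
        exact this.symm
      apply h.pτ
      have h8 := h.V2 p h.pV
      calc τ * p * τ⁻¹ = (τ * p * τ⁻¹) * (p * p) := by rw [h8, mul_one]
        _ = ((τ * p * τ⁻¹) * p) * p := by group
        _ = p := by rw [h7, one_mul]

/-- `F = ⟨V, e, e^τ⟩` -/
def _root_.Cfsg.Agent.Omega.TC.LevFix.FG (V : Subgroup G) (τ e : G) : Subgroup G :=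
  closure ((V : Set G) ∪ {e, τ * e * τ⁻¹})

omit h in
theorem V_le_F : V ≤ FG V τ e := fun _ hx => subset_closure (Or.inl hx)

omit h in
theorem e_mem_F : e ∈ FG V τ e := subset_closure (Or.inr (Or.inl rfl))

omit h in
theorem e'_mem_F : τ * e * τ⁻¹ ∈ FG V τ e := subset_closure (Or.inr (Or.inr rfl))

theorem F_le_O : FG V τ e ≤ O := by
  refine (closure_le _).2 ?_
  rintro x (hx | rfl | rfl)
  · exact h.VO hx
  · exact h.eO
  · exact h.e'O

theorem F_comm : ∀ x ∈ FG V τ e, ∀ y ∈ FG V τ e, x * y = y * x := by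
  have hs : ∀ x ∈ ((V : Set G) ∪ {e, τ * e * τ⁻¹}), ∀ y ∈ ((V : Set G) ∪ {e, τ * e * τ⁻¹}), x * y = y * x := by
    rintro x (hx | rfl | rfl) y (hy | rfl | rfl)
    · exact h.OV x (h.VO hx) y hy
    · exact (h.OV _ h.eO x hx).symm
    · exact (h.OV _ h.e'O x hx).symm
    · exact h.OV _ h.eO y hy
    · rfl
    · exact h.ee'
    · exact h.OV _ h.e'O y hy
    · exact h.ee'.symm
    · rfl
  have h1 : FG V τ e ≤ centralizer ((V : Set G) ∪ {e, τ * e * τ⁻¹}) :=
    (closure_le _).2 fun x hx => mem_centralizer_iff.2 fun y hy => hs y hy x hx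
  have h2 : FG V τ e ≤ centralizer (FG V τ e : Set G) := by
    refine (closure_le _).2 fun x hx => mem_centralizer_iff.2 fun y hy => ?_
    exact (mem_centralizer_iff.1 (h1 hy) x hx).symm
  intro x hx y hy
  exact mem_centralizer_iff.1 (h2 hy) x hx

theorem F_sq : ∀ x ∈ FG V τ e, x * x = 1 := by
  intro x hx
  unfold FG at hx
  induction hx using closure_induction with
  | mem x hx =>
    rcases hx with hx | rfl | rfl
    · exact h.V2 x hx
    · exact h.e2
    · calc τ * e * τ⁻¹ * (τ * e * τ⁻¹) = τ * (e * e) * τ⁻¹ := by group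
        _ = 1 := by rw [h.e2]; group
  | one => rw [one_mul]
  | mul x y hx hy h1 h2 =>
    have h3 := h.F_comm x hx y hy
    calc x * y * (x * y) = x * (y * x) * y := by group
      _ = (x * x) * (y * y) := by rw [← h3]; group
      _ = 1 := by rw [h1, h2, one_mul]
  | inv x hx h1 => rw [← mul_inv_rev, h1, inv_one]

theorem conj_O {o : G} (ho : o ∈ O) : ∀ x ∈ FG V τ e, o * x * o⁻¹ ∈ FG V τ e := by
  intro x hx
  unfold FG at hx
  induction hx using closure_induction with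
  | mem x hx =>
    rcases hx with hx | rfl | rfl
    · rw [h.OV o ho x hx, mul_inv_cancel_right]; exact V_le_F hx
    · rcases h.ec o ho with h1 | h1 <;> rw [h1]
      · exact e_mem_F
      · exact mul_mem e_mem_F (V_le_F h.pV)
    · rcases h.ec' ho with h1 | h1 <;> rw [h1]
      · exact e'_mem_F
      · exact mul_mem e'_mem_F (V_le_F h.p2V)
  | one => rw [mul_one, mul_inv_cancel]; exact one_mem _
  | mul x y hx hy h1 h2 =>
    have e1 : o * (x * y) * o⁻¹ = (o * x * o⁻¹) * (o * y * o⁻¹) := by group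
    rw [e1]; exact mul_mem h1 h2
  | inv x hx h1 =>
    have e1 : o * x⁻¹ * o⁻¹ = (o * x * o⁻¹)⁻¹ := by group
    rw [e1]; exact inv_mem h1

theorem conj_τ : ∀ x ∈ FG V τ e, τ * x * τ⁻¹ ∈ FG V τ e := by
  intro x hx
  unfold FG at hx
  induction hx using closure_induction with
  | mem x hx =>
    rcases hx with hx | rfl | rfl
    · exact V_le_F (h.AV τ h.τA x hx)
    · exact e'_mem_F
    · have e1 : τ * (τ * e * τ⁻¹) * τ⁻¹ = (τ * τ) * e * (τ * τ)⁻¹ := by group
      rw [e1]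
      exact h.conj_O h.ττ e e_mem_F
  | one => rw [mul_one, mul_inv_cancel]; exact one_mem _
  | mul x y hx hy h1 h2 =>
    have e1 : τ * (x * y) * τ⁻¹ = (τ * x * τ⁻¹) * (τ * y * τ⁻¹) := by group
    rw [e1]; exact mul_mem h1 h2
  | inv x hx h1 =>
    have e1 : τ * x⁻¹ * τ⁻¹ = (τ * x * τ⁻¹)⁻¹ := by group
    rw [e1]; exact inv_mem h1

theorem A_norm : A ≤ normalizer (FG V τ e : Set G) := by
  have hO : ∀ o ∈ O, o ∈ normalizer (FG V τ e : Set G) := by
    intro o ho
    rw [mem_normalizer_iff]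
    intro x
    refine ⟨h.conj_O ho x, fun hx => ?_⟩
    have h1 := h.conj_O (inv_mem ho) _ hx
    have e1 : o⁻¹ * (o * x * o⁻¹) * o⁻¹⁻¹ = x := by group
    rwa [e1] at h1
  have hτ : τ ∈ normalizer (FG V τ e : Set G) := by
    rw [mem_normalizer_iff_cj]
    refine Subgroup.eq_of_le_of_card_ge ?_ (by rw [ZN.ChoiceBase.card_cj])
    rintro _ ⟨x, hx, rfl⟩
    exact h.conj_τ x hx
  intro a ha
  rcases h.idx a ha with h1 | h1
  · exact hO a h1
  · have := mul_mem (inv_mem hτ) (hO _ h1)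
    rwa [inv_mul_cancel_left] at this

theorem offF : OffM (FG V τ e) A :=
  h.off _ h.F_le_O V_le_F le_rfl h.F_comm h.F_sq h.A_norm

/-- `A` and `τ` commute on `F` -/
theorem swap {b x : G} (hb : b ∈ A) (hx : x ∈ FG V τ e) :
    b * (τ * x * τ⁻¹) * b⁻¹ = τ * (b * x * b⁻¹) * τ⁻¹ := by
  have h1 := h.offF.comm b hb τ h.τA
  have hy : τ * (b * x * b⁻¹) * τ⁻¹ ∈ FG V τ e := by
    have h2 : b * x * b⁻¹ ∈ FG V τ e := (mem_normalizer_iff.1 (h.A_norm hb) x).1 hx
    exact h.conj_τ _ h2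
  have h2 := mem_centralizer_iff.1 h1 _ hy
  -- `c y = y c`, `c = b τ b⁻¹ τ⁻¹`
  calc b * (τ * x * τ⁻¹) * b⁻¹ = (b * τ * b⁻¹ * τ⁻¹) * (τ * (b * x * b⁻¹) * τ⁻¹) * (b * τ * b⁻¹ * τ⁻¹)⁻¹ := by group
    _ = (τ * (b * x * b⁻¹) * τ⁻¹) * (b * τ * b⁻¹ * τ⁻¹) * (b * τ * b⁻¹ * τ⁻¹)⁻¹ := by rw [h2]
    _ = τ * (b * x * b⁻¹) * τ⁻¹ := by group

/-- elements of `A ∩ O` commuting with `e` centralise `F` -/
theorem cent_F {b : G} (hb : b ∈ A) (hbO : b ∈ O) (hbe : b * e * b⁻¹ = e) : b ∈ centralizer (FG V τ e : Set G) := by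
  have h1 : FG V τ e ≤ centralizer ({b} : Set G) := by
    refine (closure_le _).2 ?_
    rintro x (hx | hx | hx)
    · exact mem_centralizer_singleton_iff.2 (h.OV b hbO x hx).symm
    · rw [hx]
      refine mem_centralizer_singleton_iff.2 ?_
      calc e * b = (b * e * b⁻¹) * b := by rw [hbe]
        _ = b * e := by group
    · have hx' : x = τ * e * τ⁻¹ := hx
      rw [hx']
      refine mem_centralizer_singleton_iff.2 ?_
      have h2 := h.swap hb (e_mem_F (V := V) (τ := τ) (e := e))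
      rw [hbe] at h2
      calc τ * e * τ⁻¹ * b = (b * (τ * e * τ⁻¹) * b⁻¹) * b := by rw [h2]
        _ = b * (τ * e * τ⁻¹) := by group
  exact mem_centralizer_iff.2 fun x hx => mem_centralizer_singleton_iff.1 (h1 hx)

/-- **LEMMA FIX** -/
theorem main : ∀ o ∈ O, o * e = e * o := by
  have hoff := h.offF
  set F := FG V τ e with hF
  have hpos1 : 0 < Nat.card ↥(A ⊓ centralizer (F : Set G)) := Nat.card_pos
  have hpos2 : 0 < Nat.card ↥(F ⊓ centralizer (A : Set G)) := Nat.card_pos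
  have hle := hoff.le
  have hA2 : Nat.card A ≤ 2 * Nat.card ↥(A ⊓ O) :=
    le_two_mul h.τA inf_le_left fun a ha => by
      rcases h.idx a ha with h1 | h1
      · exact Or.inl ⟨ha, h1⟩
      · exact Or.inr ⟨mul_mem h.τA ha, h1⟩
  have hVA : p ∉ F ⊓ centralizer (A : Set G) := fun hh => h.pτ (by
    have := mem_centralizer_iff.1 hh.2 τ h.τA
    rw [this]; group)
  by_cases hcase : ∃ b ∈ A ⊓ O, b * e * b⁻¹ ≠ e
  · -- impossible
    exfalso
    obtain ⟨b, ⟨hbA, hbO⟩, hbe⟩ := hcase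
    have hbp : b * e * b⁻¹ = e * p := (h.ec b hbO).resolve_left hbe
    -- `|A| ≤ 4 |C_A(F)|`
    have h1 : Nat.card ↥(A ⊓ O) ≤ 2 * Nat.card ↥(A ⊓ centralizer (F : Set G)) := by
      have h2 : Nat.card ↥(A ⊓ O) ≤ 2 * Nat.card ↥((A ⊓ O) ⊓ centralizer ({e} : Set G)) := by
        refine le_two_mul (τ := b) ⟨hbA, hbO⟩ inf_le_left fun a ha => ?_
        rcases h.ec a ha.2 with h3 | h3
        · left
          refine ⟨ha, mem_centralizer_singleton_iff.2 ?_⟩
          calc a * e = (a * e * a⁻¹) * a := by group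
            _ = e * a := by rw [h3]
        · right
          refine ⟨mul_mem ⟨hbA, hbO⟩ ha, mem_centralizer_singleton_iff.2 ?_⟩
          have h4 := h.OV b hbO p h.pV
          have h5 : b * a * e * (b * a)⁻¹ = e := by
            calc b * a * e * (b * a)⁻¹ = b * (a * e * a⁻¹) * b⁻¹ := by group
              _ = b * (e * p) * b⁻¹ := by rw [h3]
              _ = (b * e * b⁻¹) * (b * p * b⁻¹) := by group
              _ = e * p * p := by rw [hbp, h4, mul_inv_cancel_right]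
              _ = e := by rw [mul_assoc, h.V2 p h.pV, mul_one]
          calc b * a * e = (b * a * e * (b * a)⁻¹) * (b * a) := by group
            _ = e * (b * a) := by rw [h5]
      refine h2.trans (Nat.mul_le_mul_left _ (card_le_of_le ?_))
      rintro a ⟨⟨haA, haO⟩, hae⟩
      refine ⟨haA, h.cent_F haA haO ?_⟩
      have := mem_centralizer_singleton_iff.1 hae
      rw [this]; group
    -- `8 |C_F(A)| ≤ |F|`
    have hbe' : b * (τ * e * τ⁻¹) * b⁻¹ = (τ * e * τ⁻¹) * (τ * p * τ⁻¹) := by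
      rw [h.swap hbA e_mem_F, hbp]; group
    let K1 : Subgroup G :=
      { carrier := {x | x ∈ F ∧ (b * x * b⁻¹ = x ∨ b * x * b⁻¹ = x * p)}
        one_mem' := ⟨one_mem _, Or.inl (by group)⟩
        mul_mem' := by
          rintro x y ⟨hx, hx'⟩ ⟨hy, hy'⟩
          refine ⟨mul_mem hx hy, ?_⟩
          have hpy : p * y = y * p := h.F_comm p (V_le_F h.pV) y hy
          have e1 : b * (x * y) * b⁻¹ = (b * x * b⁻¹) * (b * y * b⁻¹) := by group
          rw [e1]
          rcases hx' with h3 | h3 <;> rcases hy' with h4 | h4 <;> rw [h3, h4]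
          · exact Or.inl rfl
          · exact Or.inr (by group)
          · exact Or.inr (by rw [mul_assoc, hpy]; group)
          · left
            calc x * p * (y * p) = x * (p * y) * p := by group
              _ = x * y * (p * p) := by rw [hpy]; group
              _ = x * y := by rw [h.V2 p h.pV, mul_one]
        inv_mem' := by
          rintro x ⟨hx, hx'⟩
          have hi : x⁻¹ = x := inv_eq_of_mul_eq_one_left (h.F_sq x hx)
          rw [hi]
          exact ⟨hx, hx'⟩ }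
    have hK1F : K1 ≤ F := fun x hx => hx.1
    have hCK : F ⊓ centralizer ({b} : Set G) ≤ K1 := by
      rintro x ⟨hx, hx'⟩
      refine ⟨hx, Or.inl ?_⟩
      have := mem_centralizer_singleton_iff.1 hx'
      rw [← this]; group
    have g1 : 2 * Nat.card ↥(F ⊓ centralizer ({b} : Set G)) ≤ Nat.card K1 := by
      refine two_mul_le hCK (x := e) ⟨e_mem_F, Or.inr hbp⟩ fun hh => hbe ?_
      have := mem_centralizer_singleton_iff.1 hh.2
      rw [← this]; group
    have g2 : 2 * Nat.card K1 ≤ Nat.card F := by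
      refine two_mul_le hK1F (x := τ * e * τ⁻¹) e'_mem_F ?_
      rintro ⟨-, h3 | h3⟩
      · rw [hbe'] at h3
        exact h.p'1 (mul_eq_left.1 h3)
      · rw [hbe'] at h3
        exact h.pτ (mul_left_cancel h3)
    have g3 : 2 * Nat.card ↥(F ⊓ centralizer (A : Set G)) ≤ Nat.card ↥(F ⊓ centralizer ({b} : Set G)) := by
      refine two_mul_le (inf_le_inf_left _ (centralizer_le (Set.singleton_subset_iff.2 hbA))) (x := p)
        ⟨V_le_F h.pV, mem_centralizer_singleton_iff.2 (h.OV b hbO p h.pV).symm⟩ hVA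
    have g4 : 8 * Nat.card ↥(F ⊓ centralizer (A : Set G)) ≤ Nat.card F := by omega
    have g5 : Nat.card A ≤ 4 * Nat.card ↥(A ⊓ centralizer (F : Set G)) := by omega
    have g6 : 8 * Nat.card ↥(F ⊓ centralizer (A : Set G)) * Nat.card ↥(A ⊓ centralizer (F : Set G)) ≤
        4 * Nat.card ↥(A ⊓ centralizer (F : Set G)) * Nat.card ↥(F ⊓ centralizer (A : Set G)) :=
      (Nat.mul_le_mul_right _ g4).trans (hle.trans (Nat.mul_le_mul_right _ g5))
    have g7 : 0 < Nat.card ↥(F ⊓ centralizer (A : Set G)) * Nat.card ↥(A ⊓ centralizer (F : Set G)) :=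
      Nat.mul_pos hpos2 hpos1
    nlinarith
  · push Not at hcase
    have h1 : Nat.card ↥(A ⊓ O) ≤ Nat.card ↥(A ⊓ centralizer (F : Set G)) :=
      card_le_of_le fun a ha => ⟨ha.1, h.cent_F ha.1 ha.2 (hcase a ha)⟩
    have h2 : Nat.card F ≤ 2 * Nat.card ↥(F ⊓ centralizer (A : Set G)) := by
      refine Nat.le_of_mul_le_mul_right ?_ hpos1
      calc Nat.card F * Nat.card ↥(A ⊓ centralizer (F : Set G))
          ≤ Nat.card A * Nat.card ↥(F ⊓ centralizer (A : Set G)) := hle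
        _ ≤ (2 * Nat.card ↥(A ⊓ centralizer (F : Set G))) * Nat.card ↥(F ⊓ centralizer (A : Set G)) :=
            Nat.mul_le_mul_right _ (by omega)
        _ = 2 * Nat.card ↥(F ⊓ centralizer (A : Set G)) * Nat.card ↥(A ⊓ centralizer (F : Set G)) := by ring
    -- `F = C_F(A) V`
    let K2 : Subgroup G :=
      { carrier := {x | ∃ c ∈ F ⊓ centralizer (A : Set G), ∃ w ∈ V, x = c * w}
        one_mem' := ⟨1, one_mem _, 1, one_mem _, by rw [mul_one]⟩
        mul_mem' := by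
          rintro _ _ ⟨c, hc, w, hw, rfl⟩ ⟨c', hc', w', hw', rfl⟩
          refine ⟨c * c', mul_mem hc hc', w * w', mul_mem hw hw', ?_⟩
          have h3 := h.F_comm w (V_le_F hw) c' hc'.1
          calc c * w * (c' * w') = c * (w * c') * w' := by group
            _ = c * c' * (w * w') := by rw [h3]; group
        inv_mem' := by
          rintro _ ⟨c, hc, w, hw, rfl⟩
          refine ⟨c⁻¹, inv_mem hc, w⁻¹, inv_mem hw, ?_⟩
          have h3 := h.F_comm c hc.1 w (V_le_F hw)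
          rw [h3, mul_inv_rev] }
    have h3 : 2 * Nat.card ↥(F ⊓ centralizer (A : Set G)) ≤ Nat.card K2 :=
      two_mul_le (fun x hx => ⟨x, hx, 1, one_mem _, by rw [mul_one]⟩) (x := p)
        ⟨1, one_mem _, p, h.pV, by rw [one_mul]⟩ hVA
    have h4 : K2 = F := by
      refine Subgroup.eq_of_le_of_card_ge ?_ (h2.trans h3)
      rintro _ ⟨c, hc, w, hw, rfl⟩
      exact mul_mem hc.1 (V_le_F hw)
    obtain ⟨c, hc, w, hw, hew⟩ : e ∈ K2 := by rw [h4]; exact e_mem_F
    have hcτ : τ * c * τ⁻¹ = c := by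
      have := mem_centralizer_iff.1 hc.2 τ h.τA
      rw [this]; group
    set u := w⁻¹ * (τ * w * τ⁻¹) with hu
    have huV : u ∈ V := mul_mem (inv_mem hw) (h.AV τ h.τA w hw)
    have he'u : τ * e * τ⁻¹ = e * u := by
      calc τ * e * τ⁻¹ = (τ * c * τ⁻¹) * (τ * w * τ⁻¹) := by rw [hew]; group
        _ = c * w * (w⁻¹ * (τ * w * τ⁻¹)) := by rw [hcτ]; group
        _ = e * u := by rw [← hew]
    intro o ho
    have key : o * e * o⁻¹ = e := by
      refine (h.ec o ho).resolve_right fun h5 => ?_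
      have h6 : o * (τ * e * τ⁻¹) * o⁻¹ = (τ * e * τ⁻¹) * p := by
        have hou := h.OV o ho u huV
        have hup : u * p = p * u := (h.OV u (h.VO huV) p h.pV)
        rw [he'u]
        calc o * (e * u) * o⁻¹ = (o * e * o⁻¹) * (o * u * o⁻¹) := by group
          _ = e * p * u := by rw [h5, hou, mul_inv_cancel_right]
          _ = e * u * p := by rw [mul_assoc e p u, ← hup, ← mul_assoc]
      rcases h.ec' ho with h7 | h7
      · rw [h7] at h6
        exact h.p1 (mul_eq_left.1 h6.symm)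
      · rw [h7] at h6
        exact h.pτ (mul_left_cancel h6)
    calc o * e = (o * e * o⁻¹) * o := by group
      _ = e * o := by rw [key]

end Dat

end Cfsg.Agent.Omega.TC.LevFix
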