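import Cfsg.Agent.Omega.MinPar

/-!
# LEMMA AV (averaging; helper815 #19738, referee helper37 #19928; CARD #18791 TWO CENTRES)

`U` abelian, `V ≤ U` normalised by the 2-group `T`, `Z = C_V(T)`, `[V, T] ≤ Z`, `M ∩ T ≤ O := C_T(V)`, `X := C_M(Z)`.

* `exists_norm` : the norm map `σ : V → C_U(X)`, `a ↦ ∏_{x ∈ X / C_X(V)} x a x⁻¹`, and its equivariance;
* `av` : **(AV)** `C_U(O) ≤ V C₀`, `C₀` centralised by `T` and `X`: `C_M(Z)` centralises `V`;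
* `av_cent` : then `C_M(Z)` centralises `Z^{⟨P, D⟩}`;
* `cor` : **(COR)** `C₂ = M D`; `cor_orbit` : `v^{C₂} = v^M`;
* `Set2.of_four` : the setting for `q = 2`;
* `caseA` : **(A)** all 2-lines on `v₂` are `D`-conjugate to `V₂`: `v₂^{⟨C₁, C₂⟩} = v₂^{C₁}`; `Set2.caseA_dead`.
-/

set_option autoImplicit false
set_option linter.unusedSectionVars false

namespace Cfsg.Agent.Omega.TC.Av

open Subgroup Cfsg Cfsg.Agent.ZN Cfsg.Agent.MinSimple.MinParabolic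
open Cfsg.Agent.MinSimple.VModule (o2_isPGroup)

variable {G : Type*} [Group G]

section norm

/-- conjugation on a subgroup -/
def cg {U : Subgroup G} {g : G} (hg : g ∈ normalizer (U : Set G)) : U →* U where
  toFun u := ⟨g * u * g⁻¹, (mem_normalizer_iff.1 hg u).1 u.2⟩
  map_one' := Subtype.ext (by simp)
  map_mul' a b := Subtype.ext (by
    change g * ((a : G) * b) * g⁻¹ = g * a * g⁻¹ * (g * b * g⁻¹)
    group)

theorem coe_cg {U : Subgroup G} {g : G} (hg : g ∈ normalizer (U : Set G)) (u : U) :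
    ((cg hg u : U) : G) = g * u * g⁻¹ := rfl

/-- **The norm map.** -/
theorem exists_norm [Finite G] {U V X : Subgroup G} (hU : ∀ x ∈ U, ∀ y ∈ U, x * y = y * x) (hVU : V ≤ U)
    (hX : X ≤ normalizer (U : Set G)) (hodd : ¬ 2 ∣ (X ⊓ centralizer (V : Set G)).relIndex X) :
    ∃ σ : G → G, (∀ a ∈ V, σ a ∈ U) ∧ (∀ x ∈ X, ∀ a ∈ V, x * σ a * x⁻¹ = σ a) ∧
      (∀ a ∈ V, ∀ b ∈ V, σ (a * b) = σ a * σ b) ∧
      (∀ z ∈ V, z * z = 1 → (∀ x ∈ X, x * z = z * x) → σ z = z) ∧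
      ∀ s : G, s ∈ normalizer (U : Set G) → s ∈ normalizer (V : Set G) → s ∈ normalizer (X : Set G) →
        ∀ a ∈ V, s * σ a * s⁻¹ = σ (s * a * s⁻¹) := by
  classical
  let _ : CommGroup U := { (inferInstance : Group U) with
    mul_comm := fun a b => Subtype.ext (hU a a.2 b b.2) }
  let ι : V → U := fun a => ⟨a, hVU a.2⟩
  let f : X → V → U := fun x a => ⟨x * a * (x : G)⁻¹, (mem_normalizer_iff.1 (hX x.2) a).1 (hVU a.2)⟩
  have hf : ∀ x a, ((f x a : U) : G) = x * a * (x : G)⁻¹ := fun _ _ => rfl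
  let Ω := Set.range f
  have hfin : Finite Ω := Finite.Set.finite_range f
  let _ : Fintype Ω := Fintype.ofFinite Ω
  -- `|Ω|` is odd
  have hcard : Nat.card Ω = ((X ⊓ centralizer (V : Set G)).subgroupOf X).index := by
    rw [index]
    refine Nat.card_congr ((Setoid.quotientKerEquivRange f).symm.trans
      (Quotient.congr (Equiv.refl X) fun a b => ?_))
    change f a = f b ↔ (QuotientGroup.leftRel _) a b
    rw [QuotientGroup.leftRel_apply, mem_subgroupOf]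
    have key : f a = f b ↔ ∀ v ∈ V, (a : G)⁻¹ * b * v = v * ((a : G)⁻¹ * b) := by
      constructor
      · intro h v hv
        have h1 : (a : G) * v * (a : G)⁻¹ = b * v * (b : G)⁻¹ := by
          rw [← hf a ⟨v, hv⟩, ← hf b ⟨v, hv⟩, h]
        calc (a : G)⁻¹ * b * v = (a : G)⁻¹ * (b * v * (b : G)⁻¹) * b := by group
          _ = (a : G)⁻¹ * (a * v * (a : G)⁻¹) * b := by rw [h1]
          _ = v * ((a : G)⁻¹ * b) := by group
      · intro h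
        funext v
        apply Subtype.ext
        rw [hf, hf]
        have h1 := h v v.2
        calc (a : G) * v * (a : G)⁻¹ = a * (v * ((a : G)⁻¹ * b)) * (b : G)⁻¹ := by group
          _ = a * ((a : G)⁻¹ * b * v) * (b : G)⁻¹ := by rw [h1]
          _ = b * v * (b : G)⁻¹ := by group
    rw [key]
    constructor
    · intro h
      exact ⟨(a⁻¹ * b : X).2, mem_centralizer_iff.2 fun v hv => (h v hv).symm⟩
    · intro h v hv
      exact (mem_centralizer_iff.1 h.2 v hv).symm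
  have hodd' : Odd (Fintype.card Ω) := by
    rw [← Nat.card_eq_fintype_card, hcard, ← Nat.not_even_iff_odd]
    exact fun h => hodd (even_iff_two_dvd.1 h)
  let N : V → U := fun a => ∏ φ : Ω, φ.1 a
  let σ : G → G := fun a => if h : a ∈ V then (N ⟨a, h⟩ : G) else 1
  have hσ : ∀ a (h : a ∈ V), σ a = (N ⟨a, h⟩ : G) := fun a h => dif_pos h
  refine ⟨σ, fun a ha => ?_, fun x hx a ha => ?_, fun a ha b hb => ?_, fun z hz hz2 hzX => ?_,
    fun s hsU hsV hsX a ha => ?_⟩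
  · rw [hσ a ha]
    exact (N ⟨a, ha⟩).2
  · rw [hσ a ha, ← coe_cg (hX hx)]
    congr 1
    change cg (hX hx) (∏ φ : Ω, φ.1 ⟨a, ha⟩) = ∏ φ : Ω, φ.1 ⟨a, ha⟩
    rw [map_prod]
    let e : Ω → Ω := fun φ => ⟨fun b => cg (hX hx) (φ.1 b), by
      obtain ⟨φ, y, rfl⟩ := φ
      refine ⟨⟨x, hx⟩ * y, ?_⟩
      funext b
      apply Subtype.ext
      rw [hf, coe_cg, hf, coe_mul]
      group⟩
    have he : Function.Bijective e := by
      rw [← Finite.injective_iff_bijective]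
      intro φ ψ h
      apply Subtype.ext
      funext b
      have h1 := congrArg (fun w : Ω => ((w.1 b : U) : G)) h
      change x * (φ.1 b : G) * x⁻¹ = x * (ψ.1 b : G) * x⁻¹ at h1
      exact Subtype.ext (mul_left_cancel (mul_right_cancel h1))
    exact he.prod_comp (fun φ : Ω => φ.1 ⟨a, ha⟩)
  · rw [hσ _ (mul_mem ha hb), hσ a ha, hσ b hb, ← coe_mul]
    congr 1
    change ∏ φ : Ω, φ.1 ⟨a * b, _⟩ = (∏ φ : Ω, φ.1 ⟨a, ha⟩) * ∏ φ : Ω, φ.1 ⟨b, hb⟩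
    rw [← Finset.prod_mul_distrib]
    refine Finset.prod_congr rfl fun φ _ => ?_
    obtain ⟨φ, y, rfl⟩ := φ
    apply Subtype.ext
    change (y : G) * (a * b) * (y : G)⁻¹ = y * a * (y : G)⁻¹ * (y * b * (y : G)⁻¹)
    group
  · rw [hσ z hz]
    have h1 : ∀ φ : Ω, φ.1 ⟨z, hz⟩ = ι ⟨z, hz⟩ := by
      rintro ⟨φ, y, rfl⟩
      apply Subtype.ext
      change (y : G) * z * (y : G)⁻¹ = z
      rw [hzX y y.2, mul_inv_cancel_right]
    have h2 : N ⟨z, hz⟩ = ι ⟨z, hz⟩ := by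
      change ∏ φ : Ω, φ.1 ⟨z, hz⟩ = _
      rw [Finset.prod_congr rfl fun φ _ => h1 φ, Finset.prod_const, Finset.card_univ]
      obtain ⟨n, hn⟩ := hodd'
      rw [hn, pow_succ, pow_mul]
      have h3 : (ι ⟨z, hz⟩) ^ 2 = 1 := by
        rw [pow_two]
        exact Subtype.ext hz2
      rw [h3, one_pow, one_mul]
    rw [h2]
  · have hsa : s * a * s⁻¹ ∈ V := (mem_normalizer_iff.1 hsV a).1 ha
    rw [hσ a ha, hσ _ hsa, ← coe_cg hsU]
    congr 1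
    change cg hsU (∏ φ : Ω, φ.1 ⟨a, ha⟩) = ∏ φ : Ω, φ.1 ⟨s * a * s⁻¹, hsa⟩
    rw [map_prod]
    have hsV' : ∀ b ∈ V, s⁻¹ * b * s ∈ V := fun b hb => by
      have := (mem_normalizer_iff.1 (inv_mem hsV) b).1 hb
      rwa [inv_inv] at this
    let e : Ω → Ω := fun φ => ⟨fun b => cg hsU (φ.1 ⟨s⁻¹ * b * s, hsV' b b.2⟩), by
      obtain ⟨φ, y, rfl⟩ := φ
      refine ⟨⟨s * y * s⁻¹, (mem_normalizer_iff.1 hsX y).1 y.2⟩, ?_⟩
      funext b
      apply Subtype.ext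
      rw [hf, coe_cg, hf]
      group⟩
    have he : Function.Bijective e := by
      rw [← Finite.injective_iff_bijective]
      intro φ ψ h
      apply Subtype.ext
      funext b
      have hb : s * (b : G) * s⁻¹ ∈ V := (mem_normalizer_iff.1 hsV b).1 b.2
      have h1 := congrArg (fun w : Ω => ((w.1 ⟨s * b * s⁻¹, hb⟩ : U) : G)) h
      change s * (φ.1 ⟨s⁻¹ * (s * b * s⁻¹) * s, _⟩ : G) * s⁻¹ = s * (ψ.1 ⟨s⁻¹ * (s * b * s⁻¹) * s, _⟩ : G) * s⁻¹ at h1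
      have e2 : (⟨s⁻¹ * (s * b * s⁻¹) * s, hsV' _ hb⟩ : V) = b := Subtype.ext (by
        change s⁻¹ * (s * (b : G) * s⁻¹) * s = b
        group)
      rw [e2] at h1
      exact Subtype.ext (mul_left_cancel (mul_right_cancel h1))
    rw [← he.prod_comp (fun φ : Ω => φ.1 ⟨s * a * s⁻¹, hsa⟩)]
    refine Finset.prod_congr rfl fun φ _ => ?_
    change cg hsU (φ.1 ⟨a, ha⟩) = cg hsU (φ.1 ⟨s⁻¹ * (s * a * s⁻¹) * s, _⟩)
    have e2 : (⟨s⁻¹ * (s * a * s⁻¹) * s, hsV' _ hsa⟩ : V) = ⟨a, ha⟩ := Subtype.ext (by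
      change s⁻¹ * (s * a * s⁻¹) * s = a
      group)
    rw [e2]

end norm

/-! ### (AV) -/

section av

theorem comm_of_conj {g x : G} (h : g * x * g⁻¹ = x) : g * x = x * g := mul_inv_eq_iff_eq_mul.1 h

theorem le_normalizer_inf' {M P : Subgroup G} (hPM : P ≤ normalizer (M : Set G)) :
    P ≤ normalizer ((M ⊓ P : Subgroup G) : Set G) := by
  intro t ht
  rw [mem_normalizer_iff]
  intro x
  constructor
  · rintro ⟨h1, h2⟩
    exact ⟨(mem_normalizer_iff.1 (hPM ht) x).1 h1, P.mul_mem (P.mul_mem ht h2) (P.inv_mem ht)⟩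
  · rintro ⟨h1, h2⟩
    refine ⟨(mem_normalizer_iff.1 (hPM ht) x).2 h1, ?_⟩
    have h3 := P.mul_mem (P.mul_mem (P.inv_mem ht) h2) ht
    have e : t⁻¹ * (t * x * t⁻¹) * t = x := by group
    rwa [e] at h3

theorem relIndex_sup_av [Finite G] {S K : Subgroup G} (hK : S ≤ normalizer (K : Set G)) :
    S.relIndex K = S.relIndex (S ⊔ K) := by
  set J := S ⊔ K with hJ
  have hJN : J ≤ normalizer (K : Set G) := sup_le hK le_normalizer
  have : (K.subgroupOf J).Normal := normal_subgroupOf_of_le_normalizer hJN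
  have hSJ : S ≤ J := le_sup_left
  have hKJ : K ≤ J := le_sup_right
  have h1 : (K.subgroupOf J).relIndex ((S.subgroupOf J) ⊔ (K.subgroupOf J)) =
      (K.subgroupOf J).relIndex (S.subgroupOf J) := relIndex_sup_right _ _
  have h2 : (S.subgroupOf J) ⊔ (K.subgroupOf J) = ⊤ := by
    rw [← subgroupOf_sup hSJ hKJ, ← hJ, subgroupOf_self]
  rw [h2, relIndex_top_right, relIndex_subgroupOf hSJ] at h1
  have e1 : K.relIndex J = K.relIndex S := h1
  have c1 : Nat.card K * K.relIndex J = Nat.card J := by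
    rw [← relIndex_bot_left, ← relIndex_bot_left]
    exact relIndex_mul_relIndex _ _ _ bot_le hKJ
  have c2 : Nat.card S * S.relIndex J = Nat.card J := by
    rw [← relIndex_bot_left, ← relIndex_bot_left]
    exact relIndex_mul_relIndex _ _ _ bot_le hSJ
  have c3 : Nat.card (K ⊓ S : Subgroup G) * K.relIndex S = Nat.card S := by
    rw [← inf_relIndex_right, ← relIndex_bot_left, ← relIndex_bot_left]
    exact relIndex_mul_relIndex _ _ _ bot_le inf_le_right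
  have c4 : Nat.card (K ⊓ S : Subgroup G) * S.relIndex K = Nat.card K := by
    rw [inf_comm, ← inf_relIndex_right, ← relIndex_bot_left, ← relIndex_bot_left]
    exact relIndex_mul_relIndex _ _ _ bot_le inf_le_right
  have hpos : 0 < Nat.card (K ⊓ S : Subgroup G) := Nat.card_pos
  have hpos3 : 0 < K.relIndex S := by
    have hposS : 0 < Nat.card S := Nat.card_pos
    rcases Nat.eq_zero_or_pos (K.relIndex S) with h | h
    · rw [h, mul_zero] at c3; omega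
    · exact h
  rw [e1, ← c2] at c1
  rw [← c4, ← c3] at c1
  have h5 : (Nat.card (K ⊓ S : Subgroup G) * K.relIndex S) * S.relIndex K =
      (Nat.card (K ⊓ S : Subgroup G) * K.relIndex S) * S.relIndex J := by
    rw [← c1]; ring
  exact Nat.eq_of_mul_eq_mul_left (Nat.mul_pos hpos hpos3) h5

/-- `|M : T ∩ M|` is odd for `M ≤ H` normalised by `T`, `T` Sylow in `H` -/
theorem odd_inf [Finite G] {T H M : Subgroup G} (hTH : T ≤ H) (hodd : ¬ 2 ∣ T.relIndex H) (hMH : M ≤ H)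
    (hTM : T ≤ normalizer (M : Set G)) : ¬ 2 ∣ (T ⊓ M).relIndex M := by
  have h2 : T.relIndex M ∣ T.relIndex H := by
    rw [relIndex_sup_av hTM]
    exact Dvd.intro _ (relIndex_mul_relIndex _ _ _ le_sup_left (sup_le hTH hMH))
  rw [inf_relIndex_right]
  exact fun h => hodd (h.trans h2)

variable [Finite G] {U V Z T M : Subgroup G}

/-- **LEMMA AV.** -/
theorem av (hU : ∀ x ∈ U, ∀ y ∈ U, x * y = y * x) (hVU : V ≤ U) (hZV : Z ≤ V) (hZ2 : ∀ z ∈ Z, z * z = 1)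
    (hTU : T ≤ normalizer (U : Set G)) (hTV : T ≤ normalizer (V : Set G)) (hTM : T ≤ normalizer (M : Set G))
    (hcomm : ∀ t ∈ T, ∀ a ∈ V, t * a * t⁻¹ * a⁻¹ ∈ Z)
    (hfix : ∀ a ∈ V, (∀ t ∈ T, t * a = a * t) → a ∈ Z)
    (hMU : M ⊓ centralizer (Z : Set G) ≤ normalizer (U : Set G))
    (hTMV : T ⊓ M ≤ centralizer (V : Set G)) (hodd : ¬ 2 ∣ (T ⊓ M).relIndex M)
    (hC : ∀ u ∈ U, (∀ o ∈ T ⊓ centralizer (V : Set G), o * u = u * o) → ∃ w ∈ V, ∃ c, u = w * c ∧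
      (∀ t ∈ T, t * c = c * t) ∧ ∀ x ∈ M ⊓ centralizer (Z : Set G), x * c = c * x) :
    M ⊓ centralizer (Z : Set G) ≤ centralizer (V : Set G) := by
  set X := M ⊓ centralizer (Z : Set G) with hXdef
  have hVc : ∀ x ∈ V, ∀ y ∈ V, x * y = y * x := fun x hx y hy => hU x (hVU hx) y (hVU hy)
  have hTZ : ∀ t ∈ T, ∀ z ∈ Z, t * z * t⁻¹ ∈ Z := by
    intro t ht z hz
    have h1 := mul_mem (hcomm t ht z (hZV hz)) hz
    have e : t * z * t⁻¹ * z⁻¹ * z = t * z * t⁻¹ := by group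
    rwa [e] at h1
  have hTX : T ≤ normalizer (X : Set G) := by
    have key : ∀ t ∈ T, ∀ x ∈ X, t * x * t⁻¹ ∈ X := by
      intro t ht x hx
      refine ⟨(mem_normalizer_iff.1 (hTM ht) x).1 hx.1, mem_centralizer_iff.2 fun z hz => ?_⟩
      have h1 : t⁻¹ * z * t ∈ Z := by
        have := hTZ t⁻¹ (inv_mem ht) z hz
        rwa [inv_inv] at this
      have h2 := mem_centralizer_iff.1 hx.2 _ h1
      calc z * (t * x * t⁻¹) = t * (t⁻¹ * z * t * x) * t⁻¹ := by group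
        _ = t * (x * (t⁻¹ * z * t)) * t⁻¹ := by rw [h2]
        _ = t * x * t⁻¹ * z := by group
    intro t ht
    rw [mem_normalizer_iff]
    intro x
    refine ⟨key t ht x, fun hx => ?_⟩
    have h1 := key t⁻¹ (inv_mem ht) _ hx
    have e : t⁻¹ * (t * x * t⁻¹) * t⁻¹⁻¹ = x := by group
    rwa [e] at h1
  have hoddX : ¬ 2 ∣ (X ⊓ centralizer (V : Set G)).relIndex X := by
    have a1 : T ⊓ M ≤ X ⊓ centralizer (V : Set G) :=
      le_inf (le_inf inf_le_right (hTMV.trans (centralizer_le hZV))) hTMV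
    have a2 : (X ⊓ centralizer (V : Set G)).relIndex X ∣ (T ⊓ M).relIndex M := by
      rw [← relIndex_mul_relIndex _ _ _ (a1.trans inf_le_left) (inf_le_left : X ≤ M),
        ← relIndex_mul_relIndex _ _ _ a1 (inf_le_left : X ⊓ centralizer (V : Set G) ≤ X)]
      exact Dvd.dvd.mul_right (Dvd.intro_left _ rfl) _
    exact fun h => hodd (h.trans a2)
  obtain ⟨σ, h1, h2, h3, h4, h5⟩ := exists_norm hU hVU hMU hoddX
  intro x hx
  rw [mem_centralizer_iff]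
  intro a ha
  have hT : ∀ t ∈ T, t * σ a * t⁻¹ = t * a * t⁻¹ * a⁻¹ * σ a := by
    intro t ht
    have hz := hcomm t ht a ha
    have hσz : σ (t * a * t⁻¹ * a⁻¹) = t * a * t⁻¹ * a⁻¹ :=
      h4 _ (hZV hz) (hZ2 _ hz) fun y hy => (mem_centralizer_iff.1 hy.2 _ hz).symm
    rw [h5 t (hTU ht) (hTV ht) (hTX ht) a ha]
    have e : t * a * t⁻¹ = t * a * t⁻¹ * a⁻¹ * a := by group
    calc σ (t * a * t⁻¹) = σ (t * a * t⁻¹ * a⁻¹ * a) := by rw [← e]
      _ = σ (t * a * t⁻¹ * a⁻¹) * σ a := h3 _ (hZV hz) a ha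
      _ = t * a * t⁻¹ * a⁻¹ * σ a := by rw [hσz]
  obtain ⟨w, hw, c, hwc, hcT, hcX⟩ := hC (σ a) (h1 a ha) (by
    rintro o ⟨ho, hoV⟩
    apply comm_of_conj
    rw [hT o ho]
    have h6 := mem_centralizer_iff.1 hoV a ha
    have e : o * a * o⁻¹ * a⁻¹ = 1 := by rw [← h6]; group
    rw [e, one_mul])
  -- `w a⁻¹ ∈ Z`
  have hwa : w * a⁻¹ ∈ Z := by
    refine hfix _ (mul_mem hw (inv_mem ha)) fun t ht => comm_of_conj ?_
    have h6 := hT t ht
    rw [hwc] at h6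
    have h7 : t * w * t⁻¹ = t * a * t⁻¹ * a⁻¹ * w := by
      have h8 : t * (w * c) * t⁻¹ = t * w * t⁻¹ * c := by
        have h9 : c * t⁻¹ = t⁻¹ * c := by
          calc c * t⁻¹ = t⁻¹ * (t * c) * t⁻¹ := by group
            _ = t⁻¹ * (c * t) * t⁻¹ := by rw [hcT t ht]
            _ = t⁻¹ * c := by group
        calc t * (w * c) * t⁻¹ = t * w * (c * t⁻¹) := by group
          _ = t * w * t⁻¹ * c := by rw [h9]; group
      rw [h8, ← mul_assoc] at h6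
      exact mul_right_cancel h6
    have hz := hZV (hcomm t ht a ha)
    calc t * (w * a⁻¹) * t⁻¹ = (t * w * t⁻¹) * (t * a * t⁻¹)⁻¹ := by group
      _ = (t * a * t⁻¹ * a⁻¹ * w) * (t * a * t⁻¹ * a⁻¹ * a)⁻¹ := by
        rw [h7]
        congr 2
        group
      _ = (t * a * t⁻¹ * a⁻¹) * (w * a⁻¹) * (t * a * t⁻¹ * a⁻¹)⁻¹ := by group
      _ = w * a⁻¹ := by
        rw [hVc _ hz _ (mul_mem hw (inv_mem ha)), mul_inv_cancel_right]
  have h6 : x * σ a = σ a * x := comm_of_conj (h2 x hx a ha)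
  have h7 : x * w = w * x := by
    rw [hwc] at h6
    have h8 := hcX x hx
    have h9 : x * w * c = w * x * c := by
      calc x * w * c = x * (w * c) := by group
        _ = w * (c * x) := by rw [h6]; group
        _ = w * x * c := by rw [← h8]; group
    exact mul_right_cancel h9
  have h8 := mem_centralizer_iff.1 hx.2 _ hwa
  have e : a = (w * a⁻¹)⁻¹ * w := by group
  have h9 : x * (w * a⁻¹)⁻¹ = (w * a⁻¹)⁻¹ * x := by
    calc x * (w * a⁻¹)⁻¹ = (w * a⁻¹)⁻¹ * (w * a⁻¹ * x) * (w * a⁻¹)⁻¹ := by group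
      _ = (w * a⁻¹)⁻¹ * (x * (w * a⁻¹)) * (w * a⁻¹)⁻¹ := by rw [h8]
      _ = (w * a⁻¹)⁻¹ * x := by group
  symm
  calc x * a = (x * (w * a⁻¹)⁻¹) * w := by
        rw [mul_assoc, ← e]
    _ = (w * a⁻¹)⁻¹ * (x * w) := by rw [h9]; group
    _ = ((w * a⁻¹)⁻¹ * w) * x := by rw [h7]; group
    _ = a * x := by rw [← e]

/-- `K = C_M(Z) = C_M(V)` is normalised by `P ≤ N(V)` and `D ≤ N(Z)`, so it centralises `Z^{⟨P, D⟩}`. -/
theorem av_cent {P D : Subgroup G} (hZV : Z ≤ V)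
    (h : M ⊓ centralizer (Z : Set G) ≤ centralizer (V : Set G)) (hPM : P ≤ normalizer (M : Set G))
    (hDM : D ≤ normalizer (M : Set G)) (hPV : P ≤ normalizer (V : Set G)) (hDZ : D ≤ normalizer (Z : Set G)) :
    P ⊔ D ≤ normalizer ((M ⊓ centralizer (Z : Set G) : Subgroup G) : Set G) ∧
      ∀ g ∈ P ⊔ D, ∀ z ∈ Z, ∀ x ∈ M ⊓ centralizer (Z : Set G), x * (g * z * g⁻¹) = g * z * g⁻¹ * x := by
  have key : ∀ {A W : Subgroup G}, A ≤ normalizer (M : Set G) → A ≤ normalizer (W : Set G) →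
      A ≤ normalizer ((M ⊓ centralizer (W : Set G) : Subgroup G) : Set G) := by
    intro A W h1 h2
    have key2 : ∀ t ∈ A, ∀ x ∈ M ⊓ centralizer (W : Set G), t * x * t⁻¹ ∈ M ⊓ centralizer (W : Set G) := by
      intro t ht x hx
      refine ⟨(mem_normalizer_iff.1 (h1 ht) x).1 hx.1, mem_centralizer_iff.2 fun z hz => ?_⟩
      have h3 : t⁻¹ * z * t ∈ W := by
        have := (mem_normalizer_iff.1 (inv_mem (h2 ht)) z).1 hz
        rwa [inv_inv] at this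
      have h4 := mem_centralizer_iff.1 hx.2 _ h3
      calc z * (t * x * t⁻¹) = t * (t⁻¹ * z * t * x) * t⁻¹ := by group
        _ = t * (x * (t⁻¹ * z * t)) * t⁻¹ := by rw [h4]
        _ = t * x * t⁻¹ * z := by group
    intro t ht
    rw [mem_normalizer_iff]
    intro x
    refine ⟨key2 t ht x, fun hx => ?_⟩
    have h3 := key2 t⁻¹ (inv_mem ht) _ hx
    have e : t⁻¹ * (t * x * t⁻¹) * t⁻¹⁻¹ = x := by group
    rwa [e] at h3
  have hKeq : M ⊓ centralizer (Z : Set G) = M ⊓ centralizer (V : Set G) :=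
    le_antisymm (le_inf inf_le_left h) (inf_le_inf_left _ (centralizer_le hZV))
  have hN : P ⊔ D ≤ normalizer ((M ⊓ centralizer (Z : Set G) : Subgroup G) : Set G) := by
    refine sup_le ?_ (key hDM hDZ)
    rw [hKeq]
    exact key hPM hPV
  refine ⟨hN, fun g hg z hz x hx => ?_⟩
  have h1 : g⁻¹ * x * g ∈ M ⊓ centralizer (Z : Set G) := by
    have := (mem_normalizer_iff.1 (inv_mem (hN hg)) x).1 hx
    rwa [inv_inv] at this
  have h2 := mem_centralizer_iff.1 h1.2 z hz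
  calc x * (g * z * g⁻¹) = g * (g⁻¹ * x * g * z) * g⁻¹ := by group
    _ = g * (z * (g⁻¹ * x * g)) * g⁻¹ := by rw [← h2]
    _ = g * z * g⁻¹ * x := by group

/-- The setting of LEMMA AV in `C₂ = ⟨P, D⟩`: `T` Sylow in `C₂`, `P` minimal over `T`, `Z = C_V(T)`, `V` `P`-invariant,
`U ≥ V` abelian and normal in `C₂`, `Ω₁Z(C_T(V)) ∩ U ≤ V C₀`, `C₀ ≤ Z(C₂)`. -/
structure Set2 (T P D C₂ U V Z : Subgroup G) : Prop where
  T2 : IsPGroup 2 T
  TD : T ≤ D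
  TP : T ≤ P
  min : IsMinPar T P
  gen : C₂ = P ⊔ D
  syl : ¬ 2 ∣ T.relIndex C₂
  U_comm : ∀ x ∈ U, ∀ y ∈ U, x * y = y * x
  U_norm : C₂ ≤ normalizer (U : Set G)
  VU : V ≤ U
  ZV : Z ≤ V
  Z_sq : ∀ z ∈ Z, z * z = 1
  PV : P ≤ normalizer (V : Set G)
  DZ : D ≤ normalizer (Z : Set G)
  comm : ∀ t ∈ T, ∀ a ∈ V, t * a * t⁻¹ * a⁻¹ ∈ Z
  fix : ∀ a ∈ V, (∀ t ∈ T, t * a = a * t) → a ∈ Z
  oV : o2 P ≤ centralizer (V : Set G)
  half : ∀ u ∈ U, (∀ o ∈ T ⊓ centralizer (V : Set G), o * u = u * o) → ∃ w ∈ V, ∃ c, u = w * c ∧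
    ∀ x ∈ C₂, x * c = c * x

namespace Set2

variable {P D C₂ : Subgroup G} (h : Set2 T P D C₂ U V Z)
include h

theorem PC : P ≤ C₂ := by rw [h.gen]; exact le_sup_left

theorem DC : D ≤ C₂ := by rw [h.gen]; exact le_sup_right

theorem T_le : T ≤ C₂ := h.TP.trans h.PC

/-- **(AV)** for `M ⊴ C₂` (or only `T`-invariant) with `M ∩ T ≤ C_T(V)` -/
theorem av (hM : M ≤ C₂) (hTM : T ≤ normalizer (M : Set G)) (hTMV : T ⊓ M ≤ centralizer (V : Set G)) :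
    M ⊓ centralizer (Z : Set G) ≤ centralizer (V : Set G) := by
  refine Av.av h.U_comm h.VU h.ZV h.Z_sq (h.T_le.trans h.U_norm) (h.TP.trans h.PV) hTM h.comm h.fix
    ((inf_le_left.trans hM).trans h.U_norm) hTMV (odd_inf h.T_le h.syl hM hTM) fun u hu huo => ?_
  obtain ⟨w, hw, c, e, hc⟩ := h.half u hu huo
  exact ⟨w, hw, c, e, fun t ht => hc t (h.T_le ht), fun x hx => hc x (hM hx.1)⟩

/-- **(AV)**: `C_M(Z)` centralises `Z^{C₂}` for `M ⊴ C₂` with `M ∩ T ≤ C_T(V)` -/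
theorem av_cent (hM : M ≤ C₂) (hCM : C₂ ≤ normalizer (M : Set G)) (hTMV : T ⊓ M ≤ centralizer (V : Set G)) :
    ∀ g ∈ C₂, ∀ z ∈ Z, ∀ x ∈ M ⊓ centralizer (Z : Set G), x * (g * z * g⁻¹) = g * z * g⁻¹ * x := by
  have h1 := (Av.av_cent h.ZV (h.av hM (h.T_le.trans hCM) hTMV) (h.PC.trans hCM) (h.DC.trans hCM) h.PV h.DZ).2
  rwa [← h.gen] at h1

/-- **(AV')**: `D* ≤ D` normalised by `T` with `T ∩ D* ≤ C_T(V)` centralises `V` -/
theorem av_sub (hMD : M ≤ D) (hMZ : M ≤ centralizer (Z : Set G)) (hTM : T ≤ normalizer (M : Set G))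
    (hTMV : T ⊓ M ≤ centralizer (V : Set G)) : M ≤ centralizer (V : Set G) := by
  have h1 := h.av (hMD.trans h.DC) hTM hTMV
  rwa [inf_eq_left.2 hMZ] at h1

/-- **(AV')** for subgroups of odd order -/
theorem av_odd (hMD : M ≤ D) (hMZ : M ≤ centralizer (Z : Set G)) (hTM : T ≤ normalizer (M : Set G))
    (hodd : ¬ 2 ∣ Nat.card M) : M ≤ centralizer (V : Set G) := by
  refine h.av_sub hMD hMZ hTM ?_
  have hfact : Fact (Nat.Prime 2) := ⟨Nat.prime_two⟩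
  have h1 : T ⊓ M = ⊥ := by
    obtain ⟨n, hn⟩ := IsPGroup.iff_card.1 (h.T2.to_le (inf_le_left : T ⊓ M ≤ T))
    rcases Nat.eq_zero_or_pos n with hn0 | hn0
    · rw [hn0, pow_zero] at hn
      exact card_eq_one.1 hn
    · exact absurd (((dvd_pow_self 2 hn0.ne').trans (Dvd.intro_left _ rfl : 2 ^ n ∣ 1 * 2 ^ n)).trans
        (by rw [one_mul, ← hn]; exact card_dvd_of_le inf_le_right)) hodd
  rw [h1]
  exact bot_le

/-- **(COR)** -/
theorem cor (hM : M ≤ C₂) (hCM : C₂ ≤ normalizer (M : Set G))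
    (hne : ∃ m ∈ T ⊓ M, ∃ g ∈ C₂, ∃ z ∈ Z, m * (g * z * g⁻¹) ≠ g * z * g⁻¹ * m) :
    (M ⊓ P) ⊔ T = P ∧ C₂ = M ⊔ D := by
  have hfact : Fact (Nat.Prime 2) := ⟨Nat.prime_two⟩
  have hsylP : ¬ 2 ∣ T.relIndex P := by
    intro hd
    apply h.syl
    rw [← relIndex_mul_relIndex _ _ _ h.TP h.PC]
    exact hd.mul_right _
  have h1 : (M ⊓ P) ⊔ T = P := by
    rcases h.min.sup_eq_or_inf_le h.T2 hsylP (N := M ⊓ P) inf_le_right (le_normalizer_inf' (h.PC.trans hCM)) with h1 | h1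
    · exact h1
    · exfalso
      have hTMV : T ⊓ M ≤ centralizer (V : Set G) := by
        refine le_trans ?_ (h1.trans h.oV)
        exact le_inf inf_le_left (le_inf inf_le_right (inf_le_left.trans h.TP))
      obtain ⟨m, hm, g, hg, z, hz, hmz⟩ := hne
      exact hmz (h.av_cent hM hCM hTMV g hg z hz m ⟨hm.2, centralizer_le h.ZV (hTMV hm)⟩)
  refine ⟨h1, le_antisymm ?_ (sup_le hM h.DC)⟩
  rw [h.gen]
  refine sup_le ?_ le_sup_right
  rw [← h1]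
  exact sup_le (inf_le_left.trans le_sup_left) (h.TD.trans le_sup_right)

/-- `v^{C₂} = v^M` -/
theorem cor_orbit (hCM : C₂ ≤ normalizer (M : Set G)) (hMD : C₂ = M ⊔ D) {v : G}
    (hv : ∀ d ∈ D, d * v = v * d) : ∀ c ∈ C₂, ∃ m ∈ M, c * v * c⁻¹ = m * v * m⁻¹ := by
  intro c hc
  have hDM : D ≤ normalizer (M : Set G) := h.DC.trans hCM
  rw [hMD, ← SetLike.mem_coe, coe_mul_of_right_le_normalizer_left _ _ hDM] at hc
  obtain ⟨m, hm, d, hd, rfl⟩ := hc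
  refine ⟨m, hm, ?_⟩
  change m * d * v * (m * d)⁻¹ = m * v * m⁻¹
  calc m * d * v * (m * d)⁻¹ = m * (d * v) * d⁻¹ * m⁻¹ := by group
    _ = m * v * m⁻¹ := by rw [hv d hd]; group

end Set2

end av

/-- **The setting for `q = 2`**: `V = {1, v₁, a, v₁ a}`, `U ≥ V` abelian, `C_U(C_T(V)) ≤ V ⟨v₂⟩`, `C₂` fixes `v₂`. -/
theorem Set2.of_four [Finite G] {T P D C₂ U V : Subgroup G} {v₁ v₂ a : G} (hT2 : IsPGroup 2 T) (hTD : T ≤ D)
    (hTP : T ≤ P) (hmin : IsMinPar T P) (gen : C₂ = P ⊔ D) (syl : ¬ 2 ∣ T.relIndex C₂)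
    (hU : ∀ x ∈ U, ∀ y ∈ U, x * y = y * x) (hUn : C₂ ≤ normalizer (U : Set G)) (hVU : V ≤ U)
    (hV : ∀ x, x ∈ V ↔ x = 1 ∨ x = v₁ ∨ x = a ∨ x = v₁ * a) (hsq : v₁ * v₁ = 1)
    (hPV : P ≤ normalizer (V : Set G)) (hDv : ∀ d ∈ D, d * v₁ = v₁ * d) (hmove : ∃ t ∈ T, t * a ≠ a * t)
    (hoV : o2 P ≤ centralizer (V : Set G))
    (half : ∀ u ∈ U, (∀ o ∈ T ⊓ centralizer (V : Set G), o * u = u * o) → ∃ w ∈ V, u = w ∨ u = w * v₂)
    (hv₂ : ∀ c ∈ C₂, c * v₂ = v₂ * c) : Set2 T P D C₂ U V (zpowers v₁) := by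
  have hZ : ∀ x, x ∈ zpowers v₁ ↔ x = 1 ∨ x = v₁ := by
    intro x
    constructor
    · rintro ⟨n, rfl⟩
      rcases Int.even_or_odd' n with ⟨k, rfl | rfl⟩
      · left
        change v₁ ^ (2 * k) = 1
        rw [zpow_mul, zpow_two, hsq, one_zpow]
      · right
        change v₁ ^ (2 * k + 1) = v₁
        rw [zpow_add, zpow_mul, zpow_two, hsq, one_zpow, one_mul, zpow_one]
    · rintro (rfl | rfl)
      · exact one_mem _
      · exact mem_zpowers _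
  have hv₁V : v₁ ∈ V := (hV _).2 (Or.inr (Or.inl rfl))
  have haV : a ∈ V := (hV _).2 (Or.inr (Or.inr (Or.inl rfl)))
  have hcV : ∀ x ∈ V, ∀ y ∈ V, x * y = y * x := fun x hx y hy => hU x (hVU hx) y (hVU hy)
  have hTv : ∀ t ∈ T, t * v₁ * t⁻¹ = v₁ := fun t ht => by rw [hDv t (hTD ht), mul_inv_cancel_right]
  have hcomm : ∀ t ∈ T, t * a * t⁻¹ * a⁻¹ ∈ zpowers v₁ := by
    intro t ht
    have h1 : t * a * t⁻¹ ∈ V := (mem_normalizer_iff.1 (hPV (hTP ht)) a).1 haV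
    rcases (hV _).1 h1 with h2 | h2 | h2 | h2
    · have h3 := conj_eq_one_iff.1 h2
      rw [h2, h3, inv_one, mul_one]
      exact one_mem _
    · have h3 : a = v₁ := by
        have h4 : t * a * t⁻¹ = t * v₁ * t⁻¹ := by rw [h2, hTv t ht]
        exact mul_left_cancel (mul_right_cancel h4)
      rw [h2, h3, mul_inv_cancel]
      exact one_mem _
    · rw [h2, mul_inv_cancel]
      exact one_mem _
    · rw [h2, mul_inv_cancel_right]
      exact mem_zpowers _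
  refine ⟨hT2, hTD, hTP, hmin, gen, syl, hU, hUn, hVU, ?_, ?_, hPV, ?_, ?_, ?_, hoV, ?_⟩
  · rw [zpowers_le]
    exact hv₁V
  · intro z hz
    rcases (hZ z).1 hz with rfl | rfl
    · exact one_mul _
    · exact hsq
  · intro d hd
    rw [mem_normalizer_iff]
    intro x
    have hd1 : ∀ {e : G}, e ∈ D → ∀ z ∈ zpowers v₁, e * z * e⁻¹ ∈ zpowers v₁ := by
      intro e he z hz
      rcases (hZ z).1 hz with rfl | rfl
      · rw [mul_one, mul_inv_cancel]; exact one_mem _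
      · rw [hDv e he, mul_inv_cancel_right]; exact mem_zpowers _
    refine ⟨hd1 hd x, fun h => ?_⟩
    have h1 := hd1 (inv_mem hd) _ h
    have e : d⁻¹ * (d * x * d⁻¹) * d⁻¹⁻¹ = x := by group
    rwa [e] at h1
  · intro t ht x hx
    rcases (hV x).1 hx with rfl | rfl | rfl | rfl
    · have e : t * 1 * t⁻¹ * 1⁻¹ = 1 := by group
      rw [e]; exact one_mem _
    · rw [hTv t ht, mul_inv_cancel]; exact one_mem _
    · exact hcomm t ht
    · have h1 : (t * a * t⁻¹ * a⁻¹) * v₁⁻¹ = v₁⁻¹ * (t * a * t⁻¹ * a⁻¹) :=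
        hcV _ (mul_mem ((mem_normalizer_iff.1 (hPV (hTP ht)) a).1 haV) (inv_mem haV)) _ (inv_mem hv₁V)
      have e : t * (v₁ * a) * t⁻¹ * (v₁ * a)⁻¹ = t * a * t⁻¹ * a⁻¹ := by
        calc t * (v₁ * a) * t⁻¹ * (v₁ * a)⁻¹ = t * v₁ * t⁻¹ * ((t * a * t⁻¹ * a⁻¹) * v₁⁻¹) := by group
          _ = v₁ * (v₁⁻¹ * (t * a * t⁻¹ * a⁻¹)) := by rw [hTv t ht, h1]
          _ = t * a * t⁻¹ * a⁻¹ := by group
      rw [e]
      exact hcomm t ht
  · intro x hx hfix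
    obtain ⟨t, ht, hta⟩ := hmove
    rcases (hV x).1 hx with rfl | rfl | rfl | rfl
    · exact one_mem _
    · exact mem_zpowers _
    · exact absurd (hfix t ht) hta
    · exfalso
      apply hta
      have h1 := hfix t ht
      have h2 := hDv t (hTD ht)
      calc t * a = v₁⁻¹ * (v₁ * t) * a := by group
        _ = v₁⁻¹ * (t * (v₁ * a)) := by rw [← h2]; group
        _ = a * t := by rw [h1]; group
  · intro u hu huo
    obtain ⟨w, hw, h1 | h1⟩ := half u hu huo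
    · exact ⟨w, hw, 1, by rw [h1, mul_one], fun x _ => by rw [mul_one, one_mul]⟩
    · exact ⟨w, hw, v₂, h1, hv₂⟩

/-! ### (A) -/

section caseA

variable {C₁ C₂ P₂ D V₂ : Subgroup G} {v₂ : G}

/-- collinear points: two nontrivial elements of an `L`-conjugate of `V₂` -/
def Col (L V₂ : Subgroup G) (x y : G) : Prop := ∃ g ∈ L, ∃ a ∈ V₂, ∃ b ∈ V₂, a ≠ 1 ∧ b ≠ 1 ∧ x = g * a * g⁻¹ ∧ y = g * b * g⁻¹

theorem Col.symm {L V₂ : Subgroup G} {x y : G} (h : Col L V₂ x y) : Col L V₂ y x := by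
  obtain ⟨g, hg, a, ha, b, hb, ha1, hb1, hx, hy⟩ := h
  exact ⟨g, hg, b, hb, a, ha, hb1, ha1, hy, hx⟩

theorem Col.conj {L V₂ : Subgroup G} {x y : G} (h : Col L V₂ x y) {t : G} (ht : t ∈ L) :
    Col L V₂ (t * x * t⁻¹) (t * y * t⁻¹) := by
  obtain ⟨g, hg, a, ha, b, hb, ha1, hb1, rfl, rfl⟩ := h
  exact ⟨t * g, mul_mem ht hg, a, ha, b, hb, ha1, hb1, by group, by group⟩

/-- **(A)**: if all 2-lines on `v₂` are `D`-conjugate to `V₂`, then `v₂^{⟨C₁, C₂⟩} = v₂^{C₁}`. -/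
theorem caseA (gen : C₁ = P₂ ⊔ D) (hC₂ : ∀ g ∈ C₁ ⊔ C₂, g * v₂ = v₂ * g → g ∈ C₂)
    (hC₂v : ∀ c ∈ C₂, c * v₂ = v₂ * c) (hDv : ∀ d ∈ D, d * v₂ = v₂ * d) (hv₂ : v₂ ∈ V₂) (hv1 : v₂ ≠ 1)
    (hPV : P₂ ≤ normalizer (V₂ : Set G)) (htr : ∀ a ∈ V₂, a ≠ 1 → ∃ p ∈ P₂, a = p * v₂ * p⁻¹)
    (hlines : ∀ c ∈ C₂, ∃ d ∈ D, ∀ a ∈ V₂, ∃ b ∈ V₂, c * a * c⁻¹ = d * b * d⁻¹) :
    ∀ g ∈ C₁ ⊔ C₂, ∃ c ∈ C₁, g * v₂ * g⁻¹ = c * v₂ * c⁻¹ := by
  set L := C₁ ⊔ C₂ with hL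
  have hP₂ : P₂ ≤ C₁ := by rw [gen]; exact le_sup_left
  have hD : D ≤ C₁ := by rw [gen]; exact le_sup_right
  have hC₁L : C₁ ≤ L := le_sup_left
  have conj1 : ∀ {t x : G}, x ≠ 1 → t * x * t⁻¹ ≠ 1 := by
    intro t x hx h
    exact hx (conj_eq_one_iff.1 h)
  -- (1) `v₂^{C₁}` is closed under collinearity
  have hcl : ∀ {x y : G}, Col L V₂ x y → (∃ c ∈ C₁, x = c * v₂ * c⁻¹) → ∃ c ∈ C₁, y = c * v₂ * c⁻¹ := by
    rintro x y ⟨g, hg, a, ha, b, hb, ha1, hb1, hx, rfl⟩ ⟨c, hc, hxc⟩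
    obtain ⟨p, hp, hap⟩ := htr a ha ha1
    have hk : c⁻¹ * g * p ∈ L := mul_mem (mul_mem (inv_mem (hC₁L hc)) hg) (hC₁L (hP₂ hp))
    have h1 : (c⁻¹ * g * p) * v₂ = v₂ * (c⁻¹ * g * p) := by
      have e1 : g * (p * v₂ * p⁻¹) * g⁻¹ = c * v₂ * c⁻¹ := by rw [← hap, ← hx, hxc]
      calc (c⁻¹ * g * p) * v₂ = c⁻¹ * (g * (p * v₂ * p⁻¹) * g⁻¹) * g * p := by group
        _ = c⁻¹ * (c * v₂ * c⁻¹) * g * p := by rw [e1]
        _ = v₂ * (c⁻¹ * g * p) := by group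
    have hkC := hC₂ _ hk h1
    obtain ⟨d, hd, hdl⟩ := hlines _ hkC
    have hb' : p⁻¹ * b * p ∈ V₂ := by
      have := (mem_normalizer_iff.1 (inv_mem (hPV hp)) b).1 hb
      rwa [inv_inv] at this
    obtain ⟨w, hw, e⟩ := hdl _ hb'
    have hw1 : w ≠ 1 := by
      rintro rfl
      rw [mul_one, mul_inv_cancel] at e
      have h2 := conj_eq_one_iff.1 e
      apply hb1
      calc b = p * (p⁻¹ * b * p) * p⁻¹ := by group
        _ = 1 := by rw [h2]; group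
    obtain ⟨q, hq, hwq⟩ := htr w hw hw1
    refine ⟨c * d * q, mul_mem (mul_mem hc (hD hd)) (hP₂ hq), ?_⟩
    calc g * b * g⁻¹ = c * (c⁻¹ * g * p * (p⁻¹ * b * p) * (c⁻¹ * g * p)⁻¹) * c⁻¹ := by group
      _ = c * (d * (q * v₂ * q⁻¹) * d⁻¹) * c⁻¹ := by rw [e, hwq]
      _ = c * d * q * v₂ * (c * d * q)⁻¹ := by group
  have hcl2 : ∀ {y : G}, Relation.ReflTransGen (Col L V₂) v₂ y → ∃ c ∈ C₁, y = c * v₂ * c⁻¹ := by
    intro y h
    induction h with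
    | refl => exact ⟨1, one_mem _, by group⟩
    | tail _ h1 h2 => exact hcl h1 h2
  -- (2) the component of `v₂` is invariant
  have hconj : ∀ {x y t : G}, Relation.ReflTransGen (Col L V₂) x y → t ∈ L →
      Relation.ReflTransGen (Col L V₂) (t * x * t⁻¹) (t * y * t⁻¹) := by
    intro x y t h ht
    induction h with
    | refl => exact Relation.ReflTransGen.refl
    | tail _ h1 h2 => exact h2.tail (h1.conj ht)
  have hsymm : ∀ {x y : G}, Relation.ReflTransGen (Col L V₂) x y → Relation.ReflTransGen (Col L V₂) y x := by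
    intro x y h
    induction h with
    | refl => exact Relation.ReflTransGen.refl
    | tail _ h1 h2 => exact (Relation.ReflTransGen.single h1.symm).trans h2
  let N : Subgroup G :=
    { carrier := {g | g ∈ L ∧ Relation.ReflTransGen (Col L V₂) v₂ (g * v₂ * g⁻¹)}
      one_mem' := ⟨one_mem _, by
        have e : (1 : G) * v₂ * 1⁻¹ = v₂ := by group
        rw [e]⟩
      mul_mem' := by
        rintro a b ⟨ha, ha'⟩ ⟨hb, hb'⟩
        refine ⟨mul_mem ha hb, ha'.trans ?_⟩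
        have e : a * b * v₂ * (a * b)⁻¹ = a * (b * v₂ * b⁻¹) * a⁻¹ := by group
        rw [e]
        exact hconj hb' ha
      inv_mem' := by
        rintro a ⟨ha, ha'⟩
        refine ⟨inv_mem ha, ?_⟩
        have h1 := hconj ha' (inv_mem ha)
        have e : a⁻¹ * (a * v₂ * a⁻¹) * a⁻¹⁻¹ = v₂ := by group
        rw [e] at h1
        exact hsymm h1 }
  have hfixN : ∀ g ∈ L, g * v₂ = v₂ * g → g ∈ N := by
    intro g hg h
    refine ⟨hg, ?_⟩
    rw [h, mul_inv_cancel_right]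
  have hN : L ≤ N := by
    refine sup_le ?_ fun c hc => hfixN c ((le_sup_right : C₂ ≤ L) hc) (hC₂v c hc)
    rw [gen]
    refine sup_le (fun p hp => ⟨hC₁L (hP₂ hp), ?_⟩) fun d hd => hfixN d (hC₁L (hD hd)) (hDv d hd)
    exact Relation.ReflTransGen.single ⟨1, one_mem _, v₂, hv₂, p * v₂ * p⁻¹,
      (mem_normalizer_iff.1 (hPV hp) v₂).1 hv₂, hv1, conj1 hv1, by group, by group⟩
  exact fun g hg => hcl2 (hN hg).2

/-- **(A)**, second form: `⟨C₁, C₂⟩` normalises `N₁ = ⟨v₂^{C₁}⟩`. -/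
theorem caseA_normalizer (h : ∀ g ∈ C₁ ⊔ C₂, ∃ c ∈ C₁, g * v₂ * g⁻¹ = c * v₂ * c⁻¹) :
    C₁ ⊔ C₂ ≤ normalizer ((closure {x | ∃ c ∈ C₁, x = c * v₂ * c⁻¹} : Subgroup G) : Set G) := by
  set N := closure {x | ∃ c ∈ C₁, x = c * v₂ * c⁻¹} with hN
  have key : ∀ g ∈ C₁ ⊔ C₂, ∀ x ∈ N, g * x * g⁻¹ ∈ N := by
    intro g hg x hx
    induction hx using closure_induction with
    | mem x hx =>
      obtain ⟨c, hc, rfl⟩ := hx
      obtain ⟨c', hc', e⟩ := h (g * c) (mul_mem hg ((le_sup_left : C₁ ≤ C₁ ⊔ C₂) hc))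
      refine subset_closure ⟨c', hc', ?_⟩
      rw [← e]; group
    | one => rw [mul_one, mul_inv_cancel]; exact one_mem _
    | mul x y _ _ hx hy =>
      have e : g * (x * y) * g⁻¹ = g * x * g⁻¹ * (g * y * g⁻¹) := by group
      rw [e]; exact mul_mem hx hy
    | inv x _ hx =>
      have e : g * x⁻¹ * g⁻¹ = (g * x * g⁻¹)⁻¹ := by group
      rw [e]; exact inv_mem hx
  intro g hg
  rw [mem_normalizer_iff]
  intro x
  refine ⟨key g hg x, fun hx => ?_⟩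
  have h1 := key g⁻¹ (inv_mem hg) _ hx
  have e : g⁻¹ * (g * x * g⁻¹) * g⁻¹⁻¹ = x := by group
  rwa [e] at h1

/-- the 2-lines on `v₂` when `C₂ = M D`, `M ⊴ C₂` centralising `V₂` -/
theorem lines_of_sup {M : Subgroup G} (hDM : D ≤ normalizer (M : Set G)) (hMD : C₂ = M ⊔ D)
    (hMV : M ≤ centralizer (V₂ : Set G)) :
    ∀ c ∈ C₂, ∃ d ∈ D, ∀ a ∈ V₂, ∃ b ∈ V₂, c * a * c⁻¹ = d * b * d⁻¹ := by
  intro c hc
  rw [hMD, sup_comm, ← SetLike.mem_coe, coe_mul_of_left_le_normalizer_right _ _ hDM] at hc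
  obtain ⟨d, hd, m, hm, rfl⟩ := hc
  refine ⟨d, hd, fun a ha => ⟨a, ha, ?_⟩⟩
  have h1 := mem_centralizer_iff.1 (hMV hm) a ha
  change d * m * a * (d * m)⁻¹ = d * a * d⁻¹
  calc d * m * a * (d * m)⁻¹ = d * (m * a) * m⁻¹ * d⁻¹ := by group
    _ = d * a * d⁻¹ := by rw [← h1]; group

end caseA

/-- **(A) IS DEAD**: `M ⊴ C₂` with `[⟨Z^{C₂}⟩, T ∩ M] ≠ 1` does not centralise `V₂`, unless `⟨C₁, C₂⟩` normalises
`⟨v₂^{C₁}⟩`. -/
theorem Set2.caseA_dead [Finite G] {T P D C₂ U V Z M C₁ P₂ V₂ : Subgroup G} {v₂ : G} (h : Set2 T P D C₂ U V Z)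
    (hM : M ≤ C₂) (hCM : C₂ ≤ normalizer (M : Set G))
    (hne : ∃ m ∈ T ⊓ M, ∃ g ∈ C₂, ∃ z ∈ Z, m * (g * z * g⁻¹) ≠ g * z * g⁻¹ * m)
    (gen : C₁ = P₂ ⊔ D) (hC₂ : ∀ g ∈ C₁ ⊔ C₂, g * v₂ = v₂ * g → g ∈ C₂)
    (hC₂v : ∀ c ∈ C₂, c * v₂ = v₂ * c) (hv₂ : v₂ ∈ V₂) (hv1 : v₂ ≠ 1)
    (hPV : P₂ ≤ normalizer (V₂ : Set G)) (htr : ∀ a ∈ V₂, a ≠ 1 → ∃ p ∈ P₂, a = p * v₂ * p⁻¹)
    (hMV : M ≤ centralizer (V₂ : Set G)) :
    (∀ g ∈ C₁ ⊔ C₂, ∃ c ∈ C₁, g * v₂ * g⁻¹ = c * v₂ * c⁻¹) ∧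
      C₁ ⊔ C₂ ≤ normalizer ((closure {x | ∃ c ∈ C₁, x = c * v₂ * c⁻¹} : Subgroup G) : Set G) := by
  have h1 := caseA gen hC₂ hC₂v (fun d hd => hC₂v d (h.DC hd)) hv₂ hv1 hPV htr
    (lines_of_sup (h.DC.trans hCM) (h.cor hM hCM hne).2 hMV)
  exact ⟨h1, caseA_normalizer h1⟩

end Cfsg.Agent.Omega.TC.Av
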