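import Cfsg.Agent.Omega.OM.KTwo.StepF

/-!
# CARD #18791 "(E) = TWO CENTRES", `q = 2`: the common frame (no swap, `T` not assumed Sylow in `G`)

`Fr T V P v` : two commuting involutions `v 0, v 1`, `T` a Sylow 2-subgroup of `C_G(v i)` and of `N_G(V i)`,
`Ω₁Z(T) = ⟨v 0, v 1⟩`, `V i` a four-group containing `v i`, `P i ≤ C_G(v j)` (`j ≠ i`) a `T`-minimal subgroup which moves
`v i` and normalises `V 0`, `V 1`; conjugates of `V 0`, `V 1` which normalise each other commute (`noff`); every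
`T`-minimal `R ≤ C_G(v j)` which moves `v i` normalises `V i` (`uni`); `⟨C_G(v 0), C_G(v 1)⟩` is nonlocal.

Notation of `OM.KTwo`: `CC v i = C_G(v i)`, `QQ v i = O₂(C_G(v i))`, `NU V v i = N_i = ⟨V (i+1) ^ C_i⟩`,
`WU V v i = W_i = ⟨V i ^ C_i⟩`, `EU T v i = ⟨Ω₁Z(T) ^ C_i⟩ = N_i ⟨v i⟩`, `D = centralizer (zc T) = C_0 ∩ C_1`.

* `Fr.half` : `V j ≤ Z(Q_i)`; `Fr.U_le_Q` : `V i ≤ Q_i`; `Fr.W_le_Q`, `Fr.Q_le_cent_N`, `Fr.WN_comm`, `Fr.WN_sq`;
* `Fr.tr` : an element of `P i ∩ C(V j)` maps `v i` to `x ∈ V i#`; `Fr.gen` : `C_j = ⟨P i, D⟩`;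
* `Fr.comp` : `C_i ≠ D N_{C_i}(V i)` ("(COMP)", STEP F); `Fr.lem0` : **LEMMA 0** of #19092;
* `Fr.exists_crit`, `Fr.crit` : LEMMA P, a critical pair.
-/

set_option autoImplicit false
set_option linter.unusedSectionVars false

namespace Cfsg.Agent.Omega.TC

open Subgroup Cfsg Cfsg.Agent.ZN Cfsg.Agent.Omega.MinPar
open Cfsg.Agent.Omega.OM.KTwo (CC QQ WU NU EU FF ne_add_one eq_add_one add_one_add_one le_normalizer_V le_V
  le_o2_of_commutator)
open Cfsg.Agent.MinSimple.MinParabolic (IsMinPar)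
open Cfsg.Agent.Omega.NoFF.Basic (conj_conj mem_conj conj_le_iff conj_le_centralizer comm_symm comm_mono
  Z_le_V V_le conj_V_mul)
open Cfsg.Agent.Omega.NoFF.Main (normalizer_conj)
open Cfsg.Agent.Omega.NOThreeL.Pair (conj_eq_of_mem conj_le_normalizer clo le_clo le_clo' clo_le
  le_normalizer_clo clo_comm clo_isPGroup)
open Cfsg.Agent.Omega.NO3L (LemP.Data LemP.Crit LemP.Comm LemP.Near LemP.vx)
open Cfsg.Agent.ZN.ChoiceSit (Syl exists_syl syl_conj o2_le_syl)
open Cfsg.Agent.MinSimple.VModule (mem_zc zc_le normalizer_le_normalizer_zc le_normalizer_o2 le_o2 o2_le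
  o2_isPGroup zc_le_centralizer le_centralizer_zc)
open scoped Pointwise

universe u

variable {G : Type u} [Group G]

/-- **The frame of CARD #18791** (two centres). -/
structure Fr [Finite G] (T : Subgroup G) (V P : Fin 2 → Subgroup G) (v : Fin 2 → G) : Prop where
  char2 : IsCharacteristicTwoType G
  four : ∀ i, Nat.card (V i) = 4
  sqV : ∀ i, ∀ x ∈ V i, x ^ 2 = 1
  mem : ∀ i, v i ∈ V i
  ne : ∀ i, v i ≠ 1
  zT : ∀ x, x ∈ zc T ↔ x = 1 ∨ x = v 0 ∨ x = v 1 ∨ x = v 0 * v 1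
  syl : ∀ i, Syl T (centralizer ({v i} : Set G))
  sylN : ∀ i, Syl T (normalizer (V i : Set G))
  par : ∀ i, IsMinPar T (P i)
  PC : ∀ i j, i ≠ j → P i ≤ centralizer ({v j} : Set G)
  PN : ∀ i j, P i ≤ normalizer (V j : Set G)
  mv : ∀ i, ¬ P i ≤ centralizer ({v i} : Set G)
  noff : ∀ (i j : Fin 2) (g h : G),
    MulAut.conj g • V i ≤ normalizer ((MulAut.conj h • V j : Subgroup G) : Set G) →
    MulAut.conj h • V j ≤ normalizer ((MulAut.conj g • V i : Subgroup G) : Set G) →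
    MulAut.conj g • V i ≤ centralizer ((MulAut.conj h • V j : Subgroup G) : Set G)
  uni : ∀ i j, i ≠ j → ∀ R : Subgroup G, IsMinPar T R → R ≤ centralizer ({v j} : Set G) →
    ¬ R ≤ centralizer ({v i} : Set G) → R ≤ normalizer (V i : Set G)
  nonloc : NonLoc (centralizer ({v 0} : Set G)) (centralizer ({v 1} : Set G))

namespace Fr

variable [Finite G] {T : Subgroup G} {V P : Fin 2 → Subgroup G} {v : Fin 2 → G} (D : Fr T V P v)

include D

/-! ### Easy facts -/

theorem T_isPGroup : IsPGroup 2 T := (D.syl 0).2.1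

theorem T_le_N (i : Fin 2) : T ≤ normalizer (V i : Set G) := (D.sylN i).1

theorem T_le_C (i : Fin 2) : T ≤ CC v i := (D.syl i).1

theorem T_le_P (i : Fin 2) : T ≤ P i := (D.par i).le

theorem v_sq' (i : Fin 2) : v i ^ 2 = 1 := D.sqV i _ (D.mem i)

theorem v_sq (i : Fin 2) : v i * v i = 1 := by rw [← pow_two]; exact D.v_sq' i

theorem isChar2 (i : Fin 2) : centralizer ({v i} : Set G) ⊓
    centralizer (o2 (centralizer ({v i} : Set G)) : Set G) ≤ o2 (centralizer ({v i} : Set G)) :=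
  MinSimple.Basic.char2_centralizer D.char2 (D.v_sq' i) (D.ne i)

theorem v_mem_Q (i : Fin 2) : v i ∈ QQ v i := by
  apply D.isChar2 i
  refine ⟨mem_centralizer_singleton_iff.2 rfl, mem_centralizer_iff.2 fun q hq => ?_⟩
  exact mem_centralizer_singleton_iff.1 (o2_le _ hq)

theorem Q_le_T (i : Fin 2) : QQ v i ≤ T := o2_le_syl (D.syl i)

theorem v_mem_zc (i : Fin 2) : v i ∈ zc T := by
  rw [D.zT]
  rcases Fin.exists_fin_two.1 ⟨i, rfl⟩ with h | h
  · exact Or.inr (Or.inl (by rw [h]))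
  · exact Or.inr (Or.inr (Or.inl (by rw [h])))

theorem v_mem_T (i : Fin 2) : v i ∈ T := zc_le _ (D.v_mem_zc i)

theorem comm_v (i : Fin 2) {t : G} (ht : t ∈ T) : t * v i = v i * t :=
  mem_centralizer_singleton_iff.1 (D.T_le_C i ht)

theorem cen (i : Fin 2) {t : G} (ht : t ∈ T) : t * v i * t⁻¹ = v i := by
  rw [D.comm_v i ht]; group

theorem v_mem_Q' (i j : Fin 2) : v j ∈ QQ v i := by
  apply D.isChar2 i
  refine ⟨D.T_le_C i (D.v_mem_T j), mem_centralizer_iff.2 fun q hq => ?_⟩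
  exact D.comm_v j (D.Q_le_T i hq)

theorem zc_le_Q (i : Fin 2) : zc T ≤ QQ v i := by
  intro x hx
  rcases (D.zT x).1 hx with h1 | h1 | h1 | h1
  · rw [h1]; exact one_mem _
  · rw [h1]; exact D.v_mem_Q' i 0
  · rw [h1]; exact D.v_mem_Q' i 1
  · rw [h1]; exact mul_mem (D.v_mem_Q' i 0) (D.v_mem_Q' i 1)

theorem cent_zc_le (i : Fin 2) : centralizer (zc T : Set G) ≤ CC v i :=
  centralizer_le (Set.singleton_subset_iff.2 (D.v_mem_zc i))

theorem CC_inf : CC v 0 ⊓ CC v 1 ≤ centralizer (zc T : Set G) := by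
  rintro c ⟨h0', h1'⟩
  have h0 : c * v 0 = v 0 * c := mem_centralizer_singleton_iff.1 h0'
  have h1 : c * v 1 = v 1 * c := mem_centralizer_singleton_iff.1 h1'
  rw [mem_centralizer_iff]
  intro x hx
  rcases (D.zT x).1 hx with h | h | h | h
  · rw [h]; simp
  · rw [h]; exact h0.symm
  · rw [h]; exact h1.symm
  · rw [h]
    calc v 0 * v 1 * c = v 0 * (c * v 1) := by rw [mul_assoc, h1]
      _ = (v 0 * c) * v 1 := by group
      _ = c * (v 0 * v 1) := by rw [← h0]; group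

theorem mem_D_iff {i j : Fin 2} (hij : i ≠ j) {c : G} :
    c ∈ centralizer (zc T : Set G) ↔ c ∈ CC v i ∧ c ∈ CC v j := by
  constructor
  · exact fun h => ⟨D.cent_zc_le i h, D.cent_zc_le j h⟩
  · rintro ⟨h1, h2⟩
    apply D.CC_inf
    rw [eq_add_one hij] at h2
    rcases Fin.exists_fin_two.1 ⟨i, rfl⟩ with h | h
    · rw [h] at h1 h2; exact ⟨h1, h2⟩
    · rw [h] at h1 h2; exact ⟨h2, h1⟩

theorem T_le_D : T ≤ centralizer (zc T : Set G) := le_centralizer_zc T

/-- two subgroups of a four-group -/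
theorem eq_of_V {i : Fin 2} {a b x : G} (ha : a ∈ V i) (ha1 : a ≠ 1) (hb : b ∈ V i) (hb1 : b ≠ 1) (hab : a ≠ b)
    (hx : x ∈ V i) (hx1 : x ≠ 1) : x = a ∨ x = b ∨ x = a * b :=
  NO3S.eq_of_card_four (D.four i) (D.sqV i) ha ha1 hb hb1 hab hx hx1

theorem exists_ne_v (i : Fin 2) : ∃ x ∈ V i, x ≠ 1 ∧ x ≠ v i := by
  by_contra hcon
  push Not at hcon
  have h1 : (V i : Set G) ⊆ {1, v i} := by
    intro x hx
    by_cases hx1 : x = 1
    · exact Or.inl hx1
    · exact Or.inr (hcon x hx hx1)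
  have h2 : ((V i : Subgroup G) : Set G).ncard ≤ 2 :=
    (Set.ncard_le_ncard h1).trans (Set.ncard_insert_le _ _ |>.trans (by simp))
  have h3 : ((V i : Subgroup G) : Set G).ncard = 4 := D.four i
  omega

theorem V_isPGroup (i : Fin 2) : IsPGroup 2 (V i) := by
  rintro ⟨x, hx⟩
  exact ⟨1, Subtype.ext (by simpa using D.sqV i x hx)⟩

theorem V_comm {i : Fin 2} {a b : G} (ha : a ∈ V i) (hb : b ∈ V i) : a * b = b * a := by
  have h1 : ∀ x ∈ V i, x * x = 1 := fun x hx => by rw [← pow_two]; exact D.sqV i x hx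
  have h2 : ∀ x ∈ V i, x⁻¹ = x := fun x hx => inv_eq_of_mul_eq_one_left (h1 x hx)
  have h3 := h2 _ (mul_mem ha hb)
  rw [mul_inv_rev, h2 a ha, h2 b hb] at h3
  exact h3.symm

/-- `V i ≤ T` -/
theorem V_le_T (i : Fin 2) : V i ≤ T := by
  have h1 : V i ≤ normalizer (V i : Set G) := le_normalizer
  have h2 : IsPGroup 2 (T ⊔ V i : Subgroup G) :=
    IsPGroup.to_sup_of_normal_right' D.T_isPGroup (D.V_isPGroup i) (D.T_le_N i)
  have h3 := (D.sylN i).2.2 _ (sup_le (D.T_le_N i) h1) h2 le_sup_left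
  rw [← h3]
  exact le_sup_right

/-- `v i` is the only involution of `V i` centralised by `T` -/
theorem eq_v {i : Fin 2} {x : G} (hx : x ∈ V i) (hx1 : x ≠ 1) (hfix : ∀ t ∈ T, t * x * t⁻¹ = x) : x = v i := by
  by_contra hne
  -- `T` centralises `V i`, so `V i ≤ Ω₁Z(T)` has order 4
  have h1 : V i ≤ zc T := by
    intro y hy
    refine mem_zc.2 ⟨D.V_le_T i hy, fun t ht => ?_, D.sqV i y hy⟩
    have hxt : t * x = x * t := by
      calc t * x = t * x * t⁻¹ * t := by group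
        _ = x * t := by rw [hfix t ht]
    by_cases hy1 : y = 1
    · rw [hy1]; group
    rcases D.eq_of_V hx hx1 (D.mem i) (D.ne i) hne hy hy1 with h | h | h
    · rw [h]; exact hxt
    · rw [h]; exact D.comm_v i ht
    · rw [h]
      calc t * (x * v i) = (t * x) * v i := by group
        _ = x * (t * v i) := by rw [hxt]; group
        _ = x * v i * t := by rw [D.comm_v i ht]; group
  -- then `P i` centralises `v i`
  obtain ⟨j, hij⟩ : ∃ j : Fin 2, i ≠ j := ⟨i + 1, ne_add_one i⟩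
  have h2 : Nat.card (zc T) ≤ 4 := by
    have h3 : ((zc T : Subgroup G) : Set G) ⊆ {1, v 0, v 1, v 0 * v 1} := fun y hy => by
      rcases (D.zT y).1 hy with h | h | h | h <;> simp [h]
    have h4 : Nat.card (zc T) = ((zc T : Subgroup G) : Set G).ncard := rfl
    rw [h4]
    refine (Set.ncard_le_ncard h3).trans ?_
    refine (Set.ncard_insert_le _ _).trans ?_
    have h5 := Set.ncard_insert_le (v 0) ({v 1, v 0 * v 1} : Set G)
    have h6 := Set.ncard_insert_le (v 1) ({v 0 * v 1} : Set G)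
    rw [Set.ncard_singleton] at h6
    omega
  have h3 : V i = zc T := Subgroup.eq_of_le_of_card_ge h1 (by rw [D.four i]; exact h2)
  -- an element of `P i` acts on `V i ∋ v j`, fixes `v j`; `T` centralises `V i`
  have hvj : v j ∈ V i := by rw [h3]; exact D.v_mem_zc j
  by_cases hvv : v j = v i
  · exact D.mv i (hvv ▸ D.PC i j hij)
  apply D.mv i
  -- the stabiliser of `v i` in `P i` contains `T`; index a power of 2
  have hfix2 : ∀ p ∈ P i, p * v i * p⁻¹ = v i ∨ p * v i * p⁻¹ = v j * v i := by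
    intro p hp
    have h4 : p * v i * p⁻¹ ∈ V i := (mem_normalizer_iff.1 (D.PN i i hp) _).1 (D.mem i)
    have h5 : p * v i * p⁻¹ ≠ 1 := fun h => D.ne i (conj_eq_one_iff.1 h)
    have h6 : p * v j * p⁻¹ = v j := by
      rw [mem_centralizer_singleton_iff.1 (D.PC i j hij hp)]; group
    rcases D.eq_of_V (D.mem i) (D.ne i) hvj (D.ne j) (Ne.symm hvv) h4 h5 with h | h | h
    · exact Or.inl h
    · exfalso
      apply hvv
      rw [← h6] at h
      have h7 := congrArg (fun t => p⁻¹ * t * p) h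
      simp only [mul_assoc, inv_mul_cancel_left] at h7
      have h8 : v i = v j := by simpa using h7
      exact h8.symm
    · right; rw [h, D.V_comm (D.mem i) hvj]
  have hsyl : Syl T (P i) := ⟨D.T_le_P i, D.T_isPGroup, fun Q hQ hQ2 hTQ =>
    (D.syl j).2.2 Q (hQ.trans (D.PC i j hij)) hQ2 hTQ⟩
  have hsq : ∀ p ∈ P i, ∀ w ∈ V i, p * (p * w * p⁻¹) * p⁻¹ = w := by
    intro p hp w hw
    have h6 : p * v j * p⁻¹ = v j := by
      rw [mem_centralizer_singleton_iff.1 (D.PC i j hij hp)]; group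
    have h7 : p * (p * v i * p⁻¹) * p⁻¹ = v i := by
      rcases hfix2 p hp with h | h
      · rw [h, h]
      · rw [h]
        have e : p * (v j * v i) * p⁻¹ = (p * v j * p⁻¹) * (p * v i * p⁻¹) := by group
        rw [e, h6, h, ← mul_assoc, D.v_sq, one_mul]
    by_cases hw1 : w = 1
    · rw [hw1]; group
    rcases D.eq_of_V (D.mem i) (D.ne i) hvj (D.ne j) (Ne.symm hvv) hw hw1 with h | h | h
    · rw [h]; exact h7
    · rw [h, h6, h6]
    · rw [h]
      have e : p * (p * (v i * v j) * p⁻¹) * p⁻¹ = (p * (p * v i * p⁻¹) * p⁻¹) * (p * (p * v j * p⁻¹) * p⁻¹) := by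
        group
      rw [e, h7, h6, h6]
  -- every element of `P i` is, modulo `C(V i)`, in a 2-group
  intro p hp
  have hnor : ((centralizer (V i : Set G)).subgroupOf (P i)).Normal := by
    refine ⟨fun x hx g => ?_⟩
    rw [mem_subgroupOf] at hx ⊢
    rw [mem_centralizer_iff]
    intro y hy
    have h8 : (g : G)⁻¹ * y * g ∈ V i := by
      have := (mem_normalizer_iff.1 (inv_mem (D.PN i i g.2)) y).1 hy
      rwa [inv_inv] at this
    have h9 := mem_centralizer_iff.1 hx _ h8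
    push_cast
    calc y * ((g : G) * x * (g : G)⁻¹) = g * (((g : G)⁻¹ * y * g) * x) * (g : G)⁻¹ := by group
      _ = g * (x * ((g : G)⁻¹ * y * g)) * (g : G)⁻¹ := by rw [h9]
      _ = g * x * (g : G)⁻¹ * y := by group
  -- index of `C(V i) ∩ P i` in `P i` is a power of 2; `T ≤ C(V i)` is Sylow
  set C : Subgroup (P i) := (centralizer (V i : Set G)).subgroupOf (P i) with hC
  have hq : IsPGroup 2 (↥(P i) ⧸ C) := by
    intro x
    obtain ⟨y, rfl⟩ := QuotientGroup.mk_surjective x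
    refine ⟨1, ?_⟩
    rw [pow_one, pow_two, ← QuotientGroup.mk_mul, QuotientGroup.eq_one_iff]
    rw [hC, mem_subgroupOf, mem_centralizer_iff]
    intro w hw
    have h8 := hsq y y.2 w hw
    push_cast
    calc w * ((y : G) * y) = ((y : G) * (y * w * (y : G)⁻¹) * (y : G)⁻¹) * (y * y) := by rw [h8]
      _ = y * y * w := by group
  have hTC : T.subgroupOf (P i) ≤ C := by
    intro t ht
    rw [mem_subgroupOf] at ht
    rw [hC, mem_subgroupOf, mem_centralizer_iff]
    intro w hw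
    exact ((mem_zc.1 (h1 hw)).2.1 _ ht).symm
  have hidx : C.index = 1 := by
    obtain ⟨n, hn⟩ := IsPGroup.iff_card.1 hq
    have h8 : C.index = 2 ^ n := hn
    rcases Nat.eq_zero_or_pos n with hn0 | hn0
    · rw [h8, hn0, pow_zero]
    · exfalso
      have h9 : ¬ 2 ∣ T.relIndex (P i) := Cfsg.Agent.ZN.ChoiceSit.syl_not_dvd hsyl
      apply h9
      have h10 : C.index ∣ T.relIndex (P i) := index_dvd_of_le hTC
      exact ((dvd_pow_self 2 hn0.ne').trans (h8 ▸ dvd_rfl)).trans h10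
  have htop : C = ⊤ := index_eq_one.1 hidx
  have hpC : (⟨p, hp⟩ : P i) ∈ C := by rw [htop]; exact mem_top _
  have h8 := mem_centralizer_iff.1 ((mem_subgroupOf.1 hpC : (p : G) ∈ centralizer (V i : Set G))) _ (D.mem i)
  rw [mem_centralizer_singleton_iff]
  exact h8.symm

/-- `T` moves the other elements of `V i` -/
theorem exists_swap {i : Fin 2} {x : G} (hx : x ∈ V i) (hx1 : x ≠ 1) (hxv : x ≠ v i) :
    ∃ t ∈ T, t * x * t⁻¹ = x * v i := by
  obtain ⟨t, ht, hne⟩ : ∃ t ∈ T, t * x * t⁻¹ ≠ x := by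
    by_contra hcon
    push Not at hcon
    exact hxv (D.eq_v hx hx1 hcon)
  refine ⟨t, ht, ?_⟩
  have h1 : t * x * t⁻¹ ∈ V i := (mem_normalizer_iff.1 (D.T_le_N i ht) x).1 hx
  have h2 : t * x * t⁻¹ ≠ 1 := fun h => hx1 (conj_eq_one_iff.1 h)
  rcases D.eq_of_V hx hx1 (D.mem i) (D.ne i) hxv h1 h2 with h | h | h
  · exact absurd h hne
  · exfalso
    apply hxv
    have h3 := D.cen i (T.inv_mem ht)
    rw [← h, inv_inv] at h3
    have e : t⁻¹ * (t * x * t⁻¹) * t = x := by group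
    rw [e] at h3
    rw [h3, h]
  · exact h

/-- the subgroups of `V i` containing `v i` -/
theorem le_or {i : Fin 2} {X : Subgroup G} (hv : v i ∈ X) : V i ≤ X ∨ ∀ x ∈ V i ⊓ X, x = 1 ∨ x = v i := by
  by_cases hc : ∀ x ∈ V i ⊓ X, x = 1 ∨ x = v i
  · exact Or.inr hc
  left
  push Not at hc
  obtain ⟨x, ⟨hxU, hxX⟩, hx1, hxv⟩ := hc
  intro y hy
  by_cases hy1 : y = 1
  · rw [hy1]; exact one_mem X
  rcases D.eq_of_V (D.mem i) (D.ne i) hxU hx1 (Ne.symm hxv) hy hy1 with h | h | h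
  · rw [h]; exact hv
  · rw [h]; exact hxX
  · rw [h]; exact mul_mem hv hxX

/-- a subgroup `R ≥ T` normalising `V i` and moving `v i` is transitive on `V i#` -/
theorem trans_of {i : Fin 2} {R : Subgroup G} (hT : T ≤ R) (hN : R ≤ normalizer (V i : Set G))
    (hm : ¬ R ≤ CC v i) {x : G} (hx : x ∈ V i) (hx1 : x ≠ 1) : ∃ r ∈ R, r * v i * r⁻¹ = x := by
  by_cases hxv : x = v i
  · exact ⟨1, one_mem _, by rw [hxv]; group⟩
  obtain ⟨r, hr, hrv⟩ : ∃ r ∈ R, r * v i * r⁻¹ ≠ v i := by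
    by_contra hcon
    push Not at hcon
    apply hm
    intro r hr
    rw [mem_centralizer_singleton_iff]
    calc r * v i = r * v i * r⁻¹ * r := by group
      _ = v i * r := by rw [hcon r hr]
  have h1 : r * v i * r⁻¹ ∈ V i := (mem_normalizer_iff.1 (hN hr) _).1 (D.mem i)
  have h2 : r * v i * r⁻¹ ≠ 1 := fun h => D.ne i (conj_eq_one_iff.1 h)
  by_cases hrx : r * v i * r⁻¹ = x
  · exact ⟨r, hr, hrx⟩
  obtain ⟨t, ht, hty⟩ := D.exists_swap h1 h2 hrv
  refine ⟨t * r, mul_mem (hT ht) hr, ?_⟩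
  have e : t * r * v i * (t * r)⁻¹ = t * (r * v i * r⁻¹) * t⁻¹ := by group
  rw [e, hty]
  rcases D.eq_of_V h1 h2 (D.mem i) (D.ne i) hrv hx hx1 with h | h | h
  · exact absurd h.symm hrx
  · exact absurd h hxv
  · exact h.symm

/-- an element of `P i` centralising `V j` maps `v i` to `x` -/
theorem tr {i j : Fin 2} (hij : i ≠ j) {x : G} (hx : x ∈ V i) (hx1 : x ≠ 1) :
    ∃ l ∈ P i, l ∈ centralizer (V j : Set G) ∧ l * v i * l⁻¹ = x := by
  obtain ⟨p, hp, hpx⟩ := D.trans_of (D.T_le_P i) (D.PN i i) (D.mv i) hx hx1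
  have hpj : p * v j * p⁻¹ = v j := by
    rw [mem_centralizer_singleton_iff.1 (D.PC i j hij hp)]; group
  obtain ⟨y, hy, hy1, hyv⟩ := D.exists_ne_v j
  have key : ∀ q ∈ P i, q * v j * q⁻¹ = v j → q * y * q⁻¹ = y → q ∈ centralizer (V j : Set G) := by
    intro q _ h1 h2
    rw [mem_centralizer_iff]
    intro w hw
    have h1' : q * v j = v j * q := by
      calc q * v j = q * v j * q⁻¹ * q := by group
        _ = v j * q := by rw [h1]
    have h2' : q * y = y * q := by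
      calc q * y = q * y * q⁻¹ * q := by group
        _ = y * q := by rw [h2]
    by_cases hw1 : w = 1
    · rw [hw1]; group
    rcases D.eq_of_V (D.mem j) (D.ne j) hy hy1 (Ne.symm hyv) hw hw1 with h | h | h
    · rw [h]; exact h1'.symm
    · rw [h]; exact h2'.symm
    · rw [h]
      calc v j * y * q = v j * (q * y) := by rw [h2']; group
        _ = q * (v j * y) := by rw [← mul_assoc, ← h1']; group
  have h1 : p * y * p⁻¹ ∈ V j := (mem_normalizer_iff.1 (D.PN i j hp) y).1 hy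
  have h2 : p * y * p⁻¹ ≠ 1 := fun h => hy1 (conj_eq_one_iff.1 h)
  rcases D.eq_of_V (D.mem j) (D.ne j) hy hy1 (Ne.symm hyv) h1 h2 with h | h | h
  · exfalso
    apply hyv
    rw [← hpj] at h
    have h3 := congrArg (fun t => p⁻¹ * t * p) h
    simpa [mul_assoc] using h3
  · exact ⟨p, hp, key p hp hpj h, hpx⟩
  · obtain ⟨t, ht, hty⟩ := D.exists_swap hy hy1 hyv
    have htj := D.cen j ht
    refine ⟨p * t, mul_mem hp (D.T_le_P i ht), key _ (mul_mem hp (D.T_le_P i ht)) ?_ ?_, ?_⟩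
    · have e : p * t * v j * (p * t)⁻¹ = p * (t * v j * t⁻¹) * p⁻¹ := by group
      rw [e, htj, hpj]
    · have e : p * t * y * (p * t)⁻¹ = p * (t * y * t⁻¹) * p⁻¹ := by group
      rw [e, hty]
      have e2 : p * (y * v j) * p⁻¹ = (p * y * p⁻¹) * (p * v j * p⁻¹) := by group
      rw [e2, h, hpj, D.V_comm (D.mem j) hy, mul_assoc, D.v_sq, mul_one]
    · have e : p * t * v i * (p * t)⁻¹ = p * (t * v i * t⁻¹) * p⁻¹ := by group
      rw [e, D.cen i ht, hpx]

/-- `T`-minimal `R ≤ C_j` moving `v i`: `P i ≤ R D` -/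
theorem P_le_of {i j : Fin 2} (hij : i ≠ j) {R : Subgroup G} (hT : T ≤ R) (hRC : R ≤ CC v j)
    (hN : R ≤ normalizer (V i : Set G)) (hm : ¬ R ≤ CC v i) {Q : Subgroup G} (hQ : Q ≤ CC v j)
    (hQN : Q ≤ normalizer (V i : Set G)) {q : G} (hq : q ∈ Q) :
    ∃ r ∈ R, ∃ d ∈ centralizer (zc T : Set G), q = r * d := by
  have h1 : q * v i * q⁻¹ ∈ V i := (mem_normalizer_iff.1 (hQN hq) _).1 (D.mem i)
  have h2 : q * v i * q⁻¹ ≠ 1 := fun h => D.ne i (conj_eq_one_iff.1 h)
  obtain ⟨r, hr, hrq⟩ := D.trans_of hT hN hm h1 h2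
  refine ⟨r, hr, r⁻¹ * q, (D.mem_D_iff hij).2 ⟨?_, mul_mem (inv_mem (hRC hr)) (hQ hq)⟩, by group⟩
  rw [mem_centralizer_singleton_iff]
  have h3 : q * v i = r * v i * r⁻¹ * q := by rw [hrq]; group
  calc r⁻¹ * q * v i = r⁻¹ * (q * v i) := by group
    _ = v i * (r⁻¹ * q) := by rw [h3]; group

/-- `N_{C_j}(T) ≤ D` -/
theorem norm_T_le (j : Fin 2) : CC v j ⊓ normalizer (T : Set G) ≤ centralizer (zc T : Set G) := by
  rintro n ⟨hn, hnT⟩
  obtain ⟨i, hij⟩ : ∃ i : Fin 2, i ≠ j := ⟨j + 1, (ne_add_one j).symm⟩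
  refine (D.mem_D_iff hij).2 ⟨?_, hn⟩
  -- `n` permutes `v i`, `v i v j`; `n²` fixes `v i`
  have hj : n * v j * n⁻¹ = v j := by
    rw [mem_centralizer_singleton_iff.1 hn]; group
  have hnz : n ∈ normalizer (zc T : Set G) := normalizer_le_normalizer_zc _ hnT
  have hcases : ∀ x ∈ zc T, x ≠ 1 → x ≠ v j → x = v i ∨ x = v i * v j := by
    intro x hx h1 h2
    rcases (D.zT x).1 hx with h | h | h | h
    · exact absurd h h1
    · rcases Fin.exists_fin_two.1 ⟨j, rfl⟩ with h' | h'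
      · exact absurd (h.trans (by rw [h'])) h2
      · have hi : i = 0 := by
          rw [h'] at hij
          revert hij; revert i; decide
        left; rw [h, hi]
    · rcases Fin.exists_fin_two.1 ⟨j, rfl⟩ with h' | h'
      · have hi : i = 1 := by
          rw [h'] at hij
          revert hij; revert i; decide
        left; rw [h, hi]
      · exact absurd (h.trans (by rw [h'])) h2
    · right
      rcases Fin.exists_fin_two.1 ⟨j, rfl⟩ with h' | h'
      · have hi : i = 1 := by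
          rw [h'] at hij
          revert hij; revert i; decide
        rw [h, hi, h']
        exact (D.comm_v 1 (D.v_mem_T 0))
      · have hi : i = 0 := by
          rw [h'] at hij
          revert hij; revert i; decide
        rw [h, hi, h']
  have h1 : n * v i * n⁻¹ ∈ zc T := (mem_normalizer_iff.1 hnz _).1 (D.v_mem_zc i)
  by_contra hcon
  have hni : n * v i * n⁻¹ ≠ v i := by
    intro h
    apply hcon
    rw [mem_centralizer_singleton_iff]
    calc n * v i = n * v i * n⁻¹ * n := by group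
      _ = v i * n := by rw [h]
  have hvij : v i ≠ v j := by
    intro h
    exact hni (by rw [h]; exact hj)
  have h2 : n * v i * n⁻¹ = v i * v j := by
    refine (hcases _ h1 (fun h => D.ne i (conj_eq_one_iff.1 h)) fun h => hvij ?_).resolve_left hni
    rw [← hj] at h
    have h3 := congrArg (fun t => n⁻¹ * t * n) h
    simpa [mul_assoc] using h3
  -- a 2-element of `⟨n⟩` does the same
  have hodd : ∃ k : ℕ, Odd k ∧ IsPGroup 2 (zpowers (n ^ k)) := by
    obtain ⟨a, k, hk, hak⟩ := Nat.exists_eq_two_pow_mul_odd (orderOf_pos n).ne'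
    refine ⟨k, hk, ?_⟩
    refine IsPGroup.of_card (n := a) ?_
    rw [Nat.card_zpowers, orderOf_pow_of_dvd hk.pos.ne' ⟨2 ^ a, by rw [hak, mul_comm]⟩, hak]
    exact Nat.mul_div_cancel _ hk.pos
  obtain ⟨k, hk, hk2⟩ := hodd
  have hsq : n * (n * v i * n⁻¹) * n⁻¹ = v i := by
    rw [h2]
    have e : n * (v i * v j) * n⁻¹ = (n * v i * n⁻¹) * (n * v j * n⁻¹) := by group
    rw [e, hj, h2, mul_assoc, D.v_sq, mul_one]
  have hpow : ∀ m : ℕ, n ^ (2 * m) * v i * (n ^ (2 * m))⁻¹ = v i := by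
    intro m
    induction m with
    | zero => simp
    | succ m ih =>
      have e : n ^ (2 * (m + 1)) * v i * (n ^ (2 * (m + 1)))⁻¹ =
          n * (n * (n ^ (2 * m) * v i * (n ^ (2 * m))⁻¹) * n⁻¹) * n⁻¹ := by
        have : n ^ (2 * (m + 1)) = n * n * n ^ (2 * m) := by
          rw [mul_add, mul_one, add_comm, pow_add, pow_two]
        rw [this]; group
      rw [e, ih, hsq]
  obtain ⟨m, hm⟩ := hk
  have h4 : n ^ k * v i * (n ^ k)⁻¹ = v i * v j := by
    have e : n ^ k * v i * (n ^ k)⁻¹ = n * (n ^ (2 * m) * v i * (n ^ (2 * m))⁻¹) * n⁻¹ := by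
      rw [hm, add_comm, pow_add, pow_one]; group
    rw [e, hpow, h2]
  have h5 : zpowers (n ^ k) ≤ T := by
    have hle : zpowers (n ^ k) ≤ CC v j ⊓ normalizer (T : Set G) := by
      rw [zpowers_le]
      exact pow_mem (mem_inf.2 ⟨hn, hnT⟩) k
    have h6 : IsPGroup 2 (T ⊔ zpowers (n ^ k) : Subgroup G) :=
      IsPGroup.to_sup_of_normal_left' D.T_isPGroup hk2 (hle.trans inf_le_right)
    rw [← (D.syl j).2.2 _ (sup_le (D.T_le_C j) (hle.trans inf_le_left)) h6 le_sup_left]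
    exact le_sup_right
  have h6 := D.cen i (h5 (mem_zpowers _))
  rw [h4] at h6
  exact D.ne j (by simpa using h6)

/-- **`C_j = ⟨P i, D⟩`** -/
theorem gen {i j : Fin 2} (hij : i ≠ j) : CC v j ≤ P i ⊔ centralizer (zc T : Set G) := by
  refine Cfsg.Agent.MinSimple.MinParabolic.le_of_forall (D.T_le_C j) ?_ ?_
  · exact (D.norm_T_le j).trans le_sup_right
  · intro R hR hRC
    by_cases hm : R ≤ CC v i
    · intro r hr
      exact mem_sup_right ((D.mem_D_iff hij).2 ⟨hm hr, hRC hr⟩)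
    · intro r hr
      obtain ⟨p, hp, d, hd, e⟩ := D.P_le_of hij (D.T_le_P i) (D.PC i j hij) (D.PN i i) (D.mv i) hRC
        (D.uni i j hij R hR hRC hm) hr
      rw [e]
      exact mul_mem (mem_sup_left hp) (mem_sup_right hd)

/-! ### `V j ≤ Z(Q_i)`, `V i ≤ Q_i`, the groups `W_i N_i` -/

theorem conj_QQ {i : Fin 2} {c : G} (hc : c ∈ CC v i) : MulAut.conj c • QQ v i = QQ v i :=
  conj_eq_of_mem (le_normalizer_o2 _ hc)

theorem conj_CC {i : Fin 2} {c : G} (hc : c ∈ CC v i) : MulAut.conj c • CC v i = CC v i :=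
  NoFF.Basic.conj_self hc

/-- HALF LEMMA: `V j ≤ Z(O₂(C_i))`. -/
theorem half {i j : Fin 2} (hij : i ≠ j) : V j ≤ QQ v i ∧ QQ v i ≤ centralizer (V j : Set G) := by
  have h1 : ∀ x ∈ V j, x ∈ QQ v i ∧ ∀ q ∈ QQ v i, q * x = x * q := by
    intro x hx
    by_cases hx1 : x = 1
    · rw [hx1]; exact ⟨one_mem _, fun q _ => by group⟩
    obtain ⟨l, hl, -, hlx⟩ := D.tr hij.symm hx hx1
    have hlC : l ∈ CC v i := D.PC j i hij.symm hl
    have hlQ := D.conj_QQ hlC
    constructor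
    · rw [← hlQ, mem_conj, ← hlx]
      have e : l⁻¹ * (l * v j * l⁻¹) * l = v j := by group
      rw [e]
      exact D.v_mem_Q' i j
    · intro q hq
      rw [← hlQ, mem_conj] at hq
      have h2 := D.comm_v j (D.Q_le_T i hq)
      rw [← hlx]
      calc q * (l * v j * l⁻¹) = l * ((l⁻¹ * q * l) * v j) * l⁻¹ := by group
        _ = l * (v j * (l⁻¹ * q * l)) * l⁻¹ := by rw [h2]
        _ = l * v j * l⁻¹ * q := by group
  exact ⟨fun x hx => (h1 x hx).1, fun q hq => mem_centralizer_iff.2 fun x hx => ((h1 x hx).2 q hq).symm⟩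

/-- `V i ≤ O₂(C_i)` -/
theorem U_le_Q (i : Fin 2) : V i ≤ QQ v i := by
  rcases D.le_or (D.v_mem_Q i) with h | h
  · exact h
  have hUC : V i ≤ centralizer ({v i} : Set G) := (D.V_le_T i).trans (D.T_le_C i)
  refine le_o2_of_commutator (Z₀ := zpowers (v i)) (D.isChar2 i) ?_ ?_ hUC ?_
  · intro c hc z hz
    obtain ⟨n, rfl⟩ := mem_zpowers_iff.1 hz
    have h1 : Commute c (v i) := mem_centralizer_singleton_iff.1 hc
    exact (h1.zpow_right n).eq
  · intro z hz
    obtain ⟨n, rfl⟩ := mem_zpowers_iff.1 hz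
    rw [← zpow_add, ← two_mul, zpow_mul]
    have : v i ^ (2 : ℤ) = 1 := by
      have := D.v_sq' i
      exact_mod_cast this
    rw [this, one_zpow]
  · intro a ha q hq
    have h1 : a * q * a⁻¹ ∈ o2 (centralizer ({v i} : Set G)) :=
      (mem_normalizer_iff.1 (le_normalizer_o2 _ (hUC ha)) q).1 hq
    have h2 : q * a⁻¹ * q⁻¹ ∈ V i :=
      (mem_normalizer_iff.1 (D.T_le_N i (D.Q_le_T i hq)) _).1 (inv_mem ha)
    have h3 : a * q * a⁻¹ * q⁻¹ ∈ V i ⊓ o2 (centralizer ({v i} : Set G)) := by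
      refine ⟨?_, (o2 (centralizer ({v i} : Set G))).mul_mem h1 (inv_mem hq)⟩
      have e : a * q * a⁻¹ * q⁻¹ = a * (q * a⁻¹ * q⁻¹) := by group
      rw [e]
      exact mul_mem ha h2
    rcases h _ h3 with h4 | h4
    · rw [h4]; exact one_mem _
    · rw [h4]; exact mem_zpowers _

theorem Q_le_conj_T {i : Fin 2} {c : G} (hc : c ∈ CC v i) : QQ v i ≤ MulAut.conj c • T := by
  rw [← D.conj_QQ hc]
  exact conj_le_iff.2 (D.Q_le_T i)

theorem W_le_Q (i : Fin 2) : WU V v i ≤ QQ v i :=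
  V_le fun _ hc => by
    rw [← D.conj_QQ hc]
    exact conj_le_iff.2 (D.U_le_Q i)

theorem N_le_Q (i : Fin 2) : NU V v i ≤ QQ v i :=
  V_le fun _ hc => by
    rw [← D.conj_QQ hc]
    exact conj_le_iff.2 (D.half (ne_add_one i)).1

theorem N_le_cent_Q (i : Fin 2) : NU V v i ≤ centralizer (QQ v i : Set G) :=
  V_le fun c hc => by
    have h1 := conj_le_centralizer (g := c) (comm_symm (D.half (ne_add_one i)).2)
    rwa [D.conj_QQ hc] at h1

/-- `N_i ≤ Z(Q_i)` -/
theorem Q_le_cent_N (i : Fin 2) : QQ v i ≤ centralizer (NU V v i : Set G) := comm_symm (D.N_le_cent_Q i)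

theorem N_comm (i : Fin 2) : NU V v i ≤ centralizer (NU V v i : Set G) := (D.N_le_Q i).trans (D.Q_le_cent_N i)

/-- every conjugate of `Q_i`'s elements normalises the lines on `v i` -/
theorem Q_le_N_line (i : Fin 2) {c : G} (hc : c ∈ CC v i) (j : Fin 2) :
    QQ v i ≤ normalizer ((MulAut.conj c • V j : Subgroup G) : Set G) :=
  (D.Q_le_conj_T hc).trans (conj_le_normalizer (D.T_le_N j))

theorem W_comm (i : Fin 2) : WU V v i ≤ centralizer (WU V v i : Set G) := by
  have key : ∀ c ∈ CC v i, ∀ d ∈ CC v i, MulAut.conj c • V i ≤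
      normalizer ((MulAut.conj d • V i : Subgroup G) : Set G) := by
    intro c hc d hd
    refine le_trans ?_ (D.Q_le_N_line i hd i)
    exact (conj_le_iff.2 (D.U_le_Q i)).trans (D.conj_QQ hc).le
  exact V_le fun c hc => comm_symm (V_le fun d hd => comm_symm (D.noff i i c d (key c hc d hd) (key d hd c hc)))

/-- `W_i N_i` is abelian. -/
theorem WN_comm (i : Fin 2) : WU V v i ⊔ NU V v i ≤ centralizer ((WU V v i ⊔ NU V v i : Subgroup G) : Set G) := by
  have h1 : NU V v i ≤ centralizer (WU V v i : Set G) := comm_symm ((D.W_le_Q i).trans (D.Q_le_cent_N i))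
  refine sup_le (comm_symm (sup_le (D.W_comm i) h1)) (comm_symm (sup_le (comm_symm h1) (D.N_comm i)))

/-- `W_i N_i` is elementary abelian. -/
theorem WN_sq (i : Fin 2) : ∀ x ∈ WU V v i ⊔ NU V v i, x ^ 2 = 1 := by
  refine NoFF.Lines.Geo.sq_of_comm (D.WN_comm i) (ι := Fin 2 × CC v i)
    (B := fun j => MulAut.conj (j.2 : G) • V j.1) (fun j => ?_) (sup_le ?_ ?_)
    fun j => NoFF.Lines.Geo.conj_sq (D.sqV j.1) _
  · rcases eq_or_ne i j.1 with h | h
    · rw [← h]
      exact le_sup_of_le_left (Z_le_V j.2.2)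
    · rw [eq_add_one h]
      exact le_sup_of_le_right (Z_le_V j.2.2)
  · exact V_le fun c hc => le_iSup (fun j : Fin 2 × CC v i => MulAut.conj (j.2 : G) • V j.1) (i, ⟨c, hc⟩)
  · exact V_le fun c hc => le_iSup (fun j : Fin 2 × CC v i => MulAut.conj (j.2 : G) • V j.1) (i + 1, ⟨c, hc⟩)

theorem N_sq (i : Fin 2) : ∀ x ∈ NU V v i, x ^ 2 = 1 := fun x hx => D.WN_sq i x (mem_sup_right hx)

theorem W_sq (i : Fin 2) : ∀ x ∈ WU V v i, x ^ 2 = 1 := fun x hx => D.WN_sq i x (mem_sup_left hx)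

theorem C_le_N_W (i : Fin 2) : CC v i ≤ normalizer (WU V v i : Set G) := le_normalizer_V _ _

theorem C_le_N_N (i : Fin 2) : CC v i ≤ normalizer (NU V v i : Set G) := le_normalizer_V _ _

theorem C_le_N_E (i : Fin 2) : CC v i ≤ normalizer (EU T v i : Set G) := le_normalizer_V _ _

theorem V_le_N (i : Fin 2) : V (i + 1) ≤ NU V v i := le_V _ _

theorem V_le_W (i : Fin 2) : V i ≤ WU V v i := le_V _ _

theorem mem_N (i : Fin 2) : v (i + 1) ∈ NU V v i := D.V_le_N i (D.mem _)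

theorem N_le_C (i j : Fin 2) : NU V v i ≤ CC v j := (D.N_le_Q i).trans ((D.Q_le_T i).trans (D.T_le_C j))

theorem W_le_C (i j : Fin 2) : WU V v i ≤ CC v j := (D.W_le_Q i).trans ((D.Q_le_T i).trans (D.T_le_C j))

theorem N_le_T (i : Fin 2) : NU V v i ≤ T := (D.N_le_Q i).trans (D.Q_le_T i)

theorem W_le_T (i : Fin 2) : WU V v i ≤ T := (D.W_le_Q i).trans (D.Q_le_T i)

/-- `[V i, Q_i] ≤ ⟨v i⟩` -/
theorem comm_VQ (i : Fin 2) {x q : G} (hx : x ∈ V i) (hq : q ∈ T) : x * q * x⁻¹ * q⁻¹ ∈ zpowers (v i) := by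
  by_cases hx1 : x = 1
  · rw [hx1]; simp
  have h1 : q * x⁻¹ * q⁻¹ ∈ V i := (mem_normalizer_iff.1 (D.T_le_N i hq) _).1 (inv_mem hx)
  have h2 : x * q * x⁻¹ * q⁻¹ ∈ V i := by
    have e : x * q * x⁻¹ * q⁻¹ = x * (q * x⁻¹ * q⁻¹) := by group
    rw [e]
    exact mul_mem hx h1
  by_cases hxv : x = v i
  · rw [hxv]
    have e : v i * q * (v i)⁻¹ * q⁻¹ = 1 := by rw [← D.comm_v i hq]; group
    rw [e]
    exact one_mem _
  have hxi : x⁻¹ = x := inv_eq_of_mul_eq_one_left (by rw [← pow_two]; exact D.sqV i x hx)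
  rw [hxi] at h1 h2 ⊢
  by_cases h3 : q * x * q⁻¹ = x
  · have e : x * q * x * q⁻¹ = x * (q * x * q⁻¹) := by group
    rw [e, h3, ← pow_two, D.sqV i x hx]
    exact one_mem _
  · have h4 : q * x * q⁻¹ ≠ 1 := fun h => hx1 (conj_eq_one_iff.1 h)
    have h5 : q * x * q⁻¹ ≠ v i := by
      intro h
      apply hxv
      have h6 := D.cen i (T.inv_mem hq)
      rw [← h, inv_inv] at h6
      have e : q⁻¹ * (q * x * q⁻¹) * q = x := by group
      rw [e] at h6
      rw [h6, h]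
    rcases D.eq_of_V hx hx1 (D.mem i) (D.ne i) hxv h1 h4 with h | h | h
    · exact absurd h h3
    · exact absurd h h5
    · have e : x * q * x * q⁻¹ = x * (q * x * q⁻¹) := by group
      rw [e, h, ← mul_assoc, ← pow_two, D.sqV i x hx, one_mul]
      exact mem_zpowers _

/-! ### (COMP), LEMMA 0 -/

/-- **(COMP)** (STEP F): `C_i ≠ D N(V i)`. -/
theorem comp (i : Fin 2) (h : ∀ c ∈ CC v i, ∃ d ∈ centralizer (zc T : Set G), ∃ n ∈ normalizer (V i : Set G),
    c = d * n) : False := by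
  have hij := ne_add_one i
  have hji : i + 1 ≠ i := hij.symm
  set C₂ : Subgroup G := CC v (i + 1) with hC2
  set N : Subgroup G := NoFF.Basic.V (zpowers (v i)) C₂ with hN
  have hDC : centralizer (zc T : Set G) ≤ C₂ := D.cent_zc_le _
  -- `C_i m ⊆ C₂ C_i` for `m ∈ P i`
  have hM : ∀ m ∈ P i, ∀ c ∈ CC v i, ∃ x ∈ C₂, ∃ c' ∈ CC v i, c * m = x * c' := by
    intro m hm c hc
    obtain ⟨d, hd, n, hn, rfl⟩ := h c hc
    have hw : n * m * v i * (n * m)⁻¹ ∈ V i := by
      have h1 : m * v i * m⁻¹ ∈ V i := (mem_normalizer_iff.1 (D.PN i i hm) _).1 (D.mem i)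
      have h2 := (mem_normalizer_iff.1 hn _).1 h1
      have e : n * m * v i * (n * m)⁻¹ = n * (m * v i * m⁻¹) * n⁻¹ := by group
      rwa [e]
    obtain ⟨l, hl, -, hlw⟩ := D.tr hij hw fun h => D.ne i (conj_eq_one_iff.1 h)
    refine ⟨d * l, mul_mem (hDC hd) (D.PC i (i + 1) hij hl), l⁻¹ * n * m, ?_, by group⟩
    rw [mem_centralizer_singleton_iff]
    calc l⁻¹ * n * m * v i = l⁻¹ * (n * m * v i * (n * m)⁻¹) * (n * m) := by group
      _ = l⁻¹ * (l * v i * l⁻¹) * (n * m) := by rw [hlw]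
      _ = v i * (l⁻¹ * n * m) := by group
  have hA : ∀ y ∈ P i ⊔ centralizer (zc T : Set G), ∀ c ∈ CC v i, ∃ x ∈ C₂, ∃ c' ∈ CC v i, c * y = x * c' := by
    intro y hy
    rw [← closure_eq (P i), ← closure_eq (centralizer (zc T : Set G)), ← Subgroup.closure_union] at hy
    induction hy using closure_induction'' with
    | mem x hx =>
      intro c hc
      rcases hx with hx | hx
      · exact hM x hx c hc
      · exact ⟨1, one_mem _, c * x, mul_mem hc (D.cent_zc_le i hx), by group⟩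
    | inv_mem x hx =>
      intro c hc
      rcases hx with hx | hx
      · exact hM x⁻¹ (inv_mem hx) c hc
      · exact ⟨1, one_mem _, c * x⁻¹, mul_mem hc (D.cent_zc_le i (inv_mem hx)), by group⟩
    | one => exact fun c hc => ⟨1, one_mem _, c, hc, by group⟩
    | mul x y _ _ h1 h2 =>
      intro c hc
      obtain ⟨x₁, hx₁, c₁, hc₁, e₁⟩ := h1 c hc
      obtain ⟨x₂, hx₂, c₂, hc₂, e₂⟩ := h2 c₁ hc₁
      refine ⟨x₁ * x₂, mul_mem hx₁ hx₂, c₂, hc₂, ?_⟩
      calc c * (x * y) = c * x * y := by group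
        _ = x₁ * (c₁ * y) := by rw [e₁]; group
        _ = x₁ * x₂ * c₂ := by rw [e₂]; group
  have hz : ∀ c ∈ CC v i, MulAut.conj c • zpowers (v i) = zpowers (v i) := by
    intro c hc
    apply conj_eq_of_mem
    apply centralizer_le_normalizer
    rw [mem_centralizer_iff]
    rintro _ ⟨n, rfl⟩
    have h1 : Commute c (v i) := mem_centralizer_singleton_iff.1 hc
    exact (h1.zpow_right n).eq.symm
  have key : ∀ c ∈ CC v i, MulAut.conj c • N ≤ N := by
    intro c hc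
    have h0 : N ≤ MulAut.conj c⁻¹ • N := by
      refine V_le fun x hx => ?_
      obtain ⟨x', hx', c', hc', e⟩ := hA x (D.gen hij hx) c hc
      have h1 : MulAut.conj c • (MulAut.conj x • zpowers (v i)) ≤ N := by
        rw [conj_conj, e, ← conj_conj, hz c' hc']
        exact Z_le_V hx'
      have h2 := conj_le_iff (g := c⁻¹) |>.2 h1
      rwa [conj_conj, inv_mul_cancel, map_one, one_smul] at h2
    have h2 := conj_le_iff (g := c) |>.2 h0
    rwa [conj_conj, mul_inv_cancel, map_one, one_smul] at h2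
  have hCN : CC v i ≤ normalizer (N : Set G) := by
    intro c hc
    rw [mem_normalizer_iff]
    intro x
    constructor
    · intro hx
      apply key c hc
      rw [mem_conj]
      have e : c⁻¹ * (c * x * c⁻¹) * c = x := by group
      rwa [e]
    · intro hx
      have h1 := key c⁻¹ (inv_mem hc)
      apply h1
      rw [mem_conj, inv_inv]
      exact hx
  have hC2N : C₂ ≤ normalizer (N : Set G) := le_normalizer_V _ _
  have h3 : N ≤ T := by
    refine le_trans (V_le fun c hc => ?_) (D.Q_le_T (i + 1))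
    rw [← D.conj_QQ hc]
    refine conj_le_iff.2 ?_
    rw [zpowers_le]
    exact D.v_mem_Q' _ _
  have h4 : N = ⊥ := by
    refine D.nonloc _ (D.T_isPGroup.to_le h3) ?_ ?_
    · rcases Fin.exists_fin_two.1 ⟨i, rfl⟩ with h | h
      · rw [h] at hCN; exact hCN
      · rw [hC2, h] at hC2N; exact hC2N
    · rcases Fin.exists_fin_two.1 ⟨i, rfl⟩ with h | h
      · rw [hC2, h] at hC2N; exact hC2N
      · rw [h] at hCN; exact hCN
  have h5 : v i ∈ N := le_V _ _ (mem_zpowers _)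
  rw [h4, mem_bot] at h5
  exact D.ne i h5

/-- a normal subgroup of `C_i` all of whose elements fixes `v j` centralises `N_i` -/
theorem cent_N_of_le {i : Fin 2} {X : Subgroup G} (hX : X ≤ CC v (i + 1))
    (hn : CC v i ≤ normalizer (X : Set G)) : X ≤ centralizer (NU V v i : Set G) := by
  refine comm_symm (V_le fun c hc => ?_)
  -- `V (i+1) = ⟨v (i+1) ^ P (i+1)⟩`
  intro w hw
  rw [mem_conj] at hw
  rw [mem_centralizer_iff]
  intro x hx
  by_cases hw1 : w = 1
  · rw [hw1]; group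
  have hw1' : c⁻¹ * w * c ≠ 1 := by
    intro h
    apply hw1
    have h3 := congrArg (fun t => c * t * c⁻¹) h
    simpa [mul_assoc] using h3
  obtain ⟨l, hl, -, hlw⟩ := D.tr (ne_add_one i).symm hw hw1'
  have hlC : l ∈ CC v i := D.PC (i + 1) i (ne_add_one i).symm hl
  have h1 : (c * l)⁻¹ * x * (c * l) ∈ X := by
    have := (mem_normalizer_iff.1 (hn (inv_mem (mul_mem hc hlC))) x).1 hx
    rwa [inv_inv] at this
  have h2 : (c * l)⁻¹ * x * (c * l) * v (i + 1) = v (i + 1) * ((c * l)⁻¹ * x * (c * l)) :=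
    mem_centralizer_singleton_iff.1 (hX h1)
  have h3 : w = (c * l) * v (i + 1) * (c * l)⁻¹ := by
    have e : (c * l) * v (i + 1) * (c * l)⁻¹ = c * (l * v (i + 1) * l⁻¹) * c⁻¹ := by group
    rw [e, hlw]; group
  rw [h3]
  calc x * (c * l * v (i + 1) * (c * l)⁻¹) = (c * l) * (((c * l)⁻¹ * x * (c * l)) * v (i + 1)) * (c * l)⁻¹ := by group
    _ = (c * l) * (v (i + 1) * ((c * l)⁻¹ * x * (c * l))) * (c * l)⁻¹ := by rw [h2]
    _ = c * l * v (i + 1) * (c * l)⁻¹ * x := by group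

/-- **LEMMA 0** (helper997 #19092): `X` normal in `C_i` which does not centralise `N_i`, and whose elements outside
`D` are covered by `T`: `C_i = X D` as soon as `X` moves `v (i+1)`. -/
theorem lem0 {i : Fin 2} {X : Subgroup G} (hXC : X ≤ CC v i) (hn : CC v i ≤ normalizer (X : Set G))
    (hm : ¬ X ≤ centralizer (NU V v i : Set G)) : ∀ c ∈ CC v i, ∃ x ∈ X, ∃ d ∈ centralizer (zc T : Set G), c = x * d := by
  have hji := (ne_add_one i).symm
  have hXm : ¬ X ≤ CC v (i + 1) := fun h => hm (D.cent_N_of_le h hn)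
  -- `X T`
  have hTn : T ≤ normalizer (X : Set G) := (D.T_le_C i).trans hn
  -- a minimal parabolic `R ≤ X T` moving `v (i+1)`
  obtain ⟨R, hR, hRX, hRm⟩ : ∃ R : Subgroup G, IsMinPar T R ∧ R ≤ X ⊔ T ∧ ¬ R ≤ CC v (i + 1) := by
    by_contra hcon
    push Not at hcon
    apply hXm
    refine le_trans le_sup_left (Cfsg.Agent.MinSimple.MinParabolic.le_of_forall (S := T) (X := X ⊔ T) le_sup_right
      ?_ fun R hR hRX => hcon R hR hRX)
    refine (inf_le_inf_right _ (sup_le hXC (D.T_le_C i))).trans ((D.norm_T_le i).trans (D.cent_zc_le _))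
  have hRC : R ≤ CC v i := hRX.trans (sup_le hXC (D.T_le_C i))
  have hRN := D.uni (i + 1) i hji R hR hRC hRm
  -- the elements of `X T`
  have hXT : ∀ y ∈ X ⊔ T, ∃ x ∈ X, ∃ t ∈ T, y = x * t := by
    intro y hy
    exact Cfsg.Agent.Omega.OM.KTwo.exists_mul_of_mem_sup hTn hy
  -- `P (i+1) ≤ X D`
  let K : Subgroup G :=
    { carrier := {c | ∃ x ∈ X, ∃ d ∈ centralizer (zc T : Set G), c = x * d}
      one_mem' := ⟨1, one_mem _, 1, one_mem _, by simp⟩
      mul_mem' := by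
        rintro _ _ ⟨x, hx, d, hd, rfl⟩ ⟨x', hx', d', hd', rfl⟩
        refine ⟨x * (d * x' * d⁻¹), mul_mem hx ?_, d * d', mul_mem hd hd', by group⟩
        exact (mem_normalizer_iff.1 (hn (D.cent_zc_le i hd)) x').1 hx'
      inv_mem' := by
        rintro _ ⟨x, hx, d, hd, rfl⟩
        refine ⟨d⁻¹ * x⁻¹ * d, ?_, d⁻¹, inv_mem hd, by group⟩
        have := (mem_normalizer_iff.1 (hn (D.cent_zc_le i (inv_mem hd))) x⁻¹).1 (inv_mem hx)
        rwa [inv_inv] at this }
  have hDK : centralizer (zc T : Set G) ≤ K := fun d hd => ⟨1, one_mem _, d, hd, by simp⟩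
  have hXK : X ≤ K := fun x hx => ⟨x, hx, 1, one_mem _, by simp⟩
  have hRK : R ≤ K := hRX.trans (sup_le hXK (D.T_le_D.trans hDK))
  have hPK : P (i + 1) ≤ K := by
    intro p hp
    obtain ⟨r, hr, d, hd, e⟩ := D.P_le_of hji hR.le hRC hRN hRm (D.PC (i + 1) i hji) (D.PN (i + 1) (i + 1)) hp
    rw [e]
    exact K.mul_mem (hRK hr) (hDK hd)
  have hCK : CC v i ≤ K := (D.gen hji).trans (sup_le hPK hDK)
  exact hCK

end Fr

end Cfsg.Agent.Omega.TC
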