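import Cfsg.Agent.Omega.TC.DTwo
import Cfsg.Agent.Omega.KL.Plug

/-!
# CARD #18791 `[A]` (`V i ≤ N_i`), all variants, all `d`, from THEOREM KL

* `aKill_at` : `[N_0, N_1] ≠ 1`, one `i` with `V i ≤ N_i` (and `hU` at `i`): contradiction (LEMMA Z);
* **`aKill`** : `V i ≤ N_i` for both `i` and `hU`: contradiction (`d = 1`: LEMMA Z, `d ≥ 2`: LEMMA D2).
-/

set_option autoImplicit false
set_option linter.unusedSectionVars false

namespace Cfsg.Agent.Omega.TC.AKill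

open Subgroup Cfsg Cfsg.Agent.ZN Cfsg.Agent.Omega.MinPar
open Cfsg.Agent.Omega.OM.KTwo (CC QQ WU NU EU ne_add_one eq_add_one add_one_add_one le_normalizer_V le_V)
open Cfsg.Agent.MinSimple.MinParabolic (IsMinPar)
open Cfsg.Agent.Omega.NoFF.Basic (comm_symm)
open Cfsg.Agent.Omega.TC.LemZ (ZV AZ FZ)
open scoped Pointwise

universe u

variable {G : Type u} [Group G]

variable [Finite G] {T : Subgroup G} {V P : Fin 2 → Subgroup G} {v : Fin 2 → G} (D : Fr T V P v)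

include D

/-- `d = 1`, at one `i` with `V i ≤ N_i` -/
theorem aKill_at (hML : ML.Final.MLK.{u, u}) (hKL : KL.Quo.NoInp.{u, u}) (hK : ∀ i, IsKGroup (CC v i)) {i : Fin 2}
    (hV : V i ≤ NU V v i)
    (hU : ∀ R : Subgroup G, IsMinPar T R → R ≤ CC v i → ¬ R ≤ CC v (i + 1) → R ≤ normalizer (V i : Set G))
    (hd : ¬ NU V v (i + 1) ≤ centralizer (NU V v i : Set G)) : False := by
  have hAN : AZ V v i ≤ NU V v (i + 1) := LemZ.AZ_le D i
  refine KL.Plug.false_of D hML hKL (hK i) hV hU (A := AZ V v i) (fun a ha => D.N_sq (i + 1) a (hAN ha))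
    (hAN.trans (D.N_le_oD (i + 1))) ?_ (LemZ.lemZ D hML hK i).1 (LemZ.AZ_not D hML hK hd)
  refine DTwo.le_o2_inf D (hAN.trans (D.N_le_T (i + 1))) ?_
  exact (LemZ.AZ_le_FZ D i).trans (LemZ.FZ_le_o2 D i)

/-- **card `[A]`** -/
theorem aKill (hML : ML.Final.MLK.{u, u}) (hKL : KL.Quo.NoInp.{u, u}) (hK : ∀ i, IsKGroup (CC v i))
    (hV : ∀ i, V i ≤ NU V v i)
    (hU : ∀ (i : Fin 2) (R : Subgroup G), IsMinPar T R → R ≤ CC v i → ¬ R ≤ CC v (i + 1) →
      R ≤ normalizer (V i : Set G)) : False := by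
  by_cases hd : NU V v 0 ≤ centralizer (NU V v 1 : Set G)
  · obtain ⟨j, B, h1, -, h2, h3, h4, h5⟩ := DTwo.exists_kl D hML hK hd
    exact KL.Plug.false_of D hML hKL (hK j) (hV j) (hU j) h1 h2 h3 h4 h5
  · refine aKill_at D hML hKL hK (hV 0) (hU 0) fun h => hd ?_
    exact comm_symm h

end Cfsg.Agent.Omega.TC.AKill
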