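import Cfsg.Agent.Omega.TC.OfMul
import Cfsg.Agent.Omega.NO3b.Bang
import Cfsg.Agent.Omega.NO3S.EThree.ExactA

/-!
# CARD #18791: `V^!(T) = Ω₁(Z(T))` at every level

`VBang T` : every `T`-invariant elementary abelian subgroup of `T` on which no subgroup of `T` offends is `≤ Ω₁(Z(T))`
(`NO3b.Bang.bang T = V^!(T) ≤ Ω₁(Z(T))`).

* `exists_off` : (V!) in the form "every `T`-invariant elementary abelian `X ≤ T`, `X ≰ Ω₁(Z(T))` has an offender in `T`";
* `NN.jj_le`, `NN.lev_le` : members of `NN(T)` are centralised by `J(T)` and by all levels `≤ T`;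
* `vbang_of` : `VBang (S ⊓ N(Z 0))` from `Mul .. 2`, all stages.
-/

set_option autoImplicit false
set_option linter.unusedSectionVars false

namespace Cfsg.Agent.Omega.TC

open Subgroup Cfsg Cfsg.Agent.ZN.ChoiceBase
open Cfsg.Agent.ZN (jj zj bau zc zl o2)
open Cfsg.Agent.Omega.FFThm (OffM ElemM)
open Cfsg.Agent.Omega.NO3b.Bang
open Cfsg.Agent.Omega.NO3S.Level (lev nxt BO)
open Cfsg.Agent.Omega.OM
open Cfsg.Agent.Omega.Node.MultiOf
open Cfsg.Agent.Omega.NO3S.EThree.ExactA (eab_iff)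
open scoped Pointwise

universe u

variable {G : Type u} [Group G]

/-- **(V!)** `V^!(T) ≤ Ω₁(Z(T))`. -/
def VBang (T : Subgroup G) : Prop := bang T ≤ zc T

section fin

variable [Finite G] {T X : Subgroup G}

/-- **(V!)**: offenders on `T`-invariant elementary abelian subgroups. -/
theorem VBang.exists_off (h : VBang T) (hXT : X ≤ T) (hn : T ≤ normalizer (X : Set G))
    (hc : X ≤ centralizer (X : Set G)) (h2 : ∀ x ∈ X, x ^ 2 = 1) (hX : ¬ X ≤ zc T) :
    ∃ A : Subgroup G, A ≤ T ∧ OffM X A := by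
  by_contra hcon
  push Not at hcon
  exact hX ((NN.le_bang ⟨hXT, hn, hc, h2, hcon⟩).trans h)

/-- the members of `AA T` centralise the members of `NN(T)` -/
theorem NN_cent_AA (h : NN T X) {A : Subgroup G} (hA : A ∈ AA T) : A ≤ centralizer (X : Set G) := by
  by_contra hne
  rw [mem_AA_iff] at hA
  obtain ⟨hA2, hAT, hmax⟩ := hA
  rw [eab_iff] at hA2
  obtain ⟨hAc, hAsq⟩ := hA2
  refine h.nff A hAT ⟨offM_of_abel hAc hAsq, hne, ?_⟩
  set B : Subgroup G := A ⊓ centralizer (X : Set G) with hB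
  have hXB : X ≤ centralizer (B : Set G) := cent_symm inf_le_right
  have hn : B ≤ normalizer (X : Set G) := inf_le_right.trans (centralizer_le_normalizer _)
  have h1 := NoFF.ThmJ.card_sup_mul hn
  have hBB : B ≤ centralizer (B : Set G) := inf_le_left.trans (hAc.trans (centralizer_le (inf_le_left : B ≤ A)))
  -- `X B` is elementary abelian
  have hcomm : X ⊔ B ≤ centralizer ((X ⊔ B : Subgroup G) : Set G) := by
    refine sup_le (cent_symm (sup_le h.comm inf_le_right)) (cent_symm (sup_le hXB hBB))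
  have hsq : ∀ x ∈ X ⊔ B, x ^ 2 = 1 := by
    intro x hx
    obtain ⟨a, ha, b, hb, rfl⟩ := OM.KTwo.exists_mul_of_mem_sup
      (show B ≤ normalizer (X : Set G) from hn) (by rwa [sup_comm] at hx)
    have e : a * b = b * a := (mem_centralizer_iff.1 (hXB ha) b hb).symm
    have e1 := h.sq a ha
    have e2 := hAsq b hb.1
    calc (a * b) ^ 2 = a * (b * a) * b := by rw [pow_two]; group
      _ = a ^ 2 * b ^ 2 := by rw [← e, pow_two, pow_two]; group
      _ = 1 := by rw [e1, e2, one_mul]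
  obtain ⟨A', hA'⟩ := AA_nonempty T
  have hmem : Nat.card ↥(X ⊔ B) ≤ mm T := by
    have hle : X ⊔ B ≤ T := sup_le h.le (inf_le_left.trans hAT)
    by_contra hlt
    push Not at hlt
    have h3 : X ⊔ B ∈ AA T := mem_AA_iff.2 ⟨eab_iff.2 ⟨hcomm, hsq⟩, hle, hlt.le⟩
    rw [mm_eq h3] at hlt
    exact lt_irrefl _ hlt
  have h4 : Nat.card ↥(X ⊓ B) ≤ Nat.card ↥(X ⊓ centralizer (A : Set G)) :=
    card_le_of_le (inf_le_inf_left _ (inf_le_left.trans hAc))
  calc Nat.card X * Nat.card B = Nat.card ↥(X ⊔ B) * Nat.card ↥(X ⊓ B) := h1.symm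
    _ ≤ Nat.card A * Nat.card ↥(X ⊓ centralizer (A : Set G)) := Nat.mul_le_mul (hmem.trans hmax) h4

/-- `J(T)` centralises the members of `NN(T)`. -/
theorem NN_le_zc_jj (h : NN T X) : X ≤ zc (jj T) := by
  have hc : ∀ A ∈ AA T, A ≤ centralizer (X : Set G) := fun A hA => NN_cent_AA h hA
  have hJ : jj T ≤ centralizer (X : Set G) := by
    rw [jj_eq]
    exact sSup_le hc
  intro x hx
  refine mem_zc.2 ⟨?_, h.sq x hx, fun y hy => (mem_centralizer_iff.1 (hJ hy) x hx).symm⟩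
  obtain ⟨A, hA⟩ := AA_nonempty T
  refine le_jj hA ?_
  by_contra hxA
  have hA' := hA
  rw [mem_AA_iff] at hA'
  obtain ⟨hA2, hAT, hmax⟩ := hA'
  rw [eab_iff] at hA2
  obtain ⟨hAc, hAsq⟩ := hA2
  have hXA : X ≤ centralizer (A : Set G) := cent_symm (hc A hA)
  have hn : A ≤ normalizer (X : Set G) := (hc A hA).trans (centralizer_le_normalizer _)
  have hcomm : X ⊔ A ≤ centralizer ((X ⊔ A : Subgroup G) : Set G) :=
    sup_le (cent_symm (sup_le h.comm (hc A hA))) (cent_symm (sup_le hXA hAc))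
  have hsq : ∀ x ∈ X ⊔ A, x ^ 2 = 1 := by
    intro x hx
    obtain ⟨a, ha, b, hb, rfl⟩ := OM.KTwo.exists_mul_of_mem_sup
      (show A ≤ normalizer (X : Set G) from hn) (by rwa [sup_comm] at hx)
    have e : a * b = b * a := (mem_centralizer_iff.1 (hXA ha) b hb).symm
    have e1 := h.sq a ha
    have e2 := hAsq b hb
    calc (a * b) ^ 2 = a * (b * a) * b := by rw [pow_two]; group
      _ = a ^ 2 * b ^ 2 := by rw [← e, pow_two, pow_two]; group
      _ = 1 := by rw [e1, e2, one_mul]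
  have hle : X ⊔ A ≤ T := sup_le h.le hAT
  have h3 : X ⊔ A ∈ AA T := mem_AA_iff.2 ⟨eab_iff.2 ⟨hcomm, hsq⟩, hle, hmax.trans (card_le_of_le le_sup_right)⟩
  have h5 : Nat.card ↥(X ⊔ A) ≤ Nat.card A := by
    rw [← mm_eq h3]; exact hmax
  have h6 : A = X ⊔ A := Subgroup.eq_of_le_of_card_ge le_sup_right h5
  exact hxA (h6 ▸ (le_sup_left : X ≤ X ⊔ A) hx)

/-- The levels `≤ T` centralise the members of `NN(T)`. -/
theorem NN_le_zc_lev {S : Subgroup G} (hTS : T ≤ S) (h : NN T X) : ∀ n, lev S n ≤ T → X ≤ zc (lev S n)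
  | 0, hn => by
    have h1 : jj S ≤ T := hn
    have h2 := NN_le_zc_jj h
    rwa [jj_eq_of_jj_le h1 hTS] at h2
  | n + 1, hn => by
    have h1 := NN_le_zc_lev hTS h n ((NO3S.Level.lev_le_succ S n).trans hn)
    have hc : lev S (n + 1) ≤ centralizer (X : Set G) := by
      refine sup_le (inf_le_right.trans (centralizer_le h1)) (sSup_le fun B hB => ?_)
      exact h.best ((BO.le_nxt hB).trans hn) h1 hB.2
    intro x hx
    refine mem_zc.2 ⟨NO3S.Level.lev_le_succ S n (mem_zc.1 (h1 hx)).1, h.sq x hx, fun y hy => ?_⟩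
    exact (mem_centralizer_iff.1 (hc hy) x hx).symm

end fin

section gen

variable [Finite G] {S : Sylow 2 G} {P K B ZJ : Subgroup G} {k q : ℕ} {L W Z C : Fin k → Subgroup G}

/-- **(V!)** at every level, any `k`, any `q`: `V^!(T) ≤ Z_J` for `K ≤ T ≤ S`. -/
theorem bang_le_ZJ (h : Mul S P K B ZJ L W Z C q) {T : Subgroup G} (hKT : K ≤ T) (hTS : T ≤ (S : Subgroup G)) :
    bang T ≤ ZJ := by
  have hN := nn_bang T
  cases h.stg with
  | neg hj =>
    have h1 := NN_le_zc_jj hN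
    rw [jj_eq_of_jj_le hKT hTS] at h1
    exact h1
  | lev n hall hn hn1 => exact NN_le_zc_lev hTS hN (n + 1) hKT

/-- **(V!)**, offender form, any `k`, any `q`: a `T`-invariant elementary abelian `X ≤ T`, `X ≰ Z_J`, has an offender
in `T` (`K ≤ T ≤ S`, for instance `T = B`). -/
theorem exists_off_of_mul (h : Mul S P K B ZJ L W Z C q) {T X : Subgroup G} (hKT : K ≤ T)
    (hTS : T ≤ (S : Subgroup G)) (hXT : X ≤ T) (hn : T ≤ normalizer (X : Set G)) (hc : X ≤ centralizer (X : Set G))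
    (h2 : ∀ x ∈ X, x ^ 2 = 1) (hX : ¬ X ≤ ZJ) :
    ∃ A : Subgroup G, A ≤ T ∧ OffM X A := by
  by_contra hcon
  push Not at hcon
  exact hX ((NN.le_bang ⟨hXT, hn, hc, h2, hcon⟩).trans (bang_le_ZJ h hKT hTS))

/-- the case `T = B` -/
theorem exists_off_B (h : Mul S P K B ZJ L W Z C q) {X : Subgroup G} (hXB : X ≤ B)
    (hn : B ≤ normalizer (X : Set G)) (hc : X ≤ centralizer (X : Set G)) (h2 : ∀ x ∈ X, x ^ 2 = 1) (hX : ¬ X ≤ ZJ) :
    ∃ A : Subgroup G, A ≤ B ∧ OffM X A :=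
  exists_off_of_mul h h.lb.KB h.lb.BS hXB hn hc h2 hX

end gen

section mul

variable [Finite G] {S : Sylow 2 G} {P K B ZJ : Subgroup G} {L W Z C : Fin 2 → Subgroup G}

/-- `B ≤ S ⊓ N(Z 0)` -/
theorem B_le_T (h : Mul S P K B ZJ L W Z C 2) : B ≤ (S : Subgroup G) ⊓ normalizer (Z 0 : Set G) :=
  le_inf h.lb.BS ((h.lb.Bc.trans (centralizer_le (h.bg.fr.Z_le 0))).trans (centralizer_le_normalizer _))

/-- **(V!)** at every level. -/
theorem vbang_of (h : Mul S P K B ZJ L W Z C 2) {v : Fin 2 → G} (hv : ∀ i, ∀ x, x ∈ Z i ↔ x = 1 ∨ x = v i)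
    (D : KTwo.Sit S P ((S : Subgroup G) ⊓ normalizer (Z 0 : Set G)) W v) :
    VBang ((S : Subgroup G) ⊓ normalizer (Z 0 : Set G)) := by
  have hBT := B_le_T h
  have hKT := h.lb.KB.trans hBT
  have hX : bang ((S : Subgroup G) ⊓ normalizer (Z 0 : Set G)) ≤ ZJ := by
    have hN := nn_bang ((S : Subgroup G) ⊓ normalizer (Z 0 : Set G))
    cases h.stg with
    | neg hj =>
      have h1 := NN_le_zc_jj hN
      rw [jj_eq_of_jj_le hKT inf_le_left] at h1
      exact h1
    | lev n hall hn hn1 =>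
      exact NN_le_zc_lev inf_le_left hN (n + 1) hKT
  refine hX.trans fun x hx => ?_
  rw [D.zT]
  exact (OfBg.mem_ZJ_iff h.bg hv).1 hx

end mul

end Cfsg.Agent.Omega.TC
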