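import Cfsg.Agent.Omega.TC.FixEL
import Cfsg.Agent.Omega.TC.LevFix
import Cfsg.Agent.Omega.TC.VBang
import Cfsg.Agent.Omega.SQ1.FFOne

/-!
# CARD #18791: LEMMA FIX, `hZO` and `hU` over `TC.Fr` at every level

`OffK T V K` : `K ≤ O = C_T(V 0 V 1)` (a level, or `1`), everything over `O` normalises `K`, and for `i ≠ j` some `A ≤ T`
moves `V i`, centralises `V j` and offends on all elementary abelian `A`-invariant `F`, `V 0 V 1 ≤ F ≤ C_O(K)`.

* `offK_of_hJ` : stage `-1` (`K = 1`); `offK_of_lev` : stage `n` (`K = lev S n`);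
* `OffK.fix` : `w ∈ C_O(K)`, `w² = 1`, `[w, O] ≤ ⟨v i⟩` implies `w ∈ V 0 V 1`;
* `OffK.zc_OO` : `Ω₁Z(O) ≤ V 0 V 1`; `OffK.hZO` : `Ω₁Z(O₂(P i)) ≤ V i ⟨v j⟩`;
* `o2_eq` : `O₂(R) = C_T(V i)` for `R` minimal parabolic over `T` in `C(v j)`, moving `v i`;
* `norm_V_of` : `R ≤ C(v i)` normalising `V j` and `V 0 V 1` normalises `V i`;
* **`OffK.hU`** : `R` minimal parabolic over `T`, `R ≤ C(v i)`, `R ≰ C(v j)` implies `R ≤ N(V i)`.
-/

set_option autoImplicit false
set_option linter.unusedSectionVars false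

namespace Cfsg.Agent.Omega.TC

open Subgroup Cfsg Cfsg.Agent.ZN Cfsg.Agent.PLocal.ThompsonJ Cfsg.Agent.PLocal.ElemAbSup
open Cfsg.Agent.Omega.MinPar
open Cfsg.Agent.Omega.OM.KTwo (CC QQ WU NU EU FF ne_add_one eq_add_one add_one_add_one le_normalizer_V le_V)
open Cfsg.Agent.ZN.ChoiceSit (Syl o2_le_syl syl_not_dvd)
open Cfsg.Agent.Omega.FFThm (OffM ElemM)
open Cfsg.Agent.Omega.NO1.BestOff (Best)
open Cfsg.Agent.MinSimple.MinParabolic (IsMinPar)
open Phi FixEL
open scoped Pointwise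

universe u

variable {G : Type u} [Group G]

/-- Offenders over the level `K`. -/
structure OffK (T : Subgroup G) (V : Fin 2 → Subgroup G) (K : Subgroup G) : Prop where
  KO : K ≤ OO T V
  nrm : ∀ H : Subgroup G, OO T V ≤ o2 H → o2 H ≤ T → H ≤ normalizer (K : Set G)
  off : ∀ i j : Fin 2, i ≠ j → ∃ A ≤ T, A ≤ centralizer (V j : Set G) ∧ ¬ A ≤ centralizer (V i : Set G) ∧
    ∀ F : Subgroup G, F ≤ OO T V → F ≤ centralizer (K : Set G) → V 0 ⊔ V 1 ≤ F →
      (∀ x ∈ F, ∀ y ∈ F, x * y = y * x) → (∀ x ∈ F, x * x = 1) → A ≤ normalizer (F : Set G) → OffM F A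

section

variable [Finite G] {T K : Subgroup G} {V P : Fin 2 → Subgroup G} {v : Fin 2 → G}

theorem V_le_sup (V : Fin 2 → Subgroup G) (i : Fin 2) : V i ≤ V 0 ⊔ V 1 := by
  rcases Fin.exists_fin_two.1 ⟨i, rfl⟩ with h | h <;> rw [h]
  · exact le_sup_left
  · exact le_sup_right

theorem sup_eq_of (V : Fin 2 → Subgroup G) {i j : Fin 2} (hij : i ≠ j) : V 0 ⊔ V 1 = V i ⊔ V j := by
  rcases Fin.exists_fin_two.1 ⟨i, rfl⟩ with hi | hi
  · have hj : j = 1 := by
      have h1 := eq_add_one hij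
      rw [h1, hi]; rfl
    rw [hi, hj]
  · have hj : j = 0 := by
      have h1 := eq_add_one hij
      rw [h1, hi]; rfl
    rw [hi, hj, _root_.sup_comm]

variable (D : Fr T V P v) (h : OffK T V K)

include D

theorem sup_comm_mem {x y : G} (hx : x ∈ V 0 ⊔ V 1) (hy : y ∈ V 0 ⊔ V 1) : x * y = y * x :=
  (isElementaryAbelian_iff.1 (eab_sup D)).1 x hx y hy

theorem sup_sq {x : G} (hx : x ∈ V 0 ⊔ V 1) : x * x = 1 := by
  rw [← pow_two]; exact (isElementaryAbelian_iff.1 (eab_sup D)).2 x hx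

theorem sup_le_OO : V 0 ⊔ V 1 ≤ OO T V := sup_le (V_le_OO D 0) (V_le_OO D 1)

theorem OO_comm {o x : G} (ho : o ∈ OO T V) (hx : x ∈ V 0 ⊔ V 1) : o * x = x * o := by
  have h1 : V 0 ⊔ V 1 ≤ centralizer ({o} : Set G) := by
    refine sup_le ?_ ?_ <;>
      exact fun y hy => mem_centralizer_singleton_iff.2 (mem_centralizer_iff.1 ((mem_OO.1 ho).2 _) y hy)
  exact (mem_centralizer_singleton_iff.1 (h1 hx)).symm

theorem T_le_N_sup : T ≤ normalizer ((V 0 ⊔ V 1 : Subgroup G) : Set G) :=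
  NO3b.Bang.le_normalizer_sup (D.T_le_N 0) (D.T_le_N 1)

theorem P_le_N_sup (i : Fin 2) : P i ≤ normalizer ((V 0 ⊔ V 1 : Subgroup G) : Set G) :=
  NO3b.Bang.le_normalizer_sup (D.PN i 0) (D.PN i 1)

/-- `A ≤ C_T(V j)` moves `V i`: `a ∈ O` or `τ a ∈ O`. -/
theorem idx_OO {i j : Fin 2} (hij : i ≠ j) {A : Subgroup G} (hAT : A ≤ T) (hAj : A ≤ centralizer (V j : Set G))
    {τ : G} (hτ : τ ∈ A) (hτo : τ ∉ o2 (P i)) : ∀ a ∈ A, a ∈ OO T V ∨ τ * a ∈ OO T V := by
  intro a ha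
  by_cases hao : a ∈ o2 (P i)
  · rw [o2_P D i] at hao
    exact Or.inl ((mem_OO' hij).2 ⟨hAT ha, hao.2, hAj ha⟩)
  · have h1 := mul_mem_o2 D (hAT hτ) hτo (hAT ha) hao
    rw [o2_P D i] at h1
    exact Or.inr ((mem_OO' hij).2 ⟨h1.1, h1.2, mul_mem (hAj hτ) (hAj ha)⟩)

theorem mem_zpow_cases (i : Fin 2) {x : G} (hx : x ∈ zpowers (v i)) : x = 1 ∨ x = v i := by
  obtain ⟨m, hm⟩ := mem_zpowers_iff.1 hx
  rw [← hm]
  rcases Int.even_or_odd' m with ⟨k, rfl | rfl⟩
  · left; rw [zpow_mul, zpow_two, D.v_sq, one_zpow]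
  · right; rw [zpow_add, zpow_mul, zpow_two, D.v_sq, one_zpow, one_mul, zpow_one]

/-- **`O₂(R) = C_T(V i)`** for every minimal parabolic `R ≤ C(v j)` over `T` moving `v i` -/
theorem o2_eq {i j : Fin 2} (hij : i ≠ j) {R : Subgroup G} (hR : IsMinPar T R) (hRj : R ≤ CC v j)
    (hRi : ¬ R ≤ CC v i) : o2 R = T ⊓ centralizer (V i : Set G) := by
  have hRN : R ≤ normalizer (V i : Set G) := D.uni i j hij R hR hRj hRi
  have hTR : T ≤ R := hR.le
  have hsyl : Syl T R := ⟨hTR, D.T_isPGroup, fun Q hQ hQ2 hTQ => (D.syl j).2.2 Q (hQ.trans hRj) hQ2 hTQ⟩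
  apply le_antisymm
  · have hoT : o2 R ≤ T := o2_le_syl hsyl
    refine le_inf hoT fun o ho => mem_centralizer_iff.2 fun x hx => ?_
    by_cases hx1 : x = 1
    · rw [hx1, one_mul, mul_one]
    obtain ⟨l, hl, hlx⟩ := D.trans_of hTR hRN hRi hx hx1
    have h1 : l⁻¹ * o * l ∈ o2 R := by
      have := (mem_normalizer_iff.1 (le_normalizer_o2 _ (inv_mem hl)) o).1 ho
      rwa [inv_inv] at this
    have h2 := D.comm_v i (hoT h1)
    rw [← hlx]
    calc l * v i * l⁻¹ * o = l * (v i * (l⁻¹ * o * l)) * l⁻¹ := by group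
      _ = l * (l⁻¹ * o * l * v i) * l⁻¹ := by rw [h2]
      _ = o * (l * v i * l⁻¹) := by group
  · have hfact : Fact (Nat.Prime 2) := ⟨Nat.prime_two⟩
    have hN : R ≤ normalizer ((R ⊓ centralizer (V i : Set G) : Subgroup G) : Set G) := by
      have key : ∀ t ∈ R, ∀ x ∈ R ⊓ centralizer (V i : Set G), t * x * t⁻¹ ∈ R ⊓ centralizer (V i : Set G) := by
        intro t ht x hx
        refine ⟨R.mul_mem (R.mul_mem ht hx.1) (R.inv_mem ht), mem_centralizer_iff.2 fun z hz => ?_⟩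
        have h1 : t⁻¹ * z * t ∈ V i := by
          have := (mem_normalizer_iff.1 (inv_mem (hRN ht)) z).1 hz
          rwa [inv_inv] at this
        have h2 := mem_centralizer_iff.1 hx.2 _ h1
        calc z * (t * x * t⁻¹) = t * (t⁻¹ * z * t * x) * t⁻¹ := by group
          _ = t * (x * (t⁻¹ * z * t)) * t⁻¹ := by rw [h2]
          _ = t * x * t⁻¹ * z := by group
      intro t ht
      rw [mem_normalizer_iff]
      intro x
      refine ⟨key t ht x, fun hx => ?_⟩
      have h1 := key t⁻¹ (inv_mem ht) _ hx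
      have e : t⁻¹ * (t * x * t⁻¹) * t⁻¹⁻¹ = x := by group
      rwa [e] at h1
    rcases hR.sup_eq_or_inf_le D.T_isPGroup (syl_not_dvd hsyl) inf_le_left hN with h | h
    · exfalso
      apply hRi
      rw [← h]
      refine sup_le (inf_le_right.trans ?_) (D.T_le_C i)
      exact centralizer_le (Set.singleton_subset_iff.2 (D.mem i))
    · exact le_trans (le_inf inf_le_left (le_inf (inf_le_left.trans hTR) inf_le_right)) h

/-- `V i ⊓ V j ⟨v i⟩ = ⟨v i⟩` : an element `a w`, `w ∈ V j`, `a w ∈ V i ⟨..⟩` -/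
theorem V_mem_of {i j : Fin 2} (hij : i ≠ j) {a w : G} (ha : a ∈ V i) (hw : w ∈ V j) (h : a * w ∈ V i) : w = 1 := by
  have h1 : w ∈ V i := by
    have := mul_mem (inv_mem ha) h
    rwa [inv_mul_cancel_left] at this
  have h2 : w ∈ V i ⊓ V j := ⟨h1, hw⟩
  rw [V_inf D hij] at h2
  exact mem_bot.1 h2

/-- **The last step**: `R ≤ C(v i)` normalising `V j` and `V 0 V 1` normalises `V i`. -/
theorem norm_V_of {i j : Fin 2} (hij : i ≠ j) {R : Subgroup G} (hRi : R ≤ CC v i)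
    (hRj : R ≤ normalizer (V j : Set G)) (hRM : R ≤ normalizer ((V 0 ⊔ V 1 : Subgroup G) : Set G)) :
    R ≤ normalizer (V i : Set G) := by
  -- the group `L = C(v i) ⊓ C(V j) ⊓ N(V 0 V 1)`
  have hM : ∀ x, x ∈ V 0 ⊔ V 1 → ∃ a ∈ V i, ∃ w ∈ V j, x = a * w := by
    intro x hx
    have h1 : V 0 ⊔ V 1 = V i ⊔ V j := sup_eq_of V hij
    rw [h1] at hx
    exact FixEL.mem_sup D hx
  obtain ⟨p, hp, hp1, hpv⟩ := D.exists_ne_v i
  -- elements of `L` move `p` by a vector of `V j` (mod `v i`)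
  set L : Subgroup G := CC v i ⊓ centralizer (V j : Set G) ⊓ normalizer ((V 0 ⊔ V 1 : Subgroup G) : Set G) with hL
  have hpM : p ∈ V 0 ⊔ V 1 := V_le_sup V i hp
  have hLw : ∀ x ∈ L, ∃ w ∈ V j, x * p * x⁻¹ = p * w ∨ x * p * x⁻¹ = p * w * v i := by
    intro x hx
    obtain ⟨⟨hxi, hxj⟩, hxM⟩ := hx
    obtain ⟨a, ha, w, hw, e⟩ := hM _ ((mem_normalizer_iff.1 hxM p).1 hpM)
    -- `a ≡ p mod v i`
    refine ⟨w, hw, ?_⟩
    have haw : a * w = w * a := mem_centralizer_iff.1 (V_le_cent D j i hw) a ha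
    have hvw : v i * w = w * v i := mem_centralizer_iff.1 (V_le_cent D j i hw) _ (D.mem i)
    have ha1 : a ≠ 1 := by
      rintro rfl
      rw [one_mul] at e
      -- `p = x⁻¹ w x = w`
      have h1 : x * w * x⁻¹ = w := by
        have := mem_centralizer_iff.1 hxj w hw
        rw [← this]; group
      have h2 : p = w := by
        have : x * p * x⁻¹ = x * w * x⁻¹ := by rw [e, h1]
        exact mul_left_cancel (mul_right_cancel this)
      have h3 : p ∈ V i ⊓ V j := ⟨hp, h2 ▸ hw⟩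
      rw [V_inf D hij] at h3
      exact hp1 (mem_bot.1 h3)
    have hav : a ≠ v i := by
      rintro rfl
      have h1 : x * (v i * w) * x⁻¹ = v i * w := by
        have h2 := mem_centralizer_iff.1 hxj w hw
        have h3 : x * v i = v i * x := mem_centralizer_singleton_iff.1 hxi
        calc x * (v i * w) * x⁻¹ = (x * v i) * w * x⁻¹ := by group
          _ = v i * (x * w) * x⁻¹ := by rw [h3]; group
          _ = v i * w := by rw [← h2]; group
      have h2 : p = v i * w := by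
        have : x * p * x⁻¹ = x * (v i * w) * x⁻¹ := by rw [e, h1]
        exact mul_left_cancel (mul_right_cancel this)
      have h3 : w = 1 := V_mem_of D hij (D.mem i) hw (h2 ▸ hp)
      rw [h3, mul_one] at h2
      exact hpv h2
    rcases D.eq_of_V hp hp1 (D.mem i) (D.ne i) hpv ha ha1 with h1 | h1 | h1
    · left; rw [e, h1]
    · exact absurd h1 hav
    · right; rw [e, h1, mul_assoc, hvw, mul_assoc]
  -- multiplicativity
  have hLn : ∀ x ∈ L, ∀ w ∈ V j, x * w * x⁻¹ = w := by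
    intro x hx w hw
    have := mem_centralizer_iff.1 hx.1.2 w hw
    rw [← this]; group
  have hLv : ∀ x ∈ L, x * v i * x⁻¹ = v i := by
    intro x hx
    have : x * v i = v i * x := mem_centralizer_singleton_iff.1 hx.1.1
    rw [this]; group
  have hvw : ∀ w ∈ V j, v i * w = w * v i := fun w hw =>
    mem_centralizer_iff.1 (V_le_cent D j i hw) _ (D.mem i)
  have hmul : ∀ x ∈ L, ∀ y ∈ L, ∀ w ∈ V j, ∀ u ∈ V j, (x * p * x⁻¹ = p * w ∨ x * p * x⁻¹ = p * w * v i) →
      (y * p * y⁻¹ = p * u ∨ y * p * y⁻¹ = p * u * v i) →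
      (x * y * p * (x * y)⁻¹ = p * (w * u) ∨ x * y * p * (x * y)⁻¹ = p * (w * u) * v i) := by
    intro x hx y _ w hw u hu h1 h2
    have e1 : x * y * p * (x * y)⁻¹ = x * (y * p * y⁻¹) * x⁻¹ := by group
    have e2 : x * (p * u) * x⁻¹ = (x * p * x⁻¹) * u := by
      calc x * (p * u) * x⁻¹ = (x * p * x⁻¹) * (x * u * x⁻¹) := by group
        _ = _ := by rw [hLn x hx u hu]
    have e3 : x * (p * u * v i) * x⁻¹ = (x * p * x⁻¹) * u * v i := by
      calc x * (p * u * v i) * x⁻¹ = (x * (p * u) * x⁻¹) * (x * v i * x⁻¹) := by group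
        _ = _ := by rw [hLv x hx, e2]
    have hvu := hvw u hu
    have hvv := D.v_sq i
    rw [e1]
    rcases h2 with h2 | h2 <;> rw [h2]
    · rw [e2]
      rcases h1 with h1 | h1 <;> rw [h1]
      · left; group
      · right
        rw [mul_assoc (p * w), hvu]; group
    · rw [e3]
      rcases h1 with h1 | h1 <;> rw [h1]
      · right; group
      · left
        calc p * w * v i * u * v i = p * w * (v i * u) * v i := by group
          _ = p * (w * u) * (v i * v i) := by rw [hvu]; group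
          _ = p * (w * u) := by rw [hvv, mul_one]
  have huniq : ∀ x : G, ∀ w ∈ V j, ∀ u ∈ V j, (x * p * x⁻¹ = p * w ∨ x * p * x⁻¹ = p * w * v i) →
      (x * p * x⁻¹ = p * u ∨ x * p * x⁻¹ = p * u * v i) → w = u := by
    intro x w hw u hu h1 h2
    have hvn : v i ∉ V j := v_notMem D hij.symm
    have key : ∀ w ∈ V j, ∀ u ∈ V j, p * w = p * u * v i → w = u := by
      intro w hw u hu h3
      exfalso
      apply hvn
      have h4 : w = u * v i := by
        have : p * w = p * (u * v i) := by rw [h3, mul_assoc]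
        exact mul_left_cancel this
      have h5 := mul_mem (inv_mem hu) hw
      rwa [h4, inv_mul_cancel_left] at h5
    rcases h1 with h1 | h1 <;> rcases h2 with h2 | h2 <;> rw [h1] at h2
    · exact mul_left_cancel h2
    · exact key w hw u hu h2
    · exact (key u hu w hw h2.symm).symm
    · exact mul_left_cancel (mul_right_cancel h2)
  -- `x ∈ N(V i)` iff its `w` is `1`
  have hN_of : ∀ x ∈ L, (x * p * x⁻¹ = p * 1 ∨ x * p * x⁻¹ = p * 1 * v i) → x ∈ normalizer (V i : Set G) := by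
    intro x hx hxp
    rw [mul_one] at hxp
    apply ZN.ChoiceBase.mem_normalizer_of_cj_le
    rintro _ ⟨y, hy, rfl⟩
    change x * y * x⁻¹ ∈ V i
    by_cases hy1 : y = 1
    · rw [hy1, mul_one, mul_inv_cancel]; exact one_mem _
    have hpp : x * p * x⁻¹ ∈ V i := by
      rcases hxp with h1 | h1 <;> rw [h1]
      · exact hp
      · exact mul_mem hp (D.mem i)
    rcases D.eq_of_V hp hp1 (D.mem i) (D.ne i) hpv hy hy1 with h1 | h1 | h1
    · rw [h1]; exact hpp
    · rw [h1, hLv x hx]; exact D.mem i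
    · rw [h1]
      have e : x * (p * v i) * x⁻¹ = (x * p * x⁻¹) * (x * v i * x⁻¹) := by group
      rw [e, hLv x hx]
      exact mul_mem hpp (D.mem i)
  have hT_of : ∀ x : G, x ∈ normalizer (V i : Set G) → ∀ w ∈ V j,
      (x * p * x⁻¹ = p * w ∨ x * p * x⁻¹ = p * w * v i) → w = 1 := by
    intro x hxN w hw hxp
    have h1 : x * p * x⁻¹ ∈ V i := (mem_normalizer_iff.1 hxN p).1 hp
    rcases hxp with h2 | h2
    · rw [h2] at h1; exact V_mem_of D hij hp hw h1
    · rw [h2] at h1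
      refine V_mem_of D hij hp hw ?_
      have := mul_mem h1 (inv_mem (D.mem i))
      rwa [mul_inv_cancel_right] at this
  -- `T ⊓ L` is a Sylow 2-subgroup of `L`
  set X : Subgroup G := CC v i ⊓ normalizer (V j : Set G) ⊓ normalizer ((V 0 ⊔ V 1 : Subgroup G) : Set G) with hX
  have hTX : T ≤ X := le_inf (le_inf (D.T_le_C i) (D.T_le_N j)) (T_le_N_sup D)
  have hLX : L ≤ X :=
    le_inf (le_inf (inf_le_left.trans inf_le_left)
      ((inf_le_left.trans inf_le_right).trans (centralizer_le_normalizer _))) inf_le_right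
  have hTXs : Syl T X := ⟨hTX, D.T_isPGroup, fun Q hQ hQ2 hTQ =>
    (D.syl i).2.2 Q (hQ.trans (inf_le_left.trans inf_le_left)) hQ2 hTQ⟩
  have hLnX : X ≤ normalizer (L : Set G) := by
    refine fun x hx => ZN.ChoiceBase.mem_normalizer_of_cj_le ?_
    rintro _ ⟨y, hy, rfl⟩
    change x * y * x⁻¹ ∈ L
    obtain ⟨⟨hy1, hy2⟩, hy3⟩ := hy
    obtain ⟨⟨hx1, hx2⟩, hx3⟩ := hx
    refine mem_inf.2 ⟨mem_inf.2 ⟨mul_mem (mul_mem hx1 hy1) (inv_mem hx1), ?_⟩, mul_mem (mul_mem hx3 hy3) (inv_mem hx3)⟩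
    refine mem_centralizer_iff.2 fun z hz => ?_
    have h1 : x⁻¹ * z * x ∈ V j := (mem_normalizer_iff''.1 hx2 z).1 hz
    have h2 := mem_centralizer_iff.1 hy2 _ h1
    calc z * (x * y * x⁻¹) = x * (x⁻¹ * z * x * y) * x⁻¹ := by group
      _ = x * (y * (x⁻¹ * z * x)) * x⁻¹ := by rw [h2]
      _ = x * y * x⁻¹ * z := by group
  have hodd : ¬ 2 ∣ (T ⊓ L).relIndex L :=
    syl_not_dvd (SQ1.FFOne.syl_inf hTXs hLX fun x hx n hn => (mem_normalizer_iff.1 (hLnX hx) n).1 hn)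
  have hLN : L ≤ normalizer (V i : Set G) := by
    set L₀ : Subgroup G := L ⊓ normalizer (V i : Set G) with hL₀
    have hTL₀ : T ⊓ L ≤ L₀ := le_inf inf_le_right (inf_le_left.trans (D.T_le_N i))
    have hodd' : ¬ 2 ∣ L₀.relIndex L := fun h2 => hodd (h2.trans (relIndex_dvd_of_le_left L hTL₀))
    have hnorm : (L₀.subgroupOf L).Normal := by
      constructor
      rintro ⟨y, hyL⟩ hy ⟨x, hx⟩
      rw [mem_subgroupOf] at hy ⊢
      change y ∈ L₀ at hy
      change x * y * x⁻¹ ∈ L₀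
      obtain ⟨w, hw, hxw⟩ := hLw x hx
      obtain ⟨w', hw', hxw'⟩ := hLw x⁻¹ (inv_mem hx)
      obtain ⟨u, hu, hyu⟩ := hLw y hyL
      have hu1 : u = 1 := hT_of y hy.2 u hu hyu
      rw [hu1] at hyu
      have h1 := hmul x hx x⁻¹ (inv_mem hx) w hw w' hw' hxw hxw'
      have h2 : w * w' = 1 := by
        refine huniq _ _ (mul_mem hw hw') 1 (one_mem _) h1 (Or.inl ?_)
        group
      have h3 := hmul x hx y hyL w hw 1 (one_mem _) hxw hyu
      have h4 := hmul (x * y) (mul_mem hx hyL) x⁻¹ (inv_mem hx) _ (mul_mem hw (one_mem _)) w' hw' h3 hxw'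
      rw [mul_one, h2] at h4
      exact mem_inf.2 ⟨mul_mem (mul_mem hx hyL) (inv_mem hx), hN_of _ (mul_mem (mul_mem hx hyL) (inv_mem hx)) h4⟩
    intro x hx
    obtain ⟨w, hw, hxw⟩ := hLw x hx
    have h1 := hmul x hx x hx w hw w hw hxw hxw
    have h2 : w * w = 1 := by rw [← pow_two]; exact D.sqV j w hw
    rw [h2] at h1
    have h3 : x * x ∈ L₀ := mem_inf.2 ⟨mul_mem hx hx, hN_of _ (mul_mem hx hx) h1⟩
    have h4 : x ^ (L₀.relIndex L) ∈ L₀ := by
      have := (L₀.subgroupOf L).pow_index_mem (⟨x, hx⟩ : L)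
      rw [mem_subgroupOf] at this
      exact this
    obtain ⟨k, hk⟩ : ∃ k, L₀.relIndex L = 2 * k + 1 := by
      have : L₀.relIndex L % 2 = 1 := by omega
      exact ⟨L₀.relIndex L / 2, by omega⟩
    rw [hk, pow_add, pow_mul, pow_one, pow_two] at h4
    have h5 := mul_mem (inv_mem (L₀.pow_mem h3 k)) h4
    rw [inv_mul_cancel_left] at h5
    exact h5.2
  -- `R = L P_j`
  intro r hr
  have hPj : ∃ q ∈ P j, r * q ∈ centralizer (V j : Set G) := by
    -- first fix `v j`, then the second vector with an element of `T`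
    have hrN := hRj hr
    obtain ⟨b, hb, hb1, hbv⟩ := D.exists_ne_v j
    have hv1 : r⁻¹ * v j * r ∈ V j := (mem_normalizer_iff''.1 hrN _).1 (D.mem j)
    have hv2 : r⁻¹ * v j * r ≠ 1 := by
      intro h1
      apply D.ne j
      have : v j = r * (r⁻¹ * v j * r) * r⁻¹ := by group
      rw [this, h1]; group
    obtain ⟨l, hl, -, hlv⟩ := D.tr hij.symm hv1 hv2
    -- `r l` fixes `v j`
    have hfix : (r * l) * v j * (r * l)⁻¹ = v j := by
      calc (r * l) * v j * (r * l)⁻¹ = r * (l * v j * l⁻¹) * r⁻¹ := by group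
        _ = v j := by rw [hlv]; group
    have hrlN : r * l ∈ normalizer (V j : Set G) := mul_mem hrN (D.PN j j hl)
    have hb2 : (r * l) * b * (r * l)⁻¹ ∈ V j := (mem_normalizer_iff.1 hrlN b).1 hb
    have cent_of : ∀ x : G, x * v j * x⁻¹ = v j → x * b * x⁻¹ = b → x ∈ centralizer (V j : Set G) := by
      intro x hx1 hx2
      refine mem_centralizer_iff.2 fun y hy => ?_
      have hcv : v j * x = x * v j := by
        calc v j * x = (x * v j * x⁻¹) * x := by rw [hx1]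
          _ = x * v j := by group
      have hcb : b * x = x * b := by
        calc b * x = (x * b * x⁻¹) * x := by rw [hx2]
          _ = x * b := by group
      by_cases hy1 : y = 1
      · rw [hy1, one_mul, mul_one]
      rcases D.eq_of_V hb hb1 (D.mem j) (D.ne j) hbv hy hy1 with h1 | h1 | h1
      · rw [h1]; exact hcb
      · rw [h1]; exact hcv
      · rw [h1, mul_assoc, hcv, ← mul_assoc, hcb, mul_assoc]
    rcases D.eq_of_V hb hb1 (D.mem j) (D.ne j) hbv hb2 (fun h1 => hb1 (conj_eq_one_iff.1 h1)) with h1 | h1 | h1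
    · exact ⟨l, hl, cent_of _ hfix h1⟩
    · exfalso
      apply hbv
      have : (r * l) * b * (r * l)⁻¹ = (r * l) * v j * (r * l)⁻¹ := by rw [h1, hfix]
      exact mul_left_cancel (mul_right_cancel this)
    · obtain ⟨t, ht, htb⟩ := D.exists_swap hb hb1 hbv
      refine ⟨l * t, mul_mem hl (D.T_le_P j ht), ?_⟩
      have htv := D.cen j ht
      rw [← mul_assoc]
      refine cent_of _ ?_ ?_
      · calc r * l * t * v j * (r * l * t)⁻¹ = (r * l) * (t * v j * t⁻¹) * (r * l)⁻¹ := by group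
          _ = v j := by rw [htv, hfix]
      · calc r * l * t * b * (r * l * t)⁻¹ = (r * l) * (t * b * t⁻¹) * (r * l)⁻¹ := by group
          _ = ((r * l) * b * (r * l)⁻¹) * ((r * l) * v j * (r * l)⁻¹) := by rw [htb]; group
          _ = b := by rw [h1, hfix, mul_assoc, D.v_sq, mul_one]
  obtain ⟨q, hq, hrq⟩ := hPj
  have h1 : r * q ∈ L := by
    refine ⟨⟨mul_mem (hRi hr) (D.PC j i hij.symm hq), hrq⟩, mul_mem (hRM hr) (P_le_N_sup D j hq)⟩
  have h2 := mul_mem (hLN h1) (inv_mem (D.PN j i hq))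
  rwa [mul_inv_cancel_right] at h2

/-! ### LEMMA FIX -/

include h

/-- **LEMMA FIX** at the level `K` -/
theorem OffK.fix {i : Fin 2} {w : G} (hw : w ∈ OO T V) (hw2 : w * w = 1) (hwK : w ∈ centralizer (K : Set G))
    (hwc : ∀ o ∈ OO T V, o * w * o⁻¹ = w ∨ o * w * o⁻¹ = w * v i) : ∀ o ∈ OO T V, o * w = w * o := by
  obtain ⟨j, hij⟩ : ∃ j : Fin 2, i ≠ j := ⟨i + 1, ne_add_one i⟩
  obtain ⟨A, hAT, hAj, hAi, hoff⟩ := h.off i j hij
  obtain ⟨τ, hτ, hτi⟩ := SetLike.not_le_iff_exists.1 hAi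
  have hτo : τ ∉ o2 (P i) := fun h1 => hτi (by rw [o2_P D i] at h1; exact h1.2)
  obtain ⟨p, hp, hp1, hpv⟩ := D.exists_ne_v i
  obtain ⟨g, hg, -, hgp⟩ := D.tr hij hp hp1
  have hgO := P_le_N_OO D i hg
  have hoT : o2 (P i) ≤ T := o2_le_syl (sylP D i)
  have hgK : g ∈ normalizer (K : Set G) := h.nrm (P i) (OO_le_o2 D i) hoT hg
  set e := g * w * g⁻¹ with he
  have heO : e ∈ OO T V := (mem_normalizer_iff.1 hgO w).1 hw
  have heK : e ∈ centralizer (K : Set G) := by
    refine mem_centralizer_iff.2 fun k hk => ?_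
    have h1 : g⁻¹ * k * g ∈ K := (mem_normalizer_iff''.1 hgK k).1 hk
    have h2 := mem_centralizer_iff.1 hwK _ h1
    calc k * (g * w * g⁻¹) = g * (g⁻¹ * k * g * w) * g⁻¹ := by group
      _ = g * (w * (g⁻¹ * k * g)) * g⁻¹ := by rw [h2]
      _ = g * w * g⁻¹ * k := by group
  have hTO : T ≤ normalizer (OO T V : Set G) := (D.T_le_P i).trans (P_le_N_OO D i)
  have hτK : τ ∈ normalizer (K : Set G) := h.nrm (P i) (OO_le_o2 D i) hoT (D.T_le_P i (hAT hτ))
  have he'K : τ * e * τ⁻¹ ∈ centralizer (K : Set G) := by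
    refine mem_centralizer_iff.2 fun k hk => ?_
    have h1 : τ⁻¹ * k * τ ∈ K := (mem_normalizer_iff''.1 hτK k).1 hk
    have h2 := mem_centralizer_iff.1 heK _ h1
    calc k * (τ * e * τ⁻¹) = τ * (τ⁻¹ * k * τ * e) * τ⁻¹ := by group
      _ = τ * (e * (τ⁻¹ * k * τ)) * τ⁻¹ := by rw [h2]
      _ = τ * e * τ⁻¹ * k := by group
  have dat : LevFix.Dat A (OO T V) (V 0 ⊔ V 1) τ p e :=
    { VO := sup_le_OO D
      OV := fun o ho x hx => OO_comm D ho hx
      V2 := fun x hx => sup_sq D hx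
      AO := fun a ha o ho => (mem_normalizer_iff.1 (hTO (hAT ha)) o).1 ho
      AV := fun a ha x hx => (mem_normalizer_iff.1 (T_le_N_sup D (hAT ha)) x).1 hx
      τA := hτ
      idx := idx_OO D hij hAT hAj hτ hτo
      pV := V_le_sup V i hp
      p1 := hp1
      pτ := by
        rw [moves D (hAT hτ) hτo hp hp1 hpv]
        intro h1
        exact D.ne i (mul_eq_left.1 h1)
      eO := heO
      e2 := by
        calc g * w * g⁻¹ * (g * w * g⁻¹) = g * (w * w) * g⁻¹ := by group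
          _ = 1 := by rw [hw2]; group
      ec := by
        intro o ho
        have ho' : g⁻¹ * o * g ∈ OO T V := (mem_normalizer_iff''.1 hgO o).1 ho
        have e1 : o * e * o⁻¹ = g * ((g⁻¹ * o * g) * w * (g⁻¹ * o * g)⁻¹) * g⁻¹ := by rw [he]; group
        rcases hwc _ ho' with h1 | h1
        · left; rw [e1, h1]
        · right; rw [e1, h1, he, ← hgp]; group
      off := by
        intro F hFO hVF hFc hFcomm hFsq hFA
        refine hoff F hFO (hFc.trans ((closure_le _).2 ?_)) hVF hFcomm hFsq hFA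
        rintro x (hx | hx | hx)
        · exact centralizer_le h.KO (mem_centralizer_iff.2 fun o ho => OO_comm D ho hx)
        · rw [hx]; exact heK
        · have hx' : x = τ * e * τ⁻¹ := hx
          rw [hx']; exact he'K }
  intro o ho
  have ho' : g * o * g⁻¹ ∈ OO T V := (mem_normalizer_iff.1 hgO o).1 ho
  have h1 := dat.main _ ho'
  have e1 : o * w = g⁻¹ * ((g * o * g⁻¹) * e) * g := by rw [he]; group
  rw [e1, h1, he]; group

/-- `|Y : C_Y(A)| ≤ 2`, `Y = Ω₁Z(O)` -/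
theorem OffK.card_zc {i j : Fin 2} (hij : i ≠ j) {A : Subgroup G} (hAT : A ≤ T)
    (hAj : A ≤ centralizer (V j : Set G)) {τ : G} (hτ : τ ∈ A) (hτo : τ ∉ o2 (P i))
    (hoff : ∀ F : Subgroup G, F ≤ OO T V → F ≤ centralizer (K : Set G) → V 0 ⊔ V 1 ≤ F →
      (∀ x ∈ F, ∀ y ∈ F, x * y = y * x) → (∀ x ∈ F, x * x = 1) → A ≤ normalizer (F : Set G) → OffM F A) :
    Nat.card (zc (OO T V)) ≤ 2 * Nat.card (zc (OO T V) ⊓ centralizer (A : Set G) : Subgroup G) := by
  set Y := zc (OO T V) with hY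
  have hYO : Y ≤ OO T V := zc_le _
  have hTO : T ≤ normalizer (OO T V : Set G) := (D.T_le_P i).trans (P_le_N_OO D i)
  have hVY : V 0 ⊔ V 1 ≤ Y := by
    intro x hx
    exact mem_zc.2 ⟨sup_le_OO D hx, fun o ho => (OO_comm D ho hx), by rw [pow_two]; exact sup_sq D hx⟩
  have hOY : OO T V ≤ centralizer (Y : Set G) := by
    intro a ha
    exact mem_centralizer_iff.2 fun y hy => ((mem_zc.1 hy).2.1 a ha).symm
  have h1 := (hoff Y hYO (fun y hy => mem_centralizer_iff.2 fun k hk => (mem_zc.1 hy).2.1 k (h.KO hk)) hVY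
    (fun x hx y hy => (isElementaryAbelian_iff.1 (isElementaryAbelian_zc (OO T V))).1 x hx y hy)
    (fun x hx => by rw [← pow_two]; exact (mem_zc.1 hx).2.2)
    (hAT.trans (hTO.trans (NO3S.Level.normalizer_le_zc _)))).le
  have h2 : Nat.card A ≤ 2 * Nat.card ↥(A ⊓ centralizer (Y : Set G)) := by
    refine (LevFix.le_two_mul (C := A ⊓ OO T V) hτ inf_le_left fun a ha => ?_).trans
      (Nat.mul_le_mul_left _ (Subgroup.card_le_of_le (inf_le_inf_left _ hOY)))
    rcases idx_OO D hij hAT hAj hτ hτo a ha with h3 | h3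
    · exact Or.inl ⟨ha, h3⟩
    · exact Or.inr ⟨mul_mem hτ ha, h3⟩
  have hpos : 0 < Nat.card ↥(A ⊓ centralizer (Y : Set G)) := Nat.card_pos
  refine Nat.le_of_mul_le_mul_right ?_ hpos
  calc Nat.card Y * Nat.card ↥(A ⊓ centralizer (Y : Set G))
      ≤ Nat.card A * Nat.card ↥(Y ⊓ centralizer (A : Set G)) := h1
    _ ≤ (2 * Nat.card ↥(A ⊓ centralizer (Y : Set G))) * Nat.card ↥(Y ⊓ centralizer (A : Set G)) :=
        Nat.mul_le_mul_right _ h2
    _ = _ := by ring

/-- `Ω₁Z(O) ≤ V 0 V 1` -/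
theorem OffK.zc_OO : zc (OO T V) ≤ V 0 ⊔ V 1 := by
  have h01 : (0 : Fin 2) ≠ 1 := by decide
  obtain ⟨A, hAT, hAj, hAi, hoffA⟩ := h.off 0 1 h01
  obtain ⟨B, hBT, hBj, hBi, hoffB⟩ := h.off 1 0 h01.symm
  obtain ⟨τ, hτ, hτi⟩ := SetLike.not_le_iff_exists.1 hAi
  have hτo : τ ∉ o2 (P 0) := fun h1 => hτi (by rw [o2_P D] at h1; exact h1.2)
  obtain ⟨σ, hσ, hσi⟩ := SetLike.not_le_iff_exists.1 hBi
  have hσo : σ ∉ o2 (P 1) := fun h1 => hσi (by rw [o2_P D] at h1; exact h1.2)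
  set Y := zc (OO T V) with hY
  have hYO : Y ≤ OO T V := zc_le _
  have hOT : OO T V ≤ T := fun x hx => (mem_OO.1 hx).1
  have h1 := OffK.card_zc D h h01 hAT hAj hτ hτo hoffA
  have h2 := OffK.card_zc D h h01.symm hBT hBj hσ hσo hoffB
  set YA := Y ⊓ centralizer (A : Set G) with hYA
  set YB := Y ⊓ centralizer (B : Set G) with hYB
  have hcomm : YB ≤ centralizer (YA : Set G) := by
    rintro x ⟨hx, -⟩
    refine mem_centralizer_iff.2 fun y hy => ?_
    exact (isElementaryAbelian_iff.1 (isElementaryAbelian_zc (OO T V))).1 y hy.1 x hx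
  have h3 := card_sup_mul_card_inf hcomm
  have h4 : Nat.card (YA ⊔ YB : Subgroup G) ≤ Nat.card Y := Subgroup.card_le_of_le (sup_le inf_le_left inf_le_left)
  have h5 : YA ⊓ YB ≤ zc T := by
    rintro y ⟨⟨hy, hyA⟩, ⟨-, hyB⟩⟩
    have hy' := mem_zc.1 hy
    have cτ : τ * y = y * τ := mem_centralizer_iff.1 hyA τ hτ
    have cσ : σ * y = y * σ := mem_centralizer_iff.1 hyB σ hσ
    refine mem_zc.2 ⟨hOT (hYO hy), fun t ht => ?_, hy'.2.2⟩
    have key : ∀ s : G, s * y = y * s → s * t * y = y * (s * t) → t * y = y * t := by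
      intro s hs hst
      have h6 : s⁻¹ * y = y * s⁻¹ := by
        calc s⁻¹ * y = s⁻¹ * (y * s) * s⁻¹ := by group
          _ = s⁻¹ * (s * y) * s⁻¹ := by rw [hs]
          _ = y * s⁻¹ := by group
      calc t * y = s⁻¹ * (s * t * y) := by group
        _ = (s⁻¹ * y) * (s * t) := by rw [hst]; group
        _ = y * t := by rw [h6]; group
    have hτc : τ ∈ centralizer (V 1 : Set G) := hAj hτ
    have hσc : σ ∈ centralizer (V 0 : Set G) := hBj hσ
    have hmem : ∀ s ∈ T, s ∈ o2 (P 0) → s ∈ o2 (P 1) → s * y = y * s := by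
      intro s hs h0 h1
      rw [o2_P D] at h0 h1
      exact hy'.2.1 s ((mem_OO' h01).2 ⟨hs, h0.2, h1.2⟩)
    have hσ0 : σ ∈ o2 (P 0) := by rw [o2_P D]; exact ⟨hBT hσ, hσc⟩
    have hτ1 : τ ∈ o2 (P 1) := by rw [o2_P D]; exact ⟨hAT hτ, hτc⟩
    have h1' : ∀ s ∈ T, s ∈ o2 (P 0) → s * y = y * s := by
      intro s hs h0
      by_cases hs1 : s ∈ o2 (P 1)
      · exact hmem s hs h0 hs1
      · have h7 := hmem (σ * s) (mul_mem (hBT hσ) hs) (mul_mem hσ0 h0) (mul_mem_o2 D (hBT hσ) hσo hs hs1)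
        have h6 : σ⁻¹ * y = y * σ⁻¹ := by
          calc σ⁻¹ * y = σ⁻¹ * (y * σ) * σ⁻¹ := by group
            _ = σ⁻¹ * (σ * y) * σ⁻¹ := by rw [cσ]
            _ = y * σ⁻¹ := by group
        calc s * y = σ⁻¹ * (σ * s * y) := by group
          _ = (σ⁻¹ * y) * (σ * s) := by rw [h7]; group
          _ = y * s := by rw [h6]; group
    by_cases ht0 : t ∈ o2 (P 0)
    · exact h1' t ht ht0
    · exact key τ cτ (h1' (τ * t) (mul_mem (hAT hτ) ht) (mul_mem_o2 D (hAT hτ) hτo ht ht0))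
  have h6 : Nat.card (YA ⊓ YB : Subgroup G) ≤ 4 := (Subgroup.card_le_of_le h5).trans (card_zc_le D)
  have h7 : 0 < Nat.card YB := Nat.card_pos
  have hpY : 0 < Nat.card Y := Nat.card_pos
  have h8 : Nat.card Y ≤ 16 := by
    have h9 : Nat.card YA * Nat.card YB ≤ Nat.card Y * 4 := by
      rw [← h3]; exact Nat.mul_le_mul h4 h6
    have h10 : Nat.card Y * Nat.card Y ≤ 16 * Nat.card Y := by
      calc Nat.card Y * Nat.card Y ≤ (2 * Nat.card YA) * (2 * Nat.card YB) := Nat.mul_le_mul h1 h2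
        _ = 4 * (Nat.card YA * Nat.card YB) := by ring
        _ ≤ 4 * (Nat.card Y * 4) := Nat.mul_le_mul_left _ h9
        _ = 16 * Nat.card Y := by ring
    exact Nat.le_of_mul_le_mul_right h10 hpY
  have hVY : V 0 ⊔ V 1 ≤ Y := by
    intro x hx
    exact mem_zc.2 ⟨sup_le_OO D hx, fun o ho => (OO_comm D ho hx), by rw [pow_two]; exact sup_sq D hx⟩
  exact (Subgroup.eq_of_le_of_card_ge hVY (by rw [card_V_sup D h01]; exact h8)).ge

/-- **`Ω₁Z(O₂(P i)) ≤ V i ⟨v j⟩`** -/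
theorem OffK.hZO {i j : Fin 2} (hij : i ≠ j) : zc (o2 (P i)) ≤ V i ⊔ zpowers (v j) := by
  intro x hx
  obtain ⟨hx1, hx2, hx3⟩ := mem_zc.1 hx
  have ho := o2_P D i
  have hVi : V i ≤ o2 (P i) := by
    rw [ho]; exact le_inf (D.V_le_T i) (V_le_cent D i i)
  have hVj : V j ≤ o2 (P i) := by
    rw [ho]; exact le_inf (D.V_le_T j) (V_le_cent D j i)
  have hxO : x ∈ OO T V := by
    rw [ho] at hx1
    exact (mem_OO' hij).2 ⟨hx1.1, hx1.2, mem_centralizer_iff.2 fun y hy => (hx2 y (hVj hy))⟩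
  have hxz : x ∈ zc (OO T V) := mem_zc.2 ⟨hxO, fun o ho => hx2 o (OO_le_o2 D i ho), hx3⟩
  have hxM := OffK.zc_OO D h hxz
  rw [sup_eq_of V hij] at hxM
  obtain ⟨a, ha, b, hb, rfl⟩ := FixEL.mem_sup D hxM
  refine mul_mem_sup ha ?_
  -- `b` is centralised by `C_T(V i)`, which moves `V j`
  by_cases hb1 : b = 1
  · rw [hb1]; exact one_mem _
  by_cases hbv : b = v j
  · rw [hbv]; exact mem_zpowers _
  exfalso
  obtain ⟨A, hAT, hAj, hAi, -⟩ := h.off j i hij.symm
  obtain ⟨σ, hσ, hσi⟩ := SetLike.not_le_iff_exists.1 hAi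
  have hσo : σ ∈ o2 (P i) := by rw [ho]; exact ⟨hAT hσ, hAj hσ⟩
  have h1 := hx2 σ hσo
  have h2 : σ * a = a * σ := (mem_centralizer_iff.1 (hAj hσ) a ha).symm
  have h3 : σ * b * σ⁻¹ = b := by
    have h4 : a * (σ * b) = a * (b * σ) := by
      calc a * (σ * b) = σ * (a * b) := by rw [← mul_assoc, ← h2, mul_assoc]
        _ = a * (b * σ) := by rw [h1, mul_assoc]
    rw [mul_left_cancel h4, mul_inv_cancel_right]
  rcases FixEL.eq_of_fix D (hAT hσ) hσi hb h3 with h4 | h4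
  · exact hb1 h4
  · exact hbv h4

/-- **`hU`** : a minimal parabolic `R` over `T` in `C(v i)` which moves `v j` normalises `V i`. -/
theorem OffK.hU {i j : Fin 2} (hij : i ≠ j) {R : Subgroup G} (hR : IsMinPar T R) (hRi : R ≤ CC v i)
    (hRj : ¬ R ≤ CC v j) : R ≤ normalizer (V i : Set G) := by
  have hN : R ≤ normalizer (V j : Set G) := D.uni j i hij.symm R hR hRi hRj
  have ho := o2_eq D hij.symm hR hRi hRj
  have hoT : o2 R ≤ T := by rw [ho]; exact inf_le_left
  have hOR : OO T V ≤ o2 R := by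
    rw [ho]; exact fun x hx => ⟨(mem_OO.1 hx).1, (mem_OO.1 hx).2 j⟩
  have hRK := h.nrm R hOR hoT
  refine norm_V_of D hij hRi hN ?_
  -- `V i ^ R ≤ V 0 V 1`
  have key : ∀ g ∈ R, ∀ a ∈ V i, g * a * g⁻¹ ∈ V 0 ⊔ V 1 := by
    intro g hg a ha
    have haO : a ∈ OO T V := V_le_OO D i ha
    have hgi : g * v i = v i * g := mem_centralizer_singleton_iff.1 (hRi hg)
    have hao : a ∈ o2 R := by rw [ho]; exact ⟨D.V_le_T i ha, V_le_cent D i j ha⟩
    have h1 : g * a * g⁻¹ ∈ o2 R := (mem_normalizer_iff.1 (le_normalizer_o2 _ hg) a).1 hao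
    have h1T : g * a * g⁻¹ ∈ T := hoT h1
    have h1j : g * a * g⁻¹ ∈ centralizer (V j : Set G) := by rw [ho] at h1; exact h1.2
    -- commutators
    have hcomm : ∀ o ∈ o2 R, o * (g * a * g⁻¹) * o⁻¹ = g * a * g⁻¹ ∨
        o * (g * a * g⁻¹) * o⁻¹ = g * a * g⁻¹ * v i := by
      intro o hoo
      have h2 : g⁻¹ * o * g ∈ o2 R := (mem_normalizer_iff''.1 (le_normalizer_o2 _ hg) o).1 hoo
      have e1 : o * (g * a * g⁻¹) * o⁻¹ = g * ((g⁻¹ * o * g) * a * (g⁻¹ * o * g)⁻¹) * g⁻¹ := by group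
      rw [e1]
      have h3 := D.comm_VQ i ha (hoT h2)
      set s := g⁻¹ * o * g with hs
      have e2 : s * a * s⁻¹ = a * (a * s * a⁻¹ * s⁻¹)⁻¹ * 1 := by
        have haa : a * a = 1 := by rw [← pow_two]; exact D.sqV i a ha
        have hai : a⁻¹ = a := inv_eq_of_mul_eq_one_left haa
        -- `[a,s]⁻¹ = s a s⁻¹ a⁻¹` and it commutes with `a`
        have h4 : (a * s * a⁻¹ * s⁻¹)⁻¹ = s * a * s⁻¹ * a⁻¹ := by group
        have h5 : s * a * s⁻¹ ∈ V i := (mem_normalizer_iff.1 (D.T_le_N i (hoT h2)) a).1 ha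
        have h6 := D.V_comm ha h5
        rw [mul_one, h4]
        calc s * a * s⁻¹ = s * a * s⁻¹ * a * a⁻¹ := by group
          _ = a * (s * a * s⁻¹) * a⁻¹ := by rw [h6]
          _ = a * (s * a * s⁻¹ * a⁻¹) := by group
      rw [mul_one] at e2
      rcases mem_zpow_cases D i (inv_mem h3) with h4 | h4
      · left; rw [e2, h4, mul_one]
      · right
        rw [e2, h4]
        calc g * (a * v i) * g⁻¹ = g * a * (v i * g⁻¹) := by group
          _ = g * a * (g⁻¹ * v i) := by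
            have : v i * g⁻¹ = g⁻¹ * v i := by
              calc v i * g⁻¹ = g⁻¹ * (g * v i) * g⁻¹ := by group
                _ = g⁻¹ * (v i * g) * g⁻¹ := by rw [hgi]
                _ = g⁻¹ * v i := by group
            rw [this]
          _ = g * a * g⁻¹ * v i := by group
    -- `g a g⁻¹` centralises `V i`: it commutes with `V i` up to ..
    have hK : g * a * g⁻¹ ∈ centralizer (K : Set G) := by
      refine mem_centralizer_iff.2 fun k hk => ?_
      have h2 : g⁻¹ * k * g ∈ K := (mem_normalizer_iff''.1 (hRK hg) k).1 hk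
      have h3 := mem_centralizer_iff.1 ((mem_OO.1 (h.KO h2)).2 i) a ha
      calc k * (g * a * g⁻¹) = g * (g⁻¹ * k * g * a) * g⁻¹ := by group
        _ = g * (a * (g⁻¹ * k * g)) * g⁻¹ := by rw [← h3]
        _ = g * a * g⁻¹ * k := by group
    have hW : g * a * g⁻¹ ∈ WU V v i := (mem_normalizer_iff.1 (D.C_le_N_W i (hRi hg)) a).1 (D.V_le_W i ha)
    have hO : g * a * g⁻¹ ∈ OO T V := by
      refine (mem_OO' hij).2 ⟨h1T, ?_, h1j⟩
      exact centralizer_le (D.V_le_W i) (D.W_comm i hW)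
    have h2 : g * a * g⁻¹ * (g * a * g⁻¹) = 1 := by
      have haa : a * a = 1 := by rw [← pow_two]; exact D.sqV i a ha
      calc g * a * g⁻¹ * (g * a * g⁻¹) = g * (a * a) * g⁻¹ := by group
        _ = 1 := by rw [haa]; group
    have h3 := OffK.fix D h hO h2 hK fun o ho => hcomm o (hOR ho)
    exact OffK.zc_OO D h (mem_zc.2 ⟨hO, h3, by rw [pow_two]; exact h2⟩)
  intro g hg
  apply ZN.ChoiceBase.mem_normalizer_of_cj_le
  have e : ZN.ChoiceBase.cj g (V 0 ⊔ V 1) = ZN.ChoiceBase.cj g (V i) ⊔ ZN.ChoiceBase.cj g (V j) := by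
    rw [sup_eq_of V hij]
    exact Subgroup.map_sup _ _ _
  rw [e]
  refine sup_le ?_ ?_
  · rintro _ ⟨a, ha, rfl⟩
    exact key g hg a ha
  · rintro _ ⟨a, ha, rfl⟩
    exact V_le_sup V j ((mem_normalizer_iff.1 (hN hg) a).1 ha)

omit h in
/-- stage `-1` -/
theorem offK_of_hJ (hJ : ∀ i, ¬ jj T ≤ o2 (P i)) : OffK T V ⊥ where
  KO := bot_le
  nrm := fun H _ _ x _ => by
    rw [mem_normalizer_iff]
    intro y
    rw [mem_bot, mem_bot]
    exact conj_eq_one_iff.symm
  off := by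
    intro i j hij
    obtain ⟨A, hA, hAj, τ, hτ, hτo⟩ := FixEL.exists_A D hJ hij
    have hAi : ¬ A ≤ centralizer (V i : Set G) := fun hh => hτo (by rw [o2_P D i]; exact ⟨hA.1 hτ, hh hτ⟩)
    refine ⟨A, hA.1, hAj, hAi, fun F hF _ hVF hFc hFs hAF => ?_⟩
    have hAc := (isElementaryAbelian_iff.1 hA.2.1).1
    have hAs := (isElementaryAbelian_iff.1 hA.2.1).2
    refine { sq := fun a ha => by rw [hAs a ha]; exact one_mem _
             comm := fun a ha b hb => by
              rw [hAc a ha b hb, mul_inv_cancel_right, mul_inv_cancel]; exact one_mem _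
             ne := fun hh => hAi (hh.trans (centralizer_le ((V_le_sup V i).trans hVF)))
             le := ?_ }
    have hFe : IsElementaryAbelian 2 F := isElementaryAbelian_iff.2 ⟨hFc, fun x hx => by rw [pow_two]; exact hFs x hx⟩
    have hFT : F ≤ T := hF.trans fun x hx => (mem_OO.1 hx).1
    have hc : A ⊓ centralizer (F : Set G) ≤ centralizer (F : Set G) := inf_le_right
    have h1 := card_sup_mul_card_inf hc
    have h2 : Nat.card (F ⊔ (A ⊓ centralizer (F : Set G)) : Subgroup G) ≤ Nat.card A :=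
      hA.2.2 _ (sup_le hFT (inf_le_left.trans hA.1))
        (isElementaryAbelian_sup hFe (isElementaryAbelian_mono hA.2.1 inf_le_left) hc)
    have h3 : Nat.card (F ⊓ (A ⊓ centralizer (F : Set G)) : Subgroup G) ≤ Nat.card ↥(F ⊓ centralizer (A : Set G)) := by
      refine Subgroup.card_le_of_le (inf_le_inf_left _ (inf_le_left.trans ?_))
      intro a ha
      exact mem_centralizer_iff.2 fun b hb => hAc b hb a ha
    rw [← h1]
    exact Nat.mul_le_mul h2 h3

end

section mul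

open Cfsg.Agent.Omega.OM
open Cfsg.Agent.Omega.Node.MultiOf
open Cfsg.Agent.Omega.NO3S.Level (lev nxt BO)

variable [Finite G] {S : Sylow 2 G} {P' K B ZJ : Subgroup G} {L W Z C R : Fin 2 → Subgroup G} {v : Fin 2 → G}

/-- `O = C_T(V 0 V 1) = O₂(P)` -/
theorem OO_eq (D : KTwo.Sit S P' ((S : Subgroup G) ⊓ normalizer (Z 0 : Set G)) W v) :
    OO ((S : Subgroup G) ⊓ normalizer (Z 0 : Set G)) W = o2 P' := by
  set T := (S : Subgroup G) ⊓ normalizer (Z 0 : Set G) with hT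
  have h1 := IsParS.inf_centralizer S D.hyp.ctx.char2 D.hyp.star
  apply le_antisymm
  · rw [← h1]
    intro x hx
    obtain ⟨hxT, hx⟩ := mem_OO.1 hx
    refine ⟨hxT.1, ?_⟩
    have h2 : W 0 ⊔ W 1 ≤ centralizer ({x} : Set G) := by
      refine sup_le ?_ ?_ <;>
        exact fun y hy => mem_centralizer_singleton_iff.2 (mem_centralizer_iff.1 (hx _) y hy)
    exact mem_centralizer_iff.2 fun y hy => mem_centralizer_singleton_iff.1 (h2 (D.sup 0 1 (by decide) hy))
  · intro x hx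
    rw [← h1] at hx
    have h2 : ∀ i, x ∈ centralizer (W i : Set G) := fun i => centralizer_le (D.le i) hx.2
    refine mem_OO.2 ⟨?_, h2⟩
    rw [D.T_eq 0]
    exact ⟨hx.1, centralizer_le_normalizer _ (h2 0)⟩

/-- best offenders with smaller image -/
theorem best_inf {X V A : Subgroup G} (hb : Best X A) (hV : V ≤ X) (hX : ∀ x ∈ X, ∀ y ∈ X, x * y = y * x)
    (hA2 : Nat.card A ≤ 2 * Nat.card ↥(A ⊓ centralizer (V : Set G))) (hne : ¬ A ≤ centralizer (V : Set G)) :
    Best X (A ⊓ centralizer (V : Set G)) := by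
  refine { toElemM := NO1.BestOff.ElemM.mono hb.toElemM inf_le_left, max := fun Y hY hYc => ?_ }
  have h1 : A ⊓ centralizer (X : Set G) ≤ Y :=
    le_trans (le_inf (le_inf inf_le_left (inf_le_right.trans (centralizer_le hV))) inf_le_right) hYc
  refine (hb.max Y (hY.trans inf_le_left) h1).trans ?_
  obtain ⟨a, ha, haV⟩ := SetLike.not_le_iff_exists.1 hne
  obtain ⟨x, hx, hax⟩ : ∃ x ∈ V, a * x ≠ x * a := by
    by_contra hcon
    push Not at hcon
    exact haV (mem_centralizer_iff.2 fun y hy => (hcon y hy).symm)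
  have h2 : 2 * Nat.card ↥(X ⊓ centralizer (A : Set G)) ≤
      Nat.card ↥(X ⊓ centralizer ((A ⊓ centralizer (V : Set G) : Subgroup G) : Set G)) := by
    refine LevFix.two_mul_le (inf_le_inf_left _ (centralizer_le inf_le_left)) (x := x) ⟨hV hx, ?_⟩ ?_
    · exact mem_centralizer_iff.2 fun b hb => (mem_centralizer_iff.1 hb.2 x hx).symm
    · intro hh
      exact hax (mem_centralizer_iff.1 hh.2 a ha)
  calc Nat.card A * Nat.card ↥(X ⊓ centralizer (A : Set G))
      ≤ (2 * Nat.card ↥(A ⊓ centralizer (V : Set G))) * Nat.card ↥(X ⊓ centralizer (A : Set G)) :=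
        Nat.mul_le_mul_right _ hA2
    _ = Nat.card ↥(A ⊓ centralizer (V : Set G)) * (2 * Nat.card ↥(X ⊓ centralizer (A : Set G))) := by ring
    _ ≤ _ := Nat.mul_le_mul_left _ h2

/-- **stage `n`** -/
theorem offK_of_lev (hF : Fr ((S : Subgroup G) ⊓ normalizer (Z 0 : Set G)) W R v)
    (D : KTwo.Sit S P' ((S : Subgroup G) ⊓ normalizer (Z 0 : Set G)) W v) {n : ℕ}
    (hn : lev (S : Subgroup G) n ≤ o2 P') (hn1 : ¬ lev (S : Subgroup G) (n + 1) ≤ o2 P')
    (hT : lev (S : Subgroup G) (n + 1) ≤ (S : Subgroup G) ⊓ normalizer (Z 0 : Set G)) :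
    OffK ((S : Subgroup G) ⊓ normalizer (Z 0 : Set G)) W (lev (S : Subgroup G) n) := by
  set T := (S : Subgroup G) ⊓ normalizer (Z 0 : Set G) with hTdef
  have hOO := OO_eq D
  have hlev := NO3S.Level.lev_isLev (S : Subgroup G) n
  have hTS : T ≤ (S : Subgroup G) := inf_le_left
  have hKO : lev (S : Subgroup G) n ≤ OO T W := by rw [hOO]; exact hn
  have hOOS : OO T W ≤ (S : Subgroup G) := fun x hx => hTS (mem_OO.1 hx).1
  set X := zc (lev (S : Subgroup G) n) with hX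
  have hVX : ∀ i, W i ≤ X := by
    intro i x hx
    have h1 : x ∈ zc (OO T W) := mem_zc.2 ⟨V_le_OO hF i hx, fun o ho => OO_comm hF ho (V_le_sup W i hx), hF.sqV i x hx⟩
    exact hlev.zc_le_zc hKO hOOS h1
  have hXc : ∀ x ∈ X, ∀ y ∈ X, x * y = y * x := fun x hx y hy => NO3S.Level.Lev.zc_comm hx hy
  -- a best offender which moves `W 0 W 1`
  obtain ⟨A, hA, hAQ⟩ := NO3S.exists_BO D.hyp.ctx.char2 D.hyp.star hn hn1
  have hAT : A ≤ T := (NO3S.Level.BO.le_nxt hA).trans hT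
  have hAX : Best X A := hA.2
  -- the family of best offenders in `T` on `X`
  have key : ∃ i j : Fin 2, i ≠ j ∧ ∃ A' ≤ T, A' ≤ centralizer (W j : Set G) ∧ ¬ A' ≤ centralizer (W i : Set G) ∧
      Best X A' := by
    have h01 : (0 : Fin 2) ≠ 1 := by decide
    by_cases h1 : A ≤ centralizer (W 1 : Set G)
    · refine ⟨0, 1, h01, A, hAT, h1, fun h0 => hAQ ?_, hAX⟩
      rw [← hOO]
      exact fun a ha => (mem_OO' h01).2 ⟨hAT ha, h0 ha, h1 ha⟩
    by_cases h0 : A ≤ centralizer (W 0 : Set G)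
    · exact ⟨1, 0, h01.symm, A, hAT, h0, h1, hAX⟩
    -- `A` moves both
    obtain ⟨τ, hτ, hτ1⟩ := SetLike.not_le_iff_exists.1 h1
    have hτo : τ ∉ o2 (R 1) := fun hh => hτ1 (by rw [o2_P hF] at hh; exact hh.2)
    have hA2 : Nat.card A ≤ 2 * Nat.card ↥(A ⊓ centralizer (W 1 : Set G)) := by
      refine LevFix.le_two_mul hτ inf_le_left fun a ha => ?_
      by_cases hao : a ∈ o2 (R 1)
      · rw [o2_P hF] at hao
        exact Or.inl ⟨ha, hao.2⟩
      · have h2 := mul_mem_o2 hF (hAT hτ) hτo (hAT ha) hao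
        rw [o2_P hF] at h2
        exact Or.inr ⟨mul_mem hτ ha, h2.2⟩
    have hb := best_inf hAX (hVX 1) hXc hA2 h1
    refine ⟨0, 1, h01, A ⊓ centralizer (W 1 : Set G), inf_le_left.trans hAT, inf_le_right, fun hcon => ?_, hb⟩
    -- otherwise `A` induces on `W 0 W 1` a group of order 2, `|W 0 W 1 : C(A)| = 4`
    have hoff := hAX.offM (W := W 0 ⊔ W 1) (sup_le (hVX 0) (hVX 1))
      (fun hh => h1 (hh.trans (centralizer_le (V_le_sup W 1))))
    have hle := hoff.le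
    have hcC : Nat.card ↥(A ⊓ centralizer (W 1 : Set G)) ≤
        Nat.card ↥(A ⊓ centralizer ((W 0 ⊔ W 1 : Subgroup G) : Set G)) := by
      refine Subgroup.card_le_of_le (le_inf inf_le_left fun a ha => ?_)
      have hc0 := hcon ha
      have h2 : W 0 ⊔ W 1 ≤ centralizer ({a} : Set G) := by
        refine sup_le ?_ ?_
        · exact fun y hy => mem_centralizer_singleton_iff.2 (mem_centralizer_iff.1 hc0 y hy)
        · exact fun y hy => mem_centralizer_singleton_iff.2 (mem_centralizer_iff.1 ha.2 y hy)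
      exact mem_centralizer_iff.2 fun y hy => mem_centralizer_singleton_iff.1 (h2 hy)
    have hfix : Nat.card ↥((W 0 ⊔ W 1) ⊓ centralizer (A : Set G)) ≤ 4 := by
      refine (Subgroup.card_le_of_le ?_).trans (card_zc_le hF)
      rintro x ⟨hx, hxA⟩
      obtain ⟨a, ha, b, hb', rfl⟩ := FixEL.mem_sup hF hx
      obtain ⟨σ, hσ, hσ0⟩ := SetLike.not_le_iff_exists.1 h0
      -- an element moving both
      have hσ1 : σ ∉ centralizer (W 1 : Set G) := fun hh => hσ0 (hcon ⟨hσ, hh⟩)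
      have h4 : σ * (a * b) * σ⁻¹ = a * b := by
        have := mem_centralizer_iff.1 hxA σ hσ
        rw [this, mul_inv_cancel_right]
      have h5 : σ * a * σ⁻¹ ∈ W 0 := (mem_normalizer_iff.1 (hF.T_le_N 0 (hAT hσ)) a).1 ha
      have h6 : σ * b * σ⁻¹ ∈ W 1 := (mem_normalizer_iff.1 (hF.T_le_N 1 (hAT hσ)) b).1 hb'
      have h7 : a⁻¹ * (σ * a * σ⁻¹) = b * (σ * b * σ⁻¹)⁻¹ := by
        have e : σ * (a * b) * σ⁻¹ = (σ * a * σ⁻¹) * (σ * b * σ⁻¹) := by group
        rw [e] at h4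
        calc a⁻¹ * (σ * a * σ⁻¹) = a⁻¹ * ((σ * a * σ⁻¹) * (σ * b * σ⁻¹)) * (σ * b * σ⁻¹)⁻¹ := by group
          _ = b * (σ * b * σ⁻¹)⁻¹ := by rw [h4]; group
      have h8 : a⁻¹ * (σ * a * σ⁻¹) ∈ W 0 ⊓ W 1 :=
        mem_inf.2 ⟨mul_mem (inv_mem ha) h5, by rw [h7]; exact mul_mem hb' (inv_mem h6)⟩
      rw [FixEL.V_inf hF h01, mem_bot] at h8
      have h9 : σ * a * σ⁻¹ = a := by rw [inv_mul_eq_one] at h8; exact h8.symm
      have h10 : σ * b * σ⁻¹ = b := by
        rw [h8, eq_comm, mul_inv_eq_one] at h7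
        exact h7.symm
      refine mul_mem ?_ ?_
      · rcases FixEL.eq_of_fix hF (hAT hσ) hσ0 ha h9 with h | h
        · rw [h]; exact one_mem _
        · rw [h]; exact hF.v_mem_zc 0
      · rcases FixEL.eq_of_fix hF (hAT hσ) hσ1 hb' h10 with h | h
        · rw [h]; exact one_mem _
        · rw [h]; exact hF.v_mem_zc 1
    rw [FixEL.card_V_sup hF h01] at hle
    have hpos : 0 < Nat.card ↥(A ⊓ centralizer ((W 0 ⊔ W 1 : Subgroup G) : Set G)) := Nat.card_pos
    have h11 : Nat.card A * Nat.card ↥((W 0 ⊔ W 1) ⊓ centralizer (A : Set G)) ≤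
        (2 * Nat.card ↥(A ⊓ centralizer ((W 0 ⊔ W 1 : Subgroup G) : Set G))) * 4 :=
      Nat.mul_le_mul (hA2.trans (Nat.mul_le_mul_left _ hcC)) hfix
    omega
  -- the swap
  have all : ∀ i j : Fin 2, i ≠ j → ∃ A' ≤ T, A' ≤ centralizer (W j : Set G) ∧ ¬ A' ≤ centralizer (W i : Set G) ∧
      Best X A' := by
    obtain ⟨i₀, j₀, hij₀, A', hA'T, hA'j, hA'i, hA'b⟩ := key
    intro i j hij
    by_cases hi : i = i₀
    · have hj : j = j₀ := by rw [eq_add_one hij, hi, ← eq_add_one hij₀]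
      rw [hi, hj]
      exact ⟨A', hA'T, hA'j, hA'i, hA'b⟩
    · have hi' : i = j₀ := by
        have := eq_add_one (i := i₀) (j := i) (Ne.symm hi)
        rw [this, ← eq_add_one hij₀]
      have hj' : j = i₀ := by
        have h1 := eq_add_one hij
        rw [hi'] at h1
        have h2 := eq_add_one hij₀.symm
        rw [h1, ← h2]
      obtain ⟨s, hs, -, hsw⟩ := D.swap
      have hsT : MulAut.conj s • T = T := by
        refine Subgroup.eq_of_le_of_card_ge ?_ (ZN.ChoiceBase.card_cj s T).ge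
        rintro _ ⟨t, ht, rfl⟩
        change s * t * s⁻¹ ∈ T
        have h2 : t ∈ (S : Subgroup G) ⊓ normalizer (W 0 : Set G) := by
          have h1 : t ∈ T := ht
          rwa [D.T_eq 0] at h1
        rw [D.T_eq 1]
        refine mem_inf.2 ⟨mul_mem (mul_mem hs h2.1) (inv_mem hs), ?_⟩
        have h3 : t ∈ normalizer (W 0 : Set G) := h2.2
        rw [ZN.ChoiceBase.mem_normalizer_iff_cj] at h3 ⊢
        have e : ∀ (g : G) (Y : Subgroup G), ZN.ChoiceBase.cj g Y = MulAut.conj g • Y := fun g Y => rfl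
        rw [e] at h3 ⊢
        rw [← (hsw 0 1 (by decide)).1, ← mul_smul, ← map_mul]
        have e2 : s * t * s⁻¹ * s = s * t := by group
        rw [e2, map_mul, mul_smul, h3]
      have hsK : s ∈ normalizer (lev (S : Subgroup G) n : Set G) := hlev.S_norm hs
      have hsX : s ∈ normalizer (X : Set G) := NO3S.Level.normalizer_le_zc _ hsK
      have cc : ∀ (Y Y' : Subgroup G), Y ≤ centralizer (Y' : Set G) ↔
          MulAut.conj s • Y ≤ centralizer ((MulAut.conj s • Y' : Subgroup G) : Set G) := by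
        intro Y Y'
        have e : MulAut.conj s • centralizer (Y' : Set G) = centralizer ((MulAut.conj s • Y' : Subgroup G) : Set G) :=
          ZN.ChoiceBase.cj_centralizer s _
        rw [← e, NoFF.Basic.conj_le_iff]
      refine ⟨MulAut.conj s • A', ?_, ?_, ?_, hA'b.conj_smul hsX⟩
      · rw [← hsT]; exact NoFF.Basic.conj_le_iff.2 hA'T
      · rw [hj', ← (hsw j₀ i₀ hij₀.symm).1]
        exact (cc _ _).1 hA'j
      · rw [hi', ← (hsw i₀ j₀ hij₀).1]
        exact fun hh => hA'i ((cc _ _).2 hh)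
  refine ⟨hKO, fun H h1 h2 => hlev.le_norm_of_o2 (hKO.trans h1) (h2.trans hTS), fun i j hij => ?_⟩
  obtain ⟨A', h1, h2, h3, h4⟩ := all i j hij
  refine ⟨A', h1, h2, h3, fun F hFO hFK hVF hFc hFs _ => h4.offM ?_ fun hh =>
    h3 (hh.trans (centralizer_le ((V_le_sup W i).trans hVF)))⟩
  -- `F ≤ X`
  intro x hx
  refine hlev.mem_of_comm (hOOS (hFO hx)) (by rw [pow_two]; exact hFs x hx) fun y hy => ?_
  exact (mem_centralizer_iff.1 (hFK hx) y hy)

end mul

end Cfsg.Agent.Omega.TC
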