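import Cfsg.Agent.Omega.TC.Fr

/-!
# CARD #18791 "(E) = TWO CENTRES", `q = 2`: (F3), (W) (paper: bb OMEGA #19727, helper148)

* `Fr.fThree` : **(F3)** an element `k` of `C_i` with `[W_i, k] ≤ ⟨v i⟩` centralises `N_i`;
* `Fr.lw` : **(W)** `[N_0, N_1] ≠ 1 ⇒ v (i+1) ∈ W_i` for some `i`, that is `N_i ≤ W_i`.
-/

set_option autoImplicit false
set_option linter.unusedSectionVars false

namespace Cfsg.Agent.Omega.TC

open Subgroup Cfsg Cfsg.Agent.ZN Cfsg.Agent.Omega.MinPar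
open Cfsg.Agent.Omega.OM.KTwo (CC QQ WU NU EU FF ne_add_one eq_add_one add_one_add_one le_normalizer_V le_V)
open Cfsg.Agent.Omega.NoFF.Basic (conj_conj mem_conj conj_le_iff conj_le_centralizer comm_symm comm_mono
  Z_le_V V_le conj_V_mul)
open Cfsg.Agent.MinSimple.VModule (mem_zc zc_le le_normalizer_o2 o2_le)
open scoped Pointwise

universe u

variable {G : Type u} [Group G]

theorem le_normalizer_of' {K X : Subgroup G} (h : ∀ k ∈ K, ∀ x ∈ X, k * x * k⁻¹ ∈ X) :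
    K ≤ normalizer (X : Set G) := by
  intro k hk
  rw [mem_normalizer_iff]
  intro x
  refine ⟨fun hx => h k hk x hx, fun hx => ?_⟩
  have h1 := h k⁻¹ (inv_mem hk) _ hx
  have e : k⁻¹ * (k * x * k⁻¹) * k⁻¹⁻¹ = x := by group
  rwa [e] at h1

namespace Fr

variable [Finite G] {T : Subgroup G} {V P : Fin 2 → Subgroup G} {v : Fin 2 → G} (D : Fr T V P v)

include D

theorem conj_zpowers_v (i : Fin 2) {c z : G} (hc : c ∈ CC v i) (hz : z ∈ zpowers (v i)) : c * z * c⁻¹ = z := by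
  obtain ⟨n, rfl⟩ := mem_zpowers_iff.1 hz
  have h1 : Commute c (v i) := mem_centralizer_singleton_iff.1 hc
  rw [(h1.zpow_right n).eq]
  group

/-- **(F3)**: `k ∈ C_i`, `[W_i, k] ≤ ⟨v i⟩` ⇒ `k` centralises `N_i`. -/
theorem fThree (i : Fin 2) {k : G} (hk : k ∈ CC v i)
    (h : ∀ w ∈ WU V v i, k * w * k⁻¹ * w⁻¹ ∈ zpowers (v i)) : k ∈ centralizer (NU V v i : Set G) := by
  let K : Subgroup G :=
    { carrier := {k | k ∈ CC v i ∧ ∀ w ∈ WU V v i, k * w * k⁻¹ * w⁻¹ ∈ zpowers (v i)}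
      one_mem' := ⟨one_mem _, fun w _ => by simp⟩
      mul_mem' := by
        rintro a b ⟨ha, ha'⟩ ⟨hb, hb'⟩
        refine ⟨mul_mem ha hb, fun w hw => ?_⟩
        have e : a * b * w * (a * b)⁻¹ * w⁻¹ = (a * (b * w * b⁻¹ * w⁻¹) * a⁻¹) * (a * w * a⁻¹ * w⁻¹) := by group
        rw [e, D.conj_zpowers_v i ha (hb' w hw)]
        exact mul_mem (hb' w hw) (ha' w hw)
      inv_mem' := by
        rintro a ⟨ha, ha'⟩
        refine ⟨inv_mem ha, fun w hw => ?_⟩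
        have e : a⁻¹ * w * a⁻¹⁻¹ * w⁻¹ = a⁻¹ * (a * w * a⁻¹ * w⁻¹)⁻¹ * a⁻¹⁻¹ := by group
        rw [e, D.conj_zpowers_v i (inv_mem ha) (inv_mem (ha' w hw))]
        exact inv_mem (ha' w hw) }
  have hKC : K ≤ CC v i := fun x hx => hx.1
  have hKn : CC v i ≤ normalizer (K : Set G) := by
    refine le_normalizer_of' fun c hc x hx => ⟨mul_mem (mul_mem hc hx.1) (inv_mem hc), fun w hw => ?_⟩
    have h1 : c⁻¹ * w * c ∈ WU V v i := by
      have := (mem_normalizer_iff.1 (D.C_le_N_W i (inv_mem hc)) w).1 hw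
      rwa [inv_inv] at this
    have e : c * x * c⁻¹ * w * (c * x * c⁻¹)⁻¹ * w⁻¹ =
        c * (x * (c⁻¹ * w * c) * x⁻¹ * (c⁻¹ * w * c)⁻¹) * c⁻¹ := by group
    rw [e, D.conj_zpowers_v i hc (hx.2 _ h1)]
    exact hx.2 _ h1
  have hKN : K ≤ normalizer (V i : Set G) := by
    refine le_normalizer_of' fun x hx y hy => ?_
    have h1 := hx.2 y (D.V_le_W i hy)
    have e : x * y * x⁻¹ = (x * y * x⁻¹ * y⁻¹) * y := by group
    rw [e]
    exact mul_mem (zpowers_le.2 (D.mem i) h1) hy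
  have key : K ≤ centralizer (NU V v i : Set G) := by
    by_contra hcon
    refine D.comp i fun c hc => ?_
    obtain ⟨x, hx, d, hd, e⟩ := D.lem0 hKC hKn hcon c⁻¹ (inv_mem hc)
    refine ⟨d⁻¹, inv_mem hd, x⁻¹, inv_mem (hKN hx), ?_⟩
    rw [← mul_inv_rev, ← e, inv_inv]
  exact key ⟨hk, h⟩

/-- an element of `C_i` centralising `W_i` centralises `N_i` -/
theorem cent_N_of_cent_W (i : Fin 2) {X : Subgroup G} (hX : X ≤ CC v i)
    (h : X ≤ centralizer (WU V v i : Set G)) : X ≤ centralizer (NU V v i : Set G) := by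
  intro k hk
  refine D.fThree i (hX hk) fun w hw => ?_
  have h1 := mem_centralizer_iff.1 (h hk) w hw
  have e : k * w * k⁻¹ * w⁻¹ = 1 := by rw [← h1]; group
  rw [e]
  exact one_mem _

/-- `N_i` is generated by the conjugates of `v (i+1)` -/
theorem N_le_of (i : Fin 2) {U : Subgroup G} (hv : v (i + 1) ∈ U) (hC : CC v i ≤ normalizer (U : Set G)) :
    NU V v i ≤ U := by
  refine V_le fun c hc w hw => ?_
  rw [mem_conj] at hw
  by_cases hw1 : w = 1
  · rw [hw1]; exact one_mem U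
  have hw1' : c⁻¹ * w * c ≠ 1 := by
    intro h
    apply hw1
    have h3 := congrArg (fun t => c * t * c⁻¹) h
    simpa [mul_assoc] using h3
  obtain ⟨l, hl, -, hlw⟩ := D.tr (ne_add_one i).symm hw hw1'
  have hlC : l ∈ CC v i := D.PC (i + 1) i (ne_add_one i).symm hl
  have h3 : w = (c * l) * v (i + 1) * (c * l)⁻¹ := by
    have e : (c * l) * v (i + 1) * (c * l)⁻¹ = c * (l * v (i + 1) * l⁻¹) * c⁻¹ := by group
    rw [e, hlw]; group
  rw [h3]
  exact (mem_normalizer_iff.1 (hC (mul_mem hc hlC)) _).1 hv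

/-- `v (i+1) ∈ W_i ⇒ N_i ≤ W_i` -/
theorem N_le_W (i : Fin 2) (h : v (i + 1) ∈ WU V v i) : NU V v i ≤ WU V v i := D.N_le_of i h (D.C_le_N_W i)

/-- `x ∈ T`-invariant subgroup `X` of exponent 2 fixed by `T` -/
theorem mem_zT {x : G} (hx : x ∈ T) (hx2 : x ^ 2 = 1) (hf : ∀ t ∈ T, t * x = x * t) :
    x = 1 ∨ x = v 0 ∨ x = v 1 ∨ x = v 0 * v 1 := (D.zT x).1 (mem_zc.2 ⟨hx, hf, hx2⟩)

/-- the same, seen from `i` -/
theorem mem_zT' (i : Fin 2) {x : G} (hx : x ∈ T) (hx2 : x ^ 2 = 1) (hf : ∀ t ∈ T, t * x = x * t) :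
    x = 1 ∨ x = v i ∨ x = v (i + 1) ∨ x = v i * v (i + 1) := by
  rcases Fin.exists_fin_two.1 ⟨i, rfl⟩ with h | h
  · rw [h]; exact D.mem_zT hx hx2 hf
  · rw [h]
    have e : (1 : Fin 2) + 1 = 0 := rfl
    rw [e, D.comm_v 0 (D.v_mem_T 1)]
    rcases D.mem_zT hx hx2 hf with h | h | h | h
    · exact Or.inl h
    · exact Or.inr (Or.inr (Or.inl h))
    · exact Or.inr (Or.inl h)
    · exact Or.inr (Or.inr (Or.inr h))

/-- **(W)**: `[N_0, N_1] ≠ 1` ⇒ `v 1 ∈ W_0` or `v 0 ∈ W_1`. -/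
theorem lw (h : ¬ NU V v 0 ≤ centralizer (NU V v 1 : Set G)) : ∃ i : Fin 2, v (i + 1) ∈ WU V v i := by
  by_contra hcon
  push Not at hcon
  -- the `T`-fixed elements of `W_i`
  have hfix : ∀ i : Fin 2, ∀ x ∈ WU V v i, (∀ t ∈ T, t * x = x * t) → x = 1 ∨ x = v i := by
    intro i x hx hf
    rcases D.mem_zT' i (D.W_le_T i hx) (D.W_sq i x hx) hf with h1 | h1 | h1 | h1
    · exact Or.inl h1
    · exact Or.inr h1
    · exact absurd (h1 ▸ hx) (hcon i)
    · exfalso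
      apply hcon i
      have h2 : v (i + 1) = (v i)⁻¹ * x := by rw [h1]; group
      rw [h2]
      exact mul_mem (inv_mem (D.V_le_W i (D.mem i))) hx
  have hI : WU V v 0 ⊓ WU V v 1 = ⊥ := by
    by_contra hne
    obtain ⟨x, hx, hx1, hxT⟩ := NoFF.LinesPlug.exists_fixed (S := T) (N := WU V v 0 ⊓ WU V v 1) D.T_isPGroup
      (inf_le_left.trans (D.W_le_T 0)) (Cfsg.Agent.Omega.NO3L.LemP.le_normalizer_inf
        ((D.T_le_C 0).trans (D.C_le_N_W 0)) ((D.T_le_C 1).trans (D.C_le_N_W 1))) hne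
    have h0 := (hfix 0 x hx.1 hxT).resolve_left hx1
    have h1 := (hfix 1 x hx.2 hxT).resolve_left hx1
    apply hcon 0
    have e : (0 : Fin 2) + 1 = 1 := rfl
    rw [e, ← h1]
    exact hx.1
  have hWW : WU V v 1 ≤ centralizer (WU V v 0 : Set G) := by
    intro y hy
    rw [mem_centralizer_iff]
    intro x hx'
    have hx : x ∈ WU V v 0 := hx'
    have h1 : x * y * x⁻¹ * y⁻¹ ∈ WU V v 0 ⊓ WU V v 1 := by
      constructor
      · have h2 := (mem_normalizer_iff.1 (D.C_le_N_W 0 (D.W_le_C 1 0 hy)) _).1 ((WU V v 0).inv_mem hx)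
        have e : x * y * x⁻¹ * y⁻¹ = x * (y * x⁻¹ * y⁻¹) := by group
        rw [e]
        exact mul_mem hx h2
      · exact (WU V v 1).mul_mem ((mem_normalizer_iff.1 (D.C_le_N_W 1 (D.W_le_C 0 1 hx)) _).1 hy)
          ((WU V v 1).inv_mem hy)
    rw [hI, mem_bot] at h1
    calc x * y = (x * y * x⁻¹ * y⁻¹) * (y * x) := by group
      _ = y * x := by rw [h1, one_mul]
  -- `W_1` centralises `N_0`, so `N_0` centralises `W_1`, so `N_0` centralises `N_1`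
  have h1 : WU V v 1 ≤ centralizer (NU V v 0 : Set G) := D.cent_N_of_cent_W 0 (D.W_le_C 1 0) hWW
  exact h (D.cent_N_of_cent_W 1 (D.N_le_C 0 1) (comm_symm h1))

end Fr

end Cfsg.Agent.Omega.TC
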