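import Cfsg.Agent.Omega.TC.LemXF

/-!
# CARD #18791, [C] and [D] (helper918 #19487): the symplectic structure over `Fr` and the final step

`HU V T i = ⟨V (i+1) ^ D⟩` (`D = C_G(zc T)`): the lines of `N_i` through `v (i+1)`.
`SpF T V v i r` : the consequences of section 0, (sp), for a transvection with centre `r` on `N_i`.

* `comm_V` : `[X, Q] ≤ B ⟹ [⟨X^C⟩, Q] ≤ B`;
* `Fr.comm_W_Q` : `[W_i, Q_i] ≤ ⟨v_i⟩`;
* `Fr.fin` : (2.4) / (3.5): the end of THEOREM C and of THEOREM D.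
-/

set_option autoImplicit false
set_option linter.unusedSectionVars false

namespace Cfsg.Agent.Omega.TC

open Subgroup Cfsg Cfsg.Agent.ZN Cfsg.Agent.Omega.MinPar
open Cfsg.Agent.Omega.OM.KTwo (CC QQ WU NU EU FF ne_add_one eq_add_one add_one_add_one le_normalizer_V le_V
  le_o2_of_commutator)
open Cfsg.Agent.Omega.NoFF.Basic (conj_conj mem_conj conj_le_iff conj_le_centralizer comm_symm comm_mono
  Z_le_V V_le conj_V_mul)
open Cfsg.Agent.Omega.NOThreeL.Pair (conj_eq_of_mem)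
open Cfsg.Agent.MinSimple.VModule (mem_zc zc_le le_normalizer_o2 le_o2 o2_le o2_isPGroup)
open scoped Pointwise

universe u

variable {G : Type u} [Group G]

/-- the lines of `N_i` through `v (i+1)` -/
def HU (V : Fin 2 → Subgroup G) (T : Subgroup G) (i : Fin 2) : Subgroup G :=
  NoFF.Basic.V (V (i + 1)) (centralizer (zc T : Set G))

/-- **section 0, (sp)**: `N_i / (N_i ∩ ⟨v_i⟩)` is a symplectic space, `C_i` induces its symplectic group, all its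
nonzero vectors are points, `HU i` is the preimage of `v_(i+1)^⊥`, and the transvection with the centre `v_(i+1)` has
the centre `r` on `N_i`. -/
structure SpF (T : Subgroup G) (V : Fin 2 → Subgroup G) (v : Fin 2 → G) (i : Fin 2) (r : G) : Prop where
  idx : (HU V T i).relIndex (NU V v i) = 2
  pts : ∀ n ∈ NU V v i, n ∉ zpowers (v i) → ∃ c ∈ CC v i, n = c * v (i + 1) * c⁻¹ ∨ n = c * v (i + 1) * c⁻¹ * v i
  cenH : ∀ x ∈ CC v i, x ∈ centralizer (HU V T i : Set G) → ∀ n ∈ NU V v i, n * x * n⁻¹ * x⁻¹ ∈ zpowers r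
  Hcen : ∀ x ∈ CC v i, (∀ n ∈ NU V v i, n * x * n⁻¹ * x⁻¹ ∈ zpowers r) → x ∈ centralizer (HU V T i : Set G)
  rad : ∀ n ∈ NU V v i, (∀ c ∈ CC v i, n ∈ MulAut.conj c • HU V T i) → n ∈ zpowers (v i)
  inj : ∀ c ∈ CC v i, MulAut.conj c • HU V T i = HU V T i → c ∈ centralizer (zc T : Set G)
  fixT : ∀ n ∈ EU T v i, (∀ t ∈ T, n⁻¹ * t * n * t⁻¹ ∈ zpowers (v i)) → n ∈ zc T

/-- `[X, Q] ≤ B ⟹ [⟨X^C⟩, Q] ≤ B` -/
theorem comm_V {X C B Q : Subgroup G} (hXC : X ≤ C) (hCB : C ≤ normalizer (B : Set G))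
    (hCQ : C ≤ normalizer (Q : Set G)) (h : ∀ x ∈ X, ∀ q ∈ Q, x * q * x⁻¹ * q⁻¹ ∈ B) :
    ∀ x ∈ NoFF.Basic.V X C, ∀ q ∈ Q, x * q * x⁻¹ * q⁻¹ ∈ B := by
  let K : Subgroup G :=
    { carrier := {x | x ∈ C ∧ ∀ q ∈ Q, x * q * x⁻¹ * q⁻¹ ∈ B}
      one_mem' := ⟨one_mem _, fun q _ => by simp⟩
      mul_mem' := by
        rintro x y ⟨hx, hx'⟩ ⟨hy, hy'⟩
        refine ⟨mul_mem hx hy, fun q hq => ?_⟩
        have e : x * y * q * (x * y)⁻¹ * q⁻¹ = (x * (y * q * y⁻¹ * q⁻¹) * x⁻¹) * (x * q * x⁻¹ * q⁻¹) := by group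
        rw [e]
        exact mul_mem ((mem_normalizer_iff.1 (hCB hx) _).1 (hy' q hq)) (hx' q hq)
      inv_mem' := by
        rintro x ⟨hx, hx'⟩
        refine ⟨inv_mem hx, fun q hq => ?_⟩
        have e : x⁻¹ * q * x⁻¹⁻¹ * q⁻¹ = x⁻¹ * (x * q * x⁻¹ * q⁻¹)⁻¹ * x⁻¹⁻¹ := by group
        rw [e]
        exact (mem_normalizer_iff.1 (hCB (inv_mem hx)) _).1 (inv_mem (hx' q hq)) }
  have hK : NoFF.Basic.V X C ≤ K := by
    refine V_le fun c hc y hy => ?_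
    rw [mem_conj] at hy
    refine ⟨?_, fun q hq => ?_⟩
    · have := mul_mem (mul_mem hc (hXC hy)) (inv_mem hc)
      have e : c * (c⁻¹ * y * c) * c⁻¹ = y := by group
      rwa [e] at this
    · have h1 : c⁻¹ * q * c ∈ Q := by
        have := (mem_normalizer_iff.1 (hCQ (inv_mem hc)) q).1 hq
        rwa [inv_inv] at this
      have h2 := (mem_normalizer_iff.1 (hCB hc) _).1 (h _ hy _ h1)
      have e : c * (c⁻¹ * y * c * (c⁻¹ * q * c) * (c⁻¹ * y * c)⁻¹ * (c⁻¹ * q * c)⁻¹) * c⁻¹ =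
          y * q * y⁻¹ * q⁻¹ := by group
      rwa [e] at h2
  exact fun x hx => (hK hx).2

theorem comm_of_kp {x y : G} (h : x * y * x⁻¹ * y⁻¹ = 1) : x * y = y * x := by
  calc x * y = x * y * x⁻¹ * y⁻¹ * (y * x) := by group
    _ = y * x := by rw [h, one_mul]

theorem kp_of_comm {x y : G} (h : x * y = y * x) : x * y * x⁻¹ * y⁻¹ = 1 := by
  rw [h]; group

/-- elements outside of a subgroup of index 2 -/
theorem mul_mem_of_idx {H N : Subgroup G} (h : H.relIndex N = 2) {a b : G} (ha : a ∈ N) (hb : b ∈ N) (ha' : a ∉ H)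
    (hb' : b ∉ H) : a * b ∈ H := by
  have h8 : (⟨a, ha⟩ : N) * ⟨b, hb⟩ ∈ H.subgroupOf N := by
    rw [mul_mem_iff_of_index_two h]
    exact ⟨fun h2 => absurd h2 ha', fun h2 => absurd h2 hb'⟩
  exact h8

namespace Fr

variable [Finite G] {T : Subgroup G} {V P : Fin 2 → Subgroup G} {v : Fin 2 → G} (D : Fr T V P v)

include D

theorem V_le_H (i : Fin 2) : V (i + 1) ≤ HU V T i := le_V _ _

theorem H_le_N (i : Fin 2) : HU V T i ≤ NU V v i := V_le fun _ hc => Z_le_V (D.cent_zc_le i hc)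

theorem H_le_W (i : Fin 2) : HU V T i ≤ WU V v (i + 1) := V_le fun _ hc => Z_le_V (D.cent_zc_le (i + 1) hc)

/-- `[W_i, Q_i] ≤ ⟨v_i⟩` -/
theorem comm_W_Q (i : Fin 2) : ∀ w ∈ WU V v i, ∀ q ∈ QQ v i, w * q * w⁻¹ * q⁻¹ ∈ zpowers (v i) :=
  comm_V ((D.V_le_T i).trans (D.T_le_C i)) (D.C_le_N_Z i) (le_normalizer_o2 _)
    fun _ hx _ hq => D.comm_VQ i hx (D.Q_le_T i hq)

/-- `E_i = N_i ⟨v i⟩` elementwise -/
theorem mem_E {i : Fin 2} {n : G} (hn : n ∈ EU T v i) : ∃ m ∈ NU V v i, ∃ w ∈ zpowers (v i), n = m * w :=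
  OM.KTwo.exists_mul_of_mem_sup ((D.C_le_N_N i).trans' ((zpowers_le.2 (D.v_mem_T i)).trans (D.T_le_C i)))
    (D.E_le i hn)

/-- the elements of `N_j` which commute with `X`, `X` not centralising `N_j` but `HU j` -/
theorem mem_H {j : Fin 2} (hidx : (HU V T j).relIndex (NU V v j) = 2) {X : Subgroup G}
    (hX : X ≤ centralizer (HU V T j : Set G)) (hne : ¬ X ≤ centralizer (NU V v j : Set G)) {n : G}
    (hn : n ∈ NU V v j) (h : ∀ x ∈ X, x * n = n * x) : n ∈ HU V T j := by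
  by_contra hcon
  apply hne
  intro x hx
  rw [mem_centralizer_iff]
  intro y hy
  by_cases hyH : y ∈ HU V T j
  · exact mem_centralizer_iff.1 (hX hx) y hyH
  · have h1 := mul_mem_of_idx hidx hy hn hyH hcon
    have h2 : y * n * x = x * (y * n) := mem_centralizer_iff.1 (hX hx) _ h1
    have h3 := h x hx
    calc y * x = y * n * x * x⁻¹ * (n⁻¹ * x) := by group
      _ = x * (y * n) * x⁻¹ * (n⁻¹ * x) := by rw [h2]
      _ = x * y * (n * x⁻¹ * n⁻¹ * x) := by group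
      _ = x * y * (n * (x⁻¹ * n⁻¹) * x) := by group
      _ = x * y * (n * (n * x)⁻¹ * x) := by rw [mul_inv_rev]
      _ = x * y * (n * (x * n)⁻¹ * x) := by rw [h3]
      _ = x * y := by group

/-- **C_{N~}(R) = 1** for `R = ⟨X^{C_j}⟩`, `X` inducing transvections with the centre `r` -/
theorem fixR {j : Fin 2} {r : G} (S : SpF T V v j r) {X : Subgroup G} (hXC : X ≤ CC v j)
    (hne : ¬ X ≤ centralizer (NU V v j : Set G)) (hr : ∀ n ∈ NU V v j, ∀ x ∈ X, n * x * n⁻¹ * x⁻¹ ∈ zpowers r)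
    (hv : v j ∉ zpowers r) :
    ∀ n ∈ EU T v j, (∀ x ∈ NoFF.Basic.V X (CC v j), n⁻¹ * x * n * x⁻¹ ∈ zpowers (v j)) → n ∈ zpowers (v j) := by
  intro n hn hfix
  obtain ⟨m, hm, w, hw, rfl⟩ := D.mem_E hn
  refine mul_mem (S.rad m hm fun c hc => ?_) hw
  rw [mem_conj]
  have hm' : c⁻¹ * m * c ∈ NU V v j := by
    have := (mem_normalizer_iff.1 (D.C_le_N_N j (inv_mem hc)) m).1 hm
    rwa [inv_inv] at this
  refine D.mem_H S.idx (fun x hx => S.Hcen x (hXC hx) fun n hn => hr n hn x hx) hne hm' fun x hx => ?_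
  -- `x^c ∈ R`
  have h1 : c * x * c⁻¹ ∈ NoFF.Basic.V X (CC v j) := by
    apply Z_le_V hc
    rw [mem_conj]
    have e : c⁻¹ * (c * x * c⁻¹) * c = x := by group
    rwa [e]
  have h2 := hfix _ h1
  -- `w` is central in `C_j`
  have hwc : w * (c * x * c⁻¹) = c * x * c⁻¹ * w :=
    (mem_centralizer_iff.1 (CC_le_cent_zpowers j (mul_mem (mul_mem hc (hXC hx)) (inv_mem hc))) w hw)
  have h3 : m⁻¹ * (c * x * c⁻¹) * m * (c * x * c⁻¹)⁻¹ ∈ zpowers (v j) := by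
    have hmw : m * w = w * m := by
      have := mem_centralizer_iff.1 (CC_le_cent_zpowers j (D.N_le_C j j hm)) w hw
      exact this.symm
    have e : (m * w)⁻¹ * (c * x * c⁻¹) * (m * w) * (c * x * c⁻¹)⁻¹ = m⁻¹ * (c * x * c⁻¹) * m * (c * x * c⁻¹)⁻¹ := by
      calc (m * w)⁻¹ * (c * x * c⁻¹) * (m * w) * (c * x * c⁻¹)⁻¹
          = (m * w)⁻¹ * (c * x * c⁻¹) * (w * m) * (c * x * c⁻¹)⁻¹ := by rw [hmw]
        _ = (m * w)⁻¹ * ((c * x * c⁻¹) * w) * m * (c * x * c⁻¹)⁻¹ := by group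
        _ = (w * m)⁻¹ * (w * (c * x * c⁻¹)) * m * (c * x * c⁻¹)⁻¹ := by rw [hwc, hmw]
        _ = m⁻¹ * (c * x * c⁻¹) * m * (c * x * c⁻¹)⁻¹ := by group
    rwa [e] at h2
  -- it is also in `⟨r^c⟩`
  have h4 := hr _ (inv_mem hm') x hx
  have e4 : c * ((c⁻¹ * m * c)⁻¹ * x * (c⁻¹ * m * c)⁻¹⁻¹ * x⁻¹) * c⁻¹ = m⁻¹ * (c * x * c⁻¹) * m * (c * x * c⁻¹)⁻¹ := by
    group
  rw [← e4] at h3
  have h5 : (c⁻¹ * m * c)⁻¹ * x * (c⁻¹ * m * c)⁻¹⁻¹ * x⁻¹ ∈ zpowers (v j) := by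
    have := (mem_normalizer_iff.1 (D.C_le_N_Z j (inv_mem hc)) _).1 h3
    have e5 : c⁻¹ * (c * ((c⁻¹ * m * c)⁻¹ * x * (c⁻¹ * m * c)⁻¹⁻¹ * x⁻¹) * c⁻¹) * c⁻¹⁻¹ =
      (c⁻¹ * m * c)⁻¹ * x * (c⁻¹ * m * c)⁻¹⁻¹ * x⁻¹ := by group
    rwa [e5] at this
  have h6 : (c⁻¹ * m * c)⁻¹ * x * (c⁻¹ * m * c)⁻¹⁻¹ * x⁻¹ = 1 := by
    rcases D.mem_zpv h5 with h | h
    · exact h
    · exfalso
      apply hv
      rw [← h]
      exact h4
  have h7 := comm_of_kp h6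
  -- `(m')⁻¹` commutes with `x`
  have h8 : Commute x (c⁻¹ * m * c)⁻¹ := h7.symm
  have h9 := h8.inv_right
  rw [inv_inv] at h9
  exact h9.eq

/-- **the final step** ((2.4), (3.5)) -/
theorem fin {i j : Fin 2} {g ra rb : G} (hN1 : MulAut.conj g • NU V v i ≤ QQ v (j + 1))
    (hN2 : NU V v j ≤ MulAut.conj g • CC v i) (hW : WU V v j ≤ MulAut.conj g • CC v i)
    (hne : ¬ MulAut.conj g • NU V v i ≤ centralizer (NU V v j : Set G)) (Sa : SpF T V v i ra) (Sb : SpF T V v j rb)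
    (hra : g * ra * g⁻¹ = rb) (hrN : rb ∈ NU V v j) (hrv : v j ∉ zpowers rb)
    (hr : ∀ x ∈ MulAut.conj g • NU V v i, ∀ y ∈ NU V v j, x * y * x⁻¹ * y⁻¹ ∈ zpowers rb)
    (hv : v j ∉ MulAut.conj g • NU V v i) : False := by
  have hzr : MulAut.conj g • zpowers ra = zpowers rb := by
    rw [← hra]
    ext x
    rw [mem_conj, mem_zpowers_iff, mem_zpowers_iff]
    constructor
    · rintro ⟨n, hn⟩
      exact ⟨n, by rw [conj_zpow, hn]; group⟩
    · rintro ⟨n, hn⟩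
      exact ⟨n, by rw [← hn, conj_zpow]; group⟩
  have hNaC : MulAut.conj g • NU V v i ≤ CC v j := hN1.trans ((D.Q_le_T _).trans (D.T_le_C j))
  have hinv : ∀ {x y : G}, x * y * x⁻¹ * y⁻¹ ∈ zpowers rb → y * x * y⁻¹ * x⁻¹ ∈ zpowers rb := by
    intro x y h
    have := inv_mem h
    have e : (x * y * x⁻¹ * y⁻¹)⁻¹ = y * x * y⁻¹ * x⁻¹ := by group
    rwa [e] at this
  -- `H_a = HU_i^g` is centralised by `N_j`
  have hH1 : MulAut.conj g • HU V T i ≤ centralizer (NU V v j : Set G) := by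
    refine comm_symm fun y hy => ?_
    have hy1 : g⁻¹ * y * g ∈ CC v i := by
      have := hN2 hy
      rwa [mem_conj] at this
    have hy2 := Sa.Hcen _ hy1 fun n hn => ?_
    · rw [mem_centralizer_iff] at hy2 ⊢
      intro x hx
      rw [SetLike.mem_coe, mem_conj] at hx
      have h1 := hy2 _ hx
      have h2 := congrArg (fun t => g * t * g⁻¹) h1
      have e1 : g * (g⁻¹ * x * g * (g⁻¹ * y * g)) * g⁻¹ = x * y := by group
      have e2 : g * (g⁻¹ * y * g * (g⁻¹ * x * g)) * g⁻¹ = y * x := by group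
      simp only [e1, e2] at h2
      exact h2
    · have h1 : g * n * g⁻¹ ∈ MulAut.conj g • NU V v i := by
        rw [mem_conj]
        have e : g⁻¹ * (g * n * g⁻¹) * g = n := by group
        rwa [e]
      have h2 := hr _ h1 y hy
      rw [← hzr, mem_conj] at h2
      have e : g⁻¹ * (g * n * g⁻¹ * y * (g * n * g⁻¹)⁻¹ * y⁻¹) * g = n * (g⁻¹ * y * g) * n⁻¹ * (g⁻¹ * y * g)⁻¹ := by
        group
      rwa [e] at h2
  have hHN : MulAut.conj g • HU V T i ≤ MulAut.conj g • NU V v i := conj_le_iff.2 (D.H_le_N i)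
  -- so `H_a ≤ Q_j`
  have hH2 : MulAut.conj g • HU V T i ≤ QQ v j :=
    (le_inf ((hHN.trans hN1).trans (D.Q_le_o2D (j + 1))) hH1).trans (D.f3 j)
  -- `[W_j, H_a] = 1`
  have hWH : ∀ w ∈ WU V v j, ∀ x ∈ MulAut.conj g • HU V T i, w * x = x * w := by
    intro w hw x hx
    have h1 := D.comm_W_Q j w hw x (hH2 hx)
    rcases D.mem_zpv h1 with h | h
    · exact comm_of_kp h
    · exfalso
      apply hv
      rw [← h]
      have h2 : w * x * w⁻¹ ∈ MulAut.conj g • NU V v i := by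
        have h3 : g⁻¹ * w * g ∈ CC v i := by
          have := hW hw
          rwa [mem_conj] at this
        have h4 := hHN hx
        rw [mem_conj] at h4 ⊢
        have h5 := (mem_normalizer_iff.1 (D.C_le_N_N i h3) _).1 h4
        have e : g⁻¹ * w * g * (g⁻¹ * x * g) * (g⁻¹ * w * g)⁻¹ = g⁻¹ * (w * x * w⁻¹) * g := by group
        rwa [e] at h5
      exact mul_mem h2 (inv_mem (hHN hx))
  -- `[N_a, W_j] ≤ ⟨r⟩`
  have hNW : ∀ x ∈ MulAut.conj g • NU V v i, ∀ w ∈ WU V v j, x * w * x⁻¹ * w⁻¹ ∈ zpowers rb := by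
    intro x hx w hw
    have h3 : g⁻¹ * w * g ∈ CC v i := by
      have := hW hw
      rwa [mem_conj] at this
    have h4 : g⁻¹ * w * g ∈ centralizer (HU V T i : Set G) := by
      rw [mem_centralizer_iff]
      intro y hy
      have h5 : g * y * g⁻¹ ∈ MulAut.conj g • HU V T i := by
        rw [mem_conj]
        have e : g⁻¹ * (g * y * g⁻¹) * g = y := by group
        rwa [e]
      have h6 := hWH w hw _ h5
      have h7 := congrArg (fun t => g⁻¹ * t * g) h6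
      have e1 : g⁻¹ * (w * (g * y * g⁻¹)) * g = g⁻¹ * w * g * y := by group
      have e2 : g⁻¹ * (g * y * g⁻¹ * w) * g = y * (g⁻¹ * w * g) := by group
      simp only [e1, e2] at h7
      exact h7.symm
    rw [mem_conj] at hx
    have h5 := Sa.cenH _ h3 h4 _ hx
    rw [← hzr, mem_conj]
    have e : g⁻¹ * (x * w * x⁻¹ * w⁻¹) * g =
      g⁻¹ * x * g * (g⁻¹ * w * g) * (g⁻¹ * x * g)⁻¹ * (g⁻¹ * w * g)⁻¹ := by group
    rwa [e]
  -- LEMMA X
  set R := NoFF.Basic.V (MulAut.conj g • NU V v i) (CC v j) with hR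
  have hRC : R ≤ CC v j := by
    refine V_le fun c hc => ?_
    rw [← NoFF.Basic.conj_self hc]
    exact conj_le_iff.2 hNaC
  refine D.lemX (i := j) (R := R) hRC (le_normalizer_V _ _) (fun h => hne ((le_V _ _).trans h)) ?_ Sb.fixT
    (D.fixR Sb hNaC hne (fun n hn x hx => hinv (hr x hx n hn)) hrv)
  intro r hr' u hu
  have h1 := comm_V (B := NU V v j) (Q := WU V v j) hNaC (D.C_le_N_N j) (D.C_le_N_W j)
    (fun x hx w hw => (zpowers_le.2 hrN) (hNW x hx w hw)) r hr' u⁻¹ (inv_mem (D.V_le_W j hu))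
  have e : u⁻¹ * r * u * r⁻¹ = (r * u⁻¹ * r⁻¹ * u⁻¹⁻¹)⁻¹ := by group
  rw [e]
  exact D.N_le_E j (inv_mem h1)

end Fr

end Cfsg.Agent.Omega.TC
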