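import Cfsg.Agent.Omega.OM.ThreeCore
import Cfsg.Agent.Omega.NO3S.Basic
import Cfsg.Agent.Omega.NOThreeL.FFB.Core

/-!
# CARD #18791 "(E) = TWO CENTRES": THEOREM I (helper990 #20267), abstract form

`Side T Qs N V P z v` : the elementary abelian group `N ≤ Qs ≤ T ≤ P` contains the four-group `V ∋ v` and the
involution `z ∉ V`; `P` centralises `z`, normalises `N`, `V`, `C_T(V)`, moves `v`, which is centralised by `T`; `(K3)`
members of `AA Qs` (elementary abelian subgroups of `Qs` of largest order) have no fixed points on `N / ⟨z⟩` outside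
the image of `C_N(A)`.

* `off_eq` : equality in Thompson's inequality gives a new member of `AA`;
* `Side.one` : if some `A ∈ AA Qs` moves `V`, then every `r ∈ N` with `[r,T] ≤ ⟨z, v⟩` has some `c ∈ rV` with
  `[c,T] ≤ ⟨z⟩`, `[c,A] = 1`;
* `Side.two` : if `r` lies in a second group `N'` with `(K3)` for `v`, then `[r,T] ≤ ⟨z⟩`;
* `inter_le` : with two `Side`s, `N ⊓ N' ≤ ⟨z, v⟩`.
-/

set_option autoImplicit false

namespace Cfsg.Agent.Omega.TC.ThmI

open Subgroup Cfsg Cfsg.Agent.ZN Cfsg.Agent.ZN.ChoiceBase Cfsg.Agent.PLocal.ThompsonJ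
open Cfsg.Agent.Omega.NO3b.Ineq (cidx cidx_chain cidx_chain_right cidx_pos cidx_eq_one_iff rel_ne step_left)
open Cfsg.Agent.Omega.OM.ThreeCore (off_le elem_sup card_sup_comm card_eq_relIndex mem_sup_comm)

universe u

variable {G : Type u} [Group G]

/-! ### Indices at most two, at least three -/

theorem rel_le_two {K H : Subgroup G} (h : ∀ x ∈ H, ∀ y ∈ H, x ∉ K → y ∉ K → x * y ∈ K) : K.relIndex H ≤ 2 := by
  by_cases hle : H ≤ K
  · rw [relIndex_eq_one.2 hle]; norm_num
  obtain ⟨a, ha, haK⟩ := SetLike.not_le_iff_exists.1 hle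
  refine (relIndex_eq_two_iff.2 ⟨a, ha, fun b hb => ?_⟩).le
  by_cases hbK : b ∈ K
  · refine Or.inr ⟨hbK, fun h2 => haK ?_⟩
    have := K.mul_mem (K.inv_mem hbK) h2
    rwa [inv_mul_cancel_left] at this
  · exact Or.inl ⟨h b hb a ha hbK haK, hbK⟩

theorem two_le_rel [Finite G] {K H : Subgroup G} {x : G} (hx : x ∈ H) (hxK : x ∉ K) : 2 ≤ K.relIndex H := by
  have h0 := rel_ne K H
  have h1 : K.relIndex H ≠ 1 := fun h => hxK (relIndex_eq_one.1 h hx)
  omega

theorem three_le_rel [Finite G] {K H : Subgroup G} {x y : G} (hx : x ∈ H) (hy : y ∈ H) (hxK : x ∉ K) (hyK : y ∉ K)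
    (hxy : x * y ∉ K) : 3 ≤ K.relIndex H := by
  have h2 := two_le_rel hx hxK
  by_contra hcon
  have h3 : (K.subgroupOf H).index = 2 := by
    change K.relIndex H = 2
    omega
  have h4 := mul_mem_iff_of_index_two h3 (a := ⟨x, hx⟩) (b := ⟨y, hy⟩)
  rw [mem_subgroupOf, mem_subgroupOf, mem_subgroupOf] at h4
  exact hxy (h4.2 ⟨fun h => absurd h hxK, fun h => absurd h hyK⟩)

/-! ### Equality in Thompson's inequality -/

theorem off_eq [Finite G] {B A Y : Subgroup G} (hA : A ∈ AA B) (hY : IsElementaryAbelian 2 Y) (hYB : Y ≤ B)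
    (he : cidx A Y ≤ cidx Y A) : (A ⊓ centralizer (Y : Set G)) ⊔ Y ∈ AA B := by
  have hc : Y ≤ centralizer ((A ⊓ centralizer (Y : Set G) : Subgroup G) : Set G) := by
    rw [Subgroup.le_centralizer_iff]; exact inf_le_right
  have h1 := card_sup_comm hc
  have h3 : Nat.card (Y ⊓ (A ⊓ centralizer (Y : Set G)) : Subgroup G) ≤
      Nat.card ↥(Y ⊓ centralizer (A : Set G)) := by
    refine Subgroup.card_le_of_le (inf_le_inf_left _ ?_)
    have h4 : A ≤ centralizer (A : Set G) := fun a ha =>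
      mem_centralizer_iff.2 fun b hb => (isElementaryAbelian_iff.1 hA.1).1 b hb a ha
    exact inf_le_left.trans h4
  have h5 := card_eq_relIndex (centralizer (A : Set G)) Y
  have h6 := card_eq_relIndex (centralizer (Y : Set G)) A
  have hd : 0 < Nat.card ↥(Y ⊓ (A ⊓ centralizer (Y : Set G))) := Nat.card_pos
  change (centralizer (Y : Set G)).relIndex A ≤ (centralizer (A : Set G)).relIndex Y at he
  rw [sup_comm]
  refine ⟨elem_sup hY (isElementaryAbelian_mono hA.1 inf_le_left) hc, sup_le hYB (inf_le_left.trans hA.2.1), ?_⟩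
  intro C hC hCB
  refine (hA.2.2 C hC hCB).trans ?_
  set r := (centralizer (A : Set G)).relIndex Y
  set c := (centralizer (Y : Set G)).relIndex A
  have h7 : Nat.card A * Nat.card (Y ⊓ (A ⊓ centralizer (Y : Set G)) : Subgroup G) ≤
      Nat.card (Y ⊔ (A ⊓ centralizer (Y : Set G)) : Subgroup G) *
        Nat.card (Y ⊓ (A ⊓ centralizer (Y : Set G)) : Subgroup G) := by
    calc Nat.card A * Nat.card (Y ⊓ (A ⊓ centralizer (Y : Set G)) : Subgroup G)
        = c * Nat.card ↥(A ⊓ centralizer (Y : Set G)) *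
          Nat.card (Y ⊓ (A ⊓ centralizer (Y : Set G)) : Subgroup G) := by rw [h6]
      _ ≤ r * Nat.card ↥(A ⊓ centralizer (Y : Set G)) * Nat.card ↥(Y ⊓ centralizer (A : Set G)) := by gcongr
      _ = Nat.card Y * Nat.card ↥(A ⊓ centralizer (Y : Set G)) := by rw [h5]; ring
      _ = _ := h1.symm
  exact Nat.le_of_mul_le_mul_right h7 hd

/-! ### Commutators -/

/-- the commutator `[a, x] = a x a⁻¹ x⁻¹` -/
def kp (a x : G) : G := a * x * a⁻¹ * x⁻¹

theorem kp_eq_one_iff {a x : G} : kp a x = 1 ↔ a * x = x * a := by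
  unfold kp
  constructor
  · intro h
    calc a * x = (a * x * a⁻¹ * x⁻¹) * (x * a) := by group
      _ = x * a := by rw [h, one_mul]
  · intro h
    rw [h]; group

theorem kp_conj (p a x : G) : p * kp a x * p⁻¹ = kp (p * a * p⁻¹) (p * x * p⁻¹) := by
  unfold kp; group

theorem kp_mul_left (a b x : G) : kp (a * b) x = a * kp b x * a⁻¹ * kp a x := by
  unfold kp; group

theorem kp_mul {N : Subgroup G} (hN : ∀ a ∈ N, ∀ b ∈ N, a * b = b * a) {a x y : G} (hx : x ∈ N) (hy : y ∈ N)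
    (hay : a * y * a⁻¹ ∈ N) : kp a (x * y) = kp a x * kp a y := by
  unfold kp
  have e1 : a * (x * y) * a⁻¹ * (x * y)⁻¹ = (a * x * a⁻¹) * ((a * y * a⁻¹) * y⁻¹) * x⁻¹ := by group
  have h1 : (a * y * a⁻¹) * y⁻¹ ∈ N := N.mul_mem hay (N.inv_mem hy)
  rw [e1, mul_assoc, hN _ h1 _ (N.inv_mem hx)]
  group

/-- `T` acts on the elementary abelian group `N ∋ z, v`; see the head of the file. -/
structure Side (T Qs N V P : Subgroup G) (z v : G) : Prop where
  TP : T ≤ P
  QT : Qs ≤ T
  NQ : N ≤ Qs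
  Nc : ∀ a ∈ N, ∀ b ∈ N, a * b = b * a
  Nsq : ∀ a ∈ N, a * a = 1
  zN : z ∈ N
  z1 : z ≠ 1
  vV : v ∈ V
  v1 : v ≠ 1
  zV : z ∉ V
  VN : V ≤ N
  V4 : Nat.card V = 4
  Tv : ∀ t ∈ T, t * v * t⁻¹ = v
  Pz : ∀ p ∈ P, p * z * p⁻¹ = z
  PV : ∀ p ∈ P, ∀ x ∈ V, p * x * p⁻¹ ∈ V
  PN : ∀ p ∈ P, ∀ x ∈ N, p * x * p⁻¹ ∈ N
  PR : ∀ p ∈ P, ∀ e ∈ T, (∀ x ∈ V, e * x = x * e) → p * e * p⁻¹ ∈ T
  tr : ∃ l ∈ P, l * v * l⁻¹ ≠ v
  K3 : ∀ A ∈ AA Qs, ∀ x ∈ N, (∀ a ∈ A, kp a x = 1 ∨ kp a x = z) → ∀ a ∈ A, a * x = x * a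

namespace Side

variable {T Qs N V P A : Subgroup G} {z v : G}

theorem inv_eq (S : Side T Qs N V P z v) {x : G} (hx : x ∈ N) : x⁻¹ = x :=
  inv_eq_of_mul_eq_one_left (S.Nsq x hx)

theorem Nel (S : Side T Qs N V P z v) : IsElementaryAbelian 2 N :=
  isElementaryAbelian_iff.2 ⟨S.Nc, fun a ha => by rw [pow_two]; exact S.Nsq a ha⟩

theorem Vel (S : Side T Qs N V P z v) : IsElementaryAbelian 2 V := isElementaryAbelian_mono S.Nel S.VN

theorem vN (S : Side T Qs N V P z v) : v ∈ N := S.VN S.vV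

theorem four [Finite G] (S : Side T Qs N V P z v) {x : G} (hx : x ∈ V) (hx1 : x ≠ 1) (hxv : x ≠ v) {y : G} (hy : y ∈ V) :
    y = 1 ∨ y = v ∨ y = x ∨ y = v * x := by
  by_cases h : y = 1
  · exact Or.inl h
  right
  rcases NO3S.eq_of_card_four S.V4 (fun a ha => by rw [pow_two]; exact S.Nsq a (S.VN ha)) S.vV S.v1 hx hx1
    (Ne.symm hxv) hy h with h | h | h
  · exact Or.inl h
  · exact Or.inr (Or.inl h)
  · exact Or.inr (Or.inr h)

/-- the action of `T` on `V` -/
theorem act [Finite G] (S : Side T Qs N V P z v) {x : G} (hx : x ∈ V) (hx1 : x ≠ 1) (hxv : x ≠ v) {t : G} (ht : t ∈ T) :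
    (∀ y ∈ V, t * y = y * t) ∨ t * x * t⁻¹ = v * x := by
  have h1 := S.PV t (S.TP ht) x hx
  have htv := S.Tv t ht
  rcases S.four hx hx1 hxv h1 with h | h | h | h
  · exact absurd (conj_eq_one_iff.1 h) hx1
  · exfalso
    apply hxv
    rw [← htv] at h
    have h2 := mul_right_cancel h
    exact mul_left_cancel h2
  · left
    have h2 : t * v = v * t := by
      calc t * v = t * v * t⁻¹ * t := by group
        _ = v * t := by rw [htv]
    have h3 : t * x = x * t := by
      calc t * x = t * x * t⁻¹ * t := by group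
        _ = x * t := by rw [h]
    intro y hy
    rcases S.four hx hx1 hxv hy with h4 | h4 | h4 | h4
    · rw [h4]; group
    · rw [h4]; exact h2
    · rw [h4]; exact h3
    · rw [h4]
      calc t * (v * x) = (t * v) * x := by group
        _ = v * (t * x) := by rw [h2]; group
        _ = v * x * t := by rw [h3]; group
  · exact Or.inr h

theorem kpN (S : Side T Qs N V P z v) {p x : G} (hp : p ∈ P) (hx : x ∈ N) : kp p x ∈ N :=
  N.mul_mem (S.PN p hp x hx) (N.inv_mem hx)

theorem kp_mul' (S : Side T Qs N V P z v) {p x y : G} (hp : p ∈ P) (hx : x ∈ N) (hy : y ∈ N) :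
    kp p (x * y) = kp p x * kp p y := kp_mul S.Nc hx hy (S.PN p hp y hy)

/-- elements of `T` which centralise `V` -/
theorem kpV [Finite G] (S : Side T Qs N V P z v) {x : G} (hx : x ∈ V) {t : G} (ht : t ∈ T) : kp t x = 1 ∨ kp t x = v := by
  by_cases hx1 : x = 1
  · left; rw [hx1]; unfold kp; group
  by_cases hxv : x = v
  · left
    rw [hxv, kp_eq_one_iff]
    calc t * v = t * v * t⁻¹ * t := by group
      _ = v * t := by rw [S.Tv t ht]
  rcases S.act hx hx1 hxv ht with h | h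
  · left; rw [kp_eq_one_iff]; exact h x hx
  · right; unfold kp; rw [h]; group

/-- `(1)` of THEOREM I. -/
theorem one [Finite G] (S : Side T Qs N V P z v) (hA : A ∈ AA Qs) (hAV : ¬ ∀ a ∈ A, ∀ x ∈ V, a * x = x * a)
    {r : G} (hr : r ∈ N) (hrT : ∀ t ∈ T, kp t r = 1 ∨ kp t r = z ∨ kp t r = v ∨ kp t r = z * v) :
    ∃ c ∈ N, (∃ x ∈ V, c = r * x) ∧ (∀ t ∈ T, kp t c = 1 ∨ kp t c = z) ∧ ∀ a ∈ A, a * c = c * a := by
  have hAT : A ≤ T := hA.2.1.trans S.QT
  have hAc : ∀ a ∈ A, ∀ b ∈ A, a * b = b * a := (isElementaryAbelian_iff.1 hA.1).1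
  obtain ⟨l, hl, hlv⟩ := S.tr
  -- the second element of `V`
  obtain ⟨x, hx⟩ : ∃ x, x = l * v * l⁻¹ := ⟨_, rfl⟩
  have hxV : x ∈ V := by rw [hx]; exact S.PV l hl v S.vV
  have hxv : x ≠ v := by rw [hx]; exact hlv
  have hx1 : x ≠ 1 := by rw [hx]; exact fun h => S.v1 (conj_eq_one_iff.1 h)
  have hxN : x ∈ N := S.VN hxV
  have hvN : v ∈ N := S.vN
  have hzN : z ∈ N := S.zN
  have hvv := S.Nsq v hvN
  have hxx := S.Nsq x hxN
  have hzz := S.Nsq z hzN
  have hvx : v * x = x * v := S.Nc _ hvN _ hxN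
  have hzv : z * v = v * z := S.Nc _ hzN _ hvN
  have hzx : z * x = x * z := S.Nc _ hzN _ hxN
  -- `a ∈ A` moves `V`
  obtain ⟨a, haA, haV⟩ : ∃ a ∈ A, ¬ ∀ y ∈ V, a * y = y * a := by
    by_contra hcon
    push Not at hcon
    exact hAV hcon
  have haT := hAT haA
  have haP := S.TP haT
  have hax : a * x * a⁻¹ = v * x := (S.act hxV hx1 hxv haT).resolve_left haV
  -- `l⁻¹`
  have hl' : l⁻¹ ∈ P := P.inv_mem hl
  -- `E = C_A(V)`
  set E : Subgroup G := A ⊓ centralizer (V : Set G) with hE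
  have hEV : ∀ e ∈ E, ∀ y ∈ V, e * y = y * e := fun e he y hy => (mem_centralizer_iff.1 he.2 y hy).symm
  have hEA : E ≤ A := inf_le_left
  have hET : E ≤ T := hEA.trans hAT
  -- `r₂`, `r₃`
  set r2 : G := l * r * l⁻¹ with hr2
  have hr2N : r2 ∈ N := S.PN l hl r hr
  set r3 : G := a * r2 * a⁻¹ with hr3
  have hr3N : r3 ∈ N := S.PN a haP r2 hr2N
  -- `[r₂,e] ∈ ⟨z, x⟩`
  have hk2 : ∀ e ∈ E, kp e r2 = 1 ∨ kp e r2 = z ∨ kp e r2 = x ∨ kp e r2 = z * x := by
    intro e he
    have h1 : l⁻¹ * e * l⁻¹⁻¹ ∈ T := S.PR l⁻¹ hl' e (hET he) (hEV e he)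
    rw [inv_inv] at h1
    have h2 : kp e r2 = l * kp (l⁻¹ * e * l) r * l⁻¹ := by
      rw [kp_conj, hr2]
      congr 1
      group
    rw [h2]
    rcases hrT _ h1 with h3 | h3 | h3 | h3
    · left; rw [h3]; group
    · right; left; rw [h3]; exact S.Pz l hl
    · right; right; left; rw [h3]; exact hx.symm
    · right; right; right
      rw [h3, hx]
      calc l * (z * v) * l⁻¹ = (l * z * l⁻¹) * (l * v * l⁻¹) := by group
        _ = z * (l * v * l⁻¹) := by rw [S.Pz l hl]
  have hk3 : ∀ e ∈ E, kp e r3 = a * kp e r2 * a⁻¹ := by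
    intro e he
    rw [kp_conj, hr3]
    congr 1
    rw [hAc a haA e (hEA he)]; group
  -- `A' = E V`
  have hcAV : cidx A V ≤ 2 := by
    refine rel_le_two fun b hb c hc hbn hcn => ?_
    have hb1 : b * x * b⁻¹ = v * x := (S.act hxV hx1 hxv (hAT hb)).resolve_left fun h =>
      hbn (mem_centralizer_iff.2 fun y hy => (h y hy).symm)
    have hc1 : c * x * c⁻¹ = v * x := (S.act hxV hx1 hxv (hAT hc)).resolve_left fun h =>
      hcn (mem_centralizer_iff.2 fun y hy => (h y hy).symm)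
    rcases S.act hxV hx1 hxv (T.mul_mem (hAT hb) (hAT hc)) with h | h
    · exact mem_centralizer_iff.2 fun y hy => (h y hy).symm
    · exfalso
      have h2 : b * c * x * (b * c)⁻¹ = v * (v * x) := by
        calc b * c * x * (b * c)⁻¹ = b * (c * x * c⁻¹) * b⁻¹ := by group
          _ = (b * v * b⁻¹) * (b * x * b⁻¹) := by rw [hc1]; group
          _ = v * (v * x) := by rw [S.Tv b (hAT hb), hb1]
      rw [h] at h2
      have h3 := mul_left_cancel h2
      exact S.v1 (mul_eq_right.1 h3.symm)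
  have hcVA : 2 ≤ cidx V A := two_le_rel (x := x) hxV fun h => by
    have h1 := mem_centralizer_iff.1 h a haA
    rw [h1] at hax
    have h2 : x = v * x := by rw [← hax]; group
    exact S.v1 (mul_eq_right.1 h2.symm)
  have hA' : E ⊔ V ∈ AA Qs := off_eq hA S.Vel (S.VN.trans S.NQ) (hcAV.trans hcVA)
  have hEVc : E ≤ centralizer (V : Set G) := inf_le_right
  -- the group `U₂`
  set U2 : Subgroup G := zpowers r2 ⊔ zpowers r3 ⊔ (V ⊔ zpowers z) with hU2
  have hU2N : U2 ≤ N := by
    refine sup_le (sup_le ?_ ?_) (sup_le S.VN ?_) <;> rw [zpowers_le] <;> assumption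
  have hU2e : IsElementaryAbelian 2 U2 := isElementaryAbelian_mono S.Nel hU2N
  have hr2U : r2 ∈ U2 := mem_sup_left (mem_sup_left (mem_zpowers _))
  have hr3U : r3 ∈ U2 := mem_sup_left (mem_sup_right (mem_zpowers _))
  have hVU : V ≤ U2 := le_sup_of_le_right le_sup_left
  have hzP : ∀ p ∈ P, p * z = z * p := fun p hp => by
    calc p * z = p * z * p⁻¹ * p := by group
      _ = z * p := by rw [S.Pz p hp]
  have hU2off := off_le hA hU2e (hU2N.trans S.NQ)
  have hstep := step_left (V := V) (W := U2) (E := A) hVU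
  rw [← hE] at hstep
  -- `e ∈ E` centralises `U₂` as soon as it centralises `r₂`
  have hEU : ∀ e ∈ E, e * r2 = r2 * e → e ∈ centralizer (U2 : Set G) := by
    intro e he h1
    have h2 : e * r3 = r3 * e := by
      rw [← kp_eq_one_iff, hk3 e he, kp_eq_one_iff.2 h1]; group
    have h3 : U2 ≤ centralizer ({e} : Set G) := by
      refine sup_le (sup_le ?_ ?_) (sup_le ?_ ?_)
      · rw [zpowers_le, mem_centralizer_singleton_iff]; exact h1.symm
      · rw [zpowers_le, mem_centralizer_singleton_iff]; exact h2.symm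
      · intro y hy
        rw [mem_centralizer_singleton_iff]; exact (hEV e he y hy).symm
      · rw [zpowers_le, mem_centralizer_singleton_iff]; exact (hzP e (S.TP (hET he))).symm
    exact mem_centralizer_iff.2 fun y hy => mem_centralizer_singleton_iff.1 (h3 hy)
  -- **(1a)**
  have h1a : ∀ e ∈ E, kp e r2 = 1 ∨ kp e r2 = z := by
    by_contra hcon
    push Not at hcon
    obtain ⟨e0, he0, hne1, hnez⟩ := hcon
    set f : G := r2 * r3 with hf
    have hfN : f ∈ N := N.mul_mem hr2N hr3N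
    -- the value of `[e, f]`
    have hkf1 : ∀ e ∈ E, (kp e r2 = 1 ∨ kp e r2 = z) → kp e f = 1 := by
      intro e he h
      rw [hf, S.kp_mul' (S.TP (hET he)) hr2N hr3N, hk3 e he]
      rcases h with h | h
      · rw [h]; group
      · rw [h, S.Pz a haP, hzz]
    have hkf2 : ∀ e ∈ E, (kp e r2 = x ∨ kp e r2 = z * x) → kp e f = v := by
      intro e he h
      rw [hf, S.kp_mul' (S.TP (hET he)) hr2N hr3N, hk3 e he]
      rcases h with h | h
      · rw [h, hax, hvx, ← mul_assoc, hxx, one_mul]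
      · have e1 : a * (z * x) * a⁻¹ = (a * z * a⁻¹) * (a * x * a⁻¹) := by group
        rw [h, e1, S.Pz a haP, hax]
        calc z * x * (z * (v * x)) = z * (x * z) * v * x := by group
          _ = z * (z * x) * v * x := by rw [hzx]
          _ = (z * z) * (x * v) * x := by group
          _ = (z * z) * (v * x) * x := by rw [hvx]
          _ = (z * z) * v * (x * x) := by group
          _ = v := by rw [hzz, hxx]; group
    have hk4 : ∀ e ∈ E, kp e f = 1 → (kp e r2 = 1 ∨ kp e r2 = z) := by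
      intro e he h
      rcases hk2 e he with h1 | h1 | h1 | h1
      · exact Or.inl h1
      · exact Or.inr h1
      · exact absurd ((hkf2 e he (Or.inl h1)).symm.trans h) S.v1
      · exact absurd ((hkf2 e he (Or.inr h1)).symm.trans h) S.v1
    have hk5 : ∀ e ∈ E, kp e f = 1 ∨ kp e f = v := by
      intro e he
      rcases hk2 e he with h1 | h1 | h1 | h1
      · exact Or.inl (hkf1 e he (Or.inl h1))
      · exact Or.inl (hkf1 e he (Or.inr h1))
      · exact Or.inr (hkf2 e he (Or.inl h1))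
      · exact Or.inr (hkf2 e he (Or.inr h1))
    have he0x : kp e0 r2 = x ∨ kp e0 r2 = z * x := by
      rcases hk2 e0 he0 with h1 | h1 | h1 | h1
      · exact absurd h1 hne1
      · exact absurd h1 hnez
      · exact Or.inl h1
      · exact Or.inr h1
    have he0f : kp e0 f = v := hkf2 e0 he0 he0x
    -- `U = ⟨f, v⟩`
    set U : Subgroup G := zpowers f ⊔ zpowers v with hU
    have hUN : U ≤ N := by
      refine sup_le ?_ ?_ <;> rw [zpowers_le] <;> assumption
    have hUe : IsElementaryAbelian 2 U := isElementaryAbelian_mono S.Nel hUN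
    have hvT : ∀ t ∈ T, t * v = v * t := fun t ht => by
      calc t * v = t * v * t⁻¹ * t := by group
        _ = v * t := by rw [S.Tv t ht]
    have hmemU : ∀ t ∈ T, t * f = f * t → t ∈ centralizer (U : Set G) := by
      intro t ht h1
      have h3 : U ≤ centralizer ({t} : Set G) := by
        refine sup_le ?_ ?_
        · rw [zpowers_le, mem_centralizer_singleton_iff]; exact h1.symm
        · rw [zpowers_le, mem_centralizer_singleton_iff]; exact (hvT t ht).symm
      exact mem_centralizer_iff.2 fun y hy => mem_centralizer_singleton_iff.1 (h3 hy)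
    have hfU : f ∈ U := mem_sup_left (mem_zpowers _)
    -- elements of `E V`
    have hEVm : ∀ y ∈ E ⊔ V, ∃ e ∈ E, ∃ w ∈ V, y = e * w := fun y hy => mem_sup_comm hEVc hy
    have hkEV : ∀ y ∈ N, ∀ e ∈ E, ∀ w ∈ V, kp (e * w) y = kp e y := by
      intro y hy e he w hw
      have h1 : kp w y = 1 := kp_eq_one_iff.2 (S.Nc _ (S.VN hw) _ hy)
      rw [kp_mul_left, h1]; group
    have hA'T : E ⊔ V ≤ T := sup_le hET (S.VN.trans (S.NQ.trans S.QT))
    have hle2 : cidx (E ⊔ V) U ≤ 2 := by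
      refine rel_le_two fun b hb c hc hbn hcn => ?_
      refine hmemU _ (T.mul_mem (hA'T hb) (hA'T hc)) (kp_eq_one_iff.1 ?_)
      obtain ⟨e, he, w, hw, rfl⟩ := hEVm b hb
      obtain ⟨e', he', w', hw', rfl⟩ := hEVm c hc
      have h1 : kp (e * w) f = v := by
        rw [hkEV f hfN e he w hw]
        refine (hk5 e he).resolve_left fun h => hbn (hmemU _ (hA'T hb) (kp_eq_one_iff.1 ?_))
        rw [hkEV f hfN e he w hw, h]
      have h2 : kp (e' * w') f = v := by
        rw [hkEV f hfN e' he' w' hw']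
        refine (hk5 e' he').resolve_left fun h => hcn (hmemU _ (hA'T hc) (kp_eq_one_iff.1 ?_))
        rw [hkEV f hfN e' he' w' hw', h]
      rw [kp_mul_left, h1, h2, S.Tv _ (hA'T hb), hvv]
    have hge2 : 2 ≤ cidx U (E ⊔ V) := two_le_rel (x := f) hfU fun h => by
      have h1 := mem_centralizer_iff.1 h e0 (mem_sup_left he0)
      rw [kp_eq_one_iff.2 h1] at he0f
      exact S.v1 he0f.symm
    have hA'' := off_eq hA' hUe (hUN.trans S.NQ) (hle2.trans hge2)
    have hUc : ∀ u ∈ U, ∀ y ∈ N, u * y = y * u := fun u hu y hy => S.Nc _ (hUN hu) _ hy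
    have hK := S.K3 _ hA'' r2 hr2N (by
      intro y hy
      have hc : (E ⊔ V) ⊓ centralizer (U : Set G) ≤ centralizer (U : Set G) := inf_le_right
      obtain ⟨b, hb, u, hu, rfl⟩ := mem_sup_comm hc hy
      obtain ⟨e, he, w, hw, rfl⟩ := hEVm b hb.1
      have h1 : kp u r2 = 1 := kp_eq_one_iff.2 (hUc u hu _ hr2N)
      have h2 : kp (e * w * u) r2 = kp e r2 := by
        rw [kp_mul_left, h1, hkEV r2 hr2N e he w hw]; group
      rw [h2]
      apply hk4 e he
      rw [← hkEV f hfN e he w hw, kp_eq_one_iff]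
      exact (mem_centralizer_iff.1 hb.2 f hfU).symm)
    have hstar : ∀ e ∈ E, kp e f = 1 → e * r2 = r2 * e := by
      intro e he h
      refine hK e (mem_sup_left ⟨mem_sup_left he, hmemU e (hET he) (kp_eq_one_iff.1 h)⟩)
    have hE2 : cidx E U2 ≤ 2 := by
      refine rel_le_two fun b hb c hc hbn hcn => ?_
      have h1 : kp b f = v := (hk5 b hb).resolve_left fun h => hbn (hEU b hb (hstar b hb h))
      have h2 : kp c f = v := (hk5 c hc).resolve_left fun h => hcn (hEU c hc (hstar c hc h))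
      refine hEU _ (E.mul_mem hb hc) (hstar _ (E.mul_mem hb hc) ?_)
      rw [kp_mul_left, h1, h2, S.Tv _ (hET hb), hvv]
    have h4 : cidx A U2 ≤ 4 := by
      rw [hstep]
      exact (Nat.mul_le_mul hcAV hE2)
    have h6 : 6 ≤ cidx U2 A := by
      have h7 := cidx_chain_right U2 (B := A) (E := zpowers e0) ((zpowers_le).2 (hEA he0))
      have h8 : 3 ≤ cidx U2 (zpowers e0) := by
        have hno : ∀ y, kp e0 y ≠ 1 → y ∉ centralizer ((zpowers e0 : Subgroup G) : Set G) := fun y hy h =>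
          hy (kp_eq_one_iff.2 (mem_centralizer_iff.1 h e0 (mem_zpowers _)))
        refine three_le_rel hr2U hr3U (hno _ hne1) (hno _ ?_) (hno _ ?_)
        · rw [hk3 e0 he0]
          exact fun h => hne1 (conj_eq_one_iff.1 h)
        · rw [← hf, he0f]; exact S.v1
      have h9 : 2 ≤ (U2 ⊓ centralizer (A : Set G)).relIndex (U2 ⊓ centralizer ((zpowers e0 : Subgroup G) : Set G)) := by
        have h10 : x ∈ centralizer ((zpowers e0 : Subgroup G) : Set G) := by
          rw [mem_centralizer_iff]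
          rintro _ ⟨n, rfl⟩
          exact ((show Commute e0 x from hEV e0 he0 x hxV).zpow_left n).eq
        refine two_le_rel (x := x) ⟨hVU hxV, h10⟩ ?_
        · rintro ⟨-, h⟩
          have h1 := mem_centralizer_iff.1 h a haA
          rw [h1] at hax
          have h2 : x = v * x := by rw [← hax]; group
          exact S.v1 (mul_eq_right.1 h2.symm)
      rw [h7]
      calc 6 = 3 * 2 := by norm_num
        _ ≤ _ := Nat.mul_le_mul h8 h9
    omega
  -- **(1b)**
  have h1b : ∀ e ∈ E, e * r2 = r2 * e := by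
    have hK := S.K3 _ hA' r2 hr2N (by
      intro y hy
      obtain ⟨e, he, w, hw, rfl⟩ := mem_sup_comm hEVc hy
      have h1 : kp w r2 = 1 := kp_eq_one_iff.2 (S.Nc _ (S.VN hw) _ hr2N)
      have h2 : kp (e * w) r2 = kp e r2 := by rw [kp_mul_left, h1]; group
      rw [h2]
      exact h1a e he)
    exact fun e he => hK e (mem_sup_left he)
  have hE1 : cidx E U2 = 1 := cidx_eq_one_iff.2 fun e he => hEU e he (h1b e he)
  have hle : cidx U2 A ≤ 2 := by
    refine hU2off.trans ?_
    rw [hstep, hE1, mul_one]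
    exact hcAV
  obtain ⟨w, hw, hwA⟩ : ∃ w, (w = 1 ∨ w = x) ∧ r2 * w ∈ centralizer (A : Set G) := by
    by_contra hcon
    push Not at hcon
    have h1 := hcon 1 (Or.inl rfl)
    have h2 := hcon x (Or.inr rfl)
    rw [mul_one] at h1
    have h3 : x ∉ centralizer (A : Set G) := fun h => by
      have h1 := mem_centralizer_iff.1 h a haA
      rw [h1] at hax
      have h2 : x = v * x := by rw [← hax]; group
      exact S.v1 (mul_eq_right.1 h2.symm)
    have h4 := three_le_rel hr2U (hVU hxV) h1 h3 h2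
    change 3 ≤ cidx U2 A at h4
    omega
  -- **(1c)**
  set h : G := l⁻¹ * a * l with hh
  have hhP : h ∈ P := P.mul_mem (P.mul_mem hl' haP) hl
  set x' : G := l⁻¹ * v * l with hx'
  have hx'V : x' ∈ V := by
    have := S.PV l⁻¹ hl' v S.vV
    rwa [inv_inv] at this
  have hx'1 : x' ≠ 1 := fun e => S.v1 (by
    have : v = l * x' * l⁻¹ := by rw [hx']; group
    rw [this, e]; group)
  have hx'v : x' ≠ v := fun e => hlv (by
    have : l * x' * l⁻¹ = v := by rw [hx']; group
    rw [e] at this; exact this)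
  have hx'N : x' ∈ N := S.VN hx'V
  have hax' : a * x' * a⁻¹ = v * x' := (S.act hx'V hx'1 hx'v haT).resolve_left haV
  have hkx' : kp a x' = v := by unfold kp; rw [hax']; group
  have hhx' : h * x' = x' * h := by
    have h1 : a * v = v * a := by
      calc a * v = a * v * a⁻¹ * a := by group
        _ = v * a := by rw [S.Tv a haT]
    rw [hh, hx']
    calc l⁻¹ * a * l * (l⁻¹ * v * l) = l⁻¹ * (a * v) * l := by group
      _ = l⁻¹ * (v * a) * l := by rw [h1]
      _ = l⁻¹ * v * l * (l⁻¹ * a * l) := by group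
  have hhv : h * v * h⁻¹ ≠ v := by
    intro e
    have h1 : a * x * a⁻¹ = x := by
      have e1 : a * x * a⁻¹ = l * (h * v * h⁻¹) * l⁻¹ := by rw [hh, hx]; group
      rw [e1, e, hx]
    rw [h1] at hax
    exact S.v1 (mul_eq_right.1 hax.symm)
  -- `c₀ = r w₀`
  obtain ⟨w0, hw0, hw0h⟩ : ∃ w0, (w0 = 1 ∨ w0 = v) ∧ h * (r * w0) = (r * w0) * h := by
    refine ⟨l⁻¹ * w * l, ?_, ?_⟩
    · rcases hw with e | e
      · left; rw [e]; group
      · right; rw [e, hx]; group
    · have h1 := mem_centralizer_iff.1 hwA a haA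
      rw [hr2] at h1
      rw [hh]
      calc l⁻¹ * a * l * (r * (l⁻¹ * w * l)) = l⁻¹ * (a * (l * r * l⁻¹ * w)) * l := by group
        _ = l⁻¹ * (l * r * l⁻¹ * w * a) * l := by rw [h1]
        _ = r * (l⁻¹ * w * l) * (l⁻¹ * a * l) := by group
  have hw0V : w0 ∈ V := by
    rcases hw0 with e | e
    · rw [e]; exact one_mem _
    · rw [e]; exact S.vV
  have hrw0 : r * w0 ∈ N := N.mul_mem hr (S.VN hw0V)
  have hka : kp a (r * w0) = kp a r := by
    rw [S.kp_mul' haP hr (S.VN hw0V)]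
    have : kp a w0 = 1 := by
      rw [kp_eq_one_iff]
      rcases hw0 with e | e
      · rw [e]; group
      · rw [e]
        calc a * v = a * v * a⁻¹ * a := by group
          _ = v * a := by rw [S.Tv a haT]
    rw [this, mul_one]
  obtain ⟨c, hcN, ⟨w1, hw1, hcw⟩, hch, hca⟩ : ∃ c ∈ N, (∃ w ∈ V, c = r * w) ∧ h * c = c * h ∧
      (kp a c = 1 ∨ kp a c = z) := by
    have hcase : (kp a (r * w0) = 1 ∨ kp a (r * w0) = z) ∨ (kp a (r * w0) = v ∨ kp a (r * w0) = z * v) := by
      rw [hka]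
      rcases hrT a haT with e | e | e | e
      · exact Or.inl (Or.inl e)
      · exact Or.inl (Or.inr e)
      · exact Or.inr (Or.inl e)
      · exact Or.inr (Or.inr e)
    rcases hcase with e | e
    · exact ⟨r * w0, hrw0, ⟨w0, hw0V, rfl⟩, hw0h, e⟩
    · refine ⟨r * w0 * x', N.mul_mem hrw0 hx'N, ⟨w0 * x', V.mul_mem hw0V hx'V, by group⟩, ?_, ?_⟩
      · calc h * (r * w0 * x') = (h * (r * w0)) * x' := by group
          _ = (r * w0) * (h * x') := by rw [hw0h]; group
          _ = r * w0 * x' * h := by rw [hhx']; group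
      · rw [S.kp_mul' haP hrw0 hx'N, hkx']
        rcases e with e | e
        · left; rw [e, hvv]
        · right; rw [e, mul_assoc, hvv, mul_one]
  -- elements of `R = C_T(V)`
  have hR : ∀ e ∈ T, (∀ y ∈ V, e * y = y * e) → kp e c = 1 ∨ kp e c = z := by
    intro e he heV
    have hkr : ∀ e ∈ T, (∀ y ∈ V, e * y = y * e) → kp e c = kp e r := by
      intro e he heV
      rw [hcw, S.kp_mul' (S.TP he) hr (S.VN hw1), kp_eq_one_iff.2 (heV w1 hw1), mul_one]
    have h1 := hrT e he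
    rw [← hkr e he heV] at h1
    have h2 : h * e * h⁻¹ ∈ T := S.PR h hhP e he heV
    have h3 : ∀ y ∈ V, h * e * h⁻¹ * y = y * (h * e * h⁻¹) := by
      intro y hy
      have h4 := heV _ (by
        have := S.PV h⁻¹ (P.inv_mem hhP) y hy
        rwa [inv_inv] at this : h⁻¹ * y * h ∈ V)
      calc h * e * h⁻¹ * y = h * (e * (h⁻¹ * y * h)) * h⁻¹ := by group
        _ = h * ((h⁻¹ * y * h) * e) * h⁻¹ := by rw [h4]
        _ = y * (h * e * h⁻¹) := by group
    have h5 := hrT _ h2
    rw [← hkr _ h2 h3] at h5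
    have h6 : h * kp e c * h⁻¹ = kp (h * e * h⁻¹) c := by
      rw [kp_conj]
      congr 1
      rw [hch]; group
    rw [← h6] at h5
    -- `v' = h v h⁻¹`
    have hv'V := S.PV h hhP v S.vV
    have hv'1 : h * v * h⁻¹ ≠ 1 := fun e => S.v1 (conj_eq_one_iff.1 e)
    set v' : G := h * v * h⁻¹ with hv'
    have hv'N := S.VN hv'V
    have hno : ¬ (v' = 1 ∨ v' = z ∨ v' = v ∨ v' = z * v) := by
      rintro (e | e | e | e)
      · exact hv'1 e
      · exact S.zV (e ▸ hv'V)
      · exact hhv e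
      · apply S.zV
        have h7 : z = v' * v := by rw [e, mul_assoc, hvv, mul_one]
        rw [h7]; exact V.mul_mem hv'V S.vV
    have hno2 : ¬ (z * v' = 1 ∨ z * v' = z ∨ z * v' = v ∨ z * v' = z * v) := by
      rintro (e | e | e | e)
      · apply hno; right; left
        calc v' = z * (z * v') := by rw [← mul_assoc, hzz, one_mul]
          _ = z := by rw [e, mul_one]
      · exact hv'1 (mul_eq_left.1 e)
      · apply hno; right; right; right
        rw [← e, ← mul_assoc, hzz, one_mul]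
      · exact hhv (mul_left_cancel e)
    rcases h1 with h1 | h1 | h1 | h1
    · exact Or.inl h1
    · exact Or.inr h1
    · exfalso
      rw [h1, ← hv'] at h5
      exact hno h5
    · exfalso
      have e1 : h * (z * v) * h⁻¹ = (h * z * h⁻¹) * (h * v * h⁻¹) := by group
      rw [h1, e1, S.Pz h hhP, ← hv'] at h5
      exact hno2 h5
  have hT : ∀ t ∈ T, kp t c = 1 ∨ kp t c = z := by
    intro t ht
    by_cases htV : ∀ y ∈ V, t * y = y * t
    · exact hR t ht htV
    -- `e = t a⁻¹` centralises `V`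
    have ht1 : t * x * t⁻¹ = v * x := (S.act hxV hx1 hxv ht).resolve_left htV
    have heT : t * a⁻¹ ∈ T := T.mul_mem ht (T.inv_mem haT)
    have heV : ∀ y ∈ V, t * a⁻¹ * y = y * (t * a⁻¹) := by
      rcases S.act hxV hx1 hxv heT with e | e
      · exact e
      · exfalso
        -- `a⁻¹ x a = v x`
        have h7 : a⁻¹ * x * a = v * x := by
          have h8 : a⁻¹ * v * a = v := by
            have := S.Tv a⁻¹ (T.inv_mem haT)
            rwa [inv_inv] at this
          have h9 : x = (a⁻¹ * v * a) * (a⁻¹ * x * a) := by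
            calc x = a⁻¹ * (a * x * a⁻¹) * a := by group
              _ = (a⁻¹ * v * a) * (a⁻¹ * x * a) := by rw [hax]; group
          rw [h8] at h9
          calc a⁻¹ * x * a = (v * v) * (a⁻¹ * x * a) := by rw [hvv, one_mul]
            _ = v * (v * (a⁻¹ * x * a)) := by group
            _ = v * x := by rw [← h9]
        have h10 : t * a⁻¹ * x * (t * a⁻¹)⁻¹ = v * (v * x) := by
          calc t * a⁻¹ * x * (t * a⁻¹)⁻¹ = t * (a⁻¹ * x * a) * t⁻¹ := by group
            _ = (t * v * t⁻¹) * (t * x * t⁻¹) := by rw [h7]; group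
            _ = v * (v * x) := by rw [S.Tv t ht, ht1]
        rw [e] at h10
        exact S.v1 (mul_eq_right.1 (mul_left_cancel h10).symm)
    have h1 := hR _ heT heV
    have h2 : kp t c = (t * a⁻¹) * kp a c * (t * a⁻¹)⁻¹ * kp (t * a⁻¹) c := by
      rw [← kp_mul_left]
      congr 1
      group
    rw [h2]
    rcases hca with e | e <;> rcases h1 with e' | e'
    · left; rw [e, e']; group
    · right; rw [e, e']; group
    · right; rw [e, e', S.Pz _ (S.TP heT), mul_one]
    · left; rw [e, e', S.Pz _ (S.TP heT), hzz]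
  exact ⟨c, hcN, ⟨w1, hw1, hcw⟩, hT, S.K3 A hA c hcN fun b hb => hT b (hAT hb)⟩

/-- `(2)` of THEOREM I: `r ∈ N ⊓ N'` with `[r,T] ≤ ⟨z, v⟩` satisfies `[r,T] ≤ ⟨z⟩`. -/
theorem two [Finite G] (S : Side T Qs N V P z v) {N' : Subgroup G}
    (K3' : ∀ A ∈ AA Qs, ∀ x ∈ N', (∀ a ∈ A, kp a x = 1 ∨ kp a x = v) → ∀ a ∈ A, a * x = x * a)
    (hA : A ∈ AA Qs) (hAV : ¬ ∀ a ∈ A, ∀ x ∈ V, a * x = x * a)
    {r : G} (hr : r ∈ N) (hr' : r ∈ N') (hrT : ∀ t ∈ T, kp t r = 1 ∨ kp t r = z ∨ kp t r = v ∨ kp t r = z * v) :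
    ∀ t ∈ T, kp t r = 1 ∨ kp t r = z := by
  have hAT : A ≤ T := hA.2.1.trans S.QT
  obtain ⟨c, hcN, ⟨x, hx, hcx⟩, hcT, hcA⟩ := S.one hA hAV hr hrT
  have hxN := S.VN hx
  have hrc : r = c * x := by rw [hcx, mul_assoc, S.Nsq x hxN, mul_one]
  -- `A` centralises `r`
  have h1 : ∀ a ∈ A, kp a r = kp a x := by
    intro a ha
    rw [hrc, S.kp_mul' (S.TP (hAT ha)) hcN hxN, kp_eq_one_iff.2 (hcA a ha), one_mul]
  have h2 : ∀ a ∈ A, a * r = r * a := K3' A hA r hr' fun a ha => by
    rw [h1 a ha]; exact S.kpV hx (hAT ha)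
  have h3 : ∀ a ∈ A, a * x = x * a := fun a ha => by
    rw [← kp_eq_one_iff, ← h1 a ha, kp_eq_one_iff]; exact h2 a ha
  -- so `x ∈ ⟨v⟩`
  have h4 : x = 1 ∨ x = v := by
    by_contra hcon
    push Not at hcon
    apply hAV
    intro a ha
    refine (S.act hx hcon.1 hcon.2 (hAT ha)).resolve_right fun h => S.v1 ?_
    rw [h3 a ha] at h
    have h5 : x = v * x := by rw [← h]; group
    exact mul_eq_right.1 h5.symm
  intro t ht
  have h5 : kp t x = 1 := by
    rw [kp_eq_one_iff]
    rcases h4 with e | e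
    · rw [e]; group
    · rw [e]
      calc t * v = t * v * t⁻¹ * t := by group
        _ = v * t := by rw [S.Tv t ht]
  rw [hrc, S.kp_mul' (S.TP ht) hcN hxN, h5, mul_one]
  exact hcT t ht

end Side

/-- **THEOREM I**: two sides, with members of `AA Qs` moving `V` and `V'`; then `N ⊓ N' ≤ ⟨z, v⟩`. -/
theorem inter_le [Finite G] {T Qs N V P N' V' P' A A' : Subgroup G} {z v : G} (hT : IsPGroup 2 T)
    (S : Side T Qs N V P z v) (S' : Side T Qs N' V' P' v z)
    (hA : A ∈ AA Qs) (hAV : ¬ ∀ a ∈ A, ∀ x ∈ V, a * x = x * a)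
    (hA' : A' ∈ AA Qs) (hAV' : ¬ ∀ a ∈ A', ∀ x ∈ V', a * x = x * a)
    (hz : ∀ x ∈ N ⊓ N', (∀ t ∈ T, t * x = x * t) → x = 1 ∨ x = z ∨ x = v ∨ x = z * v) :
    ∀ x ∈ N ⊓ N', x = 1 ∨ x = z ∨ x = v ∨ x = z * v := by
  have hzT : ∀ t ∈ T, t * z * t⁻¹ = z := fun t ht => S.Pz t (S.TP ht)
  have hvT : ∀ t ∈ T, t * v * t⁻¹ = v := S.Tv
  have hzv : z * v = v * z := S.Nc _ S.zN _ S.vN
  -- the group `Y = ⟨z, v⟩`
  let Y : Subgroup G :=
    { carrier := {x | x = 1 ∨ x = z ∨ x = v ∨ x = z * v}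
      one_mem' := Or.inl rfl
      mul_mem' := by
        have hzz := S.Nsq z S.zN
        have hvv := S.Nsq v S.vN
        rintro a b (rfl | rfl | rfl | rfl) (rfl | rfl | rfl | rfl)
        all_goals simp only [Set.mem_ofPred_eq]
        · simp
        · simp
        · simp
        · simp
        · simp
        · simp [hzz]
        · simp
        · right; right; left; rw [← mul_assoc, hzz, one_mul]
        · simp
        · right; right; right; exact hzv.symm
        · simp [hvv]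
        · right; left; rw [hzv, ← mul_assoc, hvv, one_mul]
        · simp
        · right; right; left; rw [hzv, mul_assoc, hzz, mul_one]
        · right; left; rw [mul_assoc, hvv, mul_one]
        · left; rw [hzv, mul_assoc, ← mul_assoc z v z, hzv, mul_assoc v z z, hzz, mul_one, hvv]
      inv_mem' := by
        have hzz := S.Nsq z S.zN
        have hvv := S.Nsq v S.vN
        have hzi : z⁻¹ = z := inv_eq_of_mul_eq_one_left hzz
        have hvi : v⁻¹ = v := inv_eq_of_mul_eq_one_left hvv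
        rintro a (rfl | rfl | rfl | rfl)
        all_goals simp only [Set.mem_ofPred_eq]
        · simp
        · right; left; exact hzi
        · right; right; left; exact hvi
        · right; right; right; rw [mul_inv_rev, hzi, hvi, hzv] }
  have hYm : ∀ x, x ∈ Y ↔ x = 1 ∨ x = z ∨ x = v ∨ x = z * v := fun x => Iff.rfl
  by_contra hcon
  have hne : ¬ N ⊓ N' ≤ Y := hcon
  have hTN : T ≤ normalizer ((N ⊓ N' : Subgroup G) : Set G) := by
    intro t ht
    rw [mem_normalizer_iff]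
    have key : ∀ t ∈ T, ∀ x ∈ N ⊓ N', t * x * t⁻¹ ∈ N ⊓ N' := fun t ht x hx =>
      ⟨S.PN t (S.TP ht) x hx.1, S'.PN t (S'.TP ht) x hx.2⟩
    intro x
    refine ⟨key t ht x, fun h => ?_⟩
    have h1 := key t⁻¹ (T.inv_mem ht) _ h
    have e : t⁻¹ * (t * x * t⁻¹) * t⁻¹⁻¹ = x := by group
    rwa [e] at h1
  have hTY : T ≤ normalizer (Y : Set G) := by
    intro t ht
    rw [mem_normalizer_iff]
    have key : ∀ t ∈ T, ∀ x ∈ Y, t * x * t⁻¹ ∈ Y := by
      rintro t ht x (rfl | rfl | rfl | rfl)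
      · left; group
      · right; left; exact hzT t ht
      · right; right; left; exact hvT t ht
      · right; right; right
        calc t * (z * v) * t⁻¹ = (t * z * t⁻¹) * (t * v * t⁻¹) := by group
          _ = z * v := by rw [hzT t ht, hvT t ht]
    intro x
    refine ⟨key t ht x, fun h => ?_⟩
    have h1 := key t⁻¹ (T.inv_mem ht) _ h
    have e : t⁻¹ * (t * x * t⁻¹) * t⁻¹⁻¹ = x := by group
    rwa [e] at h1
  obtain ⟨r, hr, hrY, hrT⟩ := NOThreeL.FFB.exists_fix_mod hT
    (inf_le_left.trans (S.NQ.trans S.QT)) hTN hTY hne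
  have h1 := S.two S'.K3 hA hAV hr.1 hr.2 hrT
  have h2 := S'.two S.K3 hA' hAV' hr.2 hr.1 (fun t ht => by
    rcases hrT t ht with h | h | h | h
    · exact Or.inl h
    · exact Or.inr (Or.inr (Or.inl h))
    · exact Or.inr (Or.inl h)
    · exact Or.inr (Or.inr (Or.inr (by unfold kp; rw [h, hzv]))))
  apply hrY
  refine hz r hr fun t ht => kp_eq_one_iff.1 ?_
  rcases h1 t ht with h | h
  · exact h
  · rcases h2 t ht with h' | h'
    · exact h'
    · exfalso
      apply S.zV
      rw [← h, h']; exact S.vV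

end Cfsg.Agent.Omega.TC.ThmI
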