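import Cfsg.Agent.Omega.TC.EndKL
import Cfsg.Agent.Omega.TC.EFrOf

/-!
# CARD #18791 (`k = 2`, `q = 2`), all stages, from `MLK` and THEOREM KL (helper836)

* `rIn : MLK → NoInp → RIn`; **`eFr : MLK → NoInp → EFr K`**;
* **`no_frame`** : `IsKProper G`, `Fr T V P v`, `OffK T V K` is impossible (the literal socket for `CaseL` / `MulG`).
-/

set_option autoImplicit false

namespace Cfsg.Agent.Omega.TC.EndKL

open Subgroup Cfsg Cfsg.Agent.Omega.MinPar
open Cfsg.Agent.Omega.Frame (Cls)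
open Cfsg.Agent.Omega.TC.OfMul (EFr)

universe u

/-- **There is no frame with `OffK` in a `K`-proper group.** -/
theorem no_frame (hML : ML.Final.MLK.{u, u}) (hKL : KL.Quo.NoInp.{u, u}) {G : Type u} [Group G] [Finite G]
    (hK : IsKProper G) {T : Subgroup G} {V P : Fin 2 → Subgroup G} {v : Fin 2 → G} (D : Fr T V P v)
    {K : Subgroup G} (h : OffK T V K) : False :=
  false_of_offK D hML hKL (kC_of D hK) h

/-- THEOREM R, all stages. -/
theorem rIn (hML : ML.Final.MLK.{u, u}) (hKL : KL.Quo.NoInp.{u, u}) : RIn.{u} :=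
  fun _ _ _ hK _ _ _ _ D _ _ _ h _ => no_frame hML hKL hK D h

/-- **Case (E), `k = 2`, `q = 2`, all stages.** -/
theorem eFr {K : Cls.{u}} (hML : ML.Final.MLK.{u, u}) (hKL : KL.Quo.NoInp.{u, u}) : EFr K :=
  eFr_of_kl hML hKL (rIn hML hKL)

end Cfsg.Agent.Omega.TC.EndKL
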