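import Cfsg.Agent.Omega.OM.Lev.Low.TwoMain
import Cfsg.Agent.Omega.OM.Lev.Low.PushRes
import Cfsg.Agent.Omega.TC.UniLev

/-!
# NO-3S, MultiTwoL, case (E), `k = 2 = q`: no minimal parabolic of smaller stage over `B` moves `Ω₁(Z(B))`

* `Tor.false` : the torus block does not exist;
* **`noLow : NoLow K`**, **`uniLev : OfMul.UniLev K`**, for every class `K`.
-/

set_option autoImplicit false
set_option linter.unusedSectionVars false

namespace Cfsg.Agent.Omega.OM.Lev.Low.TwoMain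

open Subgroup Cfsg Cfsg.Agent.ZN Cfsg.Agent.ZN.ChoiceBase
open Cfsg.Agent.ZN.ChoiceSit (Syl)
open Cfsg.Agent.MinSimple.MinParabolic (IsMinPar)
open Cfsg.Agent.Omega.MinPar (IsLoc IsPar IsParS)
open Cfsg.Agent.Omega.NO3S.EThree.Frame (Bg)
open Cfsg.Agent.Omega.NO3S.Level (lev)
open Cfsg.Agent.Omega.OM.SwapL (Ln ZL)

universe u

variable {G : Type u} [Group G] [Finite G]

/-- **The torus block does not exist.** -/
theorem Tor.false {S : Sylow 2 G} {P : Subgroup G} {n : ℕ} {L W Z C A : Fin 2 → Subgroup G} {R : Subgroup G} {j : ℕ}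
    {K N₁ c : Subgroup G} {τ : G} (h : Tor S P n L W Z C A R j K N₁ c τ)
    (hbg : Bg S P (SwapL.BL (S : Subgroup G) n) (ZL (S : Subgroup G) n) L W Z C 2)
    (hall : ∀ R, IsParS (S : Subgroup G) R → lev (S : Subgroup G) n ≤ o2 R)
    (hZ : ¬ R ≤ centralizer (zc (SwapL.BL (S : Subgroup G) n) : Set G)) : False := by
  obtain ⟨z, z1, z2, hR, hD⟩ := h.exists_res hbg hZ (h.le_V hZ)
  exact h.not_loc hbg hall hZ (hR.isLoc hD)

/-- **`k = 2 = q`: no minimal parabolic of smaller stage over `B` moves `Ω₁(Z(B))`**, over the frames of `P`. -/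
theorem no_low {S : Sylow 2 G} {P : Subgroup G} {n : ℕ} {L W Z C A : Fin 2 → Subgroup G}
    (hln : Ln S P n L W Z C A 2)
    (hbg : Bg S P (SwapL.BL (S : Subgroup G) n) (ZL (S : Subgroup G) n) L W Z C 2)
    (hall : ∀ R, IsParS (S : Subgroup G) R → lev (S : Subgroup G) n ≤ o2 R)
    {R : Subgroup G} (hP : IsMinPar (SwapL.BL (S : Subgroup G) n) R) (hR : Syl (SwapL.BL (S : Subgroup G) n) R)
    (hc : R ⊓ centralizer (o2 R : Set G) ≤ o2 R) (hn : ¬ lev (S : Subgroup G) n ≤ o2 R) :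
    R ≤ centralizer (zc (SwapL.BL (S : Subgroup G) n) : Set G) := by
  by_contra hZ
  obtain ⟨j, K, N₁, c, τ, h⟩ := exists_tor' hln hR hP hc hn hZ
  exact h.false hbg hall hZ

end Cfsg.Agent.Omega.OM.Lev.Low.TwoMain

namespace Cfsg.Agent.Omega.TC.UniLev

open Cfsg.Agent.Omega.Frame (Cls)
open Cfsg.Agent.Omega.TC.OfMul

universe u

/-- **No minimal parabolic of smaller stage over `B` moves `Ω₁(Z(B))`.** -/
theorem noLow {K : Cls.{u}} : NoLow K := by
  intro G _ _ _ S P h n hall hn1 F _ _ _ hF N B ZJ eqZ eqB _ L W Z C A hbg hfr R hP hR hc hn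
  subst eqZ eqB
  exact OM.Lev.Low.TwoMain.no_low ⟨h.toHypN, hall P h.star, hfr, hbg.two⟩ hbg hall hP hR hc hn

/-- **The level input.** -/
theorem uniLev {K : Cls.{u}} : UniLev K := uniLev_of noLow

end Cfsg.Agent.Omega.TC.UniLev
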