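import Mathlib

/-!
# THEOREM PC (helper691 #20995 (A)): two transvections `a`, `b` with `a b a = b a b`

`s3` : `M` abelian of exponent 2, `a`, `b` induce transvections (or 1) of order `≤ 2` on `M` with `(ab)³ = 1`; then
`a = b` on `M` or every vector moved by `a` and by `b` is fixed by `b a b`.
-/

set_option autoImplicit false

namespace Cfsg.Agent.Omega.TC.PC

theorem s3' {M : Type*} [AddCommGroup M] (h2 : ∀ x : M, x + x = 0) (A B : M →+ M) (hA : ∀ x, A (A x) = x)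
    (hB : ∀ x, B (B x) = x) (Ta : ∀ y y', A y ≠ y → A y' ≠ y' → A y + y = A y' + y')
    (Tb : ∀ y y', B y ≠ y → B y' ≠ y' → B y + y = B y' + y') (hc : ∀ y, A (B (A y)) = B (A (B y))) {m : M}
    (h1 : A m ≠ m) (h1' : B m ≠ m) : B (A (B m)) = m ∨ ∀ y, A y = B y := by
  have hcan : ∀ x y : M, x + (x + y) = y := fun x y => by rw [← add_assoc, h2, zero_add]
  have hz : ∀ x y : M, x + y = 0 → x = y := fun x y h => by
    calc x = x + (x + y) := by rw [h, add_zero]
      _ = y := hcan x y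
  obtain ⟨k, hk⟩ : ∃ k, k = A m + m := ⟨_, rfl⟩
  obtain ⟨l, hl⟩ : ∃ l, l = B m + m := ⟨_, rfl⟩
  have hk0 : k ≠ 0 := fun h => h1 (hz _ _ (hk.symm.trans h))
  have hl0 : l ≠ 0 := fun h => h1' (hz _ _ (hl.symm.trans h))
  have hAm : A m = k + m := by rw [hk, add_assoc, h2, add_zero]
  have hBm : B m = l + m := by rw [hl, add_assoc, h2, add_zero]
  have hAk : A k = k := by rw [hk, map_add, hA, add_comm]
  have hBl : B l = l := by rw [hl, map_add, hB, add_comm]
  have hAy : ∀ y, A y = y ∨ A y = k + y := by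
    intro y
    by_cases h : A y = y
    · exact Or.inl h
    · right
      rw [hk, ← Ta y m h h1, add_assoc, h2, add_zero]
  have hBy : ∀ y, B y = y ∨ B y = l + y := by
    intro y
    by_cases h : B y = y
    · exact Or.inl h
    · right
      rw [hl, ← Tb y m h h1', add_assoc, h2, add_zero]
  have hcm := hc m
  rcases hAy l with hAl | hAl <;> rcases hBy k with hBk | hBk
  · -- `k = l`
    have e1 : A (B (A m)) = l + m := by
      rw [hAm, map_add, hBk, hBm, map_add, map_add, hAk, hAl, hAm]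
      rw [add_left_comm l k m, hcan]
    have e2 : B (A (B m)) = k + m := by
      rw [hBm, map_add, hAl, hAm, map_add, map_add, hBl, hBk, hBm]
      rw [add_left_comm k l m, hcan]
    rw [e1, e2] at hcm
    have hlk : l = k := add_right_cancel hcm
    subst hlk
    right
    intro y
    have hcy := hc y
    rcases hAy y with h | h <;> rcases hBy y with h' | h'
    · rw [h, h']
    · exfalso
      apply hk0
      rw [h, h', map_add, map_add, hAk, h, hBl, h', hcan] at hcy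
      exact add_eq_right.1 hcy
    · exfalso
      apply hk0
      rw [h, h', map_add, hBl, h', map_add, hAk, h, hcan, map_add, hBl, h'] at hcy
      exact add_eq_right.1 hcy.symm
    · rw [h, h']
  · left
    rw [← hcm, hAm, map_add, hBk, hBm]
    have e : l + k + (l + m) = k + m := by
      rw [add_comm l k, add_assoc, hcan]
    rw [e, map_add, hAk, hAm, hcan]
  · left
    rw [hBm, map_add, hAl, hAm]
    have e : k + l + (k + m) = l + m := by
      rw [add_comm k l, add_assoc, hcan]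
    rw [e, map_add, hBl, hBm, hcan]
  · left
    rw [hBm, map_add, hAl, hAm]
    have e : k + l + (k + m) = l + m := by
      rw [add_comm k l, add_assoc, hcan]
    rw [e, map_add, hBl, hBm, hcan]

/-- the same for elements of a group acting by conjugation on `M` modulo `E` -/
theorem s3 {G : Type*} [Group G] {S E : Subgroup G} (hSc : ∀ x ∈ S, ∀ y ∈ S, x * y = y * x)
    (hS2 : ∀ x ∈ S, x * x = 1) {a b : G} (haS : ∀ y ∈ S, a * y * a⁻¹ ∈ S)
    (hbS : ∀ y ∈ S, b * y * b⁻¹ ∈ S) (haE : ∀ y ∈ E, a * y * a⁻¹ ∈ E) (hbE : ∀ y ∈ E, b * y * b⁻¹ ∈ E)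
    (ha2 : a * a = 1) (hb2 : b * b = 1)
    (Ta : ∀ y ∈ S, ∀ y' ∈ S, a * y * a⁻¹ * y⁻¹ ∉ E → a * y' * a⁻¹ * y'⁻¹ ∉ E → a * (y * y') * a⁻¹ * (y * y')⁻¹ ∈ E)
    (Tb : ∀ y ∈ S, ∀ y' ∈ S, b * y * b⁻¹ * y⁻¹ ∉ E → b * y' * b⁻¹ * y'⁻¹ ∉ E → b * (y * y') * b⁻¹ * (y * y')⁻¹ ∈ E)
    (hc : ∀ y ∈ S, (a * b * a * y * (a * b * a)⁻¹) * (b * a * b * y * (b * a * b)⁻¹)⁻¹ ∈ E) {m : G} (hm : m ∈ S)
    (h1 : a * m * a⁻¹ * m⁻¹ ∉ E) (h2 : b * m * b⁻¹ * m⁻¹ ∉ E) :
    b * a * b * m * (b * a * b)⁻¹ * m⁻¹ ∈ E ∨ ∀ y ∈ S, (a * y * a⁻¹) * (b * y * b⁻¹)⁻¹ ∈ E := by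
  let _ : CommGroup S := { (inferInstance : Group S) with
    mul_comm := fun x y => Subtype.ext (hSc x x.2 y y.2) }
  let E' : Subgroup S := E.subgroupOf S
  let cg : ∀ {c : G}, (∀ y ∈ S, c * y * c⁻¹ ∈ S) → (S →* S) := fun {c} h =>
    { toFun := fun y => ⟨c * y * c⁻¹, h y y.2⟩
      map_one' := Subtype.ext (by simp)
      map_mul' := fun x y => Subtype.ext (by
        change c * ((x : G) * y) * c⁻¹ = c * x * c⁻¹ * (c * y * c⁻¹)
        group) }
  have hcE : ∀ {c : G} (h : ∀ y ∈ S, c * y * c⁻¹ ∈ S), (∀ y ∈ E, c * y * c⁻¹ ∈ E) → E' ≤ E'.comap (cg h) := by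
    intro c h h' x hx
    rw [Subgroup.mem_comap]
    exact h' _ hx
  let A : Additive (S ⧸ E') →+ Additive (S ⧸ E') := (QuotientGroup.map E' E' (cg haS) (hcE haS haE)).toAdditive
  let B : Additive (S ⧸ E') →+ Additive (S ⧸ E') := (QuotientGroup.map E' E' (cg hbS) (hcE hbS hbE)).toAdditive
  let q : S → Additive (S ⧸ E') := fun y => Additive.ofMul (QuotientGroup.mk y)
  have hq : ∀ x : Additive (S ⧸ E'), ∃ y : S, q y = x := fun x => by
    obtain ⟨y, hy⟩ := QuotientGroup.mk_surjective (Additive.toMul x)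
    exact ⟨y, congrArg Additive.ofMul hy⟩
  have hAq : ∀ y : S, A (q y) = q (cg haS y) := fun y => rfl
  have hBq : ∀ y : S, B (q y) = q (cg hbS y) := fun y => rfl
  have hqadd : ∀ x y : S, q x + q y = q (x * y) := fun x y => rfl
  have hq0 : ∀ x y : S, q x = q y ↔ (x : G) * (y : G)⁻¹ ∈ E := by
    intro x y
    have h3 : q x = q y ↔ (QuotientGroup.mk x : S ⧸ E') = QuotientGroup.mk y := Iff.rfl
    rw [h3, QuotientGroup.eq_iff_div_mem, Subgroup.mem_subgroupOf, div_eq_mul_inv]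
    rfl
  have hxx : ∀ x : S, x * x = 1 := fun x => Subtype.ext (hS2 x x.2)
  have h22 : ∀ x : Additive (S ⧸ E'), x + x = 0 := by
    intro x
    obtain ⟨y, rfl⟩ := hq x
    rw [hqadd, hxx]
    rfl
  have hTr : ∀ {c : G} (h : ∀ y ∈ S, c * y * c⁻¹ ∈ S), (∀ y ∈ S, ∀ y' ∈ S, c * y * c⁻¹ * y⁻¹ ∉ E →
      c * y' * c⁻¹ * y'⁻¹ ∉ E → c * (y * y') * c⁻¹ * (y * y')⁻¹ ∈ E) → ∀ y y' : S, q (cg h y) ≠ q y →
      q (cg h y') ≠ q y' → q (cg h y) + q y = q (cg h y') + q y' := by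
    intro c h hT y y' h3 h4
    have h5 := hT y y.2 y' y'.2 (fun h => h3 ((hq0 _ _).2 h)) fun h => h4 ((hq0 _ _).2 h)
    have h6 : q (cg h (y * y')) = q (y * y') := (hq0 _ _).2 h5
    rw [map_mul, ← hqadd, ← hqadd] at h6
    -- `A y + A y' = y + y'`
    have h7 : ∀ s t u w : Additive (S ⧸ E'), s + t = u + w → s + u = t + w := by
      intro s t u w h8
      calc s + u = s + (t + t) + u := by rw [h22, add_zero]
        _ = (s + t) + (t + u) := by abel
        _ = (u + w) + (t + u) := by rw [h8]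
        _ = (u + u) + (t + w) := by abel
        _ = t + w := by rw [h22, zero_add]
    exact h7 _ _ _ _ h6
  have hinv : ∀ {c : G} (h : ∀ y ∈ S, c * y * c⁻¹ ∈ S), c * c = 1 → ∀ y : S, cg h (cg h y) = y := by
    intro c h hcc y
    apply Subtype.ext
    change c * (c * y * c⁻¹) * c⁻¹ = y
    have e : c * (c * (y : G) * c⁻¹) * c⁻¹ = (c * c) * y * (c * c)⁻¹ := by group
    rw [e, hcc]; group
  have key := s3' h22 A B (fun x => by
      obtain ⟨y, rfl⟩ := hq x
      rw [hAq, hAq, hinv haS ha2]) (fun x => by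
      obtain ⟨y, rfl⟩ := hq x
      rw [hBq, hBq, hinv hbS hb2]) (fun x x' => by
      obtain ⟨y, rfl⟩ := hq x
      obtain ⟨y', rfl⟩ := hq x'
      exact hTr haS Ta y y') (fun x x' => by
      obtain ⟨y, rfl⟩ := hq x
      obtain ⟨y', rfl⟩ := hq x'
      exact hTr hbS Tb y y') (fun x => by
      obtain ⟨y, rfl⟩ := hq x
      rw [hAq, hBq, hAq, hBq, hAq, hBq]
      apply (hq0 _ _).2
      have h3 := hc y y.2
      have e : ((cg haS (cg hbS (cg haS y)) : S) : G) * ((cg hbS (cg haS (cg hbS y)) : S) : G)⁻¹ =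
          (a * b * a * y * (a * b * a)⁻¹) * (b * a * b * y * (b * a * b)⁻¹)⁻¹ := by
        change a * (b * (a * (y : G) * a⁻¹) * b⁻¹) * a⁻¹ * (b * (a * (b * (y : G) * b⁻¹) * a⁻¹) * b⁻¹)⁻¹ = _
        group
      rwa [e]) (m := q ⟨m, hm⟩) (fun h => h1 ((hq0 _ _).1 h)) (fun h => h2 ((hq0 _ _).1 h))
  rcases key with h | h
  · left
    rw [hBq, hAq, hBq] at h
    have h3 := (hq0 _ _).1 h
    have e : ((cg hbS (cg haS (cg hbS ⟨m, hm⟩)) : S) : G) * (m : G)⁻¹ =
        b * a * b * m * (b * a * b)⁻¹ * m⁻¹ := by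
      change b * (a * (b * m * b⁻¹) * a⁻¹) * b⁻¹ * m⁻¹ = _
      group
    rwa [← e]
  · right
    intro y hy
    exact (hq0 _ _).1 (h (q ⟨y, hy⟩))

end Cfsg.Agent.Omega.TC.PC
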