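import Cfsg.Agent.Omega.TC.ThmC
import Cfsg.Agent.Omega.TC.PCAbs
import Cfsg.Agent.Omega.OM.KTwo.StrSp

/-!
# CARD #18791, THEOREM PC (helper691 #20995 (A)): `d ≥ 2 ⟹ [W_a, N_b] = 1` for all `a ~ b`

`Fr.pc` : `N_k ≤ Q_(k+1)` for both `k` implies `[W_j, N_(j+1)] = 1`.  Inputs: `Sec0` (section 0), `FrmP` (the
invariant form, representability).
-/

set_option autoImplicit false
set_option linter.unusedSectionVars false

namespace Cfsg.Agent.Omega.TC

open Subgroup Cfsg Cfsg.Agent.ZN Cfsg.Agent.Omega.MinPar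
open Cfsg.Agent.Omega.OM.KTwo (CC QQ WU NU EU FF ne_add_one eq_add_one add_one_add_one le_normalizer_V le_V
  le_o2_of_commutator)
open Cfsg.Agent.Omega.OM.KTwo.StrSp (Pts Tr Frm)
open Cfsg.Agent.Omega.NoFF.Basic (conj_conj mem_conj conj_le_iff conj_le_centralizer comm_symm comm_mono
  Z_le_V V_le conj_V_mul)
open Cfsg.Agent.Omega.NOThreeL.Pair (conj_eq_of_mem)
open Cfsg.Agent.MinSimple.VModule (mem_zc zc_le normalizer_le_normalizer_zc le_normalizer_o2 le_o2 o2_le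
  o2_isPGroup)
open scoped Pointwise

universe u

variable {G : Type u} [Group G]

/-- the invariant form on `N_i`, no radical -/
structure BForm (T : Subgroup G) (V : Fin 2 → Subgroup G) (v : Fin 2 → G) (i : Fin 2) (B : G → G → ℤˣ) : Prop where
  F : Frm (CC v i) (NU V v i) 1 (v (i + 1)) B
  H_iff : ∀ n ∈ NU V v i, n ∈ HU V T i ↔ B (v (i + 1)) n = 1
  nd : ∀ u ∈ NU V v i, (∀ w ∈ NU V v i, B u w = 1) → u = 1
  rep : ∀ f : G → ℤˣ, f 1 = 1 → (∀ x ∈ NU V v i, ∀ y ∈ NU V v i, B x y = -1 → f (x * y) = f x * f y) →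
    (∀ x ∈ V (i + 1), f x = 1) → ∃ z ∈ NU V v i, ∀ x ∈ NU V v i, f x = B z x

/-- section 0 with the form, as a hypothesis -/
def FrmP (T : Subgroup G) (V : Fin 2 → Subgroup G) (v : Fin 2 → G) : Prop :=
  ∀ (i : Fin 2), ∀ x ∈ CC v i, x ∉ centralizer (NU V v i : Set G) →
    (∀ n ∈ NU V v i, n * x * n⁻¹ * x⁻¹ ∈ zpowers (v (i + 1))) → NU V v i = HU V T i ∨ ∃ B, BForm T V v i B

/-- `W_x`, `x = v_j^c` -/
def Wx (V : Fin 2 → Subgroup G) (v : Fin 2 → G) (i : Fin 2) (x : G) : Set G :=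
  {w | ∃ c ∈ CC v i, c * v (i + 1) * c⁻¹ = x ∧ c⁻¹ * w * c ∈ WU V v (i + 1)}

/-- `x` fixes `y` modulo `E` -/
def Fx (E : Subgroup G) (x y : G) : Prop := x * y * x⁻¹ * y⁻¹ ∈ E

/-- the situation: `[W_j, N_i] = ⟨v_j⟩`, `[W_i, N_j] = ⟨v_i⟩`, `j = i + 1` -/
structure PS [Finite G] (T : Subgroup G) (V P : Fin 2 → Subgroup G) (v : Fin 2 → G) (i : Fin 2)
    (B : G → G → ℤˣ) : Prop where
  D : Fr T V P v
  hd : ∀ k, NU V v k ≤ QQ v (k + 1)
  hmv : ¬ WU V v (i + 1) ≤ centralizer (NU V v i : Set G)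
  hmv' : ¬ WU V v i ≤ centralizer (NU V v (i + 1) : Set G)
  hv : v i ∉ NU V v i
  Si : SpF T V v i (v (i + 1))
  Sj : SpF T V v (i + 1) (v i)
  bf : BForm T V v i B

namespace PS

variable [Finite G] {T : Subgroup G} {V P : Fin 2 → Subgroup G} {v : Fin 2 → G} {i : Fin 2} {B : G → G → ℤˣ}
  (h : PS T V P v i B)

include h

/-- the abelian group `S = W_i N_i` -/
theorem S_comm : ∀ x ∈ WU V v i ⊔ NU V v i, ∀ y ∈ WU V v i ⊔ NU V v i, x * y = y * x := fun x hx _ hy =>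
  (mem_centralizer_iff.1 (h.D.WN_comm i hy) x hx)

theorem S_sq : ∀ x ∈ WU V v i ⊔ NU V v i, x * x = 1 := fun x hx => by
  have := h.D.WN_sq i x hx
  rwa [pow_two] at this

theorem C_le_N_S : CC v i ≤ normalizer ((WU V v i ⊔ NU V v i : Subgroup G) : Set G) := by
  intro c hc
  refine ChoiceBase.mem_normalizer_iff_cj.2 ?_
  change MulAut.conj c • (WU V v i ⊔ NU V v i) = _
  rw [Subgroup.smul_sup, conj_eq_of_mem (h.D.C_le_N_N i hc), conj_eq_of_mem (h.D.C_le_N_W i hc)]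

theorem conj_S {c y : G} (hc : c ∈ CC v i) (hy : y ∈ WU V v i ⊔ NU V v i) : c * y * c⁻¹ ∈ WU V v i ⊔ NU V v i :=
  (mem_normalizer_iff.1 (h.C_le_N_S hc) y).1 hy

theorem conj_E {c y : G} (hc : c ∈ CC v i) (hy : y ∈ EU T v i) : c * y * c⁻¹ ∈ EU T v i :=
  (mem_normalizer_iff.1 (h.D.C_le_N_E i hc) y).1 hy

theorem conj_N {c y : G} (hc : c ∈ CC v i) (hy : y ∈ NU V v i) : c * y * c⁻¹ ∈ NU V v i :=
  (mem_normalizer_iff.1 (h.D.C_le_N_N i hc) y).1 hy

theorem S_le_C : WU V v i ⊔ NU V v i ≤ CC v i := sup_le (h.D.W_le_C i i) (h.D.N_le_C i i)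

omit h in
theorem fx_mul {E : Subgroup G} {x y z : G} (hE : x * (y * z * y⁻¹ * z⁻¹) * x⁻¹ ∈ E) (h2 : Fx E x z) : Fx E (x * y) z := by
  have e : x * y * z * (x * y)⁻¹ * z⁻¹ = (x * (y * z * y⁻¹ * z⁻¹) * x⁻¹) * (x * z * x⁻¹ * z⁻¹) := by group
  unfold Fx at *
  rw [e]
  exact mul_mem hE h2

theorem fx_mul' {x y z : G} (hx : x ∈ CC v i) (h1 : Fx (EU T v i) y z) (h2 : Fx (EU T v i) x z) :
    Fx (EU T v i) (x * y) z := fx_mul (h.conj_E hx h1) h2

/-- modulo `E`, for `y`, `z ∈ S` -/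
theorem fx_mul_right {x y z : G} (hy : y ∈ WU V v i ⊔ NU V v i) (h1 : Fx (EU T v i) x y)
    (h2 : Fx (EU T v i) x z) : Fx (EU T v i) x (y * z) := by
  have e : x * (y * z) * x⁻¹ * (y * z)⁻¹ = (x * y * x⁻¹ * y⁻¹) * (y * (x * z * x⁻¹ * z⁻¹) * y⁻¹) := by group
  unfold Fx at *
  rw [e]
  exact mul_mem h1 (h.conj_E (h.S_le_C hy) h2)

theorem fx_conj {g x y : G} (hg : g ∈ CC v i) (h1 : Fx (EU T v i) x y) :
    Fx (EU T v i) (g * x * g⁻¹) (g * y * g⁻¹) := by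
  have e : g * x * g⁻¹ * (g * y * g⁻¹) * (g * x * g⁻¹)⁻¹ * (g * y * g⁻¹)⁻¹ = g * (x * y * x⁻¹ * y⁻¹) * g⁻¹ := by group
  unfold Fx at *
  rw [e]
  exact h.conj_E hg h1

/-- `Q_i` is trivial on `W_i N_i` modulo `E` -/
theorem fx_Q {x y : G} (hx : x ∈ QQ v i) (hy : y ∈ WU V v i ⊔ NU V v i) : Fx (EU T v i) x y := by
  obtain ⟨s, hs, n, hn, rfl⟩ := OM.KTwo.exists_mul_of_mem_sup ((h.D.N_le_C i i).trans (h.D.C_le_N_W i)) hy
  refine h.fx_mul_right (mem_sup_left hs) ?_ ?_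
  · exact (zpowers_le.2 (h.D.v_mem_E i i)) (kp_inv (h.D.comm_W_Q i s hs x hx))
  · have h1 : x * n = n * x := (mem_centralizer_iff.1 (h.D.Q_le_cent_N i hx) n hn).symm
    unfold Fx
    rw [kp_of_comm h1]
    exact one_mem _

theorem fx_N {x n : G} (hx : x ∈ CC v i) (hn : n ∈ NU V v i) : Fx (EU T v i) x n :=
  h.D.N_le_E i (mul_mem (h.conj_N hx hn) (inv_mem hn))

/-! ### the groups `W_x` -/

theorem wx_C {x w : G} (hw : w ∈ Wx V v i x) : w ∈ CC v i := by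
  obtain ⟨c, hc, -, h1⟩ := hw
  have h2 := mul_mem (mul_mem hc (h.D.W_le_C (i + 1) i h1)) (inv_mem hc)
  have e : c * (c⁻¹ * w * c) * c⁻¹ = w := by group
  rwa [e] at h2

theorem wx_sq {x w : G} (hw : w ∈ Wx V v i x) : w * w = 1 := by
  obtain ⟨c, hc, -, h1⟩ := hw
  have h2 := h.D.W_sq (i + 1) _ h1
  rw [pow_two] at h2
  have e : w * w = c * (c⁻¹ * w * c * (c⁻¹ * w * c)) * c⁻¹ := by group
  rw [e, h2]; group

theorem wx_conj {x w g : G} (hg : g ∈ CC v i) (hw : w ∈ Wx V v i x) : g * w * g⁻¹ ∈ Wx V v i (g * x * g⁻¹) := by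
  obtain ⟨c, hc, h1, h2⟩ := hw
  refine ⟨g * c, mul_mem hg hc, ?_, ?_⟩
  · rw [← h1]; group
  · have e : (g * c)⁻¹ * (g * w * g⁻¹) * (g * c) = c⁻¹ * w * c := by group
    rwa [e]

theorem wx_rep {c w : G} (hc : c ∈ CC v i) (hw : w ∈ Wx V v i (c * v (i + 1) * c⁻¹)) :
    c⁻¹ * w * c ∈ WU V v (i + 1) := by
  obtain ⟨c', hc', h1, h2⟩ := hw
  have h3 : c⁻¹ * c' ∈ CC v (i + 1) := by
    rw [CC, mem_centralizer_singleton_iff]
    calc c⁻¹ * c' * v (i + 1) = c⁻¹ * (c' * v (i + 1) * c'⁻¹) * c' := by group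
      _ = v (i + 1) * (c⁻¹ * c') := by rw [h1]; group
  have h4 := (mem_normalizer_iff.1 (h.D.C_le_N_W (i + 1) h3) _).1 h2
  have e : c⁻¹ * c' * (c'⁻¹ * w * c') * (c⁻¹ * c')⁻¹ = c⁻¹ * w * c := by group
  rwa [e] at h4

theorem wx_mul {x w w' : G} (hw : w ∈ Wx V v i x) (hw' : w' ∈ Wx V v i x) : w * w' ∈ Wx V v i x := by
  obtain ⟨c, hc, h1, h2⟩ := hw
  rw [← h1] at hw'
  have h3 := h.wx_rep hc hw'
  refine ⟨c, hc, h1, ?_⟩
  have h4 := mul_mem h2 h3
  have e : c⁻¹ * w * c * (c⁻¹ * w' * c) = c⁻¹ * (w * w') * c := by group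
  rwa [e] at h4

/-- `[N_i, w] ≤ ⟨x⟩` -/
theorem wx_N {x w n : G} (hw : w ∈ Wx V v i x) (hn : n ∈ NU V v i) : w * n * w⁻¹ = n ∨ w * n * w⁻¹ = n * x := by
  obtain ⟨c, hc, h1, h2⟩ := hw
  have hn' : c⁻¹ * n * c ∈ NU V v i := by
    have := h.conj_N (inv_mem hc) hn
    rwa [inv_inv] at this
  have hnQ : c⁻¹ * n * c ∈ QQ v (i + 1) := h.hd i hn'
  have h3 := h.D.comm_W_Q (i + 1) _ h2 _ (inv_mem hnQ)
  -- `[w', n'⁻¹] ∈ ⟨v j⟩`
  rcases h.D.mem_zpv (kp_inv h3) with h4 | h4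
  · left
    have h5 := comm_of_kp h4
    have h6 : (c⁻¹ * n * c) * (c⁻¹ * w * c) = c⁻¹ * w * c * (c⁻¹ * n * c) := by
      have h7 : Commute (c⁻¹ * n * c)⁻¹ (c⁻¹ * w * c) := h5
      have h8 := h7.inv_left
      rw [inv_inv] at h8
      exact h8.eq
    have h7 := congrArg (fun t => c * t * c⁻¹) h6
    have e1 : c * (c⁻¹ * n * c * (c⁻¹ * w * c)) * c⁻¹ = n * w := by group
    have e2 : c * (c⁻¹ * w * c * (c⁻¹ * n * c)) * c⁻¹ = w * n := by group
    simp only [e1, e2] at h7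
    rw [← h7]; group
  · right
    have h7 := congrArg (fun t => c * t * c⁻¹) h4
    have e1 : c * ((c⁻¹ * n * c)⁻¹ * (c⁻¹ * w * c) * (c⁻¹ * n * c)⁻¹⁻¹ * (c⁻¹ * w * c)⁻¹) * c⁻¹ =
      n⁻¹ * (w * n * w⁻¹) := by group
    simp only [e1] at h7
    rw [h1] at h7
    rw [← h7]; group

/-- elements of `W_x` which centralise `N_i` are in `Q_i` -/
theorem wx_Q {x w : G} (hw : w ∈ Wx V v i x) (h1 : w ∈ centralizer (NU V v i : Set G)) : w ∈ QQ v i := by
  obtain ⟨c, hc, -, h2⟩ := hw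
  have h3 : c⁻¹ * w * c ∈ centralizer (NU V v i : Set G) := by
    rw [mem_centralizer_iff] at h1 ⊢
    intro n hn
    have h4 := h1 _ (h.conj_N hc hn)
    have h5 := congrArg (fun t => c⁻¹ * t * c) h4
    have e1 : c⁻¹ * (c * n * c⁻¹ * w) * c = n * (c⁻¹ * w * c) := by group
    have e2 : c⁻¹ * (w * (c * n * c⁻¹)) * c = c⁻¹ * w * c * n := by group
    simp only [e1, e2] at h5
    exact h5
  have h4 : c⁻¹ * w * c ∈ QQ v i :=
    h.D.f3 i ⟨h.D.Q_le_o2D (i + 1) (h.D.W_le_Q (i + 1) h2), h3⟩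
  have h5 : c * (c⁻¹ * w * c) * c⁻¹ ∈ QQ v i := (mem_normalizer_iff.1 (le_normalizer_o2 _ hc) _).1 h4
  have e : c * (c⁻¹ * w * c) * c⁻¹ = w := by group
  rwa [e] at h5

theorem wx_fx {x w y : G} (hw : w ∈ Wx V v i x) (h1 : w ∈ centralizer (NU V v i : Set G))
    (hy : y ∈ WU V v i ⊔ NU V v i) : Fx (EU T v i) w y := h.fx_Q (h.wx_Q hw h1) hy

/-- two elements of `W_i` not centralising `N_j` -/
theorem idx_W {s s' : G} (hs : s ∈ WU V v i) (hs' : s' ∈ WU V v i) (h1 : s ∉ centralizer (NU V v (i + 1) : Set G))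
    (h2 : s' ∉ centralizer (NU V v (i + 1) : Set G)) : s * s' ∈ centralizer (NU V v (i + 1) : Set G) := by
  have hjj : i + 1 + 1 = i := add_one_add_one i
  have hH : WU V v i ≤ centralizer (HU V T (i + 1) : Set G) := by
    have := h.D.W_cent_H (i + 1)
    rwa [hjj] at this
  have hNQ : NU V v (i + 1) ≤ QQ v i := by
    have := h.hd (i + 1)
    rwa [hjj] at this
  -- `[s, n] = v i` for `n ∉ H_j`
  have key : ∀ t ∈ WU V v i, t ∉ centralizer (NU V v (i + 1) : Set G) → ∀ n ∈ NU V v (i + 1), n ∉ HU V T (i + 1) →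
      t * n * t⁻¹ * n⁻¹ = v i := by
    intro t ht htc n hn hnH
    rcases h.D.mem_zpv (h.D.comm_W_Q i t ht n (hNQ hn)) with h3 | h3
    · exfalso
      apply hnH
      refine h.D.mem_H h.Sj.idx (X := zpowers t) ?_ ?_ hn fun x hx => ?_
      · rw [zpowers_le]; exact hH ht
      · intro h4; exact htc (h4 (mem_zpowers _))
      · obtain ⟨k, rfl⟩ := mem_zpowers_iff.1 hx
        have h4 : Commute t n := comm_of_kp h3
        exact (h4.zpow_left k).eq
    · exact h3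
  rw [mem_centralizer_iff]
  intro n hn
  by_cases hnH : n ∈ HU V T (i + 1)
  · have h3 := mem_centralizer_iff.1 (hH hs) n hnH
    have h4 := mem_centralizer_iff.1 (hH hs') n hnH
    calc n * (s * s') = (n * s) * s' := by group
      _ = s * (n * s') := by rw [h3]; group
      _ = s * s' * n := by rw [h4]; group
  · have h3 := key s hs h1 n hn hnH
    have h4 := key s' hs' h2 n hn hnH
    have h5 : s' * n * s'⁻¹ = v i * n := by rw [← h4]; group
    have h6 : s * n * s⁻¹ = v i * n := by rw [← h3]; group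
    have h7 : s * v i * s⁻¹ = v i := h.D.conj_v i (h.D.W_le_C i i hs)
    have h8 : s * s' * n * (s * s')⁻¹ = n := by
      calc s * s' * n * (s * s')⁻¹ = s * (s' * n * s'⁻¹) * s⁻¹ := by group
        _ = (s * v i * s⁻¹) * (s * n * s⁻¹) := by rw [h5]; group
        _ = n := by rw [h7, h6, ← mul_assoc, h.D.v_sq, one_mul]
    calc n * (s * s') = s * s' * n * (s * s')⁻¹ * (s * s') := by rw [h8]
      _ = s * s' * n := by group

/-- every `w ∈ W_x` acts as `1` or as a transvection on `W_i N_i / E` -/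
theorem wx_T1 {x w y y' : G} (hw : w ∈ Wx V v i x) (hy : y ∈ WU V v i ⊔ NU V v i) (hy' : y' ∈ WU V v i ⊔ NU V v i)
    (h1 : ¬ Fx (EU T v i) w y) (h2 : ¬ Fx (EU T v i) w y') : Fx (EU T v i) w (y * y') := by
  have hwC := h.wx_C hw
  obtain ⟨c, hc, -, hwW⟩ := hw
  have hjj : i + 1 + 1 = i := add_one_add_one i
  -- reduce to `c = 1`
  have hci := inv_mem hc
  set w' := c⁻¹ * w * c with hw'
  have hw'C : w' ∈ CC v i := by
    have := mul_mem (mul_mem hci hwC) hc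
    exact this
  have tr1 : ∀ z : G, Fx (EU T v i) w' (c⁻¹ * z * c) → Fx (EU T v i) w z := by
    intro z hz
    have h3 := h.fx_conj hc hz
    have e1 : c * w' * c⁻¹ = w := by rw [hw']; group
    have e2 : c * (c⁻¹ * z * c) * c⁻¹ = z := by group
    rwa [e1, e2] at h3
  have hcS : ∀ z ∈ WU V v i ⊔ NU V v i, c⁻¹ * z * c ∈ WU V v i ⊔ NU V v i := by
    intro z hz
    have := h.conj_S hci hz
    rwa [inv_inv] at this
  -- elements of `W_i ∩ C(N_j)` are fixed by `w'`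
  have hfix : ∀ s ∈ WU V v i, s ∈ centralizer (NU V v (i + 1) : Set G) → Fx (EU T v i) w' s := by
    intro s hs hsc
    have hsQ : s ∈ QQ v (i + 1) := h.D.f3 (i + 1) ⟨h.D.Q_le_o2D i (h.D.W_le_Q i hs), hsc⟩
    have h3 := h.D.comm_W_Q (i + 1) w' hwW s hsQ
    have h4 : zpowers (v (i + 1)) ≤ EU T v i := zpowers_le.2 (h.D.v_mem_E i (i + 1))
    exact h4 h3
  have hstep : ∀ z ∈ WU V v i ⊔ NU V v i, ¬ Fx (EU T v i) w' z → ∃ s ∈ WU V v i, ∃ n ∈ NU V v i, z = s * n ∧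
      s ∉ centralizer (NU V v (i + 1) : Set G) := by
    intro z hz hnz
    obtain ⟨s, hs, n, hn, rfl⟩ := OM.KTwo.exists_mul_of_mem_sup ((h.D.N_le_C i i).trans (h.D.C_le_N_W i)) hz
    refine ⟨s, hs, n, hn, rfl, fun hsc => hnz ?_⟩
    exact h.fx_mul_right (mem_sup_left hs) (hfix s hs hsc) (h.fx_N hw'C hn)
  apply tr1
  have h3 : ¬ Fx (EU T v i) w' (c⁻¹ * y * c) := fun h3 => h1 (tr1 _ h3)
  have h4 : ¬ Fx (EU T v i) w' (c⁻¹ * y' * c) := fun h3 => h2 (tr1 _ h3)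
  obtain ⟨s, hs, n, hn, e, hsc⟩ := hstep _ (hcS y hy) h3
  obtain ⟨s', hs', n', hn', e', hsc'⟩ := hstep _ (hcS y' hy') h4
  have e3 : c⁻¹ * (y * y') * c = s * s' * (n * n') := by
    have h5 : n * s' = s' * n := h.S_comm n (mem_sup_right hn) s' (mem_sup_left hs')
    calc c⁻¹ * (y * y') * c = (c⁻¹ * y * c) * (c⁻¹ * y' * c) := by group
      _ = s * (n * s') * n' := by rw [e, e']; group
      _ = s * s' * (n * n') := by rw [h5]; group
  rw [e3]
  exact h.fx_mul_right (mem_sup_left (mul_mem hs hs')) (hfix _ (mul_mem hs hs') (h.idx_W hs hs' hsc hsc'))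
    (h.fx_N hw'C (mul_mem hn hn'))

/-! ### faithfulness -/

theorem pt_of {x : G} (hx : x ∈ NU V v i) (hx1 : x ≠ 1) : ∃ c ∈ CC v i, x = c * v (i + 1) * c⁻¹ := by
  have h1 : x ∉ zpowers (v i) := by
    intro h2
    rcases h.D.mem_zpv h2 with h3 | h3
    · exact hx1 h3
    · exact h.hv (h3 ▸ hx)
  obtain ⟨c, hc, h2 | h2⟩ := h.Si.pts x hx h1
  · exact ⟨c, hc, h2⟩
  · exfalso
    apply h.hv
    have h3 : c * v (i + 1) * c⁻¹ ∈ NU V v i := h.conj_N hc (h.D.mem_N i)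
    have h4 := mul_mem (inv_mem h3) hx
    rwa [h2, inv_mul_cancel_left] at h4

/-- a normal subgroup of `C_i` which moves `N_i` has no fixed point on `E / ⟨v_i⟩` -/
theorem fixK {K : Subgroup G} (hKC : K ≤ CC v i) (hCK : CC v i ≤ normalizer (K : Set G))
    (hm : ¬ K ≤ centralizer (NU V v i : Set G)) :
    ∀ n ∈ EU T v i, (∀ x ∈ K, n⁻¹ * x * n * x⁻¹ ∈ zpowers (v i)) → n ∈ zpowers (v i) := by
  intro n hn hfix
  obtain ⟨m, hmN, w, hw, rfl⟩ := h.D.mem_E hn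
  refine mul_mem ?_ hw
  by_cases hm1 : m = 1
  · rw [hm1]; exact one_mem _
  exfalso
  -- `m` commutes with `K`
  have hmK : ∀ x ∈ K, m * x = x * m := by
    intro x hx
    have hwx : w * x = x * w := mem_centralizer_iff.1 (Fr.CC_le_cent_zpowers i (hKC hx)) w hw
    have hwm : w * m = m * w := mem_centralizer_iff.1 (Fr.CC_le_cent_zpowers i (h.D.N_le_C i i hmN)) w hw
    have h1 := hfix x hx
    have e : (m * w)⁻¹ * x * (m * w) * x⁻¹ = m⁻¹ * x * m * x⁻¹ := by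
      calc (m * w)⁻¹ * x * (m * w) * x⁻¹ = (m * w)⁻¹ * x * (w * m) * x⁻¹ := by rw [hwm]
        _ = (m * w)⁻¹ * (x * w) * m * x⁻¹ := by group
        _ = (w * m)⁻¹ * (w * x) * m * x⁻¹ := by rw [hwx, hwm]
        _ = m⁻¹ * x * m * x⁻¹ := by group
    rw [e] at h1
    have h2 : m⁻¹ * x * m * x⁻¹ ∈ NU V v i := by
      have e2 : m⁻¹ * x * m * x⁻¹ = m⁻¹ * (x * m * x⁻¹) := by group
      rw [e2]
      exact mul_mem (inv_mem hmN) (h.conj_N (hKC hx) hmN)
    rcases h.D.mem_zpv h1 with h3 | h3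
    · calc m * x = m * (m⁻¹ * x * m * x⁻¹)⁻¹ * (m⁻¹ * x * m * x⁻¹) * x := by group
        _ = m * (m⁻¹ * x * m * x⁻¹) * x := by rw [h3]; simp
        _ = x * m := by group
    · exact absurd (h3 ▸ h2) h.hv
  obtain ⟨c, hc, hmc⟩ := h.pt_of hmN hm1
  apply hm
  apply comm_symm
  refine h.D.N_le_of_mem i ?_ fun g hg => ?_
  · rw [mem_centralizer_iff]
    intro x hx
    have h1 : c * x * c⁻¹ ∈ K := (mem_normalizer_iff.1 (hCK hc) x).1 hx
    have h2 := hmK _ h1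
    rw [hmc] at h2
    have h3 := congrArg (fun t => c⁻¹ * t * c) h2
    have e1 : c⁻¹ * (c * v (i + 1) * c⁻¹ * (c * x * c⁻¹)) * c = v (i + 1) * x := by group
    have e2 : c⁻¹ * (c * x * c⁻¹ * (c * v (i + 1) * c⁻¹)) * c = x * v (i + 1) := by group
    simp only [e1, e2] at h3
    exact h3.symm
  · rw [mem_normalizer_iff]
    have key : ∀ g ∈ CC v i, ∀ y ∈ centralizer (K : Set G), g * y * g⁻¹ ∈ centralizer (K : Set G) := by
      intro g hg y hy
      rw [mem_centralizer_iff] at hy ⊢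
      intro x hx
      have h1 : g⁻¹ * x * g ∈ K := by
        have := (mem_normalizer_iff.1 (hCK (inv_mem hg)) x).1 hx
        rwa [inv_inv] at this
      have h2 := hy _ h1
      calc x * (g * y * g⁻¹) = g * (g⁻¹ * x * g * y) * g⁻¹ := by group
        _ = g * (y * (g⁻¹ * x * g)) * g⁻¹ := by rw [h2]
        _ = g * y * g⁻¹ * x := by group
    intro y
    refine ⟨key g hg y, fun hy => ?_⟩
    have h1 := key g⁻¹ (inv_mem hg) _ hy
    have e : g⁻¹ * (g * y * g⁻¹) * g⁻¹⁻¹ = y := by group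
    rwa [e] at h1

/-- **(FAITH)** -/
theorem faith {k : G} (hk : k ∈ CC v i) (h1 : ∀ y ∈ WU V v i ⊔ NU V v i, Fx (EU T v i) k y) :
    k ∈ centralizer (NU V v i : Set G) := by
  let K : Subgroup G :=
    { carrier := {k | k ∈ CC v i ∧ ∀ y ∈ WU V v i ⊔ NU V v i, Fx (EU T v i) k y}
      one_mem' := ⟨one_mem _, fun y _ => by unfold Fx; simp⟩
      mul_mem' := fun {a b} ha hb => ⟨mul_mem ha.1 hb.1, fun y hy => h.fx_mul' ha.1 (hb.2 y hy) (ha.2 y hy)⟩
      inv_mem' := fun {a} ha => by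
        refine ⟨inv_mem ha.1, fun y hy => ?_⟩
        have h2 := h.conj_E (inv_mem ha.1) (inv_mem (ha.2 y hy))
        unfold Fx
        have e : a⁻¹ * (a * y * a⁻¹ * y⁻¹)⁻¹ * a⁻¹⁻¹ = a⁻¹ * y * a⁻¹⁻¹ * y⁻¹ := by group
        rwa [e] at h2 }
  have hCK : CC v i ≤ normalizer (K : Set G) := by
    have key : ∀ g ∈ CC v i, ∀ a ∈ K, g * a * g⁻¹ ∈ K := by
      rintro g hg a ⟨ha, ha'⟩
      refine ⟨mul_mem (mul_mem hg ha) (inv_mem hg), fun y hy => ?_⟩
      have h2 := h.fx_conj hg (ha' _ (h.conj_S (inv_mem hg) hy))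
      have e : g * (g⁻¹ * y * g⁻¹⁻¹) * g⁻¹ = y := by group
      rwa [e] at h2
    intro g hg
    rw [mem_normalizer_iff]
    intro y
    refine ⟨key g hg y, fun hy => ?_⟩
    have h1 := key g⁻¹ (inv_mem hg) _ hy
    have e : g⁻¹ * (g * y * g⁻¹) * g⁻¹⁻¹ = y := by group
    rwa [e] at h1
  have hKC : K ≤ CC v i := fun _ hx => hx.1
  have hKK : K ≤ centralizer (NU V v i : Set G) := by
    by_contra hcon
    refine h.D.lemX hKC hCK hcon ?_ h.Si.fixT (h.fixK hKC hCK hcon)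
    intro r hr u hu
    have h2 := hr.2 u⁻¹ (mem_sup_left (inv_mem (h.D.V_le_W i hu)))
    unfold Fx at h2
    have e : u⁻¹ * r * u * r⁻¹ = (r * u⁻¹ * r⁻¹ * u⁻¹⁻¹)⁻¹ := by group
    rw [e]
    exact inv_mem h2
  exact hKK ⟨hk, h1⟩

/-! ### the transvections -/

theorem wx_tr {x w : G} (hw : w ∈ Wx V v i x) (hwc : w ∉ centralizer (NU V v i : Set G)) :
    Tr (CC v i) (NU V v i) 1 x w := by
  refine ⟨h.wx_C hw, fun n hn => ?_, ?_⟩
  · rw [mul_one]; exact h.wx_N hw hn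
  · by_contra hcon
    push Not at hcon
    apply hwc
    rw [mem_centralizer_iff]
    intro n hn
    have h1 := hcon n hn
    calc n * w = w * n * w⁻¹ * w := by rw [h1]
      _ = w * n := by group

theorem wx_pt {x w : G} (hw : w ∈ Wx V v i x) : x ∈ Pts (CC v i) (v (i + 1)) := by
  obtain ⟨c, hc, h1, -⟩ := hw
  exact ⟨c, hc, h1.symm⟩

theorem wx_fix {x w n : G} (hw : w ∈ Wx V v i x) (hwc : w ∉ centralizer (NU V v i : Set G)) (hn : n ∈ NU V v i) :
    B x n = 1 ↔ w * n * w⁻¹ = n := h.bf.F.tv x (h.wx_pt hw) w (h.wx_tr hw hwc) n hn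

theorem wx_mv {x w n : G} (hw : w ∈ Wx V v i x) (hwc : w ∉ centralizer (NU V v i : Set G)) (hn : n ∈ NU V v i)
    (hB : B x n = -1) : w * n * w⁻¹ = n * x := by
  rcases h.wx_N hw hn with h1 | h1
  · have h2 := (h.wx_fix hw hwc hn).2 h1
    rw [hB] at h2
    exact absurd h2 (by decide)
  · exact h1

theorem wx_ex {x : G} (hx : x ∈ NU V v i) (hx1 : x ≠ 1) : ∃ w ∈ Wx V v i x, w ∉ centralizer (NU V v i : Set G) := by
  obtain ⟨c, hc, rfl⟩ := h.pt_of hx hx1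
  obtain ⟨w, hw, hwc⟩ := SetLike.not_le_iff_exists.1 h.hmv
  refine ⟨c * w * c⁻¹, ⟨c, hc, rfl, ?_⟩, fun h1 => hwc ?_⟩
  · have e : c⁻¹ * (c * w * c⁻¹) * c = w := by group
    rwa [e]
  · rw [mem_centralizer_iff] at h1 ⊢
    intro n hn
    have h2 := h1 _ (h.conj_N hc hn)
    have h3 := congrArg (fun t => c⁻¹ * t * c) h2
    have e1 : c⁻¹ * (c * n * c⁻¹ * (c * w * c⁻¹)) * c = n * w := by group
    have e2 : c⁻¹ * (c * w * c⁻¹ * (c * n * c⁻¹)) * c = w * n := by group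
    simp only [e1, e2] at h3
    exact h3

theorem conj_cent {g w : G} (hg : g ∈ CC v i) (hw : w ∉ centralizer (NU V v i : Set G)) :
    g * w * g⁻¹ ∉ centralizer (NU V v i : Set G) := by
  intro h1
  apply hw
  rw [mem_centralizer_iff] at h1 ⊢
  intro n hn
  have h2 := h1 _ (h.conj_N hg hn)
  have h3 := congrArg (fun t => g⁻¹ * t * g) h2
  have e1 : g⁻¹ * (g * n * g⁻¹ * (g * w * g⁻¹)) * g = n * w := by group
  have e2 : g⁻¹ * (g * w * g⁻¹ * (g * n * g⁻¹)) * g = w * n := by group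
  simp only [e1, e2] at h3
  exact h3

/-- two transvections with the same centre -/
theorem wx_two {x w w' : G} (hw : w ∈ Wx V v i x) (hwc : w ∉ centralizer (NU V v i : Set G))
    (hw' : w' ∈ Wx V v i x) (hwc' : w' ∉ centralizer (NU V v i : Set G)) :
    w * w' ∈ centralizer (NU V v i : Set G) := by
  rw [mem_centralizer_iff]
  intro n hn
  have hN : ∀ u ∈ Wx V v i x, ∀ m ∈ NU V v i, u * m * u⁻¹ = m ∨ u * m * u⁻¹ = m * x := fun u hu m hm => h.wx_N hu hm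
  have hxN : x ∈ NU V v i := by
    obtain ⟨c, hc, h1, -⟩ := hw
    rw [← h1]
    exact h.conj_N hc (h.D.mem_N i)
  have hBx : B x x = 1 := h.bf.F.self x hxN
  have hwx : w * x * w⁻¹ = x := (h.wx_fix hw hwc hxN).1 hBx
  have key : w * w' * n * (w * w')⁻¹ = n := by
    have e : w * w' * n * (w * w')⁻¹ = w * (w' * n * w'⁻¹) * w⁻¹ := by group
    rw [e]
    by_cases hB : B x n = 1
    · rw [(h.wx_fix hw' hwc' hn).1 hB, (h.wx_fix hw hwc hn).1 hB]
    · have hB' : B x n = -1 := (Int.units_eq_one_or _).resolve_left hB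
      rw [h.wx_mv hw' hwc' hn hB']
      have e2 : w * (n * x) * w⁻¹ = (w * n * w⁻¹) * (w * x * w⁻¹) := by group
      have hxx : x * x = 1 := h.S_sq x (mem_sup_right hxN)
      rw [e2, h.wx_mv hw hwc hn hB', hwx, mul_assoc, hxx, mul_one]
  calc n * (w * w') = w * w' * n * (w * w')⁻¹ * (w * w') := by rw [key]
    _ = w * w' * n := by group

omit h in
/-- `W_x` fixes `u` modulo `E` -/
def Pf (T : Subgroup G) (V : Fin 2 → Subgroup G) (v : Fin 2 → G) (i : Fin 2) (u x : G) : Prop :=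
  ∀ w ∈ Wx V v i x, Fx (EU T v i) w u

theorem ne_one_of {x y : G} (hy : y ∈ NU V v i) (hB : B x y = -1) : x ≠ 1 := by
  rintro rfl
  have h1 : B 1 y = 1 := by
    have h2 := h.bf.F.symm 1 (one_mem _) y hy
    have h3 := h.bf.F.mul y hy 1 (one_mem _) 1 (one_mem _)
    rw [mul_one] at h3
    rw [h2]
    rcases Int.units_eq_one_or (B y 1) with h4 | h4
    · exact h4
    · rw [h4] at h3; exact absurd h3 (by decide)
  rw [h1] at hB
  exact absurd hB (by decide)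

theorem pf_A {u x y : G} (hx : x ∈ NU V v i) (hy : y ∈ NU V v i) (hB : B x y = -1)
    (h1 : Pf T V v i u x) (h2 : Pf T V v i u y) : Pf T V v i u (x * y) := by
  have hB' : B y x = -1 := by rw [h.bf.F.symm y hy x hx]; exact hB
  obtain ⟨b, hb, hbc⟩ := h.wx_ex hy (h.ne_one_of hx hB')
  have hbx := h.wx_mv hb hbc hx hB'
  have hbC := h.wx_C hb
  have hbb := h.wx_sq hb
  have hbi : b⁻¹ = b := inv_eq_of_mul_eq_one_left hbb
  intro w hw
  rw [← hbx] at hw
  have hw' := h.wx_conj (inv_mem hbC) hw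
  have e : b⁻¹ * (b * x * b⁻¹) * b⁻¹⁻¹ = x := by group
  rw [e] at hw'
  have h3 := h1 _ hw'
  have h4 := h2 b hb
  -- `w = b (b⁻¹ w b) b⁻¹`
  have h5 : Fx (EU T v i) (b * (b⁻¹ * w * b⁻¹⁻¹) * b) u :=
    h.fx_mul' (mul_mem hbC (h.wx_C hw')) h4 (h.fx_mul' hbC h3 h4)
  have e2 : b * (b⁻¹ * w * b⁻¹⁻¹) * b = w * (b * b) := by group
  rwa [e2, hbb, mul_one] at h5

theorem pf_B {u x y : G} (hu : u ∈ WU V v i ⊔ NU V v i) (hx : x ∈ NU V v i) (hy : y ∈ NU V v i) (hB : B x y = -1)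
    (h1 : ¬ Pf T V v i u x) (h2 : ¬ Pf T V v i u y) : Pf T V v i u (x * y) := by
  have hB' : B y x = -1 := by rw [h.bf.F.symm y hy x hx]; exact hB
  unfold Pf at h1 h2
  push Not at h1 h2
  obtain ⟨a, ha, hau⟩ := h1
  obtain ⟨b, hb, hbu⟩ := h2
  have hac : a ∉ centralizer (NU V v i : Set G) := fun h3 => hau (h.wx_fx ha h3 hu)
  have hbc : b ∉ centralizer (NU V v i : Set G) := fun h3 => hbu (h.wx_fx hb h3 hu)
  have haC := h.wx_C ha
  have hbC := h.wx_C hb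
  have haa := h.wx_sq ha
  have hbb := h.wx_sq hb
  have hai : a⁻¹ = a := inv_eq_of_mul_eq_one_left haa
  have hbi : b⁻¹ = b := inv_eq_of_mul_eq_one_left hbb
  have hxy : y * x = x * y := h.S_comm y (mem_sup_right hy) x (mem_sup_right hx)
  have hc : b * a * b ∈ Wx V v i (x * y) := by
    have h3 := h.wx_conj hbC ha
    rwa [h.wx_mv hb hbc hx hB', hbi] at h3
  have hc' : a * b * a ∈ Wx V v i (x * y) := by
    have h3 := h.wx_conj haC hb
    rwa [h.wx_mv ha hac hy hB, hai, hxy] at h3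
  have hcc : b * a * b ∉ centralizer (NU V v i : Set G) := by
    have h3 := h.conj_cent hbC hac
    rwa [hbi] at h3
  have hcc' : a * b * a ∉ centralizer (NU V v i : Set G) := by
    have h3 := h.conj_cent haC hbc
    rwa [hai] at h3
  have hccC := h.wx_C hc
  -- `c c'` is trivial on `S / E`
  have hci : (b * a * b)⁻¹ = b * a * b := inv_eq_of_mul_eq_one_left (h.wx_sq hc)
  have htriv : ∀ s ∈ WU V v i ⊔ NU V v i,
      (a * b * a * s * (a * b * a)⁻¹) * (b * a * b * s * (b * a * b)⁻¹)⁻¹ ∈ EU T v i := by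
    intro s hs
    have h3 := h.wx_fx (h.wx_mul hc hc') (h.wx_two hc hcc hc' hcc') hs
    have h4 := h.conj_E hccC h3
    have e : b * a * b * (b * a * b * (a * b * a) * s * (b * a * b * (a * b * a))⁻¹ * s⁻¹) * (b * a * b)⁻¹ =
        ((b * a * b) * (b * a * b)) * (a * b * a) * s * (a * b * a)⁻¹ * ((b * a * b) * (b * a * b))⁻¹ *
        (b * a * b * s * (b * a * b)⁻¹)⁻¹ := by group
    rw [e, h.wx_sq hc] at h4
    have e2 : 1 * (a * b * a) * s * (a * b * a)⁻¹ * (1 : G)⁻¹ * (b * a * b * s * (b * a * b)⁻¹)⁻¹ =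
      (a * b * a * s * (a * b * a)⁻¹) * (b * a * b * s * (b * a * b)⁻¹)⁻¹ := by group
    rwa [e2] at h4
  have hs3 := PC.s3 (E := EU T v i) h.S_comm h.S_sq (a := a) (b := b) (fun s hs => h.conj_S haC hs)
    (fun s hs => h.conj_S hbC hs) (fun s hs => h.conj_E haC hs) (fun s hs => h.conj_E hbC hs) haa hbb
    (fun s hs s' hs' => h.wx_T1 ha hs hs') (fun s hs s' hs' => h.wx_T1 hb hs hs') htriv hu hau hbu
  rcases hs3 with hs3 | hs3
  · intro w hw
    by_cases hwc : w ∈ centralizer (NU V v i : Set G)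
    · exact h.wx_fx hw hwc hu
    · have h3 := h.wx_fx (h.wx_mul hw hc) (h.wx_two hw hwc hc hcc) hu
      have h4 := h.fx_mul' (mul_mem (h.wx_C hw) hccC) hs3 h3
      have e : w * (b * a * b) * (b * a * b) = w * ((b * a * b) * (b * a * b)) := by group
      rwa [e, h.wx_sq hc, mul_one] at h4
  · exfalso
    have h3 : b⁻¹ * a ∈ centralizer (NU V v i : Set G) := by
      refine h.faith (mul_mem (inv_mem hbC) haC) fun s hs => ?_
      have h4 := h.conj_E (inv_mem hbC) (hs3 s hs)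
      unfold Fx
      have e : b⁻¹ * (a * s * a⁻¹ * (b * s * b⁻¹)⁻¹) * b⁻¹⁻¹ = b⁻¹ * a * s * (b⁻¹ * a)⁻¹ * s⁻¹ := by group
      rwa [e] at h4
    have h4 := mem_centralizer_iff.1 h3 x hx
    have hax : a * x * a⁻¹ = x := (h.wx_fix ha hac hx).1 (h.bf.F.self x hx)
    have hbx := h.wx_mv hb hbc hx hB'
    have h5 : b * x * b⁻¹ = x := by
      calc b * x * b⁻¹ = b * (x * (b⁻¹ * a)) * a⁻¹ := by group
        _ = b * (b⁻¹ * a * x) * a⁻¹ := by rw [h4]
        _ = a * x * a⁻¹ := by group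
        _ = x := hax
    rw [h5] at hbx
    apply h.ne_one_of hx hB'
    calc y = x⁻¹ * (x * y) := by group
      _ = 1 := by rw [← hbx]; group

theorem pf_conj {u g x : G} (hu : u ∈ WU V v i ⊔ NU V v i) (hg : g ∈ CC v i) (hgu : Fx (EU T v i) g u)
    (h1 : Pf T V v i u x) : Pf T V v i u (g * x * g⁻¹) := by
  intro w hw
  have hw' := h.wx_conj (inv_mem hg) hw
  have e : g⁻¹ * (g * x * g⁻¹) * g⁻¹⁻¹ = x := by group
  rw [e] at hw'
  have h2 := h.fx_conj hg (h1 _ hw')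
  have e2 : g * (g⁻¹ * w * g⁻¹⁻¹) * g⁻¹ = w := by group
  rw [e2] at h2
  -- `u = e⁻¹ (g u g⁻¹)`, `e = g u g⁻¹ u⁻¹ ∈ E`
  have hE : (g * u * g⁻¹ * u⁻¹)⁻¹ ∈ EU T v i := inv_mem hgu
  have hwC := h.wx_C hw
  have h3 : Fx (EU T v i) w (g * u * g⁻¹ * u⁻¹)⁻¹ := mul_mem (h.conj_E hwC hE) (inv_mem hE)
  have hES : (g * u * g⁻¹ * u⁻¹)⁻¹ ∈ WU V v i ⊔ NU V v i := h.D.E_le_WN i hE
  have h4 := h.fx_mul_right hES h3 h2
  have hcomm : (g * u * g⁻¹ * u⁻¹)⁻¹ * (g * u * g⁻¹) = u := by group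
  rwa [hcomm] at h4

open Classical in
/-- **the kernel of the proof**: all `W_x` fix `u ∈ V_i` modulo `E` -/
theorem pf_all {u : G} (hu : u ∈ V i) {x : G} (hx : x ∈ NU V v i) : Pf T V v i u x := by
  have huS : u ∈ WU V v i ⊔ NU V v i := mem_sup_left (h.D.V_le_W i hu)
  let f : G → ℤˣ := fun x => if Pf T V v i u x then 1 else -1
  have f1 : ∀ x, f x = 1 ↔ Pf T V v i u x := by
    intro x
    constructor
    · intro hf
      by_contra hc
      have : f x = -1 := if_neg hc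
      rw [this] at hf
      exact absurd hf (by decide)
    · exact fun hc => if_pos hc
  have f2 : ∀ x, f x = -1 ↔ ¬ Pf T V v i u x := by
    intro x
    constructor
    · intro hf hc
      have : f x = 1 := if_pos hc
      rw [this] at hf
      exact absurd hf (by decide)
    · exact fun hc => if_neg hc
  have hsym : ∀ x ∈ NU V v i, ∀ y ∈ NU V v i, B x y = B y x := fun x hx y hy => h.bf.F.symm x hx y hy
  have hxy : ∀ x ∈ NU V v i, ∀ y ∈ NU V v i, x * y = y * x := fun x hx y hy =>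
    h.S_comm x (mem_sup_right hx) y (mem_sup_right hy)
  have hsq : ∀ x ∈ NU V v i, x * x = 1 := fun x hx => h.S_sq x (mem_sup_right hx)
  -- `C`: one fixed, one not
  have hC : ∀ x ∈ NU V v i, ∀ y ∈ NU V v i, B x y = -1 → Pf T V v i u x → ¬ Pf T V v i u y →
      ¬ Pf T V v i u (x * y) := by
    intro x hx y hy hB h1 h2 h3
    apply h2
    have hB2 : B x (x * y) = -1 := by
      rw [h.bf.F.mul x hx x hx y hy, h.bf.F.self x hx, one_mul]; exact hB
    have h4 := h.pf_A hx (mul_mem hx hy) hB2 h1 h3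
    rwa [← mul_assoc, hsq x hx, one_mul] at h4
  have hadd : ∀ x ∈ NU V v i, ∀ y ∈ NU V v i, B x y = -1 → f (x * y) = f x * f y := by
    intro x hx y hy hB
    by_cases h1 : Pf T V v i u x <;> by_cases h2 : Pf T V v i u y
    · rw [(f1 _).2 h1, (f1 _).2 h2, (f1 _).2 (h.pf_A hx hy hB h1 h2)]; rfl
    · rw [(f1 _).2 h1, (f2 _).2 h2, (f2 _).2 (hC x hx y hy hB h1 h2)]; rfl
    · have hB' : B y x = -1 := by rw [← hsym x hx y hy]; exact hB
      have h3 := hC y hy x hx hB' h2 h1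
      rw [hxy y hy x hx] at h3
      rw [(f2 _).2 h1, (f1 _).2 h2, (f2 _).2 h3]; rfl
    · rw [(f2 _).2 h1, (f2 _).2 h2, (f1 _).2 (h.pf_B huS hx hy hB h1 h2)]; rfl
  have hf1 : f 1 = 1 := by
    rw [f1]
    intro w hw
    obtain ⟨c, hc, h1, -⟩ := hw
    exact absurd (conj_eq_one_iff.1 h1) (h.D.ne (i + 1))
  have hij := ne_add_one i
  -- elements of `V_(i+1)`
  have hTfix : ∀ t ∈ T, Fx (EU T v i) t u := fun t ht =>
    (zpowers_le.2 (h.D.v_mem_E i i)) (kp_inv (h.D.comm_VQ i hu ht))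
  have hVf : ∀ x ∈ V (i + 1), f x = 1 := by
    intro x hx
    by_cases hx1 : x = 1
    · rw [hx1]; exact hf1
    rw [f1]
    obtain ⟨l, hl, hlV, hlx⟩ := h.D.tr hij.symm hx hx1
    have hlC : l ∈ CC v i := h.D.PC (i + 1) i hij.symm hl
    intro w hw
    rw [← hlx] at hw
    have hw' := h.wx_rep hlC hw
    have h1 := hTfix _ (h.D.W_le_T (i + 1) hw')
    have h2 := h.fx_conj hlC h1
    have e1 : l * (l⁻¹ * w * l) * l⁻¹ = w := by group
    have e2 : l * u * l⁻¹ = u := by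
      have := mem_centralizer_iff.1 hlV u hu
      rw [← this]; group
    rwa [e1, e2] at h2
  obtain ⟨z, hz, hfz⟩ := h.bf.rep f hf1 hadd hVf
  -- `z` is fixed by the elements which fix `u` modulo `E`
  have hzfix : ∀ g ∈ CC v i, Fx (EU T v i) g u → Fx (EU T v i) g⁻¹ u → g * z * g⁻¹ = z := by
    intro g hg hgu hgu'
    have hfg : ∀ x ∈ NU V v i, f (g * x * g⁻¹) = f x := by
      intro x hx
      by_cases h1 : Pf T V v i u x
      · rw [(f1 _).2 h1, (f1 _).2 (h.pf_conj huS hg hgu h1)]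
      · rw [(f2 _).2 h1, (f2 _).2]
        intro h2
        apply h1
        have h3 := h.pf_conj huS (inv_mem hg) hgu' h2
        have e : g⁻¹ * (g * x * g⁻¹) * g⁻¹⁻¹ = x := by group
        rwa [e] at h3
    have hgz : g * z * g⁻¹ ∈ NU V v i := h.conj_N hg hz
    have h1 : z * (g * z * g⁻¹) = 1 := by
      refine h.bf.nd _ (mul_mem hz hgz) fun y hy => ?_
      have hy' : g⁻¹ * y * g ∈ NU V v i := by
        have := h.conj_N (inv_mem hg) hy
        rwa [inv_inv] at this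
      have h2 : B (g * z * g⁻¹) y = B z y := by
        have h3 := h.bf.F.inv g hg z hz (g⁻¹ * y * g) hy'
        have e : g * (g⁻¹ * y * g) * g⁻¹ = y := by group
        rw [e] at h3
        rw [h3, ← hfz _ hy', ← hfz y hy, ← hfg _ hy', e]
      rw [hsym _ (mul_mem hz hgz) y hy, h.bf.F.mul y hy z hz _ hgz, hsym y hy z hz, hsym y hy _ hgz, h2]
      rcases Int.units_eq_one_or (B z y) with h4 | h4 <;> rw [h4] <;> rfl
    calc g * z * g⁻¹ = z * z * (g * z * g⁻¹) := by rw [hsq z hz, one_mul]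
      _ = z := by rw [mul_assoc, h1, mul_one]
  have hinvT : ∀ t ∈ T, t * z = z * t := by
    intro t ht
    have h1 := hzfix t (h.D.T_le_C i ht) (hTfix t ht) (hTfix _ (inv_mem ht))
    calc t * z = t * z * t⁻¹ * t := by group
      _ = z * t := by rw [h1]
  have hzT : z ∈ zc T := mem_zc.2 ⟨h.D.N_le_T i hz, hinvT, h.D.N_sq i z hz⟩
  have hz1 : z = 1 := by
    by_contra hz1
    have hzv : z = v (i + 1) := by
      have hvv : v 0 * v 1 = v (i + 1) * v i := h.D.v_mul_v i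
      rcases (h.D.zT z).1 hzT with h1 | h1 | h1 | h1
      · exact absurd h1 hz1
      · rcases Fin.exists_fin_two.1 ⟨i, rfl⟩ with hi | hi
        · exfalso; apply h.hv; rw [hi] at hz ⊢; rw [← h1]; exact hz
        · rw [h1, hi]; rfl
      · rcases Fin.exists_fin_two.1 ⟨i, rfl⟩ with hi | hi
        · rw [h1, hi]; rfl
        · exfalso; apply h.hv; rw [hi] at hz ⊢; rw [← h1]; exact hz
      · exfalso
        apply h.hv
        rw [hvv] at h1
        rw [h1] at hz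
        have h2 := mul_mem (inv_mem (h.D.mem_N i)) hz
        rwa [inv_mul_cancel_left] at h2
    obtain ⟨y, hy, hy1, hyv⟩ := h.D.exists_ne_v (i + 1)
    obtain ⟨l, hl, hlV, hly⟩ := h.D.tr hij.symm hy hy1
    have hlC : l ∈ CC v i := h.D.PC (i + 1) i hij.symm hl
    have hlu : l * u = u * l := (mem_centralizer_iff.1 hlV u hu).symm
    have hlfx : Fx (EU T v i) l u := by
      unfold Fx
      rw [kp_of_comm hlu]; exact one_mem _
    have hlfx' : Fx (EU T v i) l⁻¹ u := by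
      have h1 : l⁻¹ * u = u * l⁻¹ := by
        calc l⁻¹ * u = l⁻¹ * (u * l) * l⁻¹ := by group
          _ = u * l⁻¹ := by rw [← hlu]; group
      unfold Fx
      rw [kp_of_comm h1]; exact one_mem _
    have h1 := hzfix l hlC hlfx hlfx'
    rw [hzv, hly] at h1
    exact hyv h1
  rw [← f1, hfz x hx, hz1]
  by_contra hcon
  exact h.ne_one_of hx ((Int.units_eq_one_or _).resolve_left hcon) rfl

/-- the situation is impossible -/
theorem false_of : False := by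
  set R := NoFF.Basic.V (WU V v (i + 1)) (CC v i) with hR
  have hRC : R ≤ CC v i := by
    refine V_le fun c hc => ?_
    rw [← NoFF.Basic.conj_self hc]
    exact conj_le_iff.2 (h.D.W_le_C (i + 1) i)
  have hm : ¬ R ≤ centralizer (NU V v i : Set G) := fun h1 => h.hmv ((le_V _ _).trans h1)
  refine h.D.lemX hRC (le_normalizer_V _ _) hm ?_ h.Si.fixT (h.fixK hRC (le_normalizer_V _ _) hm)
  -- `[R, u] ≤ E`
  have key : ∀ u ∈ V i, ∀ r ∈ R, Fx (EU T v i) r u := by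
    intro u hu
    let K : Subgroup G :=
      { carrier := {k | k ∈ CC v i ∧ Fx (EU T v i) k u}
        one_mem' := ⟨one_mem _, by unfold Fx; simp⟩
        mul_mem' := fun {a b} ha hb => ⟨mul_mem ha.1 hb.1, h.fx_mul' ha.1 hb.2 ha.2⟩
        inv_mem' := fun {a} ha => by
          refine ⟨inv_mem ha.1, ?_⟩
          have h2 := h.conj_E (inv_mem ha.1) (inv_mem ha.2)
          unfold Fx
          have e : a⁻¹ * (a * u * a⁻¹ * u⁻¹)⁻¹ * a⁻¹⁻¹ = a⁻¹ * u * a⁻¹⁻¹ * u⁻¹ := by group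
          rwa [e] at h2 }
    have hK : R ≤ K := by
      refine V_le fun c hc w hw => ?_
      rw [mem_conj] at hw
      have hw' : w ∈ Wx V v i (c * v (i + 1) * c⁻¹) := ⟨c, hc, rfl, hw⟩
      exact ⟨h.wx_C hw', h.pf_all hu (h.conj_N hc (h.D.mem_N i)) w hw'⟩
    exact fun r hr => (hK hr).2
  intro r hr u hu
  have h2 := key u⁻¹ (inv_mem hu) r hr
  unfold Fx at h2
  have e : u⁻¹ * r * u * r⁻¹ = (r * u⁻¹ * r⁻¹ * u⁻¹⁻¹)⁻¹ := by group
  rw [e]
  exact inv_mem h2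

end PS

namespace Fr

variable [Finite G] {T : Subgroup G} {V P : Fin 2 → Subgroup G} {v : Fin 2 → G} (D : Fr T V P v)

include D

/-- **THEOREM PC** (691 #20995 (A)), form of the result with `i`: `[W_(i+1), N_i] = 1` -/
theorem pc' (hsec : Sec0 T V v) (hfr : FrmP T V v) (hd : ∀ k, NU V v k ≤ QQ v (k + 1)) (i : Fin 2) :
    WU V v (i + 1) ≤ centralizer (NU V v i : Set G) := by
  by_contra hcon
  have hjj : i + 1 + 1 = i := add_one_add_one i
  have hcomm : ∀ k, ∀ x ∈ WU V v (k + 1), ∀ n ∈ NU V v k, n * x * n⁻¹ * x⁻¹ ∈ zpowers (v (k + 1)) :=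
    fun k x hx n hn => kp_inv (D.comm_W_Q (k + 1) x hx n (hd k hn))
  have hside : ∀ k, ¬ WU V v (k + 1) ≤ centralizer (NU V v k : Set G) → v k ∉ NU V v k ∧
      SpF T V v k (v (k + 1)) ∧ ∃ B, BForm T V v k B := by
    intro k hk
    obtain ⟨w, hw, hwc⟩ := SetLike.not_le_iff_exists.1 hk
    have hgl : NU V v k ≠ HU V T k := by
      intro h
      apply hwc
      rw [h]
      exact D.W_cent_H k hw
    obtain ⟨h1, h2⟩ := D.sec_v hsec (D.W_le_C (k + 1) k hw) hwc (fun n hn => hcomm k w hw n hn)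
    refine ⟨h1, h2.resolve_left hgl, ?_⟩
    exact (hfr k w (D.W_le_C (k + 1) k hw) hwc (fun n hn => hcomm k w hw n hn)).resolve_left hgl
  obtain ⟨hv, Si, B, hB⟩ := hside i hcon
  by_cases hcon' : WU V v i ≤ centralizer (NU V v (i + 1) : Set G)
  · -- `W_i ≤ Q_(i+1)`, (2.3)
    have h1 : WU V v i ≤ QQ v (i + 1) :=
      (le_inf ((D.W_le_Q i).trans (D.Q_le_o2D i)) hcon').trans (D.f3 (i + 1))
    have h2 := D.c23 hsec (j := i + 1) (by rw [hjj]; exact hd i) (by rw [hjj]; exact h1)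
    rw [hjj] at h2
    exact hcon h2
  · obtain ⟨-, Sj, -⟩ := hside (i + 1) (by rw [hjj]; exact hcon')
    rw [hjj] at Sj
    exact PS.false_of (h := { D := D, hd := hd, hmv := hcon, hmv' := hcon', hv := hv, Si := Si, Sj := Sj, bf := hB })

/-- **THEOREM PC** -/
theorem pc (hsec : Sec0 T V v) (hfr : FrmP T V v) (hd : ∀ k, NU V v k ≤ QQ v (k + 1)) (j : Fin 2) :
    WU V v j ≤ centralizer (NU V v (j + 1) : Set G) := by
  have := D.pc' hsec hfr hd (j + 1)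
  rwa [add_one_add_one] at this

end Fr

end Cfsg.Agent.Omega.TC
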