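import Cfsg.Agent.Omega.TC.SecZero
import Cfsg.Agent.Omega.TC.PC
import Cfsg.Agent.Omega.HTwo.EightLin

/-!
# CARD #18791: section 0 with the invariant form and representability (input `FrmP` of THEOREM PC), and THEOREM PC

* `NDeg.exists_rep` : a non-degenerate alternating form on a finite elementary abelian `N`, `f` a function additive on
  the hyperbolic pairs and trivial on a totally isotropic line: `f = B z`;
* `Fr.frmP : FrmP T V v`;
* `Fr.pcF` : THEOREM PC: `N_k ≤ Q_(k+1)` for both `k` implies `[W_j, N_(j+1)] = 1`.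
-/

set_option autoImplicit false
set_option linter.unusedSectionVars false

namespace Cfsg.Agent.Omega.TC

open Subgroup Cfsg Cfsg.Agent.ZN Cfsg.Agent.Omega.MinPar
open Cfsg.Agent.Omega.OM.KTwo (CC QQ WU NU EU FF ne_add_one eq_add_one add_one_add_one le_normalizer_V le_V
  le_o2_of_commutator)
open Cfsg.Agent.Omega.OM.KTwo.StrSp (Pts Tr TBase TUn TDat Frm exists_conj_mem)
open Cfsg.Agent.Omega.NoFF.Basic (conj_conj mem_conj conj_le_iff conj_le_centralizer comm_symm comm_mono
  Z_le_V V_le conj_V_mul)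
open Cfsg.Agent.MinSimple.VModule (mem_zc zc_le le_normalizer_o2 le_o2 o2_le o2_isPGroup
  normalizer_le_normalizer_zc)
open scoped Pointwise

universe u

variable {G : Type u} [Group G]

/-- a non-degenerate alternating form -/
structure NDeg (N : Subgroup G) (B : G → G → ℤˣ) : Prop where
  sq : ∀ n ∈ N, n * n = 1
  comm : ∀ n ∈ N, ∀ m ∈ N, n * m = m * n
  mul : ∀ u ∈ N, ∀ w ∈ N, ∀ w' ∈ N, B u (w * w') = B u w * B u w'
  symm : ∀ u ∈ N, ∀ w ∈ N, B u w = B w u
  self : ∀ u ∈ N, B u u = 1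
  nd : ∀ u ∈ N, (∀ w ∈ N, B u w = 1) → u = 1

namespace NDeg

variable {N : Subgroup G} {B : G → G → ℤˣ} (h : NDeg N B)
include h

theorem mul_left {u w x : G} (hu : u ∈ N) (hw : w ∈ N) (hx : x ∈ N) : B (u * w) x = B u x * B w x := by
  rw [h.symm _ (mul_mem hu hw) x hx, h.mul x hx u hu w hw, h.symm x hx u hu, h.symm x hx w hw]

omit h in
/-- the sign as an element of `F₂` -/
def sg2 (a : ℤˣ) : ZMod 2 := if a = 1 then 0 else 1

omit h in
theorem sg2_mul (a b : ℤˣ) : sg2 (a * b) = sg2 a + sg2 b := by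
  rcases Int.units_eq_one_or a with rfl | rfl <;> rcases Int.units_eq_one_or b with rfl | rfl <;> decide

omit h in
theorem sg2_inj {a b : ℤˣ} (hab : sg2 a = sg2 b) : a = b := by
  rcases Int.units_eq_one_or a with rfl | rfl <;> rcases Int.units_eq_one_or b with rfl | rfl <;>
    first
      | rfl
      | exact absurd hab (by decide)

omit h in
theorem sg2_zero {a : ℤˣ} (ha : sg2 a = 0) : a = 1 := sg2_inj (ha.trans (by decide))

/-- linear functions are represented -/
theorem rep_lin [Finite G] {f : G → ℤˣ} (hf : ∀ x ∈ N, ∀ y ∈ N, f (x * y) = f x * f y) :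
    ∃ z ∈ N, ∀ x ∈ N, f x = B z x := by
  obtain ⟨z, hz, h1⟩ := Cfsg.Agent.Omega.HTwo.Eight.exists_rep (U := N) (fun u hu v hv => h.comm u hu v hv) h.sq
    (f := fun u w => sg2 (B u w)) (fun u hu v hv w hw => by
      rw [h.mul_left hu hv hw, sg2_mul])
    (fun u hu v hv => by
      rw [h.symm u hu v hv])
    (Ψ := fun u => sg2 (f u)) (fun u hu v hv => by
      rw [hf u hu v hv, sg2_mul])
    (fun u hu hr => by
      have h2 : u = 1 := h.nd u hu fun w hw => sg2_zero (hr w hw)
      have h3 := hf 1 (one_mem _) 1 (one_mem _)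
      rw [mul_one] at h3
      have h4 : f 1 = 1 := by
        rcases Int.units_eq_one_or (f 1) with h4 | h4
        · exact h4
        · rw [h4] at h3
          exact absurd h3 (by decide)
      change sg2 (f u) = 0
      rw [h2, h4]
      decide)
  exact ⟨z, hz, fun x hx => sg2_inj (h1 x hx)⟩

omit h in
theorem ex_neg {a b c : ℤˣ} (hc : a * b = c) (h1 : c = -1) : (a = 1 ∧ b = -1) ∨ (a = -1 ∧ b = 1) := by
  rcases Int.units_eq_one_or a with rfl | rfl <;> rcases Int.units_eq_one_or b with rfl | rfl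
  · rw [← hc] at h1; exact absurd h1 (by decide)
  · exact Or.inl ⟨rfl, rfl⟩
  · exact Or.inr ⟨rfl, rfl⟩
  · rw [← hc] at h1; exact absurd h1 (by decide)

/-- two non-zero functionals are simultaneously `-1` on the kernel of a third one -/
theorem two_neg {y x x' w w' : G} (hx : x ∈ N) (hx' : x' ∈ N) (hw : w ∈ N) (hw' : w' ∈ N) (hy : y ∈ N)
    (h1 : B y w = 1) (h2 : B y w' = 1) (h3 : B x w = -1) (h4 : B x' w' = -1) :
    ∃ t ∈ N, B y t = 1 ∧ B x t = -1 ∧ B x' t = -1 := by
  rcases Int.units_eq_one_or (B x' w) with h5 | h5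
  · rcases Int.units_eq_one_or (B x w') with h6 | h6
    · refine ⟨w * w', mul_mem hw hw', ?_, ?_, ?_⟩
      · rw [h.mul y hy w hw w' hw', h1, h2, one_mul]
      · rw [h.mul x hx w hw w' hw', h3, h6, mul_one]
      · rw [h.mul x' hx' w hw w' hw', h5, h4, one_mul]
    · exact ⟨w', hw', h2, h6, h4⟩
  · exact ⟨w, hw, h1, h3, h5⟩

/-- `x ∉ {1, y}`: some `w ∈ y^⊥` does not centralise `x` -/
theorem exists_neg {x y : G} (hx : x ∈ N) (hy : y ∈ N) (hx1 : x ≠ 1) (hxy : x ≠ y) :
    ∃ w ∈ N, B y w = 1 ∧ B x w = -1 := by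
  by_contra hcon
  push Not at hcon
  have h1 : ∀ w ∈ N, B y w = 1 → B x w = 1 := fun w hw hw1 =>
    (Int.units_eq_one_or (B x w)).resolve_right (hcon w hw hw1)
  by_cases h2 : ∀ w ∈ N, B y w = 1
  · exact hx1 (h.nd x hx fun w hw => h1 w hw (h2 w hw))
  push Not at h2
  obtain ⟨w0, hw0, h3⟩ := h2
  have h3' : B y w0 = -1 := (Int.units_eq_one_or _).resolve_left h3
  rcases Int.units_eq_one_or (B x w0) with h4 | h4
  · -- `x` in the radical
    apply hx1
    refine h.nd x hx fun w hw => ?_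
    rcases Int.units_eq_one_or (B y w) with h5 | h5
    · exact h1 w hw h5
    · have h6 := h1 (w * w0) (mul_mem hw hw0) (by rw [h.mul y hy w hw w0 hw0, h5, h3']; decide)
      rwa [h.mul x hx w hw w0 hw0, h4, mul_one] at h6
  · apply hxy
    have h7 : x * y = 1 := by
      refine h.nd _ (mul_mem hx hy) fun w hw => ?_
      rw [h.mul_left hx hy hw]
      rcases Int.units_eq_one_or (B y w) with h5 | h5
      · rw [h1 w hw h5, h5, one_mul]
      · have h6 := h1 (w * w0) (mul_mem hw hw0) (by rw [h.mul y hy w hw w0 hw0, h5, h3']; decide)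
        rw [h.mul x hx w hw w0 hw0, h4] at h6
        rcases Int.units_eq_one_or (B x w) with h8 | h8
        · rw [h8] at h6
          exact absurd h6 (by decide)
        · rw [h8, h5]; decide
    calc x = x * y * y := by rw [mul_assoc, h.sq y hy, mul_one]
      _ = y := by rw [h7, one_mul]

/-- **a function additive on the hyperbolic pairs and trivial on a totally isotropic line is linear** -/
theorem lin [Finite G] {f : G → ℤˣ} (f1 : f 1 = 1)
    (hf : ∀ x ∈ N, ∀ y ∈ N, B x y = -1 → f (x * y) = f x * f y) {p q : G} (hp : p ∈ N) (hq : q ∈ N) (hp1 : p ≠ 1)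
    (hq1 : q ≠ 1) (hpq : p ≠ q) (hB : B p q = 1) (fp : f p = 1) (fq : f q = 1) (fpq : f (p * q) = 1) :
    ∀ x ∈ N, ∀ y ∈ N, f (x * y) = f x * f y := by
  -- the defect
  let δ : G → G → ℤˣ := fun x y => f (x * y) * f x * f y
  have hδ : ∀ x y, δ x y = f (x * y) * f x * f y := fun _ _ => rfl
  have δsymm : ∀ x ∈ N, ∀ y ∈ N, δ x y = δ y x := by
    intro x hx y hy
    rw [hδ, hδ, h.comm x hx y hy, mul_assoc, mul_assoc, mul_comm (f x)]
  -- `δ x y = δ y w` for `x ⊥ y ⊥ w`, `x` not `⊥ w`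
  have step : ∀ x ∈ N, ∀ y ∈ N, ∀ w ∈ N, B x y = 1 → B y w = 1 → B x w = -1 → δ x y = δ y w := by
    intro x hx y hy w hw h1 h2 h3
    have e1 : x * y = x * w * (y * w) := by
      calc x * y = x * (w * w) * y := by rw [h.sq w hw, mul_one]
        _ = x * w * (w * y) := by group
        _ = x * w * (y * w) := by rw [h.comm w hw y hy]
    have h4 : B (x * w) (y * w) = -1 := by
      rw [h.mul_left hx hw (mul_mem hy hw), h.mul x hx y hy w hw, h.mul w hw y hy w hw, h1, h3, h.self w hw,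
        h.symm w hw y hy, h2]
      decide
    have h5 : f (x * y) = f x * f w * f (y * w) := by
      rw [e1, hf _ (mul_mem hx hw) _ (mul_mem hy hw) h4, hf x hx w hw h3]
    rw [hδ, hδ, h5]
    have h6 := Int.units_mul_self (f x)
    calc f x * f w * f (y * w) * f x * f y = (f x * f x) * (f (y * w) * f y * f w) := by ac_rfl
      _ = f (y * w) * f y * f w := by rw [h6, one_mul]
  -- `δ y x = δ y x'`
  have same : ∀ y ∈ N, y ≠ 1 → ∀ x ∈ N, ∀ x' ∈ N, B y x = 1 → B y x' = 1 → x ≠ 1 → x ≠ y → x' ≠ 1 → x' ≠ y →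
      δ y x = δ y x' := by
    intro y hy hy1 x hx x' hx' h1 h2 hx1 hxy hx1' hxy'
    obtain ⟨w, hw, h3, h4⟩ := h.exists_neg hx hy hx1 hxy
    obtain ⟨w', hw', h3', h4'⟩ := h.exists_neg hx' hy hx1' hxy'
    obtain ⟨t, ht, h5, h6, h7⟩ := h.two_neg hx hx' hw hw' hy h3 h3' h4 h4'
    have e1 := step x hx y hy t ht (by rw [h.symm x hx y hy, h1]) h5 h6
    have e2 := step x' hx' y hy t ht (by rw [h.symm x' hx' y hy, h2]) h5 h7
    rw [δsymm y hy x hx, e1, ← e2, δsymm x' hx' y hy]
  -- all defects are equal to `δ p q = 1`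
  have hpq1 : δ p q = 1 := by rw [hδ, fp, fq, fpq]; decide
  have all : ∀ x ∈ N, ∀ y ∈ N, x ≠ 1 → y ≠ 1 → x ≠ y → B x y = 1 → δ x y = 1 := by
    -- from `p` to every `z ⊥ p`
    have A1 : ∀ z ∈ N, z ≠ 1 → z ≠ p → B p z = 1 → δ p z = 1 := fun z hz hz1 hzp hpz => by
      rw [same p hp hp1 z hz q hq hpz hB hz1 hzp hq1 (Ne.symm hpq), hpq1]
    have A2 : ∀ z ∈ N, z ≠ 1 → z ≠ p → B p z = 1 → ∀ y ∈ N, y ≠ 1 → y ≠ z → B z y = 1 → δ z y = 1 := by
      intro z hz hz1 hzp hpz y hy hy1 hyz hzy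
      rw [same z hz hz1 y hy p hp hzy (by rw [h.symm z hz p hp, hpz]) hy1 hyz hp1 (Ne.symm hzp), δsymm z hz p hp]
      exact A1 z hz hz1 hzp hpz
    intro x hx y hy hx1 hy1 hxy hB1
    rcases Int.units_eq_one_or (B p x) with h1 | h1
    · by_cases hxp : x = p
      · subst hxp
        exact A1 y hy hy1 (Ne.symm hxy) hB1
      · exact A2 x hx hx1 hxp h1 y hy hy1 (Ne.symm hxy) hB1
    · -- some `z ∈ ⟨p, q⟩` with `z ⊥ x`, `z ≠ p`
      obtain ⟨z, hz, hz1, hzp, hpz, hxz⟩ : ∃ z ∈ N, z ≠ 1 ∧ z ≠ p ∧ B p z = 1 ∧ B x z = 1 := by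
        rcases Int.units_eq_one_or (B x q) with h2 | h2
        · exact ⟨q, hq, hq1, Ne.symm hpq, hB, h2⟩
        · refine ⟨p * q, mul_mem hp hq, ?_, ?_, ?_, ?_⟩
          · intro h3
            apply hpq
            calc p = p * (q * q) := by rw [h.sq q hq, mul_one]
              _ = p * q * q := by group
              _ = q := by rw [h3, one_mul]
          · intro h3
            exact hq1 (mul_eq_left.1 h3)
          · rw [h.mul p hp p hp q hq, h.self p hp, hB, one_mul]
          · rw [h.mul x hx p hp q hq, h2, h.symm x hx p hp, h1]; decide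
      have hxz' : x ≠ z := by
        rintro rfl
        rw [hpz] at h1
        exact absurd h1 (by decide)
      rw [same x hx hx1 y hy z hz hB1 hxz hy1 (Ne.symm hxy) hz1 (Ne.symm hxz'), δsymm x hx z hz]
      exact A2 z hz hz1 hzp hpz x hx hx1 hxz' (by rw [h.symm z hz x hx, hxz])
  intro x hx y hy
  by_cases hx1 : x = 1
  · rw [hx1, one_mul, f1, one_mul]
  by_cases hy1 : y = 1
  · rw [hy1, mul_one, f1, mul_one]
  by_cases hxy : x = y
  · rw [hxy, h.sq y hy, f1, Int.units_mul_self]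
  rcases Int.units_eq_one_or (B x y) with h1 | h1
  · have h2 := all x hx y hy hx1 hy1 hxy h1
    rw [hδ] at h2
    calc f (x * y) = f (x * y) * (f x * f x) * (f y * f y) := by
          rw [Int.units_mul_self, Int.units_mul_self, mul_one, mul_one]
      _ = (f (x * y) * f x * f y) * (f x * f y) := by ac_rfl
      _ = f x * f y := by rw [h2, one_mul]
  · exact hf x hx y hy h1

theorem exists_rep [Finite G] {f : G → ℤˣ} (f1 : f 1 = 1)
    (hf : ∀ x ∈ N, ∀ y ∈ N, B x y = -1 → f (x * y) = f x * f y) {p q : G} (hp : p ∈ N) (hq : q ∈ N) (hp1 : p ≠ 1)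
    (hq1 : q ≠ 1) (hpq : p ≠ q) (hB : B p q = 1) (fp : f p = 1) (fq : f q = 1) (fpq : f (p * q) = 1) :
    ∃ z ∈ N, ∀ x ∈ N, f x = B z x :=
  h.rep_lin (h.lin f1 hf hp hq hp1 hq1 hpq hB fp fq fpq)

end NDeg

namespace Fr

variable [Finite G] {T : Subgroup G} {V P : Fin 2 → Subgroup G} {v : Fin 2 → G} (D : Fr T V P v)

include D

theorem bform (i : Fin 2) {a : G} {B : G → G → ℤˣ}
    (ha : a ∈ V (i + 1)) (ha1 : a ≠ 1) (hav : a ≠ v (i + 1))
    (h : TDat (CC v i) (centralizer (zc T : Set G)) (P (i + 1)) T (NU V v i) (v i) 1 (v (i + 1)) a)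
    (F : Frm (CC v i) (NU V v i) 1 (v (i + 1)) B) : BForm T V v i B := by
  have hnd : ∀ u ∈ NU V v i, (∀ w ∈ NU V v i, B u w = 1) → u = 1 := fun u hu hw =>
    (h.rad F hu hw).elim id id
  have hND : NDeg (NU V v i) B :=
    { sq := h.sq
      comm := h.comm
      mul := F.mul
      symm := F.symm
      self := F.self
      nd := hnd }
  refine ⟨F, fun n hn => ?_, hnd, fun f f1 hf hV => ?_⟩
  · rw [D.s0_mem_HU i ha ha1 hav h F]
    exact ⟨fun h1 => h1.2, fun h1 => ⟨hn, h1⟩⟩
  · exact hND.exists_rep f1 hf h.x_mem (h.pt_mem h.a_pt) (D.ne (i + 1)) ha1 (Ne.symm hav) (h.B_xa F)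
      (hV _ (D.mem (i + 1))) (hV _ ha) (hV _ (mul_mem (D.mem (i + 1)) ha))

/-- **section 0 with the form (input `FrmP` of THEOREM PC)** -/
theorem frmP : FrmP T V v := by
  intro i x hx hxN hxr
  obtain ⟨a, ha, ha1, hav⟩ := D.exists_ne_v (i + 1)
  have htr : Tr (CC v i) (NU V v i) 1 (v (i + 1)) x := by
    refine (D.s0_tr_or i (r := v (i + 1)) (mul_one _).symm (mul_one 1) (by group) hx hxr).resolve_left
      fun h1 => hxN ?_
    rw [mem_centralizer_iff]
    intro n hn
    calc n * x = x * n * x⁻¹ * x := by rw [h1 n hn]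
      _ = x * n := by group
  have h := D.s0_base i (Or.inl rfl) ha ha1 hav htr
  have hmv := D.mem (i + 1)
  by_cases huniq : ∀ t t', Tr (CC v i) (NU V v i) 1 (v (i + 1)) t → Tr (CC v i) (NU V v i) 1 (v (i + 1)) t' →
      ∀ n ∈ NU V v i, t * n * t⁻¹ = t' * n * t'⁻¹
  · right
    have hU : TUn (CC v i) (centralizer (zc T : Set G)) (P (i + 1)) T (NU V v i) (v i) 1 (v (i + 1)) a :=
      { h with uniq := huniq }
    obtain ⟨B, F⟩ := hU.exists_frm
    have hti : ∀ t, Tr (CC v i) (NU V v i) 1 (v (i + 1)) t → t * a * t⁻¹ = a := by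
      intro t ht
      have haN := h.pt_mem h.a_pt
      by_contra h1
      have hna : B (v (i + 1)) a = -1 := by
        rcases Int.units_eq_one_or (B (v (i + 1)) a) with h2 | h2
        · exact absurd ((F.tv _ h.x_pt t ht a haN).1 h2) h1
        · exact h2
      have h2 := hU.hyp F rfl (fun t ht => ?_) D.T_isPGroup hna (fun n hn hT => ?_)
      · -- `N = V (i+1)`
        have h3 : NU V v i ≤ V (i + 1) := by
          intro n hn
          rcases h2 n hn with h4 | h4 | h4 | h4
          · rw [h4]; exact one_mem _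
          · rw [h4]; exact hmv
          · rw [h4]; exact ha
          · rw [h4]; exact mul_mem hmv ha
        have h4 : NU V v i = V (i + 1) := le_antisymm h3 (D.V_le_N i)
        have h5 : CC v i ≤ normalizer (V (i + 1) : Set G) := by
          have := D.C_le_N_N i
          rwa [h4] at this
        refine D.comp (i + 1) fun c hc => ⟨1, one_mem _, c, ?_, by group⟩
        have h6 : CC v (i + 1) ≤ normalizer (V (i + 1) : Set G) :=
          (D.gen (ne_add_one i)).trans (sup_le (D.PN i (i + 1)) ((D.cent_zc_le i).trans h5))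
        exact h6 hc
      · have h3 : t * a * t⁻¹ ∈ V (i + 1) := (mem_normalizer_iff.1 (D.T_le_N (i + 1) ht) _).1 ha
        have h4 : t * a * t⁻¹ ≠ 1 := fun h5 => ha1 (conj_eq_one_iff.1 h5)
        rcases D.eq_of_V hmv (D.ne _) ha ha1 (Ne.symm hav) h3 h4 with h5 | h5 | h5
        · exfalso
          have h6 := D.cen (i + 1) ht
          apply hav
          have h7 : t * a * t⁻¹ = t * v (i + 1) * t⁻¹ := by rw [h5, h6]
          exact mul_left_cancel (mul_right_cancel h7)
        · exact Or.inl h5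
        · exact Or.inr h5
      · have h3 : n ∈ zc T := by
          refine mem_zc.2 ⟨D.N_le_T i hn, fun t ht => ?_, D.N_sq i n hn⟩
          calc t * n = t * n * t⁻¹ * t := by group
            _ = n * t := by rw [hT t ht]
        rcases (D.zT n).1 h3 with h4 | h4 | h4 | h4
        · exact Or.inl h4
        · rcases Fin.exists_fin_two.1 ⟨i, rfl⟩ with h5 | h5
          · right; right; left; rw [h4, h5]
          · right; left; rw [h4, h5]; rfl
        · rcases Fin.exists_fin_two.1 ⟨i, rfl⟩ with h5 | h5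
          · right; left; rw [h4, h5]; rfl
          · right; right; left; rw [h4, h5]
        · right; right; right
          rcases Fin.exists_fin_two.1 ⟨i, rfl⟩ with h5 | h5
          · rw [h4, h5]
            exact D.comm_v 1 (D.v_mem_T 0)
          · rw [h4, h5]; rfl
    have hD : TDat (CC v i) (centralizer (zc T : Set G)) (P (i + 1)) T (NU V v i) (v i) 1 (v (i + 1)) a :=
      { hU with ti := hti }
    exact ⟨B, D.bform i ha ha1 hav hD F⟩
  · left
    have hno : ∃ t t', Tr (CC v i) (NU V v i) 1 (v (i + 1)) t ∧ Tr (CC v i) (NU V v i) 1 (v (i + 1)) t' ∧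
        ∃ n ∈ NU V v i, t * n * t⁻¹ ≠ t' * n * t'⁻¹ := by
      push Not at huniq
      obtain ⟨t, t', h1, h2, n, hn, h3⟩ := huniq
      exact ⟨t, t', h1, h2, n, hn, h3⟩
    refine le_antisymm ?_ (D.H_le_N i)
    refine h.gl_E hno rfl (E := HU V T i) (D.V_le_H i hmv) (D.V_le_H i ha) fun t ht b hb => ?_
    exact (mem_normalizer_iff.1 (le_normalizer_V _ _ ht) b).1 hb

/-- **THEOREM PC** (#20995 (A)): `d ≥ 2 ⟹ [W_a, N_b] = 1` for all `a ~ b` -/
theorem pcF (hd : ∀ k, NU V v k ≤ QQ v (k + 1)) (j : Fin 2) : WU V v j ≤ centralizer (NU V v (j + 1) : Set G) :=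
  D.pc (fun i _ hr _ hx hxN hxr => D.sec0 i hr hx hxN hxr) D.frmP hd j

end Fr

end Cfsg.Agent.Omega.TC
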