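import Cfsg.Agent.Omega.TC.SpF
import Cfsg.Agent.Omega.OM.KTwo.StrGl
import Cfsg.Agent.Omega.OM.KTwo.StrHyp

/-!
# CARD #18791: section 0 of helper918 #19487 over `Fr` ((gl) and (sp))

`Fr.sec0` : if some element of `C_i` acts on `N_i` as a transvection with centre `r ∈ {v (i+1), v (i+1) v i}`, then
`N_i = HU i` and `v i ∉ N_i` (the general linear case), or `SpF T V v i r` (the symplectic case).
-/

set_option autoImplicit false
set_option linter.unusedSectionVars false

namespace Cfsg.Agent.Omega.TC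

open Subgroup Cfsg Cfsg.Agent.ZN Cfsg.Agent.Omega.MinPar
open Cfsg.Agent.Omega.OM.KTwo (CC QQ WU NU EU FF ne_add_one eq_add_one add_one_add_one le_normalizer_V le_V
  le_o2_of_commutator)
open Cfsg.Agent.Omega.OM.KTwo.StrSp (Pts Tr TBase TUn TDat Frm exists_conj_mem)
open Cfsg.Agent.Omega.NoFF.Basic (conj_conj mem_conj conj_le_iff conj_le_centralizer comm_symm comm_mono
  Z_le_V V_le conj_V_mul)
open Cfsg.Agent.MinSimple.VModule (mem_zc zc_le le_normalizer_o2 le_o2 o2_le o2_isPGroup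
  normalizer_le_normalizer_zc)
open scoped Pointwise

universe u

variable {G : Type u} [Group G]

namespace Fr

variable [Finite G] {T : Subgroup G} {V P : Fin 2 → Subgroup G} {v : Fin 2 → G} (D : Fr T V P v)

include D

theorem s0_cent_v (i : Fin 2) {c : G} (hc : c ∈ CC v i) : c * v i = v i * c := mem_centralizer_singleton_iff.1 hc

theorem s0_N_mul_self (i : Fin 2) {n : G} (hn : n ∈ NU V v i) : n * n = 1 := by rw [← pow_two]; exact D.N_sq i n hn

theorem s0_N_inv (i : Fin 2) {n : G} (hn : n ∈ NU V v i) : n⁻¹ = n := inv_eq_of_mul_eq_one_left (D.s0_N_mul_self i hn)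

theorem s0_N_mul_comm (i : Fin 2) {n m : G} (hn : n ∈ NU V v i) (hm : m ∈ NU V v i) : n * m = m * n :=
  (mem_centralizer_iff.1 (D.N_comm i hn) m hm).symm

/-- an element of `C_i` whose commutators with `N_i` lie in `⟨v (i+1) e⟩` is trivial or a transvection -/
theorem s0_tr_or (i : Fin 2) {r e x : G} (hr : r = v (i + 1) * e) (he : e * e = 1) (hre : v (i + 1) * e = e * v (i + 1))
    (hx : x ∈ CC v i)
    (hxr : ∀ n ∈ NU V v i, n * x * n⁻¹ * x⁻¹ ∈ zpowers r) :
    (∀ n ∈ NU V v i, x * n * x⁻¹ = n) ∨ Tr (CC v i) (NU V v i) e (v (i + 1)) x := by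
  have hrr : r * r = 1 := by
    rw [hr]
    calc v (i + 1) * e * (v (i + 1) * e) = v (i + 1) * e * (e * v (i + 1)) := by rw [← hre]
      _ = v (i + 1) * (e * e) * v (i + 1) := by group
      _ = 1 := by rw [he, mul_one, D.v_sq]
  by_cases h1 : ∀ n ∈ NU V v i, x * n * x⁻¹ = n
  · exact Or.inl h1
  right
  push Not at h1
  refine ⟨hx, fun n hn => ?_, h1⟩
  have h2 := hxr n hn
  have h3 : n * x * n⁻¹ * x⁻¹ = 1 ∨ n * x * n⁻¹ * x⁻¹ = r := by
    obtain ⟨k, hk⟩ := mem_zpowers_iff.1 h2
    rcases Int.even_or_odd' k with ⟨m, rfl | rfl⟩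
    · left
      rw [← hk, zpow_mul, zpow_two, hrr, one_zpow]
    · right
      rw [← hk, zpow_add, zpow_mul, zpow_two, hrr, one_zpow, zpow_one, one_mul]
  have h4 : x * n * x⁻¹ = (n * x * n⁻¹ * x⁻¹)⁻¹ * n := by group
  -- both `n`, `x n x⁻¹` in `N`
  have h5 : x * n * x⁻¹ = n⁻¹ * (n * x * n⁻¹ * x⁻¹) := by
    have h6 : x * n⁻¹ * x⁻¹ = n⁻¹ * (n * x * n⁻¹ * x⁻¹) := by group
    rw [D.s0_N_inv i hn] at h6 ⊢
    exact h6
  rcases h3 with h3 | h3
  · left
    rw [h5, h3, mul_one, D.s0_N_inv i hn]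
  · right
    rw [h5, h3, D.s0_N_inv i hn, hr]

/-- `v (i+1)` is not conjugate to `v (i+1) v i` in `C_i` -/
theorem s0_zz (i : Fin 2) : ∀ p ∈ Pts (CC v i) (v (i + 1)), p * v i ∉ Pts (CC v i) (v (i + 1)) := by
  have key : ∀ c ∈ CC v i, c * v (i + 1) * c⁻¹ ≠ v (i + 1) * v i := by
    intro c hc h1
    have hci := D.conj_v i hc
    -- `c` normalises `⟨v 0, v 1⟩`
    have hDC := D.cent_zc_le i
    have hTD := D.T_le_D
    have hDiff := fun {d : G} => D.mem_D_iff (ne_add_one i) (c := d)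
    -- `D^c = D`
    have hcD : ∀ d ∈ centralizer (zc T : Set G), c * d * c⁻¹ ∈ centralizer (zc T : Set G) := by
      intro d hd
      obtain ⟨h2, h3⟩ := hDiff.1 hd
      have h2' := D.s0_cent_v i h2
      have h3' := D.s0_cent_v (i + 1) h3
      have hcc := D.s0_cent_v i hc
      refine hDiff.2 ⟨mul_mem (mul_mem hc h2) (inv_mem hc), mem_centralizer_singleton_iff.2 ?_⟩
      -- `c d c⁻¹` centralises `c v (i+1) c⁻¹ = v (i+1) v i` and `v i`
      have h4 : c * d * c⁻¹ * (v (i + 1) * v i) = v (i + 1) * v i * (c * d * c⁻¹) := by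
        rw [← h1]
        calc c * d * c⁻¹ * (c * v (i + 1) * c⁻¹) = c * (d * v (i + 1)) * c⁻¹ := by group
          _ = c * (v (i + 1) * d) * c⁻¹ := by rw [h3']
          _ = c * v (i + 1) * c⁻¹ * (c * d * c⁻¹) := by group
      have h5 : c * d * c⁻¹ * v i = v i * (c * d * c⁻¹) :=
        D.s0_cent_v i (mul_mem (mul_mem hc h2) (inv_mem hc))
      have h6 : v (i + 1) = v (i + 1) * v i * v i := by rw [mul_assoc, D.v_sq, mul_one]
      calc c * d * c⁻¹ * v (i + 1) = c * d * c⁻¹ * (v (i + 1) * v i * v i) := by rw [← h6]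
        _ = c * d * c⁻¹ * (v (i + 1) * v i) * v i := by group
        _ = v (i + 1) * v i * (c * d * c⁻¹) * v i := by rw [h4]
        _ = v (i + 1) * v i * (c * d * c⁻¹ * v i) := by group
        _ = v (i + 1) * v i * v i * (c * d * c⁻¹) := by rw [h5]; group
        _ = v (i + 1) * (c * d * c⁻¹) := by rw [← h6]
    -- `T^c ≤ D`
    have hTcD : MulAut.conj c • T ≤ centralizer (zc T : Set G) := by
      intro x hx
      rw [mem_conj] at hx
      have h2 := hcD _ (hTD hx)
      have e : c * (c⁻¹ * x * c) * c⁻¹ = x := by group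
      rwa [e] at h2
    have hTc2 : IsPGroup 2 (MulAut.conj c • T : Subgroup G) := by
      rintro ⟨x, hx⟩
      rw [mem_conj] at hx
      obtain ⟨k, hk⟩ := D.T_isPGroup ⟨_, hx⟩
      refine ⟨k, Subtype.ext ?_⟩
      have h2 : (c⁻¹ * x * c) ^ 2 ^ k = 1 := by simpa using congrArg Subtype.val hk
      have h3 : c⁻¹ * x ^ 2 ^ k * c = 1 := by
        have e : c⁻¹ * x * c = c⁻¹ * x * c⁻¹⁻¹ := by group
        rw [e, conj_pow] at h2
        simpa using h2
      have h4 : x ^ 2 ^ k = 1 := by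
        calc x ^ 2 ^ k = c * (c⁻¹ * x ^ 2 ^ k * c) * c⁻¹ := by group
          _ = 1 := by rw [h3]; group
      simpa using h4
    have hodd : ¬ 2 ∣ T.relIndex (centralizer (zc T : Set G)) := by
      intro h2
      apply Cfsg.Agent.ZN.ChoiceSit.syl_not_dvd (D.syl i)
      rw [← relIndex_mul_relIndex T (centralizer (zc T : Set G)) _ hTD hDC]
      exact h2.mul_right _
    obtain ⟨d, hd, hdT⟩ := exists_conj_mem D.T_isPGroup hTD hodd hTcD hTc2
    -- `d c` normalises `T`
    have hn : d * c ∈ normalizer (T : Set G) := by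
      refine mem_normalizer_iff.2 fun x => ?_
      have h2 : ∀ x ∈ T, d * c * x * (d * c)⁻¹ ∈ T := by
        intro x hx
        have h3 : c * x * c⁻¹ ∈ MulAut.conj c • T := by
          rw [mem_conj]
          have e : c⁻¹ * (c * x * c⁻¹) * c = x := by group
          rwa [e]
        have h4 := hdT _ h3
        have e : d * (c * x * c⁻¹) * d⁻¹ = d * c * x * (d * c)⁻¹ := by group
        rwa [e] at h4
      have h3 : MulAut.conj (d * c) • T = T := by
        refine Subgroup.eq_of_le_of_card_ge ?_ ?_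
        · intro y hy
          rw [mem_conj] at hy
          have h4 := h2 _ hy
          have e : d * c * ((d * c)⁻¹ * y * (d * c)) * (d * c)⁻¹ = y := by group
          rwa [e] at h4
        · exact (Nat.card_congr (Subgroup.equivSMul (MulAut.conj (d * c)) T).toEquiv).le
      refine ⟨h2 x, fun hx => ?_⟩
      rw [← h3, mem_conj] at hx
      have e : (d * c)⁻¹ * (d * c * x * (d * c)⁻¹) * (d * c) = x := by group
      rwa [e] at hx
    have h2 : d * c ∈ centralizer (zc T : Set G) := D.norm_T_le i ⟨mul_mem (hDC hd) hc, hn⟩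
    have h3 : c ∈ centralizer (zc T : Set G) := by
      have := mul_mem (inv_mem hd) h2
      rwa [inv_mul_cancel_left] at this
    have h4 := D.conj_v (i + 1) (D.cent_zc_le (i + 1) h3)
    rw [h4] at h1
    exact D.ne i (mul_eq_left.1 h1.symm)
  rintro _ ⟨g, hg, rfl⟩ ⟨g', hg', h1⟩
  refine key (g⁻¹ * g') (mul_mem (inv_mem hg) hg') ?_
  calc g⁻¹ * g' * v (i + 1) * (g⁻¹ * g')⁻¹ = g⁻¹ * (g' * v (i + 1) * g'⁻¹) * g := by group
    _ = v (i + 1) * (g⁻¹ * v i * g) := by rw [← h1]; group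
    _ = v (i + 1) * v i := by
      have := D.conj_v i (inv_mem hg)
      rw [inv_inv] at this
      rw [this]

theorem s0_base (i : Fin 2) {e a x : G} (he : e = 1 ∨ e = v i) (ha : a ∈ V (i + 1)) (ha1 : a ≠ 1) (hav : a ≠ v (i + 1))
    (hx : Tr (CC v i) (NU V v i) e (v (i + 1)) x) :
    TBase (CC v i) (centralizer (zc T : Set G)) (P (i + 1)) T (NU V v i) (v i) e (v (i + 1)) a := by
  have hij : i + 1 ≠ i := (ne_add_one i).symm
  have hPC : P (i + 1) ≤ CC v i := D.PC (i + 1) i hij
  have hmv := D.mem (i + 1)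
  have hne := D.ne (i + 1)
  have hva : v (i + 1) * a ∈ V (i + 1) := mul_mem hmv ha
  have hva1 : v (i + 1) * a ≠ 1 := by
    intro h1
    apply hav
    have h2 : a = (v (i + 1))⁻¹ := (inv_eq_of_mul_eq_one_right h1).symm
    rw [h2]
    exact inv_eq_of_mul_eq_one_left (D.v_sq _)
  have hpt : ∀ y ∈ V (i + 1), y ≠ 1 → y ∈ Pts (CC v i) (v (i + 1)) := by
    intro y hy hy1
    obtain ⟨l, hl, -, h1⟩ := D.tr hij hy hy1
    exact ⟨l, hPC hl, h1.symm⟩
  refine
    { sq := fun n hn => D.s0_N_mul_self i hn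
      comm := fun n hn m hm => D.s0_N_mul_comm i hn hm
      norm := D.C_le_N_N i
      gen := ?_
      x_mem := D.mem_N i
      vC := fun c hc => D.s0_cent_v i hc
      he := he
      D_iff := fun d => ?_
      MC := hPC
      CDM := by rw [sup_comm]; exact D.gen hij
      ML := fun m hm => ?_
      a_pt := hpt a ha ha1
      xa_pt := hpt _ hva hva1
      a_ne := hav
      tau := ?_
      TD := D.T_le_D
      T_odd := Cfsg.Agent.ZN.ChoiceSit.syl_not_dvd (D.syl i)
      tr := ⟨x, hx⟩ }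
  · refine V_le fun c hc y hy => ?_
    rw [mem_conj] at hy
    by_cases hy1 : c⁻¹ * y * c = 1
    · have : y = 1 := by
        calc y = c * (c⁻¹ * y * c) * c⁻¹ := by group
          _ = 1 := by rw [hy1]; group
      rw [this]; exact one_mem _
    · obtain ⟨g, hg, h1⟩ := hpt _ hy hy1
      refine subset_closure ⟨c * g, mul_mem hc hg, ?_⟩
      calc y = c * (c⁻¹ * y * c) * c⁻¹ := by group
        _ = c * g * v (i + 1) * (c * g)⁻¹ := by rw [h1]; group
  · rw [D.mem_D_iff (ne_add_one i)]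
    exact and_congr_right fun _ => mem_centralizer_singleton_iff
  · have h1 : m * v (i + 1) * m⁻¹ ∈ V (i + 1) := (mem_normalizer_iff.1 (D.PN (i + 1) (i + 1) hm) _).1 hmv
    exact D.eq_of_V hmv hne ha ha1 (Ne.symm hav) h1 fun h => hne (conj_eq_one_iff.1 h)
  · obtain ⟨t, ht, h1⟩ := D.exists_swap ha ha1 hav
    exact ⟨t, D.T_le_D ht, by rw [h1, D.V_comm ha hmv]⟩

/-- the generated subgroup `HU i` is `x₀^⊥` -/
theorem s0_mem_HU (i : Fin 2) {e a : G} {B : G → G → ℤˣ} (ha : a ∈ V (i + 1)) (ha1 : a ≠ 1) (hav : a ≠ v (i + 1))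
    (h : TDat (CC v i) (centralizer (zc T : Set G)) (P (i + 1)) T (NU V v i) (v i) e (v (i + 1)) a)
    (F : Frm (CC v i) (NU V v i) e (v (i + 1)) B) {n : G} :
    n ∈ HU V T i ↔ n ∈ NU V v i ∧ B (v (i + 1)) n = 1 := by
  have hmv := D.mem (i + 1)
  have hne := D.ne (i + 1)
  have hx := h.x_mem
  have haN := h.pt_mem h.a_pt
  let K : Subgroup G :=
    { carrier := {n | n ∈ NU V v i ∧ B (v (i + 1)) n = 1}
      one_mem' := ⟨one_mem _, h.one_r F hx⟩
      mul_mem' := by
        rintro a b ⟨h1, h2⟩ ⟨h3, h4⟩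
        exact ⟨mul_mem h1 h3, by rw [F.mul _ hx _ h1 _ h3, h2, h4, mul_one]⟩
      inv_mem' := by
        rintro a ⟨h1, h2⟩
        rw [h.inv_eq h1]
        exact ⟨h1, h2⟩ }
  have hVK : V (i + 1) ≤ K := by
    intro y hy
    by_cases hy1 : y = 1
    · rw [hy1]; exact one_mem _
    rcases D.eq_of_V hmv hne ha ha1 (Ne.symm hav) hy hy1 with h1 | h1 | h1
    · rw [h1]; exact ⟨hx, F.self _ hx⟩
    · rw [h1]; exact ⟨haN, h.B_xa F⟩
    · rw [h1]
      exact ⟨mul_mem hx haN, by rw [F.mul _ hx _ hx _ haN, F.self _ hx, h.B_xa F, mul_one]⟩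
  have hHK : HU V T i ≤ K := by
    refine V_le fun c hc y hy => ?_
    rw [mem_conj] at hy
    have hcC := D.cent_zc_le i hc
    obtain ⟨h1, h2⟩ := hVK hy
    have h3 := h.conj_N hcC h1
    have h4 := h.D_B F hc h1
    have e1 : c * (c⁻¹ * y * c) * c⁻¹ = y := by group
    rw [e1] at h3 h4
    exact ⟨h3, by rw [h4, h2]⟩
  refine ⟨fun hn => hHK hn, fun ⟨h1, h2⟩ => ?_⟩
  refine h.perp_le_E F (E := HU V T i) (D.V_le_H i hmv) (D.V_le_H i ha) (fun b hb => hHK hb) (fun t ht b hb => ?_) h1 h2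
  exact (mem_normalizer_iff.1 (le_normalizer_V _ _ ht) b).1 hb

theorem s0_spf (i : Fin 2) {r e a : G} {B : G → G → ℤˣ} (he : e = 1 ∨ e = v i) (hr : r = v (i + 1) * e)
    (ha : a ∈ V (i + 1)) (ha1 : a ≠ 1) (hav : a ≠ v (i + 1))
    (h : TDat (CC v i) (centralizer (zc T : Set G)) (P (i + 1)) T (NU V v i) (v i) e (v (i + 1)) a)
    (F : Frm (CC v i) (NU V v i) e (v (i + 1)) B) :
    SpF T V v i r ∧ (e = 1 → v i ∉ NU V v i) := by
  have hmv := D.mem (i + 1)
  have hne := D.ne (i + 1)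
  have hx := h.x_mem
  have hee := h.ee
  have hcomm : v (i + 1) * e = e * v (i + 1) := h.comm _ hx _ h.e_mem
  have hH := fun {n : G} => D.s0_mem_HU i ha ha1 hav h F (n := n)
  have hez : e ∈ zpowers (v i) := by
    rcases he with he | he
    · rw [he]; exact one_mem _
    · rw [he]; exact mem_zpowers _
  have hrr : r ∈ zpowers r := mem_zpowers r
  have hvN : e = 1 → v i ∉ NU V v i := by
    intro he1 hv
    rcases h.rad F hv fun w hw => h.v_l F hv hw with h1 | h1
    · exact D.ne i h1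
    · exact D.ne i (h1.trans he1)
  refine ⟨{ idx := ?_, pts := ?_, cenH := ?_, Hcen := ?_, rad := ?_, inj := ?_, fixT := ?_ }, hvN⟩
  · -- idx
    obtain ⟨y, hy, h1⟩ := h.exists_nonperp F h.x_pt
    have hyN := h.pt_mem hy
    rw [relIndex_eq_two_iff]
    refine ⟨y, hyN, fun b hb => ?_⟩
    rcases Int.units_eq_one_or (B (v (i + 1)) b) with h2 | h2
    · right
      refine ⟨hH.2 ⟨hb, h2⟩, fun h3 => ?_⟩
      have h4 := (hH.1 h3).2
      rw [F.mul _ hx _ hb _ hyN, h2, h1, one_mul] at h4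
      exact absurd h4 (by decide)
    · left
      refine ⟨hH.2 ⟨mul_mem hb hyN, by rw [F.mul _ hx _ hb _ hyN, h2, h1]; decide⟩, fun h3 => ?_⟩
      rw [(hH.1 h3).2] at h2
      exact absurd h2 (by decide)
  · -- pts
    intro n hn hnv
    rcases h.points F hn with h1 | h1 | ⟨g, hg, h1⟩ | ⟨g, hg, h1⟩
    · exact absurd (by rw [h1]; exact one_mem _) hnv
    · exact absurd (by rw [h1]; exact hez) hnv
    · exact ⟨g, hg, Or.inl h1⟩
    · refine ⟨g, hg, ?_⟩
      have h2 : n = g * v (i + 1) * g⁻¹ * e := by rw [← h1, mul_assoc, hee, mul_one]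
      rcases he with he | he
      · left; rw [h2, he, mul_one]
      · right; rw [h2, he]
  · -- cenH
    intro x hxC hxH n hn
    have hfix : ∀ n ∈ NU V v i, B (v (i + 1)) n = 1 → x * n * x⁻¹ = n := by
      intro n hn h1
      have h2 := mem_centralizer_iff.1 hxH n (hH.2 ⟨hn, h1⟩)
      rw [← h2]; group
    have key : x * n * x⁻¹ = n ∨ x * n * x⁻¹ = n * r := by
      rcases h.hyper F hxC hfix with h1 | h1
      · exact Or.inl (h1 n hn)
      · rcases Int.units_eq_one_or (B (v (i + 1)) n) with h2 | h2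
        · exact Or.inl (hfix n hn h2)
        · right; rw [h1 n hn h2, hr]
    have e1 : n * x * n⁻¹ * x⁻¹ = n * (x * n * x⁻¹)⁻¹ := by group
    rw [e1]
    rcases key with h1 | h1
    · rw [h1, mul_inv_cancel]; exact one_mem _
    · have hrN : r ∈ NU V v i := by rw [hr]; exact mul_mem hx h.e_mem
      rw [h1, mul_inv_rev, h.inv_eq hrN, h.inv_eq hn, h.comm r hrN n hn, ← mul_assoc, h.sq n hn, one_mul]
      exact hrr
  · -- Hcen
    intro x hxC hxr
    rw [mem_centralizer_iff]
    intro n hn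
    obtain ⟨hnN, h1⟩ := hH.1 hn
    have h2 : x * n * x⁻¹ = n := by
      rcases D.s0_tr_or i hr hee hcomm hxC hxr with h2 | h2
      · exact h2 n hnN
      · exact (F.tv _ h.x_pt x h2 n hnN).1 h1
    calc n * x = x * n * x⁻¹ * x := by rw [h2]
      _ = x * n := by group
  · -- rad
    intro n hn hc
    have h1 : ∀ w ∈ NU V v i, B n w = 1 := by
      intro w hw
      refine h.ext (φ := fun w => B n w) (ψ := fun _ => 1) (fun _ h1 _ h2 => F.mul _ hn _ h1 _ h2)
        (fun _ _ _ _ => by simp) (fun p hp => ?_) w hw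
      obtain ⟨g, hg, rfl⟩ := hp
      have h2 := hc g hg
      rw [mem_conj] at h2
      have h3 := (hH.1 h2).2
      have h4 := F.inv g hg _ hx _ (hH.1 h2).1
      have e1 : g * (g⁻¹ * n * g) * g⁻¹ = n := by group
      rw [e1] at h4
      change B n (g * v (i + 1) * g⁻¹) = 1
      rw [F.symm n hn _ (h.conj_N hg hx), h4, h3]
    rcases h.rad F hn h1 with h2 | h2
    · rw [h2]; exact one_mem _
    · rw [h2]; exact hez
  · -- inj
    intro c hc hcH
    have huN := h.conj_N hc hx
    have h1 := h.perp_perp F h.x_pt huN (fun w hw h1 => by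
      have h2 : w ∈ HU V T i := hH.2 ⟨hw, h1⟩
      rw [← hcH, mem_conj] at h2
      obtain ⟨h3, h4⟩ := hH.1 h2
      have h5 := F.inv c hc _ hx _ h3
      have e1 : c * (c⁻¹ * w * c) * c⁻¹ = w := by group
      rw [e1] at h5
      rw [h5, h4])
    have hp : c * v (i + 1) * c⁻¹ ∈ Pts (CC v i) (v (i + 1)) := ⟨c, hc, rfl⟩
    have h2 := h.pt_ne F hp
    have h3 : c * v (i + 1) * c⁻¹ = v (i + 1) := by
      rcases h1 with h1 | h1 | h1 | h1
      · exact absurd h1 h2.1
      · exact absurd h1 h2.2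
      · exact h1
      · by_cases he1 : e = 1
        · rw [h1, he1, mul_one]
        · rw [h1] at hp
          exact absurd hp (h.not_both F he1 h.x_pt)
    refine (h.D_iff c).2 ⟨hc, ?_⟩
    calc c * v (i + 1) = c * v (i + 1) * c⁻¹ * c := by group
      _ = v (i + 1) * c := by rw [h3]
  · -- fixT
    intro n hn hT
    obtain ⟨m, hm, w, hw, rfl⟩ := D.mem_E hn
    have hwz : w ∈ zc T := (zpowers_le.2 (D.v_mem_zc i)) hw
    refine mul_mem ?_ hwz
    have h1 : ∀ t ∈ T, t * m * t⁻¹ = m ∨ t * m * t⁻¹ = m * e := by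
      intro t ht
      have hwt : w * t = t * w := ((mem_zc.1 hwz).2.1 t ht).symm
      have h2 := hT t ht
      have e1 : (m * w)⁻¹ * t * (m * w) * t⁻¹ = m⁻¹ * (t * m * t⁻¹) := by
        have hmw : m * w = w * m := by
          have := mem_centralizer_iff.1 (CC_le_cent_zpowers i (D.N_le_C i i hm)) w hw
          exact this.symm
        calc (m * w)⁻¹ * t * (m * w) * t⁻¹ = (w * m)⁻¹ * t * (w * m) * t⁻¹ := by rw [hmw]
          _ = m⁻¹ * w⁻¹ * (t * w) * m * t⁻¹ := by group
          _ = m⁻¹ * w⁻¹ * (w * t) * m * t⁻¹ := by rw [hwt]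
          _ = m⁻¹ * (t * m * t⁻¹) := by group
      rw [e1] at h2
      rcases D.mem_zpv h2 with h3 | h3
      · left
        calc t * m * t⁻¹ = m * (m⁻¹ * (t * m * t⁻¹)) := by group
          _ = m := by rw [h3, mul_one]
      · have h4 : t * m * t⁻¹ = m * v i := by
          calc t * m * t⁻¹ = m * (m⁻¹ * (t * m * t⁻¹)) := by group
            _ = m * v i := by rw [h3]
        rcases he with he1 | he1
        · exfalso
          apply hvN he1
          have h5 := mul_mem (inv_mem hm) (h.conj_N (D.T_le_C i ht) hm)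
          rwa [h3] at h5
        · right; rw [h4, he1]
    have hxz := D.v_mem_zc (i + 1)
    have hez' : e ∈ zc T := (zpowers_le.2 (D.v_mem_zc i)) hez
    rcases h.mem_XX.1 (h.fix_T F hm h1) with h2 | h2 | h2 | h2
    · rw [h2]; exact one_mem _
    · rw [h2]; exact hez'
    · rw [h2]; exact hxz
    · rw [h2]; exact mul_mem hxz hez'

/-- **section 0 of #19487** -/
theorem sec0 (i : Fin 2) {r : G} (hr : r = v (i + 1) ∨ r = v (i + 1) * v i) {x : G} (hx : x ∈ CC v i)
    (hxN : ¬ x ∈ centralizer (NU V v i : Set G)) (hxr : ∀ n ∈ NU V v i, n * x * n⁻¹ * x⁻¹ ∈ zpowers r) :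
    (NU V v i = HU V T i ∧ v i ∉ NU V v i) ∨ (SpF T V v i r ∧ (r = v (i + 1) → v i ∉ NU V v i)) := by
  obtain ⟨a, ha, ha1, hav⟩ := D.exists_ne_v (i + 1)
  obtain ⟨e, he, hr'⟩ : ∃ e, (e = 1 ∨ e = v i) ∧ r = v (i + 1) * e := by
    rcases hr with hr | hr
    · exact ⟨1, Or.inl rfl, by rw [hr, mul_one]⟩
    · exact ⟨v i, Or.inr rfl, hr⟩
  have hee : e * e = 1 := by
    rcases he with he | he
    · rw [he, mul_one]
    · rw [he]; exact D.v_sq i
  have hcomm : v (i + 1) * e = e * v (i + 1) := by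
    rcases he with he | he
    · rw [he]; group
    · rw [he]
      exact D.comm_v i (D.v_mem_T (i + 1))
  have htr : Tr (CC v i) (NU V v i) e (v (i + 1)) x := by
    refine (D.s0_tr_or i hr' hee hcomm hx hxr).resolve_left fun h1 => hxN ?_
    rw [mem_centralizer_iff]
    intro n hn
    calc n * x = x * n * x⁻¹ * x := by rw [h1 n hn]
      _ = x * n := by group
  have h := D.s0_base i he ha ha1 hav htr
  have hmv := D.mem (i + 1)
  by_cases huniq : ∀ t t', Tr (CC v i) (NU V v i) e (v (i + 1)) t → Tr (CC v i) (NU V v i) e (v (i + 1)) t' →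
      ∀ n ∈ NU V v i, t * n * t⁻¹ = t' * n * t'⁻¹
  · right
    have hU : TUn (CC v i) (centralizer (zc T : Set G)) (P (i + 1)) T (NU V v i) (v i) e (v (i + 1)) a :=
      { h with uniq := huniq }
    obtain ⟨B, F⟩ := hU.exists_frm
    have hti : ∀ t, Tr (CC v i) (NU V v i) e (v (i + 1)) t → t * a * t⁻¹ = a := by
      rcases he with he1 | he1
      · -- `e = 1`
        intro t ht
        have haN := h.pt_mem h.a_pt
        by_contra h1
        have hna : B (v (i + 1)) a = -1 := by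
          rcases Int.units_eq_one_or (B (v (i + 1)) a) with h2 | h2
          · exact absurd ((F.tv _ h.x_pt t ht a haN).1 h2) h1
          · exact h2
        have h2 := hU.hyp F he1 (fun t ht => ?_) D.T_isPGroup hna (fun n hn hT => ?_)
        · -- `N = V (i+1)`
          have h3 : NU V v i ≤ V (i + 1) := by
            intro n hn
            rcases h2 n hn with h4 | h4 | h4 | h4
            · rw [h4]; exact one_mem _
            · rw [h4]; exact hmv
            · rw [h4]; exact ha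
            · rw [h4]; exact mul_mem hmv ha
          have h4 : NU V v i = V (i + 1) := le_antisymm h3 (D.V_le_N i)
          have h5 : CC v i ≤ normalizer (V (i + 1) : Set G) := by
            have := D.C_le_N_N i
            rwa [h4] at this
          refine D.comp (i + 1) fun c hc => ⟨1, one_mem _, c, ?_, by group⟩
          have h6 : CC v (i + 1) ≤ normalizer (V (i + 1) : Set G) :=
            (D.gen (ne_add_one i)).trans (sup_le (D.PN i (i + 1)) ((D.cent_zc_le i).trans h5))
          exact h6 hc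
        · have h3 : t * a * t⁻¹ ∈ V (i + 1) := (mem_normalizer_iff.1 (D.T_le_N (i + 1) ht) _).1 ha
          have h4 : t * a * t⁻¹ ≠ 1 := fun h5 => ha1 (conj_eq_one_iff.1 h5)
          rcases D.eq_of_V hmv (D.ne _) ha ha1 (Ne.symm hav) h3 h4 with h5 | h5 | h5
          · exfalso
            have h6 := D.cen (i + 1) ht
            apply hav
            have h7 : t * a * t⁻¹ = t * v (i + 1) * t⁻¹ := by rw [h5, h6]
            exact mul_left_cancel (mul_right_cancel h7)
          · exact Or.inl h5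
          · exact Or.inr h5
        · have h3 : n ∈ zc T := by
            refine mem_zc.2 ⟨D.N_le_T i hn, fun t ht => ?_, D.N_sq i n hn⟩
            calc t * n = t * n * t⁻¹ * t := by group
              _ = n * t := by rw [hT t ht]
          rcases (D.zT n).1 h3 with h4 | h4 | h4 | h4
          · exact Or.inl h4
          · rcases Fin.exists_fin_two.1 ⟨i, rfl⟩ with h5 | h5
            · right; right; left; rw [h4, h5]
            · right; left; rw [h4, h5]; rfl
          · rcases Fin.exists_fin_two.1 ⟨i, rfl⟩ with h5 | h5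
            · right; left; rw [h4, h5]; rfl
            · right; right; left; rw [h4, h5]
          · right; right; right
            rcases Fin.exists_fin_two.1 ⟨i, rfl⟩ with h5 | h5
            · rw [h4, h5]
              exact D.comm_v 1 (D.v_mem_T 0)
            · rw [h4, h5]; rfl
      · exact fun t ht => hU.ti_of_zz he1 (D.s0_zz i) ht
    have hD : TDat (CC v i) (centralizer (zc T : Set G)) (P (i + 1)) T (NU V v i) (v i) e (v (i + 1)) a :=
      { hU with ti := hti }
    obtain ⟨h1, h2⟩ := D.s0_spf i he hr' ha ha1 hav hD F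
    refine ⟨h1, fun h3 => h2 ?_⟩
    rw [h3] at hr'
    exact mul_eq_left.1 hr'.symm
  · left
    have hno : ∃ t t', Tr (CC v i) (NU V v i) e (v (i + 1)) t ∧ Tr (CC v i) (NU V v i) e (v (i + 1)) t' ∧
        ∃ n ∈ NU V v i, t * n * t⁻¹ ≠ t' * n * t'⁻¹ := by
      push Not at huniq
      obtain ⟨t, t', h1, h2, n, hn, h3⟩ := huniq
      exact ⟨t, t', h1, h2, n, hn, h3⟩
    have he1 := h.gl_e hno (D.s0_zz i)
    refine ⟨le_antisymm ?_ (D.H_le_N i), h.gl_v hno he1 (D.ne i)⟩
    refine h.gl_E hno he1 (E := HU V T i) (D.V_le_H i hmv) (D.V_le_H i ha) fun t ht b hb => ?_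
    exact (mem_normalizer_iff.1 (le_normalizer_V _ _ ht) b).1 hb

end Fr

end Cfsg.Agent.Omega.TC
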