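import Cfsg.Agent.Omega.TC.EFrOf
import Cfsg.Agent.Omega.TC.FrmRep
import Cfsg.Agent.Omega.KL.EndR
import Cfsg.Agent.Omega.TC.R.DOneR

/-!
# CARD #18791: THEOREM R with the swap (`RIn`, all stages), from THEOREM KL

* `Fr.peelG` : THEOREM G in the form of `Peel`, from `ThmG V v`;
* `Fr.inter_g` : `E_0 ∩ E_1 ≤ Ω₁Z(T)`; **`Fr.one_g`** : `[N_0, N_1] ≠ 1` (any stage; `ThmG`, PEELING, THEOREM PC);
* **`Fr.false_swap`** : MLK, THEOREM KL, swap and `HU` are a contradiction (no `VBang`, no hypothesis on `V i ≤ N_i`);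
* `Fr.false_offK` : the same with `OffK` for `HU`; **`rIn_kl`**, **`eFr_kl : MLK → NoInp → EFr K`**.
-/

set_option autoImplicit false
set_option linter.unusedSectionVars false

namespace Cfsg.Agent.Omega.TC

open Subgroup Cfsg Cfsg.Agent.ZN Cfsg.Agent.Omega.MinPar
open Cfsg.Agent.Omega.OM.KTwo (CC QQ WU NU EU FF ne_add_one eq_add_one add_one_add_one le_normalizer_V le_V)
open Cfsg.Agent.Omega.NoFF.Basic (conj_conj mem_conj conj_le_iff conj_le_centralizer comm_symm comm_mono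
  Z_le_V V_le conj_V_mul)
open Cfsg.Agent.Omega.OM
open Cfsg.Agent.Omega.NO3S.EThree.ExactA (NoP eab_iff)
open scoped Pointwise commutatorElement

universe u

variable {G : Type u} [Group G]

namespace Fr

variable [Finite G] {T : Subgroup G} {V P : Fin 2 → Subgroup G} {v : Fin 2 → G} (D : Fr T V P v)

include D

/-- THEOREM G in the form of `Peel` -/
theorem peelG {s : G} (w : Sw V v s) (hG : ThmG V v) : PG.Peel.ThmG (ZZ v) (PG.Peel.XW (ZZ v) V) := by
  rintro _ ⟨k, rfl⟩ g hg h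
  rw [PG.HH_conj, mem_conj, D.HH_eq] at hg
  rw [PG.NN_conj, D.NN_eq w] at h ⊢
  rw [PG.Peel.XW_conj, D.XW_eq w] at h
  have h1 : k⁻¹ * g * k ∈ centralizer (NU V v 0 : Set G) := by
    refine hG 0 _ hg fun x hx => ?_
    have h2 : k * x * k⁻¹ ∈ MulAut.conj k • (NU V v 0 ⊔ WU V v 0) := by
      rw [mem_conj]
      have e : k⁻¹ * (k * x * k⁻¹) * k = x := by group
      rw [e, sup_comm]
      exact hx
    have h3 := h _ h2
    rw [mem_conj] at h3
    have e : k⁻¹ * (k * x * k⁻¹ * g * (k * x * k⁻¹)⁻¹ * g⁻¹) * k =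
        x * (k⁻¹ * g * k) * x⁻¹ * (k⁻¹ * g * k)⁻¹ := by group
    rwa [e] at h3
  refine mem_centralizer_iff.2 fun y hy => ?_
  have hy' : y ∈ MulAut.conj k • NU V v 0 := hy
  rw [mem_conj] at hy'
  have h4 := mem_centralizer_iff.1 h1 _ hy'
  calc y * g = k * ((k⁻¹ * y * k) * (k⁻¹ * g * k)) * k⁻¹ := by group
    _ = k * ((k⁻¹ * g * k) * (k⁻¹ * y * k)) * k⁻¹ := by rw [h4]
    _ = g * y := by group

/-- `E_0 ∩ E_1 ≤ Ω₁Z(T)` -/
theorem inter_g (hML : ML.Final.MLK.{u, u}) (hK : IsKProper G) (hs : Swap T V v) (hG : ThmG V v) :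
    EU T v 0 ⊓ EU T v 1 ≤ zc T :=
  D.thmI hML (fun i => hK _ (D.CC_ne_top i)) (Qs := o2 (centralizer (zc T : Set G)))
    (MinSimple.VModule.le_normalizer_o2 _) le_rfl (fun i => (D.E_le_Q i).trans (D.Q_le_o2D i)) fun i =>
    D.exists_mv hs (D.noD hML hK) hG i

/-- **`[N_0, N_1] ≠ 1`** -/
theorem one_g (hML : ML.Final.MLK.{u, u}) (hK : IsKProper G) (hs : Swap T V v) (hG' : ThmG V v) :
    ¬ NU V v 0 ≤ centralizer (NU V v 1 : Set G) := by
  intro hcom
  obtain ⟨s, w⟩ := Sw.of_swap hs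
  have h01 : (0 : Fin 2) ≠ 1 := by decide
  have hG : PG.Peel.ThmG (ZZ v) (PG.Peel.XW (ZZ v) V) := D.peelG w hG'
  have hI : NU V v 0 ⊓ NU V v 1 ≤ zc T :=
    (inf_le_inf (D.N_le_E 0) (D.N_le_E 1)).trans (D.inter_g hML hK hs hG')
  have PP' := D.pp w
  have hpt0 : PG.IsPt (ZZ v) (ZZ v 0) := ⟨1, by rw [map_one, one_smul]⟩
  obtain ⟨d, a, b, hd, hc⟩ := D.far hML hK w hG
  have hd' : d = 0 ∨ d = 1 := by omega
  rcases hd' with rfl | rfl
  · -- distance 1
    have hc' : PG.CX (ZZ v) (PG.Peel.XW (ZZ v) V) 0 (ZZ v 0) (ZZ v 1) := by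
      have h0 := hc.pth
      have hne := hc.ne
      cases h0 with
      | @succ _ _ u _ h1 h2 =>
        cases h1 with
        | zero h3 =>
          obtain ⟨k, rfl, rfl⟩ := h2
          refine ⟨PG.PP.pth_one ⟨1, by rw [map_one, one_smul], by rw [map_one, one_smul]⟩, fun h4 => hne ?_, hc.com⟩
          rw [PG.Peel.XW_conj, PG.Peel.XW_conj]
          exact conj_le_centralizer h4
    obtain ⟨-, x, hx, y, hy, hxy, -⟩ := D.red hML hK w hG hc'
    rw [D.XW_eq w] at hx
    rw [D.NN_eq w, D.NN_eq w] at hy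
    have hW : WU V v 0 ≤ centralizer (NU V v 1 : Set G) := by
      refine D.pcF (fun k => ?_) 0
      refine le_trans (le_inf (D.N_le_O k) ?_) (D.f3 (k + 1))
      have h0 : k = 0 ∨ k = 1 := by clear * -; revert k; decide
      rcases h0 with rfl | rfl
      · exact hcom
      · exact comm_symm hcom
    have h1 : NU V v 0 ⊔ WU V v 0 ≤ centralizer ({y} : Set G) := by
      refine sup_le (fun n hn => ?_) fun n hn => ?_
      · rw [mem_centralizer_singleton_iff]; exact mem_centralizer_iff.1 hy.2 n hn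
      · rw [mem_centralizer_singleton_iff]; exact (mem_centralizer_iff.1 (hW hn) y hy.1).symm
    exact hxy (commutatorElement_eq_one_iff_mul_comm.2 (mem_centralizer_singleton_iff.1 (h1 hx)))
  · -- distance 2
    have h1 := (D.red hML hK w hG hc).1
    have h2 := hc.pth
    have hne := hc.ne
    have hab : a ≠ b := by
      rintro rfl
      exact hne (eab_iff.1 ((D.xf w).eab a (PG.PP.pth_pt h2))).1
    cases h2 with
    | @succ _ _ u _ h3 h4 =>
      cases h3 with
      | @succ _ _ t _ h5 h6 =>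
        cases h5 with
        | zero h7 =>
          have hau : a ≠ u := by
            rintro rfl
            obtain ⟨k, e1, e2⟩ := h6
            have e3 : ZZ v 0 = ZZ v 1 := smul_left_cancel _ (e1.symm.trans e2)
            have e4 : v 0 ∈ ZZ v 1 := e3 ▸ mem_zpowers _
            rcases D.mem_ZZ.1 e4 with e | e
            · exact D.ne 0 e
            · exact D.v_ne h01 e
          have h8 : a ≤ PG.NN (ZZ v) u ⊓ PG.NN (ZZ v) b := le_inf (PP'.adj_symm h6).le_NN h1
          obtain ⟨k, rfl, rfl⟩ := h4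
          rw [PG.NN_conj, PG.NN_conj, ← Subgroup.smul_inf, D.NN_eq w, D.NN_eq w] at h8
          obtain ⟨g, rfl⟩ := h7
          have hx : g * v 0 * g⁻¹ ∈ MulAut.conj g • ZZ v 0 := ⟨v 0, mem_zpowers _, rfl⟩
          have h9 : k⁻¹ * (g * v 0 * g⁻¹) * k ∈ zc T := hI (mem_conj.1 (h8 hx))
          have hkey : ∀ j : Fin 2, k⁻¹ * (g * v 0 * g⁻¹) * k = v j → MulAut.conj g • ZZ v 0 = MulAut.conj k • ZZ v j := by
            intro j e
            have e1 : (k⁻¹ * g) * v 0 * (k⁻¹ * g)⁻¹ = v j := by rw [← e]; group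
            have e2 := conj_ZZ e1
            rw [← e2, conj_conj, mul_inv_cancel_left]
          rcases (D.zT _).1 h9 with e | e | e | e
          · have e1 : g * v 0 * g⁻¹ = 1 := by
              calc g * v 0 * g⁻¹ = k * (k⁻¹ * (g * v 0 * g⁻¹) * k) * k⁻¹ := by group
                _ = 1 := by rw [e]; group
            exact D.ne 0 (conj_eq_one_iff.1 e1)
          · exact hau (hkey 0 e)
          · exact hab (hkey 1 e)
          · refine D.not_pt hs (g := k⁻¹ * g) ?_
            rw [← e]; group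

/-- **(E), `k = 2 = q`, with the swap, is impossible** (THEOREM KL; any stage) -/
theorem false_swap (hML : ML.Final.MLK.{u, u}) (hKL : KL.Quo.NoInp.{u, u}) (hK : IsKProper G) (hs : Swap T V v)
    (hU : KL.EndR.HU T V v) : False := by
  have hG : ThmG V v := KL.EndR.thmG D hML hKL (kC_of D hK) hU
  exact D.one_g hML hK hs hG (R.DOneR.d_one D (D.inter_g hML hK hs hG))

/-- the same with `OffK` -/
theorem false_offK (hML : ML.Final.MLK.{u, u}) (hKL : KL.Quo.NoInp.{u, u}) (hK : IsKProper G) (hs : Swap T V v)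
    {K : Subgroup G} (hO : OffK T V K) : False :=
  D.false_swap hML hKL hK hs fun _ _ hR hRi hRj => OffK.hU D hO (ne_add_one _) hR hRi hRj

end Fr

/-- **THEOREM R with the swap, all stages.** -/
theorem rIn_kl (hML : ML.Final.MLK.{u, u}) (hKL : KL.Quo.NoInp.{u, u}) : RIn.{u} :=
  fun _ _ _ hK _ _ _ _ D _ hs _ hO _ => D.false_offK hML hKL hK hs hO

/-- **`EFr K` from THEOREM KL** -/
theorem eFr_kl {K : Cfsg.Agent.Omega.Frame.Cls.{u}} (hML : ML.Final.MLK.{u, u}) (hKL : KL.Quo.NoInp.{u, u}) :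
    OfMul.EFr K :=
  eFr_of_kl hML hKL (rIn_kl hML hKL)

end Cfsg.Agent.Omega.TC
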