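import Cfsg.Agent.Omega.TC.Av
import Cfsg.Agent.Omega.TC.Phi

/-!
# LEMMA AV over the frame `Fr` (CARD #18791 TWO CENTRES)

* `set2` : `Av.Set2 T (P i) (centralizer (zc T)) (CC v j) (NU V v j) (V i) (zpowers (v i))` (`i ≠ j`,
  `J(T) ≰ O₂(P i)`);
* `av` : **(AV)** `M ⊴ C_j`, `M ∩ T ≤ C(V i)`: `C_M(v i)` centralises `N_j`;
* `av_sub`, `av_odd` : **(AV')**;
* `cor` : **(COR)** `M ⊴ C_j`, `M ∩ T ≰ C(N_j)`: `P i = (M ∩ P i) T`, `C_j = M D`, `v_i^{C_j} = v_i^M`;
* `not_le` : **(A) IS DEAD**: such an `M` does not centralise `V j`.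
-/

set_option autoImplicit false
set_option linter.unusedSectionVars false

namespace Cfsg.Agent.Omega.TC.AvFr

open Subgroup Cfsg Cfsg.Agent.ZN Cfsg.Agent.Omega.MinPar
open Cfsg.Agent.Omega.OM.KTwo (CC QQ WU NU EU ne_add_one eq_add_one)
open Cfsg.Agent.Omega.NoFF.Basic (conj_conj mem_conj conj_le_iff comm_symm Z_le_V V_le)
open Cfsg.Agent.ZN.ChoiceSit (Syl syl_not_dvd)
open scoped Pointwise

universe u

theorem eq_zero_of {j : Fin 2} (h : (1 : Fin 2) ≠ j) : j = 0 := by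
  revert h; revert j; decide

theorem eq_one_of {j : Fin 2} (h : (0 : Fin 2) ≠ j) : j = 1 := by
  revert h; revert j; decide

variable {G : Type u} [Group G] [Finite G] {T : Subgroup G} {V P : Fin 2 → Subgroup G} {v : Fin 2 → G}
  (D : Fr T V P v)

include D

theorem V_le_N {i j : Fin 2} (hij : i ≠ j) : V i ≤ NU V v j := by
  have h : i = j + 1 := eq_add_one hij.symm
  rw [h]; exact D.V_le_N j

/-- `N_j = ⟨v_i ^ C_j⟩`: centralising all the points -/
theorem mem_cent_N {i j : Fin 2} (hij : i ≠ j) {m : G}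
    (h : ∀ c ∈ CC v j, m * (c * v i * c⁻¹) = c * v i * c⁻¹ * m) : m ∈ centralizer (NU V v j : Set G) := by
  have h1 : NU V v j ≤ centralizer ({m} : Set G) := by
    refine V_le fun c hc => ?_
    intro w hw
    rw [← eq_add_one hij.symm] at hw
    rw [mem_conj] at hw
    rw [mem_centralizer_singleton_iff]
    by_cases hw1 : w = 1
    · rw [hw1, one_mul, mul_one]
    have hw1' : c⁻¹ * w * c ≠ 1 := by
      intro h'
      apply hw1
      have h3 := congrArg (fun t => c * t * c⁻¹) h'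
      simpa [mul_assoc] using h3
    obtain ⟨l, hl, -, hlw⟩ := D.tr hij hw hw1'
    have h3 : w = (c * l) * v i * (c * l)⁻¹ := by
      have e : (c * l) * v i * (c * l)⁻¹ = c * (l * v i * l⁻¹) * c⁻¹ := by group
      rw [e, hlw]; group
    rw [h3]
    exact (h _ (mul_mem hc (D.PC i j hij hl))).symm
  rw [mem_centralizer_iff]
  intro n hn
  exact mem_centralizer_singleton_iff.1 (h1 hn)

/-- **the setting of LEMMA AV** -/
theorem set2 {i j : Fin 2} (hij : i ≠ j) (hJ : ¬ jj T ≤ o2 (P i)) :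
    Av.Set2 T (P i) (centralizer (zc T : Set G)) (CC v j) (NU V v j) (V i) (zpowers (v i)) := by
  obtain ⟨a, ha, ha1, hav⟩ := D.exists_ne_v i
  refine Av.Set2.of_four (a := a) (v₂ := v j) D.T_isPGroup D.T_le_D (D.T_le_P i) (D.par i)
    (le_antisymm (D.gen hij) (sup_le (D.PC i j hij) (D.cent_zc_le j))) (syl_not_dvd (D.syl j))
    (fun x hx y hy => (mem_centralizer_iff.1 (D.N_comm j hx) y hy).symm) (D.C_le_N_N j) (V_le_N D hij) (fun x => ?_)
    (D.v_sq i) (D.PN i i) (fun d hd => mem_centralizer_singleton_iff.1 (D.cent_zc_le i hd)) ?_ ?_ (fun u hu huo => ?_)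
    fun c hc => mem_centralizer_singleton_iff.1 hc
  · constructor
    · intro hx
      by_cases hx1 : x = 1
      · exact Or.inl hx1
      · exact Or.inr (D.eq_of_V (D.mem i) (D.ne i) ha ha1 (Ne.symm hav) hx hx1)
    · rintro (h | h | h | h) <;> rw [h]
      · exact one_mem _
      · exact D.mem i
      · exact ha
      · exact mul_mem (D.mem i) ha
  · obtain ⟨t, ht, hta⟩ := D.exists_swap ha ha1 hav
    refine ⟨t, ht, fun h => ?_⟩
    have e : t * a * t⁻¹ = a := by rw [h, mul_inv_cancel_right]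
    rw [e] at hta
    exact D.ne i (by simpa using hta.symm)
  · rw [Phi.o2_P D i]; exact inf_le_right
  · have hu1 : u ∈ zc (o2 (P i)) := by
      rw [mem_zc, Phi.o2_P D i]
      refine ⟨⟨D.N_le_T j hu, mem_centralizer_iff.2 fun x hx => ?_⟩, huo, D.N_sq j u hu⟩
      exact mem_centralizer_iff.1 (D.N_comm j hu) x (V_le_N D hij hx)
    rw [Phi.zc_o2 D hij hJ] at hu1
    exact Phi.mem_V_sup D hu1

/-- **(AV)** -/
theorem av {i j : Fin 2} (hij : i ≠ j) (hJ : ¬ jj T ≤ o2 (P i)) {M : Subgroup G} (hM : M ≤ CC v j)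
    (hCM : CC v j ≤ normalizer (M : Set G)) (hTM : T ⊓ M ≤ centralizer (V i : Set G)) {x : G} (hx : x ∈ M)
    (hxv : x * v i = v i * x) : x ∈ centralizer (NU V v j : Set G) := by
  have hxZ : x ∈ M ⊓ centralizer ((zpowers (v i) : Subgroup G) : Set G) := by
    refine ⟨hx, mem_centralizer_iff.2 ?_⟩
    rintro _ ⟨n, rfl⟩
    have h1 : Commute x (v i) := hxv
    exact (h1.zpow_right n).eq.symm
  exact mem_cent_N D hij fun c hc => (set2 D hij hJ).av_cent hM hCM hTM c hc (v i) (mem_zpowers _) x hxZ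

theorem D_le_cent (i : Fin 2) : centralizer (zc T : Set G) ≤ centralizer ((zpowers (v i) : Subgroup G) : Set G) :=
  centralizer_le (by
    have h : zpowers (v i) ≤ zc T := zpowers_le.2 (D.v_mem_zc i)
    exact h)

/-- **(AV')** -/
theorem av_sub {i j : Fin 2} (hij : i ≠ j) (hJ : ¬ jj T ≤ o2 (P i)) {M : Subgroup G}
    (hM : M ≤ centralizer (zc T : Set G)) (hTn : T ≤ normalizer (M : Set G))
    (hTM : T ⊓ M ≤ centralizer (V i : Set G)) : M ≤ centralizer (V i : Set G) :=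
  (set2 D hij hJ).av_sub hM (hM.trans (D_le_cent D i)) hTn hTM

/-- **(AV')** for subgroups of odd order -/
theorem av_odd {i j : Fin 2} (hij : i ≠ j) (hJ : ¬ jj T ≤ o2 (P i)) {M : Subgroup G}
    (hM : M ≤ centralizer (zc T : Set G)) (hTn : T ≤ normalizer (M : Set G)) (hodd : ¬ 2 ∣ Nat.card M) :
    M ≤ centralizer (V i : Set G) :=
  (set2 D hij hJ).av_odd hM (hM.trans (D_le_cent D i)) hTn hodd

theorem exists_ne {i j : Fin 2} (hij : i ≠ j) {M : Subgroup G} (hne : ¬ T ⊓ M ≤ centralizer (NU V v j : Set G)) :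
    ∃ m ∈ T ⊓ M, ∃ g ∈ CC v j, ∃ z ∈ zpowers (v i), m * (g * z * g⁻¹) ≠ g * z * g⁻¹ * m := by
  by_contra hcon
  push Not at hcon
  exact hne fun m hm => mem_cent_N D hij fun c hc => hcon m hm c hc (v i) (mem_zpowers _)

/-- **(COR)** -/
theorem cor {i j : Fin 2} (hij : i ≠ j) (hJ : ¬ jj T ≤ o2 (P i)) {M : Subgroup G} (hM : M ≤ CC v j)
    (hCM : CC v j ≤ normalizer (M : Set G)) (hne : ¬ T ⊓ M ≤ centralizer (NU V v j : Set G)) :
    (M ⊓ P i) ⊔ T = P i ∧ CC v j = M ⊔ centralizer (zc T : Set G) ∧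
      ∀ c ∈ CC v j, ∃ m ∈ M, c * v i * c⁻¹ = m * v i * m⁻¹ := by
  have h := (set2 D hij hJ).cor hM hCM (exists_ne D hij hne)
  exact ⟨h.1, h.2, (set2 D hij hJ).cor_orbit hCM h.2 fun d hd => mem_centralizer_singleton_iff.1 (D.cent_zc_le i hd)⟩

/-- **(A) IS DEAD** -/
theorem not_le {i j : Fin 2} (hij : i ≠ j) (hJ : ¬ jj T ≤ o2 (P i)) {M : Subgroup G} (hM : M ≤ CC v j)
    (hCM : CC v j ≤ normalizer (M : Set G)) (hne : ¬ T ⊓ M ≤ centralizer (NU V v j : Set G)) :
    ¬ M ≤ centralizer (V j : Set G) := by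
  intro hMV
  have h := ((set2 D hij hJ).caseA_dead (C₁ := CC v i) (P₂ := P j) (V₂ := V j) (v₂ := v j) hM hCM
    (exists_ne D hij hne) (le_antisymm (D.gen hij.symm) (sup_le (D.PC j i hij.symm) (D.cent_zc_le i)))
    (fun g _ h => mem_centralizer_singleton_iff.2 h) (fun c hc => mem_centralizer_singleton_iff.1 hc) (D.mem j)
    (D.ne j) (D.PN j j) (fun a ha ha1 => ?_) hMV).2
  · set N : Subgroup G := closure {x | ∃ c ∈ CC v i, x = c * v j * c⁻¹} with hN
    have hNT : N ≤ T := by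
      refine le_trans ((closure_le _).2 ?_) (D.N_le_T i)
      rintro x ⟨c, hc, rfl⟩
      exact (mem_normalizer_iff.1 (D.C_le_N_N i hc) _).1 (V_le_N D hij.symm (D.mem j))
    have hbot : N = ⊥ := by
      refine D.nonloc N (D.T_isPGroup.to_le hNT) ?_ ?_
      · rcases Fin.exists_fin_two.1 ⟨i, rfl⟩ with hi | hi
        · rw [hi] at h; exact le_sup_left.trans h
        · have hj : j = 0 := eq_zero_of (hi ▸ hij)
          rw [hj] at h; exact le_sup_right.trans h
      · rcases Fin.exists_fin_two.1 ⟨i, rfl⟩ with hi | hi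
        · have hj : j = 1 := eq_one_of (hi ▸ hij)
          rw [hj] at h; exact le_sup_right.trans h
        · rw [hi] at h; exact le_sup_left.trans h
    have h1 : v j ∈ N := subset_closure ⟨1, one_mem _, by group⟩
    rw [hbot, mem_bot] at h1
    exact D.ne j h1
  · obtain ⟨l, hl, -, hla⟩ := D.tr hij.symm ha ha1
    exact ⟨l, hl, hla.symm⟩

end Cfsg.Agent.Omega.TC.AvFr
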