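import Cfsg.Agent.Omega.TC.SpF

/-!
# CARD #18791, [D] (helper918 #19487, helper791 #20268): a critical pair at distance `≥ 3` with `|[N_a, N_b]| = 2`

Inputs as hypotheses: `TCp` (LEMMA TC over `Fr`), `Sec0` (section 0 over `Fr`), `hz` : `v 0 * v 1` is not conjugate
to a `v i`.

* `Fr.swap`, `Fr.N_congr` : `N` of a vertex depends only on its element;
* `Fr.pt` : vertices with a common neighbour (as elements) commute if the critical distance is `≥ 3`;
* `Fr.crit2` : LEMMA P, critical pair with representatives;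
* `Fr.W_le`, `Fr.W_le_last` : (3.4);
* `Fr.thmD` : **THEOREM D**.
-/

set_option autoImplicit false
set_option linter.unusedSectionVars false

namespace Cfsg.Agent.Omega.TC

open Subgroup Cfsg Cfsg.Agent.ZN Cfsg.Agent.Omega.MinPar
open Cfsg.Agent.Omega.OM.KTwo (CC QQ WU NU EU FF ne_add_one eq_add_one add_one_add_one le_normalizer_V le_V
  le_o2_of_commutator)
open Cfsg.Agent.Omega.NoFF.Basic (conj_conj mem_conj conj_le_iff conj_le_centralizer comm_symm comm_mono
  Z_le_V V_le conj_V_mul)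
open Cfsg.Agent.Omega.NOThreeL.Pair (conj_eq_of_mem)
open Cfsg.Agent.Omega.NO3L.LemP (Near Same Adj Comm vx vx_eq vx_same vx_mono vx_mk conj_comm_iff)
open Cfsg.Agent.ZN.ChoiceSit (Syl exists_syl syl_conj o2_le_syl)
open Cfsg.Agent.MinSimple.VModule (mem_zc zc_le normalizer_le_normalizer_zc le_normalizer_o2 le_o2 o2_le
  o2_isPGroup)
open scoped Pointwise

universe u

variable {G : Type u} [Group G]

/-- **LEMMA TC** over `Fr`, as a hypothesis -/
def TCp (T : Subgroup G) (V : Fin 2 → Subgroup G) (v : Fin 2 → G) : Prop :=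
  ∀ (i : Fin 2) (t b : G), t ∈ o2 (centralizer (zc T : Set G)) →
    (∀ n ∈ NU V v i, t * n * t⁻¹ = n ∨ t * n * t⁻¹ = n * b) → ¬ (∀ n ∈ NU V v i, t * n * t⁻¹ = n) →
    b = v (i + 1) ∨ (v i ∈ NU V v i ∧ b = v (i + 1) * v i)

/-- **section 0** over `Fr`, as a hypothesis -/
def Sec0 (T : Subgroup G) (V : Fin 2 → Subgroup G) (v : Fin 2 → G) : Prop :=
  ∀ (i : Fin 2) (r : G), (r = v (i + 1) ∨ r = v (i + 1) * v i) → ∀ x ∈ CC v i, x ∉ centralizer (NU V v i : Set G) →
    (∀ n ∈ NU V v i, n * x * n⁻¹ * x⁻¹ ∈ zpowers r) →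
    (NU V v i = HU V T i ∧ v i ∉ NU V v i) ∨ (SpF T V v i r ∧ (r = v (i + 1) → v i ∉ NU V v i))

/-- `F^x = F^y` -/
theorem conj_congr {C F : Subgroup G} (hCF : C ≤ normalizer (F : Set G)) {x y : G} (h : y⁻¹ * x ∈ C) :
    MulAut.conj x • F = MulAut.conj y • F := by
  have h1 := congrArg (fun A => MulAut.conj y • A) (conj_eq_of_mem (hCF h))
  simp only [conj_conj, mul_inv_cancel_left] at h1
  exact h1

section graph

variable {H : Fin 2 → Subgroup G}

theorem near_same_right {n : ℕ} {a b c : Fin 2 × G} (h : Near H n a b) (h' : Same H b c) : Near H n a c := by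
  cases n with
  | zero => exact NO3L.LemP.Same.trans h h'
  | succ n =>
    obtain ⟨e, h1, h2⟩ := h
    exact ⟨e, h1, h'.trans_adj h2⟩

theorem near_same_left {n : ℕ} {a b c : Fin 2 × G} (h : Near H n a b) (h' : Same H a c) : Near H n c b :=
  (near_same_right h.symm h').symm

theorem near_adj (i j : Fin 2) (x : G) : Near H 1 (i, x) (j, x) :=
  ⟨(i, x), Same.refl _, x, by simp, by simp⟩

theorem near_two {k l : Fin 2} {x y : G} (h : x⁻¹ * y ∈ H l) : Near H 2 (k, x) (k, y) := by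
  refine ⟨(l, x), near_adj k l x, ?_⟩
  exact ⟨y, h, by simp⟩

end graph

namespace Fr

variable [Finite G] {T : Subgroup G} {V P : Fin 2 → Subgroup G} {v : Fin 2 → G} (D : Fr T V P v)

include D

theorem v_mul_v (i : Fin 2) : v 0 * v 1 = v (i + 1) * v i := by
  have hc : v 0 * v 1 = v 1 * v 0 := D.comm_v 1 (D.v_mem_T 0)
  rcases Fin.exists_fin_two.1 ⟨i, rfl⟩ with hi | hi
  · rw [hi]; exact hc
  · rw [hi]; rfl

omit [Finite G] D in
/-- `Q` depends only on the element -/
theorem conj_Q {i j : Fin 2} {x : G} (h : x * v i * x⁻¹ = v j) : MulAut.conj x • QQ v i = QQ v j := by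
  change MulAut.conj x • o2 (centralizer ({v i} : Set G)) = o2 (centralizer ({v j} : Set G))
  have h8 : ZN.ChoiceBase.cj x (o2 (centralizer ({v i} : Set G))) =
    o2 (ZN.ChoiceBase.cj x (centralizer ({v i} : Set G))) := (ChoiceSit.o2_cj _ _).symm
  have h9 : ZN.ChoiceBase.cj x (centralizer ({v i} : Set G)) = centralizer ({v j} : Set G) := by
    change MulAut.conj x • centralizer ({v i} : Set G) = _
    ext y
    rw [mem_conj, mem_centralizer_singleton_iff, mem_centralizer_singleton_iff, ← h]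
    constructor
    · intro h1
      have h2 := congrArg (fun t => x * t * x⁻¹) h1
      have e1 : x * (x⁻¹ * y * x * v i) * x⁻¹ = y * (x * v i * x⁻¹) := by group
      have e2 : x * (v i * (x⁻¹ * y * x)) * x⁻¹ = x * v i * x⁻¹ * y := by group
      simp only [e1, e2] at h2
      exact h2
    · intro h1
      have h2 := congrArg (fun t => x⁻¹ * t * x) h1
      have e1 : x⁻¹ * (y * (x * v i * x⁻¹)) * x = x⁻¹ * y * x * v i := by group
      have e2 : x⁻¹ * (x * v i * x⁻¹ * y) * x = v i * (x⁻¹ * y * x) := by group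
      simp only [e1, e2] at h2
      exact h2
  rw [h9] at h8
  exact h8

/-- `N_i` is generated by the conjugates of `v (i+1)` -/
theorem N_le_of_mem (i : Fin 2) {U : Subgroup G} (hv : v (i + 1) ∈ U) (hC : CC v i ≤ normalizer (U : Set G)) :
    NU V v i ≤ U := by
  refine V_le fun c hc w hw => ?_
  rw [mem_conj] at hw
  by_cases hw1 : w = 1
  · rw [hw1]; exact one_mem U
  have hw1' : c⁻¹ * w * c ≠ 1 := by
    intro h
    apply hw1
    have h3 := congrArg (fun t => c * t * c⁻¹) h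
    simpa [mul_assoc] using h3
  obtain ⟨l, hl, -, hlw⟩ := D.tr (ne_add_one i).symm hw hw1'
  have hlC : l ∈ CC v i := D.PC (i + 1) i (ne_add_one i).symm hl
  have h3 : w = (c * l) * v (i + 1) * (c * l)⁻¹ := by
    have e : (c * l) * v (i + 1) * (c * l)⁻¹ = c * (l * v (i + 1) * l⁻¹) * c⁻¹ := by group
    rw [e, hlw]; group
  rw [h3]
  exact (mem_normalizer_iff.1 (hC (mul_mem hc hlC)) _).1 hv

/-- elements `s` interchanging `v 0`, `v 1` interchange `N 0`, `N 1` -/
theorem conj_N_le {k : Fin 2} {s : G} (h1 : s * v k * s⁻¹ = v (k + 1)) (h2 : s * v (k + 1) * s⁻¹ = v k) :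
    MulAut.conj s • NU V v k ≤ NU V v (k + 1) := by
  have h3 : NU V v k ≤ MulAut.conj s⁻¹ • NU V v (k + 1) := by
    refine D.N_le_of_mem k ?_ fun c hc => ?_
    · rw [mem_conj, inv_inv, h2]
      have := D.mem_N (k + 1)
      rwa [add_one_add_one] at this
    · have h4 : s * c * s⁻¹ ∈ CC v (k + 1) := by
        rw [mem_centralizer_singleton_iff, ← h1]
        have h5 : c * v k = v k * c := mem_centralizer_singleton_iff.1 hc
        calc s * c * s⁻¹ * (s * v k * s⁻¹) = s * (c * v k) * s⁻¹ := by group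
          _ = s * v k * s⁻¹ * (s * c * s⁻¹) := by rw [h5]; group
      have h6 := D.C_le_N_N (k + 1) h4
      refine ChoiceBase.mem_normalizer_iff_cj.2 ?_
      change MulAut.conj c • (MulAut.conj s⁻¹ • NU V v (k + 1)) = _
      have h7 : MulAut.conj (s * c * s⁻¹) • NU V v (k + 1) = NU V v (k + 1) := conj_eq_of_mem h6
      rw [conj_conj]
      have e : c * s⁻¹ = s⁻¹ * (s * c * s⁻¹) := by group
      rw [e, ← conj_conj, h7]
  have h4 := conj_le_iff (g := s) |>.2 h3
  rwa [conj_conj, mul_inv_cancel, map_one, one_smul] at h4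

/-- **the swap** -/
theorem swap (hz : ∀ (j : Fin 2) (g : G), g * (v 0 * v 1) * g⁻¹ ≠ v j) {k : Fin 2} {h : G}
    (hh : h * v k * h⁻¹ = v (k + 1)) :
    ∃ q ∈ CC v (k + 1), MulAut.conj (q * h) • NU V v k = NU V v (k + 1) ∧
      MulAut.conj (q * h) • NU V v (k + 1) = NU V v k := by
  -- `T^h` is Sylow in `C_(k+1)`
  have hCh : MulAut.conj h • CC v k = CC v (k + 1) := by
    ext x
    rw [mem_conj, CC, CC, mem_centralizer_singleton_iff, mem_centralizer_singleton_iff, ← hh]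
    constructor
    · intro h1
      have h2 := congrArg (fun t => h * t * h⁻¹) h1
      have e1 : h * (h⁻¹ * x * h * v k) * h⁻¹ = x * (h * v k * h⁻¹) := by group
      have e2 : h * (v k * (h⁻¹ * x * h)) * h⁻¹ = h * v k * h⁻¹ * x := by group
      simp only [e1, e2] at h2
      exact h2
    · intro h1
      have h2 := congrArg (fun t => h⁻¹ * t * h) h1
      have e1 : h⁻¹ * (x * (h * v k * h⁻¹)) * h = h⁻¹ * x * h * v k := by group
      have e2 : h⁻¹ * (h * v k * h⁻¹ * x) * h = v k * (h⁻¹ * x * h) := by group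
      simp only [e1, e2] at h2
      exact h2
  have hS : Syl (MulAut.conj h • T) (CC v (k + 1)) := by
    rw [← hCh]
    refine ⟨conj_le_iff.2 (D.T_le_C k), D.T_isPGroup.map _, fun Q hQ hQ2 hTQ => ?_⟩
    have h1 : MulAut.conj h⁻¹ • Q ≤ CC v k := by
      have := conj_le_iff (g := h⁻¹) |>.2 hQ
      rwa [conj_conj, inv_mul_cancel, map_one, one_smul] at this
    have h2 : T ≤ MulAut.conj h⁻¹ • Q := by
      have := conj_le_iff (g := h⁻¹) |>.2 hTQ
      rwa [conj_conj, inv_mul_cancel, map_one, one_smul] at this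
    have h3 := (D.syl k).2.2 _ h1 (hQ2.map _) h2
    rw [← h3, conj_conj, mul_inv_cancel, map_one, one_smul]
  obtain ⟨q, hq, hqT⟩ := syl_conj hS (D.syl (k + 1))
  have hqT' : MulAut.conj (q * h) • T = T := by
    rw [← conj_conj]
    exact hqT
  have hN : q * h ∈ normalizer (T : Set G) := ChoiceBase.mem_normalizer_iff_cj.2 hqT'
  have hnz := normalizer_le_normalizer_zc _ hN
  have h1 : q * h * v k * (q * h)⁻¹ = v (k + 1) := by
    have e : q * h * v k * (q * h)⁻¹ = q * (h * v k * h⁻¹) * q⁻¹ := by group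
    rw [e, hh]
    exact D.conj_v _ hq
  have h2 : q * h * v (k + 1) * (q * h)⁻¹ = v k := by
    have h3 : q * h * v (k + 1) * (q * h)⁻¹ ∈ zc T := (mem_normalizer_iff.1 hnz _).1 (D.v_mem_zc _)
    have h4 : q * h * v (k + 1) * (q * h)⁻¹ ≠ 1 := fun h => D.ne _ (conj_eq_one_iff.1 h)
    have h5 : q * h * v (k + 1) * (q * h)⁻¹ ≠ v (k + 1) := by
      intro h6
      rw [← h1] at h6
      have h7 := congrArg (fun t => (q * h)⁻¹ * t * (q * h)) h6
      have e1 : (q * h)⁻¹ * (q * h * (q * h * v k * (q * h)⁻¹) * (q * h)⁻¹) * (q * h) = q * h * v k * (q * h)⁻¹ := by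
        group
      have e2 : (q * h)⁻¹ * (q * h * v k * (q * h)⁻¹) * (q * h) = v k := by group
      simp only [e1, e2] at h7
      rw [h1] at h7
      exact D.v_ne_v (ne_add_one k) h7.symm
    have h6 : q * h * v (k + 1) * (q * h)⁻¹ ≠ v 0 * v 1 := by
      intro h7
      apply hz (k + 1) (q * h)⁻¹
      rw [← h7]; group
    rcases (D.zT _).1 h3 with h | h | h | h
    · exact absurd h h4
    · rcases Fin.exists_fin_two.1 ⟨k, rfl⟩ with hk | hk
      · rw [h, hk]
      · have e : v (k + 1) = v 0 := by rw [hk]; rfl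
        exact absurd (h.trans e.symm) h5
    · rcases Fin.exists_fin_two.1 ⟨k, rfl⟩ with hk | hk
      · have e : v (k + 1) = v 1 := by rw [hk]; rfl
        exact absurd (h.trans e.symm) h5
      · rw [h, hk]
    · exact absurd h h6
  refine ⟨q, hq, le_antisymm (D.conj_N_le h1 h2) ?_, ?_⟩
  · -- `N_(k+1) ≤ N_k^s`
    have h3 : (q * h)⁻¹ * v (k + 1) * (q * h)⁻¹⁻¹ = v (k + 1 + 1) := by
      rw [add_one_add_one, ← h1]; group
    have h4 : (q * h)⁻¹ * v (k + 1 + 1) * (q * h)⁻¹⁻¹ = v (k + 1) := by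
      rw [add_one_add_one, ← h2]; group
    have h5 := D.conj_N_le h3 h4
    rw [add_one_add_one] at h5
    have h6 := conj_le_iff (g := q * h) |>.2 h5
    rwa [conj_conj, mul_inv_cancel, map_one, one_smul] at h6
  · apply le_antisymm
    · have h3 : q * h * v (k + 1) * (q * h)⁻¹ = v (k + 1 + 1) := by rw [add_one_add_one, h2]
      have h4 : q * h * v (k + 1 + 1) * (q * h)⁻¹ = v (k + 1) := by rw [add_one_add_one, h1]
      have h5 := D.conj_N_le h3 h4
      rwa [add_one_add_one] at h5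
    · have h3 : (q * h)⁻¹ * v k * (q * h)⁻¹⁻¹ = v (k + 1) := by rw [← h2]; group
      have h4 : (q * h)⁻¹ * v (k + 1) * (q * h)⁻¹⁻¹ = v k := by rw [← h1]; group
      have h5 := D.conj_N_le h3 h4
      have h6 := conj_le_iff (g := q * h) |>.2 h5
      rwa [conj_conj, mul_inv_cancel, map_one, one_smul] at h6

/-- `N` depends only on the element of the vertex -/
theorem N_congr (hz : ∀ (j : Fin 2) (g : G), g * (v 0 * v 1) * g⁻¹ ≠ v j) {i j : Fin 2} {x y : G}
    (h : x * v i * x⁻¹ = y * v j * y⁻¹) : MulAut.conj x • NU V v i = MulAut.conj y • NU V v j := by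
  rcases eq_or_ne i j with hij | hij
  · subst hij
    have h1 : y⁻¹ * x ∈ CC v i := by
      rw [CC, mem_centralizer_singleton_iff]
      calc y⁻¹ * x * v i = y⁻¹ * (x * v i * x⁻¹) * x := by group
        _ = v i * (y⁻¹ * x) := by rw [h]; group
    exact conj_congr (D.C_le_N_N i) h1
  · have hj := eq_add_one hij
    subst hj
    have hh : y⁻¹ * x * v i * (y⁻¹ * x)⁻¹ = v (i + 1) := by
      have e : y⁻¹ * x * v i * (y⁻¹ * x)⁻¹ = y⁻¹ * (x * v i * x⁻¹) * y := by group
      rw [e, h]; group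
    obtain ⟨q, hq, h1, -⟩ := D.swap hz hh
    have h2 := conj_eq_of_mem (D.C_le_N_N (i + 1) (inv_mem hq))
    rw [← h2, ← h1, conj_conj, conj_conj]
    congr 2
    group

theorem comm_N {n : ℕ} (hC : Comm (CC v) (EU T v) (n + 1)) {m : ℕ} (hm : m ≤ n) {i j : Fin 2} {x y : G}
    (h : Near (CC v) m (i, x) (j, y)) :
    MulAut.conj x • NU V v i ≤ centralizer ((MulAut.conj y • NU V v j : Subgroup G) : Set G) :=
  comm_mono (hC m (Nat.lt_succ_of_le hm) _ _ h) (conj_le_iff.2 (D.N_le_E i)) (conj_le_iff.2 (D.N_le_E j))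

/-- vertices with a common neighbour -/
theorem pt (hz : ∀ (j : Fin 2) (g : G), g * (v 0 * v 1) * g⁻¹ ≠ v j) {n : ℕ} (hn : 2 ≤ n)
    (hC : Comm (CC v) (EU T v) (n + 1)) {k i : Fin 2} {x y : G}
    (h : x * v (k + 1) * x⁻¹ = y * v (i + 1) * y⁻¹) :
    MulAut.conj x • NU V v k ≤ centralizer ((MulAut.conj y • NU V v i : Subgroup G) : Set G) := by
  rcases eq_or_ne k i with hki | hki
  · subst hki
    have h1 : x⁻¹ * y ∈ CC v (k + 1) := by
      rw [CC, mem_centralizer_singleton_iff]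
      calc x⁻¹ * y * v (k + 1) = x⁻¹ * (y * v (k + 1) * y⁻¹) * y := by group
        _ = v (k + 1) * (x⁻¹ * y) := by rw [← h]; group
    exact D.comm_N hC hn (near_two h1)
  · have hi := eq_add_one hki
    subst hi
    rw [add_one_add_one] at h
    have hh : x⁻¹ * y * v k * (x⁻¹ * y)⁻¹ = v (k + 1) := by
      have e : x⁻¹ * y * v k * (x⁻¹ * y)⁻¹ = x⁻¹ * (y * v k * y⁻¹) * x := by group
      rw [e, ← h]; group
    obtain ⟨q, hq, -, h1⟩ := D.swap hz hh
    have h2 : MulAut.conj y • NU V v (k + 1) = MulAut.conj (x * q⁻¹) • NU V v k := by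
      rw [← h1, conj_conj]
      congr 2
      group
    rw [h2]
    refine D.comm_N hC hn (near_two (l := k + 1) ?_)
    rw [inv_mul_cancel_left]
    exact inv_mem hq

/-- **LEMMA P**: a critical pair with representatives -/
theorem crit2 :
    ∃ n, Comm (CC v) (EU T v) (n + 1) ∧
      (∀ m ≤ n, ∀ a c : Fin 2 × G, Near (CC v) m a c → vx (EU T v) a ≤ vx (QQ v) c) ∧
      ∃ (i j : Fin 2) (g : G), Near (CC v) n (i, g) (j + 1, 1) ∧ Near (CC v) n (i + 1, g) (j, 1) ∧
        ¬ MulAut.conj g • NU V v i ≤ centralizer (NU V v j : Set G) := by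
  obtain ⟨n, h1, h2, i, j, g, -, h4, -, -, h5⟩ := D.crit
  refine ⟨n, h1, h2, ?_⟩
  have hne : ¬ Near (CC v) n (i, g) (j, 1) := by
    intro h
    have := D.comm_N h1 le_rfl h
    rw [map_one, one_smul] at this
    exact h5 this
  obtain ⟨e, he, x, hx, hx'⟩ := h4
  have h4' : Near (CC v) (n + 1) (j, 1) (i, g) := NO3L.LemP.Near.symm ⟨e, he, x, hx, hx'⟩
  have hej : e.1 = j + 1 := by
    refine eq_add_one fun h => hne (near_same_right he ?_)
    exact NO3L.LemP.Adj.same ⟨x, hx, hx'⟩ h.symm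
  obtain ⟨f, hf, y, hy, hy'⟩ := h4'
  have hfi : f.1 = i + 1 := by
    refine eq_add_one fun h => hne (near_same_right hf ?_).symm
    exact NO3L.LemP.Adj.same ⟨y, hy, hy'⟩ h.symm
  -- representatives
  have s1 : Same (CC v) e (j + 1, x) := ⟨hej, hx⟩
  have s2 : Same (CC v) (j, 1) (j, x) := ⟨rfl, hx'⟩
  have s3 : Same (CC v) f (i + 1, y) := ⟨hfi, hy⟩
  have s4 : Same (CC v) (i, g) (i, y) := ⟨rfl, hy'⟩
  have n1 : Near (CC v) n (i, y) (j + 1, x) := near_same_left (near_same_right he s1) s4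
  have n2 : Near (CC v) n (i + 1, y) (j, x) := (near_same_left (near_same_right hf s3) s2).symm
  have n1' := n1.smul x⁻¹
  have n2' := n2.smul x⁻¹
  simp only [inv_mul_cancel] at n1' n2'
  refine ⟨i, j, x⁻¹ * y, n1', n2', fun h => h5 ?_⟩
  have h6 := conj_le_centralizer (g := x) h
  rw [conj_conj, mul_inv_cancel_left] at h6
  have e1 : MulAut.conj y • NU V v i = MulAut.conj g • NU V v i := by
    have h7 : g⁻¹ * y ∈ CC v i := hy'
    exact conj_congr (D.C_le_N_N i) h7
  have e2 : MulAut.conj x • NU V v j = NU V v j := by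
    have h7 : (1 : G)⁻¹ * x ∈ CC v j := hx'
    rw [inv_one, one_mul] at h7
    exact conj_eq_of_mem (D.C_le_N_N j h7)
  rwa [e1, e2] at h6

/-- LEMMA TC in commutator form -/
theorem tc' (htc : TCp T V v) {i : Fin 2} {t b : G} (ht : t ∈ o2 (centralizer (zc T : Set G))) (hb : b * b = 1)
    (h : ∀ n ∈ NU V v i, n * t * n⁻¹ * t⁻¹ ∈ zpowers b) (hne : t ∉ centralizer (NU V v i : Set G)) :
    b = v (i + 1) ∨ (v i ∈ NU V v i ∧ b = v (i + 1) * v i) := by
  refine htc i t b ht (fun n hn => ?_) fun hc => hne ?_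
  · have h1 := h n⁻¹ (inv_mem hn)
    have h2 : n⁻¹ * t * n⁻¹⁻¹ * t⁻¹ = 1 ∨ n⁻¹ * t * n⁻¹⁻¹ * t⁻¹ = b := by
      obtain ⟨k, hk⟩ := mem_zpowers_iff.1 h1
      have h3 : b ^ (2 : ℤ) = 1 := by rw [zpow_two]; exact hb
      rcases Int.even_or_odd k with he | ho
      · obtain ⟨l, hl⟩ := he
        left
        rw [← hk, hl, ← two_mul, zpow_mul, h3, one_zpow]
      · obtain ⟨l, hl⟩ := ho
        right
        rw [← hk, hl, zpow_add, zpow_mul, zpow_one, h3, one_zpow, one_mul]
    have e : t * n * t⁻¹ = n * (n⁻¹ * t * n⁻¹⁻¹ * t⁻¹) := by group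
    rcases h2 with h2 | h2
    · left; rw [e, h2, mul_one]
    · right; rw [e, h2]
  · rw [mem_centralizer_iff]
    intro n hn
    have h1 := hc n hn
    calc n * t = t * n * t⁻¹ * t := by rw [h1]
      _ = t * n := by group

/-- (3.4), distance `≤ n - 1` -/
theorem W_le {n : ℕ} (hC : Comm (CC v) (EU T v) (n + 1)) (j : Fin 2) :
    ∀ m, m + 1 ≤ n → ∀ c : Fin 2 × G, Near (CC v) m (j, 1) c → WU V v j ≤ vx (QQ v) c := by
  have hR : ∀ i, CC v i ≤ normalizer (QQ v i : Set G) := fun i => le_normalizer_o2 _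
  intro m
  induction m with
  | zero =>
    intro _ c hc
    have h1 : vx (QQ v) (j, 1) = vx (QQ v) c := vx_same hR hc
    rw [← h1, vx_mk, map_one, one_smul]
    exact D.W_le_Q j
  | succ m ih =>
    intro hm c hc
    have hc' := hc
    obtain ⟨e, he, x, hx, hx'⟩ := hc
    have h1 := ih (by omega) e he
    rw [vx_eq hR hx] at h1
    rw [vx_eq hR hx']
    -- `W_j` centralises `N_c`
    have h2 : WU V v j ≤ centralizer ((MulAut.conj x • NU V v c.1 : Subgroup G) : Set G) := by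
      refine V_le fun c' hc'' => ?_
      have h3 : MulAut.conj c' • V j ≤ MulAut.conj c' • NU V v (j + 1) := by
        have h4 := D.V_le_N (j + 1)
        rw [add_one_add_one] at h4
        exact conj_le_iff.2 h4
      refine h3.trans ?_
      refine D.comm_N hC (m := m + 2) (by omega) ?_
      have h5 : Near (CC v) 1 (j + 1, c') (j, 1) := by
        refine ⟨(j + 1, c'), Same.refl _, c', ?_, ?_⟩
        · simp
        · simpa using hc''
      have h6 : Near (CC v) (m + 1) (j, 1) (c.1, x) := near_same_right hc' ⟨rfl, hx'⟩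
      -- concatenation
      exact NO3L.LemP.Near.cons (by
        refine ⟨c', ?_, ?_⟩
        · simp
        · simpa using hc'') h6
    have h3 : WU V v j ≤ MulAut.conj x • (o2 (centralizer (zc T : Set G)) ⊓ centralizer (NU V v c.1 : Set G)) := by
      intro w hw
      rw [mem_conj]
      refine mem_inf.2 ⟨D.Q_le_o2D e.1 ?_, ?_⟩
      · have := h1 hw
        rwa [mem_conj] at this
      · have h4 := h2 hw
        rw [mem_centralizer_iff] at h4 ⊢
        intro y hy
        have h5 : x * y * x⁻¹ ∈ MulAut.conj x • NU V v c.1 := by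
          rw [mem_conj]
          have e : x⁻¹ * (x * y * x⁻¹) * x = y := by group
          rwa [e]
        have h6 := h4 _ h5
        have h7 := congrArg (fun t => x⁻¹ * t * x) h6
        have e1 : x⁻¹ * (x * y * x⁻¹ * w) * x = y * (x⁻¹ * w * x) := by group
        have e2 : x⁻¹ * (w * (x * y * x⁻¹)) * x = x⁻¹ * w * x * y := by group
        simp only [e1, e2] at h7
        exact h7
    exact h3.trans (conj_le_iff.2 (D.f3 c.1))

/-- (3.4), the last step (COROLLARY 1 of #20268) -/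
theorem W_le_last (htc : TCp T V v) (hz : ∀ (j : Fin 2) (g : G), g * (v 0 * v 1) * g⁻¹ ≠ v j) {n : ℕ} (hn : 2 ≤ n)
    (hC : Comm (CC v) (EU T v) (n + 1))
    (h2 : ∀ m ≤ n, ∀ a c : Fin 2 × G, Near (CC v) m a c → vx (EU T v) a ≤ vx (QQ v) c) {i j : Fin 2} {g : G}
    (hN : Near (CC v) n (i + 1, g) (j, 1)) (hne : ¬ MulAut.conj g • NU V v i ≤ centralizer (NU V v j : Set G)) :
    WU V v j ≤ MulAut.conj g • QQ v (i + 1) := by
  have hR : ∀ i, CC v i ≤ normalizer (QQ v i : Set G) := fun i => le_normalizer_o2 _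
  obtain ⟨m, rfl⟩ : ∃ m, n = m + 1 := ⟨n - 1, by omega⟩
  obtain ⟨e, he, x, hx, hx'⟩ := hN.symm
  have h1 := D.W_le hC j m le_rfl e he
  rw [vx_eq hR hx] at h1
  have hx2 : g⁻¹ * x ∈ CC v (i + 1) := hx'
  -- `Q_c = Q_(i+1)^x`
  have h3 : MulAut.conj g • QQ v (i + 1) = MulAut.conj x • QQ v (i + 1) := (conj_congr (hR (i + 1)) hx2).symm
  rw [h3]
  suffices h4 : WU V v j ≤ centralizer ((MulAut.conj x • NU V v (i + 1) : Subgroup G) : Set G) by
    have h5 : WU V v j ≤ MulAut.conj x • (o2 (centralizer (zc T : Set G)) ⊓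
        centralizer (NU V v (i + 1) : Set G)) := by
      intro w hw
      rw [mem_conj]
      refine mem_inf.2 ⟨D.Q_le_o2D e.1 ?_, ?_⟩
      · have := h1 hw
        rwa [mem_conj] at this
      · have h4 := h4 hw
        rw [mem_centralizer_iff] at h4 ⊢
        intro y hy
        have h5 : x * y * x⁻¹ ∈ MulAut.conj x • NU V v (i + 1) := by
          rw [mem_conj]
          have e : x⁻¹ * (x * y * x⁻¹) * x = y := by group
          rwa [e]
        have h6 := h4 _ h5
        have h7 := congrArg (fun t => x⁻¹ * t * x) h6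
        have e1 : x⁻¹ * (x * y * x⁻¹ * w) * x = y * (x⁻¹ * w * x) := by group
        have e2 : x⁻¹ * (w * (x * y * x⁻¹)) * x = x⁻¹ * w * x * y := by group
        simp only [e1, e2] at h7
        exact h7
    exact h5.trans (conj_le_iff.2 (D.f3 (i + 1)))
  by_contra hcon
  obtain ⟨w, hw, hwc⟩ := SetLike.not_le_iff_exists.1 hcon
  -- `[w, N_c] ≤ ⟨v j⟩`
  have h4 : MulAut.conj x • NU V v (i + 1) ≤ QQ v j := by
    have h5 : Near (CC v) (m + 1) (i + 1, x) (j, 1) := near_same_left hN ⟨rfl, hx2⟩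
    have h6 := h2 (m + 1) le_rfl _ _ h5
    rw [vx_mk, vx_mk, map_one, one_smul] at h6
    exact (conj_le_iff.2 (D.N_le_E (i + 1))).trans h6
  have ht : x⁻¹ * w * x ∈ o2 (centralizer (zc T : Set G)) := by
    apply D.Q_le_o2D e.1
    have := h1 hw
    rwa [mem_conj] at this
  have hb : x⁻¹ * v j * x * (x⁻¹ * v j * x) = 1 := by
    have e : x⁻¹ * v j * x * (x⁻¹ * v j * x) = x⁻¹ * (v j * v j) * x := by group
    rw [e, D.v_sq]; group
  have h5 : ∀ y ∈ NU V v (i + 1), y * (x⁻¹ * w * x) * y⁻¹ * (x⁻¹ * w * x)⁻¹ ∈ zpowers (x⁻¹ * v j * x) := by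
    intro y hy
    have h6 : x * y * x⁻¹ ∈ QQ v j := by
      apply h4
      rw [mem_conj]
      have e : x⁻¹ * (x * y * x⁻¹) * x = y := by group
      rwa [e]
    have h7 := D.comm_W_Q j w hw _ h6
    have h8 : y * (x⁻¹ * w * x) * y⁻¹ * (x⁻¹ * w * x)⁻¹ =
        x⁻¹ * (w * (x * y * x⁻¹) * w⁻¹ * (x * y * x⁻¹)⁻¹)⁻¹ * x := by group
    rw [h8]
    rcases D.mem_zpv h7 with h | h
    · rw [h]; simp
    · rw [h]
      have e : x⁻¹ * (v j)⁻¹ * x = (x⁻¹ * v j * x)⁻¹ := by group
      rw [e]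
      exact inv_mem (mem_zpowers _)
  have h6 : x⁻¹ * w * x ∉ centralizer (NU V v (i + 1) : Set G) := by
    intro h7
    apply hwc
    rw [mem_centralizer_iff] at h7 ⊢
    intro y hy
    rw [SetLike.mem_coe, mem_conj] at hy
    have h8 := h7 _ hy
    have h9 := congrArg (fun t => x * t * x⁻¹) h8
    have e1 : x * (x⁻¹ * y * x * (x⁻¹ * w * x)) * x⁻¹ = y * w := by group
    have e2 : x * (x⁻¹ * w * x * (x⁻¹ * y * x)) * x⁻¹ = w * y := by group
    simp only [e1, e2] at h9
    exact h9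
  rcases D.tc' htc ht hb h5 h6 with h7 | ⟨-, h7⟩
  · -- `v j = v_i^x`
    rw [add_one_add_one] at h7
    have h8 : x * v i * x⁻¹ = 1 * v j * 1⁻¹ := by rw [← h7]; group
    have h9 := D.N_congr hz h8
    rw [map_one, one_smul] at h9
    apply hne
    rw [← h9]
    exact D.comm_N hC hn (near_two hx2)
  · apply hz j x
    have h8 : v 0 * v 1 = v (i + 1 + 1) * v (i + 1) := D.v_mul_v _
    rw [h8, ← h7]
    group

omit D in
theorem mem_zp_of_sq {r x : G} (hr : r * r = 1) (hx : x ∈ zpowers r) : x = 1 ∨ x = r := by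
  obtain ⟨k, hk⟩ := mem_zpowers_iff.1 hx
  have h3 : r ^ (2 : ℤ) = 1 := by rw [zpow_two]; exact hr
  rcases Int.even_or_odd k with he | ho
  · obtain ⟨l, hl⟩ := he
    left
    rw [← hk, hl, ← two_mul, zpow_mul, h3, one_zpow]
  · obtain ⟨l, hl⟩ := ho
    right
    rw [← hk, hl, zpow_add, zpow_mul, zpow_one, h3, one_zpow, one_mul]

/-- the two sides of a critical pair with `|[N_a, N_b]| = 2`: LEMMA TC on side `b` -/
theorem tc_b (htc : TCp T V v) {j : Fin 2} {X : Subgroup G} {r : G} (hr2 : r * r = 1)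
    (hX : X ≤ QQ v (j + 1)) (hr : ∀ x ∈ X, ∀ y ∈ NU V v j, x * y * x⁻¹ * y⁻¹ ∈ zpowers r)
    (hne : ¬ X ≤ centralizer (NU V v j : Set G)) :
    r = v (j + 1) ∨ (v j ∈ NU V v j ∧ r = v (j + 1) * v j) := by
  obtain ⟨x, hx, hxc⟩ := SetLike.not_le_iff_exists.1 hne
  refine D.tc' htc (D.Q_le_o2D _ (hX hx)) hr2 (fun n hn => ?_) hxc
  have h1 := inv_mem (hr x hx n hn)
  have e : (x * n * x⁻¹ * n⁻¹)⁻¹ = n * x * n⁻¹ * x⁻¹ := by group
  rwa [e] at h1

/-- LEMMA TC on side `a` -/
theorem tc_a (htc : TCp T V v) {i : Fin 2} {Y : Subgroup G} {g r : G} (hr2 : r * r = 1)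
    (hY : Y ≤ MulAut.conj g • QQ v (i + 1))
    (hr : ∀ x ∈ MulAut.conj g • NU V v i, ∀ y ∈ Y, x * y * x⁻¹ * y⁻¹ ∈ zpowers r)
    (hne : ¬ MulAut.conj g • NU V v i ≤ centralizer (Y : Set G)) :
    r = g * v (i + 1) * g⁻¹ ∨ (v i ∈ NU V v i ∧ r = g * (v (i + 1) * v i) * g⁻¹) := by
  have h1 : MulAut.conj g⁻¹ • Y ≤ QQ v (i + 1) := by
    have := conj_le_iff (g := g⁻¹) |>.2 hY
    rwa [conj_conj, inv_mul_cancel, map_one, one_smul] at this
  have h2 : g⁻¹ * r * g * (g⁻¹ * r * g) = 1 := by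
    have e : g⁻¹ * r * g * (g⁻¹ * r * g) = g⁻¹ * (r * r) * g := by group
    rw [e, hr2]; group
  have h3 := D.tc_b htc (j := i) (X := MulAut.conj g⁻¹ • Y) (r := g⁻¹ * r * g) h2 h1 (fun y hy x hx => ?_) fun h => ?_
  · rcases h3 with h3 | ⟨h3, h4⟩
    · left; rw [← h3]; group
    · right
      refine ⟨h3, ?_⟩
      rw [← h4]; group
  · rw [mem_conj, inv_inv] at hy
    have h4 : g * x * g⁻¹ ∈ MulAut.conj g • NU V v i := by
      rw [mem_conj]
      have e : g⁻¹ * (g * x * g⁻¹) * g = x := by group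
      rwa [e]
    have h5 := inv_mem (hr _ h4 _ hy)
    have e : (g * x * g⁻¹ * (g * y * g⁻¹) * (g * x * g⁻¹)⁻¹ * (g * y * g⁻¹)⁻¹)⁻¹ =
      g * (y * x * y⁻¹ * x⁻¹) * g⁻¹ := by group
    rw [e] at h5
    rcases mem_zp_of_sq hr2 h5 with h6 | h6
    · have h7 : y * x * y⁻¹ * x⁻¹ = 1 := conj_eq_one_iff.1 h6
      rw [h7]; exact one_mem _
    · have h7 : y * x * y⁻¹ * x⁻¹ = g⁻¹ * r * g := by rw [← h6]; group
      rw [h7]; exact mem_zpowers _
  · apply hne
    have h4 := conj_le_centralizer (g := g) h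
    rw [conj_conj, mul_inv_cancel, map_one, one_smul] at h4
    exact comm_symm h4

/-- **THEOREM D**: a critical pair at distance `n + 1 ≥ 3` does not have `|[N_a, N_b]| = 2`. -/
theorem thmD (htc : TCp T V v) (hsec : Sec0 T V v) (hz : ∀ (j : Fin 2) (g : G), g * (v 0 * v 1) * g⁻¹ ≠ v j)
    {n : ℕ} (hn : 2 ≤ n) (hC : Comm (CC v) (EU T v) (n + 1)) {i j : Fin 2} {g : G}
    (hN1 : Near (CC v) n (i, g) (j + 1, 1)) (hN2 : Near (CC v) n (i + 1, g) (j, 1))
    (hne : ¬ MulAut.conj g • NU V v i ≤ centralizer (NU V v j : Set G)) {r : G} (hr2 : r * r = 1)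
    (hr : ∀ x ∈ MulAut.conj g • NU V v i, ∀ y ∈ NU V v j, x * y * x⁻¹ * y⁻¹ ∈ zpowers r) : False := by
  have h2 := D.data.le_R hC
  have h2' : ∀ m ≤ n, ∀ a c : Fin 2 × G, Near (CC v) m a c → vx (EU T v) a ≤ vx (QQ v) c := fun m hm =>
    h2 m (Nat.lt_succ_of_le hm)
  have hQ1 : MulAut.conj g • NU V v i ≤ QQ v (j + 1) := by
    have h3 := h2' n le_rfl _ _ hN1
    rw [vx_mk, vx_mk, map_one, one_smul] at h3
    exact (conj_le_iff.2 (D.N_le_E i)).trans h3
  have hQ2 : NU V v j ≤ MulAut.conj g • QQ v (i + 1) := by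
    have h3 := h2' n le_rfl _ _ hN2.symm
    rw [vx_mk, vx_mk, map_one, one_smul] at h3
    exact (D.N_le_E j).trans h3
  have hb := D.tc_b htc hr2 hQ1 hr hne
  have ha := D.tc_a htc hr2 hQ2 hr hne
  have hzb : r = v (j + 1) * v j ∧ v j ∈ NU V v j ∧ r = g * (v (i + 1) * v i) * g⁻¹ ∧ v i ∈ NU V v i := by
    rcases hb with hb | ⟨hb1, hb⟩
    · rcases ha with ha | ⟨ha1, ha⟩
      · exfalso
        apply hne
        have h3 := D.pt hz hn hC (k := i) (i := j) (x := g) (y := 1) (by rw [← ha, hb]; group)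
        rwa [map_one, one_smul] at h3
      · exfalso
        apply hz (j + 1) g
        rw [D.v_mul_v i, ← ha, hb]
    · rcases ha with ha | ⟨ha1, ha⟩
      · exfalso
        apply hz (i + 1) g⁻¹
        rw [D.v_mul_v j, ← hb, ha]; group
      · exact ⟨hb, hb1, ha, ha1⟩
  obtain ⟨hb, hb1, ha, ha1⟩ := hzb
  -- section 0 on both sides
  have Sb : SpF T V v j r := by
    obtain ⟨x, hx, hxc⟩ := SetLike.not_le_iff_exists.1 hne
    rcases hsec j r (Or.inr hb) x ((hQ1.trans ((D.Q_le_T _).trans (D.T_le_C j))) hx) hxc (fun m hm => by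
      have h1 := inv_mem (hr x hx m hm)
      have e : (x * m * x⁻¹ * m⁻¹)⁻¹ = m * x * m⁻¹ * x⁻¹ := by group
      rwa [e] at h1) with h | h
    · exact absurd hb1 h.2
    · exact h.1
  have Sa : SpF T V v i (v (i + 1) * v i) := by
    have hne' : ¬ NU V v j ≤ centralizer ((MulAut.conj g • NU V v i : Subgroup G) : Set G) := fun h =>
      hne (comm_symm h)
    obtain ⟨y, hy, hyc⟩ := SetLike.not_le_iff_exists.1 hne'
    have hyg : g⁻¹ * y * g ∈ QQ v (i + 1) := by
      have := hQ2 hy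
      rwa [mem_conj] at this
    have h5 : ∀ x ∈ NU V v i, x * (g⁻¹ * y * g) * x⁻¹ * (g⁻¹ * y * g)⁻¹ ∈ zpowers (v (i + 1) * v i) := by
      intro x hx
      have h4 : g * x * g⁻¹ ∈ MulAut.conj g • NU V v i := by
        rw [mem_conj]
        have e : g⁻¹ * (g * x * g⁻¹) * g = x := by group
        rwa [e]
      have h5 := hr _ h4 y hy
      have e : g * x * g⁻¹ * y * (g * x * g⁻¹)⁻¹ * y⁻¹ = g * (x * (g⁻¹ * y * g) * x⁻¹ * (g⁻¹ * y * g)⁻¹) * g⁻¹ := by
        group
      rw [e] at h5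
      rcases mem_zp_of_sq hr2 h5 with h6 | h6
      · rw [conj_eq_one_iff.1 h6]; exact one_mem _
      · have h7 : x * (g⁻¹ * y * g) * x⁻¹ * (g⁻¹ * y * g)⁻¹ = v (i + 1) * v i := by
          rw [ha] at h6
          have h8 := congrArg (fun t => g⁻¹ * t * g) h6
          have e1 : g⁻¹ * (g * (x * (g⁻¹ * y * g) * x⁻¹ * (g⁻¹ * y * g)⁻¹) * g⁻¹) * g =
            x * (g⁻¹ * y * g) * x⁻¹ * (g⁻¹ * y * g)⁻¹ := by group
          have e2 : g⁻¹ * (g * (v (i + 1) * v i) * g⁻¹) * g = v (i + 1) * v i := by group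
          simp only [e1, e2] at h8
          exact h8
        rw [h7]; exact mem_zpowers _
    have h6 : g⁻¹ * y * g ∉ centralizer (NU V v i : Set G) := by
      intro h
      apply hyc
      rw [mem_centralizer_iff] at h ⊢
      intro x hx
      rw [SetLike.mem_coe, mem_conj] at hx
      have h8 := h _ hx
      have h9 := congrArg (fun t => g * t * g⁻¹) h8
      have e1 : g * (g⁻¹ * x * g * (g⁻¹ * y * g)) * g⁻¹ = x * y := by group
      have e2 : g * (g⁻¹ * y * g * (g⁻¹ * x * g)) * g⁻¹ = y * x := by group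
      simp only [e1, e2] at h9
      exact h9
    rcases hsec i _ (Or.inr rfl) (g⁻¹ * y * g) ((D.T_le_C i) (D.Q_le_T _ hyg)) h6 h5 with h | h
    · exact absurd ha1 h.2
    · exact h.1
  -- (3.4)
  have hQT : ∀ l k, QQ v l ≤ CC v k := fun l k => (D.Q_le_T l).trans (D.T_le_C k)
  have hW := D.W_le_last htc hz hn hC h2' hN2 hne
  have hWC : WU V v j ≤ MulAut.conj g • CC v i := hW.trans (conj_le_iff.2 (hQT _ _))
  have hvj1 : v (j + 1) ≠ 1 := D.ne _
  refine D.fin hQ1 (hQ2.trans (conj_le_iff.2 (hQT _ _))) hWC hne Sa Sb ha.symm ?_ ?_ hr ?_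
  · rw [hb]
    exact mul_mem (D.mem_N j) hb1
  · intro h
    rcases mem_zp_of_sq hr2 h with h | h
    · exact D.ne j h
    · apply hvj1
      rw [hb] at h
      simpa using h
  · -- `v j ∉ N_a`
    intro h
    rw [mem_conj] at h
    by_cases h3 : g⁻¹ * v j * g ∈ zpowers (v i)
    · rcases D.mem_zpv h3 with h4 | h4
      · apply D.ne j
        have : v j = g * (g⁻¹ * v j * g) * g⁻¹ := by group
        rw [this, h4]; group
      · have h5 : g * v i * g⁻¹ = 1 * v j * 1⁻¹ := by rw [← h4]; group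
        have h6 := D.N_congr hz h5
        rw [map_one, one_smul] at h6
        apply hne
        rw [h6]
        exact D.N_comm j
    · obtain ⟨c, hc, h4 | h4⟩ := Sa.pts _ h h3
      · -- `v j` is a neighbour of `a`
        have h5 : g * c * v (i + 1) * (g * c)⁻¹ = v j := by
          have e : g * c * v (i + 1) * (g * c)⁻¹ = g * (c * v (i + 1) * c⁻¹) * g⁻¹ := by group
          rw [e, ← h4]; group
        have h6 : NU V v i ≤ QQ v (i + 1) := by
          have h7 := h2' 1 (by omega) (i, 1) (i + 1, 1) (near_adj _ _ _)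
          rw [vx_mk, vx_mk, map_one, one_smul, one_smul] at h7
          exact (D.N_le_E i).trans h7
        have h7 : MulAut.conj (g * c) • QQ v (i + 1) = QQ v j := conj_Q h5
        apply hne
        have h8 : MulAut.conj g • NU V v i = MulAut.conj (g * c) • NU V v i := by
          rw [← conj_conj, conj_eq_of_mem (D.C_le_N_N i hc)]
        rw [h8]
        exact ((conj_le_iff.2 h6).trans h7.le).trans (D.Q_le_cent_N j)
      · apply hz j (g * c)
        rw [D.v_mul_v i]
        have e : g * c * (v (i + 1) * v i) * (g * c)⁻¹ = g * (c * v (i + 1) * c⁻¹ * (c * v i * c⁻¹)) * g⁻¹ := by group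
        rw [e, D.conj_v i hc, ← h4]; group

end Fr

end Cfsg.Agent.Omega.TC
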