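import Cfsg.Agent.Omega.TC.TransAct
import Cfsg.Agent.Omega.TC.ThmD

/-!
# LEMMA TC (bb OMEGA #20268, helper791) in a group

* `trans_group` : `N ≤ G` elementary abelian, normalised by `C`, generated by the `C`-conjugates of `v`, `T` a Sylow
  2-subgroup of `C` centralising `v`; `⟨v, w⟩` a `T`-invariant four-group all of whose involutions are `C`-conjugate;
  `C = R C_C(v)` for every `R ⊴ C` not centralising `N`; `K` a 2-subgroup, `K ⊴ C_C(v)`. If `t ∈ K` induces on `N` a
  transvection with centre `b`, then `b ∈ {v, v r}`, where `C_N(T) ≤ {1, v, r, v r}`, `r` central in `C`;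
* `Fr.tcp` : the frame of CARD #18791: a transvection on `N_i` induced by an element of `O₂(C_0 ∩ C_1)` has
  centre `v (i+1)` or `v (i+1) v i` (the latter only if `v i ∈ N_i`): `TCp` of `ThmD.lean`.
-/

set_option autoImplicit false
set_option linter.unusedSectionVars false

namespace Cfsg.Agent.Omega.TC

open Subgroup Cfsg Cfsg.Agent.ZN Cfsg.Agent.Omega.MinPar
open Cfsg.Agent.ZN.ChoiceSit (Syl syl_iff)
open Cfsg.Agent.Omega.OM.KTwo (CC QQ WU NU EU FF ne_add_one eq_add_one add_one_add_one)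
open Cfsg.Agent.MinSimple.VModule (mem_zc zc_le le_normalizer_o2 o2_le o2_isPGroup)

universe u

section group

variable {G : Type u} [Group G]

/-- **LEMMA TC** in a group. -/
theorem trans_group [Finite G] {C N T : Subgroup G} {v w r : G} (hN : C ≤ normalizer (N : Set G))
    (hab : ∀ x ∈ N, ∀ y ∈ N, x * y = y * x) (hsq : ∀ x ∈ N, x * x = 1) (hT : Syl T C)
    (hrN : r ∈ N) (hr : ∀ c ∈ C, c * r * c⁻¹ = r)
    (hfix : ∀ n ∈ N, (∀ t ∈ T, t * n * t⁻¹ = n) → n = 1 ∨ n = v ∨ n = r ∨ n = v * r)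
    (hvN : v ∈ N) (hv : ∀ t ∈ T, t * v * t⁻¹ = v) (hv1 : v ≠ 1)
    (hwN : w ∈ N) (hVT : ∀ t ∈ T, t * w * t⁻¹ = w ∨ t * w * t⁻¹ = v * w)
    (hw : ∃ c ∈ C, c * v * c⁻¹ = w) (hvw : ∃ c ∈ C, c * v * c⁻¹ = v * w)
    (hgen : ∀ M : Subgroup G, v ∈ M → C ≤ normalizer (M : Set G) → N ≤ M)
    (L0 : ∀ R : Subgroup G, R ≤ C → C ≤ normalizer (R : Set G) → ¬ R ≤ centralizer (N : Set G) →
      ∀ c ∈ C, ∃ x ∈ R, ∃ d ∈ C, d * v * d⁻¹ = v ∧ c = x * d)
    {K : Subgroup G} (hK : IsPGroup 2 K) (hKC : K ≤ C) (hKv : ∀ k ∈ K, k * v * k⁻¹ = v)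
    (hKn : ∀ d ∈ C, d * v * d⁻¹ = v → d ∈ normalizer (K : Set G))
    {t : G} (ht : t ∈ K) (ht1 : ¬ ∀ n ∈ N, t * n * t⁻¹ = n) {b : G} (hb : b ∈ N)
    (htb : ∀ n ∈ N, t * n * t⁻¹ = n ∨ t * n * t⁻¹ = n * b) : b = v ∨ b = v * r := by
  letI cg : CommGroup N :=
    { (inferInstance : Group N) with mul_comm := fun a b => Subtype.ext (hab a a.2 b b.2) }
  letI da : DistribMulAction C (Additive N) :=
    { smul := fun c n => Additive.ofMul ⟨c * (Additive.toMul n : N) * (c : G)⁻¹,
        (mem_normalizer_iff.1 (hN c.2) _).1 (Additive.toMul n : N).2⟩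
      one_smul := fun n => congrArg Additive.ofMul (Subtype.ext (by
        change (1 : G) * (Additive.toMul n : N) * (1 : G)⁻¹ = (Additive.toMul n : N)
        group))
      mul_smul := fun c d n => congrArg Additive.ofMul (Subtype.ext (by
        change ((c : G) * d) * (Additive.toMul n : N) * ((c : G) * d)⁻¹ =
          (c : G) * ((d : G) * (Additive.toMul n : N) * (d : G)⁻¹) * (c : G)⁻¹
        group))
      smul_zero := fun c => congrArg Additive.ofMul (Subtype.ext (by
        change (c : G) * (1 : G) * (c : G)⁻¹ = (1 : G)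
        group))
      smul_add := fun c a b => congrArg Additive.ofMul (Subtype.ext (by
        change (c : G) * ((Additive.toMul a : N) * (Additive.toMul b : N)) * (c : G)⁻¹ =
          ((c : G) * (Additive.toMul a : N) * (c : G)⁻¹) * ((c : G) * (Additive.toMul b : N) * (c : G)⁻¹)
        group)) }
  have hsm : ∀ (c : C) (n : Additive N), ((Additive.toMul (c • n) : N) : G) =
      (c : G) * ((Additive.toMul n : N) : G) * (c : G)⁻¹ := fun c n => rfl
  have hadd : ∀ (n m : Additive N), ((Additive.toMul (n + m) : N) : G) =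
      ((Additive.toMul n : N) : G) * ((Additive.toMul m : N) : G) := fun c n => rfl
  have hzero : ((Additive.toMul (0 : Additive N) : N) : G) = 1 := rfl
  have hext : ∀ n m : Additive N, ((Additive.toMul n : N) : G) = ((Additive.toMul m : N) : G) → n = m :=
    fun n m h => congrArg Additive.ofMul (Subtype.ext h)
  obtain ⟨S, hS⟩ := syl_iff.1 hT
  have hSm : ∀ x : C, x ∈ (S : Subgroup C) ↔ (x : G) ∈ T := by
    intro x
    rw [← hS]
    exact ⟨fun h => ⟨x, h, rfl⟩, fun ⟨y, hy, e⟩ => Subtype.ext e ▸ hy⟩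
  have mk : ∀ {x : G} (hx : x ∈ N), ((Additive.toMul (Additive.ofMul (⟨x, hx⟩ : N)) : N) : G) = x :=
    fun hx => rfl
  have main := Trans.trans_act (C := C) (M := Additive N) (fun n => hext _ _ ?_) S
    (v := Additive.ofMul ⟨v, hvN⟩) (w := Additive.ofMul ⟨w, hwN⟩) (r := Additive.ofMul ⟨r, hrN⟩)
    (fun x => hext _ _ ?_) (fun n hn => ?_) (fun t ht => hext _ _ ?_) (fun h => ?_) (fun t ht => ?_)
    ?_ ?_ ?_ (fun R hR hR1 c => ?_) (K := K.subgroupOf C) (t := ⟨t, hKC ht⟩) ?_ ⟨?_, ?_⟩ ?_ ?_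
    (b := Additive.ofMul ⟨b, hb⟩) (fun n => ?_)
  · -- conclusion
    rcases main with h | h
    · left
      exact congrArg (fun n => ((Additive.toMul n : N) : G)) h
    · right
      exact congrArg (fun n => ((Additive.toMul n : N) : G)) h
  · -- exponent 2
    rw [hadd, hzero]
    exact hsq _ (Additive.toMul n : N).2
  · exact hr x x.2
  · -- `C_N(T)`
    have h1 := hfix _ (Additive.toMul n : N).2 (fun t ht => by
      have h2 := congrArg (fun n => ((Additive.toMul n : N) : G)) (hn ⟨t, hT.1 ht⟩ ((hSm _).2 ht))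
      exact h2)
    rcases h1 with h | h | h | h
    · exact Or.inl (hext _ _ h)
    · exact Or.inr (Or.inl (hext _ _ h))
    · exact Or.inr (Or.inr (Or.inl (hext _ _ h)))
    · exact Or.inr (Or.inr (Or.inr (hext _ _ h)))
  · exact hv t ((hSm _).1 ht)
  · exact hv1 (congrArg (fun n => ((Additive.toMul n : N) : G)) h)
  · rcases hVT t ((hSm _).1 ht) with h | h
    · exact Or.inl (hext _ _ h)
    · exact Or.inr (hext _ _ h)
  · obtain ⟨c, hc, h⟩ := hw
    exact ⟨⟨c, hc⟩, hext _ _ h⟩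
  · obtain ⟨c, hc, h⟩ := hvw
    exact ⟨⟨c, hc⟩, hext _ _ h⟩
  · -- generation
    set A : AddSubgroup (Additive N) := AddSubgroup.closure (MulAction.orbit C (Additive.ofMul (⟨v, hvN⟩ : N)))
      with hA
    have hinv : ∀ (c : C) (n : Additive N), n ∈ A → c • n ∈ A := by
      intro c n hn
      rw [hA] at hn
      induction hn using AddSubgroup.closure_induction with
      | mem q hq =>
        obtain ⟨x, rfl⟩ := hq
        exact AddSubgroup.subset_closure ⟨c * x, mul_smul _ _ _⟩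
      | zero => rw [smul_zero]; exact A.zero_mem
      | add n m _ _ hn hm => rw [smul_add]; exact A.add_mem hn hm
      | neg n _ hn => rw [smul_neg]; exact A.neg_mem hn
    let B : Subgroup G :=
      { carrier := {x | ∃ hx : x ∈ N, Additive.ofMul (⟨x, hx⟩ : N) ∈ A}
        one_mem' := ⟨one_mem N, A.zero_mem⟩
        mul_mem' := by
          rintro a b ⟨ha, ha'⟩ ⟨hb, hb'⟩
          exact ⟨mul_mem ha hb, A.add_mem ha' hb'⟩
        inv_mem' := by
          rintro a ⟨ha, ha'⟩
          exact ⟨inv_mem ha, A.neg_mem ha'⟩ }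
    have hB : N ≤ B := by
      refine hgen B ⟨hvN, AddSubgroup.subset_closure (MulAction.mem_orbit_self _)⟩ ?_
      intro c hc
      have key : ∀ c ∈ C, ∀ x ∈ B, c * x * c⁻¹ ∈ B := by
        rintro c hc x ⟨hx, hx'⟩
        exact ⟨(mem_normalizer_iff.1 (hN hc) x).1 hx, hinv ⟨c, hc⟩ _ hx'⟩
      refine mem_normalizer_iff.2 fun x => ⟨key c hc x, fun h => ?_⟩
      have := key c⁻¹ (inv_mem hc) _ h
      have e : c⁻¹ * (c * x * c⁻¹) * c⁻¹⁻¹ = x := by group
      rwa [e] at this
    rw [eq_top_iff]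
    intro n _
    obtain ⟨_, h⟩ := hB (Additive.toMul n : N).2
    exact h
  · -- LEMMA 0
    have hR' : ¬ R.map C.subtype ≤ centralizer (N : Set G) := by
      intro h1
      apply hR1
      intro x hx n
      refine hext _ _ ?_
      rw [hsm]
      have h2 := mem_centralizer_iff.1 (h1 (mem_map_of_mem _ hx)) _ (Additive.toMul n : N).2
      change ((Additive.toMul n : N) : G) * (x : G) = (x : G) * ((Additive.toMul n : N) : G) at h2
      rw [← h2, mul_inv_cancel_right]
    have hRC : R.map C.subtype ≤ C := by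
      rintro _ ⟨x, _, rfl⟩
      exact x.2
    have hRn : C ≤ normalizer ((R.map C.subtype : Subgroup G) : Set G) := by
      intro c hc
      have key : ∀ c ∈ C, ∀ x ∈ R.map C.subtype, c * x * c⁻¹ ∈ R.map C.subtype := by
        rintro c hc _ ⟨x, hx, rfl⟩
        exact ⟨⟨c, hc⟩ * x * ⟨c, hc⟩⁻¹, hR.conj_mem x hx _, rfl⟩
      refine mem_normalizer_iff.2 fun x => ⟨key c hc x, fun h => ?_⟩
      have := key c⁻¹ (inv_mem hc) _ h
      have e : c⁻¹ * (c * x * c⁻¹) * c⁻¹⁻¹ = x := by group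
      rwa [e] at this
    obtain ⟨_, ⟨x, hx, rfl⟩, d, hd, hdv, e⟩ := L0 _ hRC hRn hR' c c.2
    exact ⟨x, hx, ⟨d, hd⟩, hext _ _ hdv, Subtype.ext e⟩
  · -- `K` is a 2-group
    exact hK.comap_of_injective C.subtype C.subtype_injective
  · intro k hk
    exact hext _ _ (hKv k hk)
  · intro d hd
    have hdv : (d : G) * v * (d : G)⁻¹ = v := congrArg (fun n => ((Additive.toMul n : N) : G)) hd
    have h1 := hKn d d.2 hdv
    refine mem_normalizer_iff.2 fun y => ?_
    exact mem_normalizer_iff.1 h1 y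
  · exact ht
  · intro h1
    apply ht1
    intro n hn
    exact congrArg (fun n => ((Additive.toMul n : N) : G)) (h1 (Additive.ofMul ⟨n, hn⟩))
  · rcases htb _ (Additive.toMul n : N).2 with h | h
    · exact Or.inl (hext _ _ h)
    · exact Or.inr (hext _ _ h)

end group

variable {G : Type u} [Group G]

/-- **LEMMA TC** over the frame `Fr` of CARD #18791. -/
theorem Fr.tcp [Finite G] {T : Subgroup G} {V P : Fin 2 → Subgroup G} {v : Fin 2 → G} (D : Fr T V P v) :
    TCp T V v := by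
  intro i t b ht htb ht1
  have hij := ne_add_one i
  have hji : i + 1 ≠ i := hij.symm
  have htC : t ∈ CC v i := (o2_le _).trans (D.cent_zc_le i) ht
  -- `b ∈ N_i`
  have hb : b ∈ NU V v i := by
    push Not at ht1
    obtain ⟨n, hn, hn1⟩ := ht1
    have h1 := (htb n hn).resolve_left hn1
    have h2 := (mem_normalizer_iff.1 (D.C_le_N_N i htC) n).1 hn
    rw [h1] at h2
    exact (Subgroup.mul_mem_cancel_left _ hn).1 h2
  obtain ⟨w, hwV, hw1, hwv⟩ := D.exists_ne_v (i + 1)
  have hvw1 : v (i + 1) * w ≠ 1 := by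
    intro h
    have h1 := D.v_sq (i + 1)
    exact hwv (mul_left_cancel (h.trans h1.symm))
  have htr : ∀ x ∈ V (i + 1), x ≠ 1 → ∃ c ∈ CC v i, c * v (i + 1) * c⁻¹ = x := by
    intro x hx hx1
    obtain ⟨l, hl, -, h⟩ := D.tr hji hx hx1
    exact ⟨l, D.PC (i + 1) i hji hl, h⟩
  have hcd : ∀ d ∈ CC v i, d * v (i + 1) * d⁻¹ = v (i + 1) → d ∈ centralizer (zc T : Set G) := by
    intro d hd hdv
    refine (D.mem_D_iff hij).2 ⟨hd, ?_⟩
    rw [mem_centralizer_singleton_iff]
    calc d * v (i + 1) = d * v (i + 1) * d⁻¹ * d := by group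
      _ = v (i + 1) * d := by rw [hdv]
  have hdc : ∀ d ∈ centralizer (zc T : Set G), d * v (i + 1) * d⁻¹ = v (i + 1) := by
    intro d hd
    rw [mem_centralizer_singleton_iff.1 (D.cent_zc_le (i + 1) hd)]
    group
  have key : ∀ r : G, r ∈ NU V v i → (∀ c ∈ CC v i, c * r * c⁻¹ = r) →
      (∀ n ∈ NU V v i, (∀ t ∈ T, t * n * t⁻¹ = n) → n = 1 ∨ n = v (i + 1) ∨ n = r ∨ n = v (i + 1) * r) →
      b = v (i + 1) ∨ b = v (i + 1) * r := by
    intro r hrN hr hfix
    refine trans_group (C := CC v i) (N := NU V v i) (T := T) (v := v (i + 1)) (w := w) (r := r)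
      (K := o2 (centralizer (zc T : Set G))) (t := t)
      (D.C_le_N_N i) (fun x hx y hy => ?_) (fun x hx => ?_) (D.syl i) hrN hr hfix (D.mem_N i)
      (fun t ht => D.cen (i + 1) ht) (D.ne (i + 1)) (D.V_le_N i hwV) (fun t ht => ?_)
      (htr w hwV hw1) (htr _ (mul_mem (D.mem _) hwV) hvw1)
      (fun M hM hC => D.N_le_of_mem i hM hC) (fun R hRC hRn hR c hc => ?_)
      (o2_isPGroup _) ((o2_le _).trans (D.cent_zc_le i)) (fun k hk => hdc k (o2_le _ hk))
      (fun d hd hdv => le_normalizer_o2 _ (hcd d hd hdv)) ht ht1 hb htb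
    · exact mem_centralizer_iff.1 (D.N_comm i hy) x hx
    · rw [← pow_two]; exact D.N_sq i x hx
    · have h1 : t * w * t⁻¹ ∈ V (i + 1) := (mem_normalizer_iff.1 (D.T_le_N (i + 1) ht) w).1 hwV
      have h2 : t * w * t⁻¹ ≠ 1 := fun h => hw1 (conj_eq_one_iff.1 h)
      rcases D.eq_of_V (D.mem (i + 1)) (D.ne (i + 1)) hwV hw1 (Ne.symm hwv) h1 h2 with h | h | h
      · exfalso
        apply hwv
        have h3 := D.cen (i + 1) ht
        rw [← h] at h3
        have h4 := congrArg (fun x => t⁻¹ * x * t) (h3.trans h)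
        have h5 : t * w * t⁻¹ = w := by
          have := congrArg (fun x => t⁻¹ * x * t) h3
          simpa [mul_assoc] using this
        exact h5.symm.trans h
      · exact Or.inl h
      · exact Or.inr h
    · obtain ⟨x, hx, d, hd, e⟩ := D.lem0 hRC hRn hR c hc
      exact ⟨x, hx, d, D.cent_zc_le i hd, hdc d hd, e⟩
  have hz : ∀ n ∈ NU V v i, (∀ t ∈ T, t * n * t⁻¹ = n) →
      n = 1 ∨ n = v (i + 1) ∨ n = v i ∨ n = v (i + 1) * v i := by
    intro n hn hf
    have h1 : n ∈ zc T := mem_zc.2 ⟨D.N_le_T i hn, fun t ht => by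
      calc t * n = t * n * t⁻¹ * t := by group
        _ = n * t := by rw [hf t ht], D.N_sq i n hn⟩
    have h2 := D.v_mul_v i
    rcases (D.zT n).1 h1 with h | h | h | h
    · exact Or.inl h
    · rcases Fin.exists_fin_two.1 ⟨i, rfl⟩ with hi | hi
      · exact Or.inr (Or.inr (Or.inl (by rw [h, hi])))
      · exact Or.inr (Or.inl (by rw [h, hi]; rfl))
    · rcases Fin.exists_fin_two.1 ⟨i, rfl⟩ with hi | hi
      · exact Or.inr (Or.inl (by rw [h, hi]; rfl))
      · exact Or.inr (Or.inr (Or.inl (by rw [h, hi])))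
    · exact Or.inr (Or.inr (Or.inr (h.trans h2)))
  by_cases hvi : v i ∈ NU V v i
  · rcases key (v i) hvi (fun c hc => by rw [mem_centralizer_singleton_iff.1 hc]; group) hz with h | h
    · exact Or.inl h
    · exact Or.inr ⟨hvi, h⟩
  · have hf1 : ∀ n ∈ NU V v i, (∀ t ∈ T, t * n * t⁻¹ = n) →
        n = 1 ∨ n = v (i + 1) ∨ n = 1 ∨ n = v (i + 1) * 1 := by
      intro n hn hf
      rcases hz n hn hf with h | h | h | h
      · exact Or.inl h
      · exact Or.inr (Or.inl h)
      · exact absurd (h ▸ hn) hvi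
      · exact absurd ((Subgroup.mul_mem_cancel_left _ (D.mem_N i)).1 (h ▸ hn)) hvi
    rcases key 1 (one_mem _) (fun c _ => by group) hf1 with h | h
    · exact Or.inl h
    · rw [mul_one] at h
      exact Or.inl h

end Cfsg.Agent.Omega.TC
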