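import Cfsg.Agent.Omega.TC.Fr

/-!
# CARD #18791 "(E) = TWO CENTRES", `q = 2`: LEMMA P and a critical pair

`D : Fr T V P v`.

* `Fr.data` : LEMMA P (#14019) applies to `(C_0, C_1; C_G(Ω₁Z(T)))`;
* `Fr.E_le` : `E_i = N_i ⟨v i⟩`, `Fr.N_le_E`, `Fr.W_le_E`-facts, `Fr.E_comm`, `Fr.E_sq`;
* `Fr.crit` : a critical pair: `n` with: all `E_a`, `E_b` at distance `≤ n` commute, `E_a ≤ Q_c` at distance `≤ n`, and
  `i`, `j`, `g` with `(i, g)`, `(j, 1)` at distance `≤ n + 1`, `E_i^g ≤ Q_{j+1}`, `E_j ≤ (Q_{i+1})^g`, `[N_i^g, N_j] ≠ 1`;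
* `Fr.X`-part: (f3) `C_{O₂(D)}(N_i) ≤ Q_i`.
-/

set_option autoImplicit false
set_option linter.unusedSectionVars false

namespace Cfsg.Agent.Omega.TC

open Subgroup Cfsg Cfsg.Agent.ZN Cfsg.Agent.Omega.MinPar
open Cfsg.Agent.Omega.OM.KTwo (CC QQ WU NU EU FF ne_add_one eq_add_one add_one_add_one le_normalizer_V le_V
  le_o2_of_commutator)
open Cfsg.Agent.MinSimple.MinParabolic (IsMinPar)
open Cfsg.Agent.Omega.NoFF.Basic (conj_conj mem_conj conj_le_iff conj_le_centralizer comm_symm comm_mono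
  Z_le_V V_le conj_V_mul)
open Cfsg.Agent.Omega.NoFF.Main (normalizer_conj)
open Cfsg.Agent.Omega.NOThreeL.Pair (conj_eq_of_mem conj_le_normalizer clo le_clo le_clo' clo_le
  le_normalizer_clo clo_comm clo_isPGroup)
open Cfsg.Agent.Omega.NO3L (LemP.Data LemP.Crit LemP.Comm LemP.Near LemP.vx)
open Cfsg.Agent.ZN.ChoiceSit (Syl exists_syl syl_conj o2_le_syl)
open Cfsg.Agent.MinSimple.VModule (mem_zc zc_le normalizer_le_normalizer_zc le_normalizer_o2 le_o2 o2_le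
  o2_isPGroup zc_le_centralizer le_centralizer_zc)
open scoped Pointwise

universe u

variable {G : Type u} [Group G]

namespace Fr

variable [Finite G] {T : Subgroup G} {V P : Fin 2 → Subgroup G} {v : Fin 2 → G} (D : Fr T V P v)

include D

/-! ### `E_i = N_i ⟨v i⟩` -/

theorem E_le_Q (i : Fin 2) : EU T v i ≤ QQ v i :=
  V_le fun _ hc => by
    rw [← D.conj_QQ hc]
    exact conj_le_iff.2 (D.zc_le_Q i)

/-- `V (i+1) ≤ E i` -/
theorem V_le_E (i : Fin 2) : V (i + 1) ≤ EU T v i := by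
  intro x hx
  by_cases hx1 : x = 1
  · rw [hx1]; exact one_mem _
  obtain ⟨l, hl, -, hlx⟩ := D.tr (ne_add_one i).symm hx hx1
  have hl' : l ∈ CC v i := D.PC (i + 1) i (ne_add_one i).symm hl
  apply Z_le_V hl'
  rw [mem_conj, ← hlx]
  have e : l⁻¹ * (l * v (i + 1) * l⁻¹) * l = v (i + 1) := by group
  rw [e]
  exact D.v_mem_zc _

theorem N_le_E (i : Fin 2) : NU V v i ≤ EU T v i :=
  V_le fun c hc => by
    have h1 := conj_le_iff (g := c) |>.2 (D.V_le_E i)
    rwa [conj_eq_of_mem (D.C_le_N_E i hc)] at h1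

theorem v_mem_E (i j : Fin 2) : v j ∈ EU T v i := le_V _ _ (D.v_mem_zc j)

omit D in
theorem CC_le_cent_zpowers (i : Fin 2) : CC v i ≤ centralizer (zpowers (v i) : Set G) := by
  intro c hc
  rw [mem_centralizer_iff]
  rintro _ ⟨n, rfl⟩
  have h5 : Commute c (v i) := mem_centralizer_singleton_iff.1 hc
  exact (h5.zpow_right n).eq.symm

theorem C_le_N_NZ (i : Fin 2) : CC v i ≤ normalizer ((NU V v i ⊔ zpowers (v i) : Subgroup G) : Set G) := by
  intro c hc
  refine ChoiceBase.mem_normalizer_iff_cj.2 ?_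
  change MulAut.conj c • (NU V v i ⊔ zpowers (v i)) = _
  rw [Subgroup.smul_sup, conj_eq_of_mem (D.C_le_N_N i hc)]
  congr 1
  exact conj_eq_of_mem (centralizer_le_normalizer _ (CC_le_cent_zpowers i hc))

/-- `E i = N i ⟨v i⟩` -/
theorem E_le (i : Fin 2) : EU T v i ≤ NU V v i ⊔ zpowers (v i) := by
  have h1 : ∀ j, v j ∈ NU V v i ⊔ zpowers (v i) := by
    intro j
    rcases eq_or_ne i j with h | h
    · rw [← h]; exact mem_sup_right (mem_zpowers _)
    · rw [eq_add_one h]; exact mem_sup_left (D.mem_N i)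
  have h2 : zc T ≤ NU V v i ⊔ zpowers (v i) := by
    intro x hx
    rcases (D.zT x).1 hx with h1' | h1' | h1' | h1'
    · rw [h1']; exact one_mem _
    · rw [h1']; exact h1 0
    · rw [h1']; exact h1 1
    · rw [h1']; exact mul_mem (h1 0) (h1 1)
  refine V_le fun c hc => ?_
  have h4 := conj_le_iff (g := c) |>.2 h2
  rwa [conj_eq_of_mem (D.C_le_N_NZ i hc)] at h4

theorem E_eq (i : Fin 2) : EU T v i = NU V v i ⊔ zpowers (v i) := by
  refine le_antisymm (D.E_le i) (sup_le (D.N_le_E i) ?_)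
  rw [zpowers_le]
  exact D.v_mem_E i i

theorem E_le_WN (i : Fin 2) : EU T v i ≤ WU V v i ⊔ NU V v i := by
  refine (D.E_le i).trans (sup_le le_sup_right ?_)
  rw [zpowers_le]
  exact mem_sup_left (le_V _ _ (D.mem i))

theorem E_comm (i : Fin 2) : EU T v i ≤ centralizer (EU T v i : Set G) :=
  comm_mono (D.WN_comm i) (D.E_le_WN i) (D.E_le_WN i)

theorem E_sq (i : Fin 2) : ∀ x ∈ EU T v i, x ^ 2 = 1 := fun x hx => D.WN_sq i x (D.E_le_WN i hx)

theorem Q_le_cent_E (i : Fin 2) : QQ v i ≤ centralizer (EU T v i : Set G) := by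
  refine comm_symm ((D.E_le i).trans (sup_le (D.N_le_cent_Q i) ?_))
  refine comm_symm ?_
  exact ((D.Q_le_T i).trans (D.T_le_C i)).trans (CC_le_cent_zpowers i)

theorem cent_E_le (i : Fin 2) : centralizer (EU T v i : Set G) ≤ centralizer (zc T : Set G) :=
  centralizer_le (le_V _ _)

/-- `C_{C_i}(N_i) ≤ D` -/
theorem cent_N_le (i : Fin 2) : CC v i ⊓ centralizer (NU V v i : Set G) ≤ centralizer (zc T : Set G) := by
  rintro c ⟨h1, h2⟩
  refine (D.mem_D_iff (ne_add_one i)).2 ⟨h1, ?_⟩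
  rw [mem_centralizer_singleton_iff]
  exact ((mem_centralizer_iff.1 h2) _ (D.mem_N i)).symm

theorem cent_E (i : Fin 2) : centralizer (EU T v i : Set G) = CC v i ⊓ centralizer (NU V v i : Set G) := by
  apply le_antisymm
  · exact le_inf ((D.cent_E_le i).trans (D.cent_zc_le i)) (centralizer_le (D.N_le_E i))
  · refine comm_symm ((D.E_le i).trans (sup_le (comm_symm inf_le_right) (comm_symm ?_)))
    exact inf_le_left.trans (CC_le_cent_zpowers i)

/-- **(f3)**: `C_{O₂(D)}(N_i) ≤ Q_i`. -/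
theorem f3 (i : Fin 2) : o2 (centralizer (zc T : Set G)) ⊓ centralizer (NU V v i : Set G) ≤ QQ v i := by
  refine le_trans ?_ (NO3L.LemP.o2_inf_centralizer_le (D.cent_E_le i) (D.cent_zc_le i) (D.C_le_N_E i))
  refine le_inf inf_le_left ?_
  rw [D.cent_E i]
  exact le_inf (inf_le_left.trans ((o2_le _).trans (D.cent_zc_le i))) inf_le_right

/-- `Q_i ≤ O₂(D)` -/
theorem Q_le_o2D (i : Fin 2) : QQ v i ≤ o2 (centralizer (zc T : Set G)) :=
  MinSimple.Basic.o2_normal_le_o2 ((D.Q_le_T i).trans (le_centralizer_zc T)) (D.cent_zc_le i)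

theorem o2D_le_T : o2 (centralizer (zc T : Set G)) ≤ T := by
  have hS : Syl T (centralizer (zc T : Set G)) :=
    ⟨le_centralizer_zc T, D.T_isPGroup, fun R hR hR2 hTR => (D.syl 0).2.2 R (hR.trans (D.cent_zc_le 0)) hR2 hTR⟩
  exact o2_le_syl hS

theorem syl_D : Syl T (centralizer (zc T : Set G)) :=
  ⟨le_centralizer_zc T, D.T_isPGroup, fun R hR hR2 hTR => (D.syl 0).2.2 R (hR.trans (D.cent_zc_le 0)) hR2 hTR⟩

/-! ### LEMMA P -/

/-- **LEMMA P applies** to `(C_G(v 0), C_G(v 1); C_G(Y))`. -/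
theorem data : NO3L.LemP.Data (zc T) (centralizer (zc T : Set G)) (o2 (centralizer (zc T : Set G))) (CC v)
    (EU T v) (QQ v) where
  cen := le_rfl
  CH := D.cent_zc_le
  ZU := fun _ => le_V _ _
  HU := D.C_le_N_E
  HR := fun _ => le_normalizer_o2 _
  UR := D.E_le_Q
  RQ := D.Q_le_o2D
  QR := fun i => NO3L.LemP.o2_inf_centralizer_le ((centralizer_le (le_V _ _)).trans le_rfl) (D.cent_zc_le i)
    (D.C_le_N_E i)

/-- LEMMA P for `E 0`, `E 1` -/
theorem exists_crit :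
    ∃ n, NO3L.LemP.Comm (CC v) (EU T v) (n + 1) ∧
      (∀ m ≤ n, ∀ a c : Fin 2 × G, NO3L.LemP.Near (CC v) m a c →
        NO3L.LemP.vx (EU T v) a ≤ NO3L.LemP.vx (QQ v) c) ∧
      ∃ (i j k l : Fin 2) (g : G), NO3L.LemP.Crit (o2 (centralizer (zc T : Set G))) (CC v) (EU T v) (QQ v) i j k l g ∧
        NO3L.LemP.Near (CC v) (n + 1) (i, g) (j, 1) := by
  refine D.data.exists_crit D.E_comm fun hcon => ?_
  have hle : ∀ i, CC v i ≤ (⨆ i, CC v i : Subgroup G) := fun i => le_iSup (CC v) i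
  have h1 := D.nonloc (clo (⨆ i, CC v i) (EU T v)) (fun a => ⟨1, ?_⟩) ((hle 0).trans (le_normalizer_clo _ _))
    ((hle 1).trans (le_normalizer_clo _ _))
  · have h2 : v 0 ∈ clo (⨆ i, CC v i) (EU T v) := le_clo' 0 (le_V _ _ (D.v_mem_zc 0))
    rw [h1, mem_bot] at h2
    exact D.ne 0 h2
  · exact Subtype.ext (clo_isPGroup D.E_sq (clo_comm hcon) a a.2)

/-- **LEMMA P**: a critical pair `(N_i^g, N_j)`. -/
theorem crit :
    ∃ n, NO3L.LemP.Comm (CC v) (EU T v) (n + 1) ∧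
      (∀ m ≤ n, ∀ a c : Fin 2 × G, NO3L.LemP.Near (CC v) m a c →
        NO3L.LemP.vx (EU T v) a ≤ NO3L.LemP.vx (QQ v) c) ∧
      ∃ (i j : Fin 2) (g : G), g ∈ (⨆ i, CC v i : Subgroup G) ∧ NO3L.LemP.Near (CC v) (n + 1) (i, g) (j, 1) ∧
        MulAut.conj g • EU T v i ≤ QQ v (j + 1) ∧ EU T v j ≤ MulAut.conj g • QQ v (i + 1) ∧
        ¬ MulAut.conj g • NU V v i ≤ centralizer (NU V v j : Set G) := by
  obtain ⟨n, h1, h2, i, j, k, l, g, h3, h4⟩ := D.exists_crit
  have hk : k = j + 1 := eq_add_one h3.kj.symm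
  have hl : l = i + 1 := eq_add_one h3.li.symm
  subst hk hl
  refine ⟨n, h1, h2, i, j, g, h3.mem, h4, h3.le, h3.ge, fun hcomm => h3.ne ?_⟩
  have hE1 : MulAut.conj g • EU T v i ≤ CC v j := h3.le.trans ((D.Q_le_T _).trans (D.T_le_C j))
  have hE2 : EU T v j ≤ MulAut.conj g • CC v i := h3.ge.trans (conj_le_iff.2 ((D.Q_le_T _).trans (D.T_le_C i)))
  -- `E_i^g = N_i^g ⟨v_i^g⟩`
  have hEg : MulAut.conj g • EU T v i ≤ MulAut.conj g • NU V v i ⊔ MulAut.conj g • zpowers (v i) := by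
    rw [← Subgroup.smul_sup]
    exact conj_le_iff.2 (D.E_le i)
  have hNj : NU V v j ≤ EU T v j := D.N_le_E j
  have hz1 : MulAut.conj g • zpowers (v i) ≤ centralizer (EU T v j : Set G) := by
    refine comm_symm (hE2.trans ?_)
    exact conj_le_centralizer (CC_le_cent_zpowers i)
  have h5 : MulAut.conj g • EU T v i ≤ centralizer (NU V v j : Set G) :=
    hEg.trans (sup_le hcomm (hz1.trans (centralizer_le hNj)))
  refine comm_symm ((D.E_le j).trans (sup_le (comm_symm h5) ?_))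
  exact comm_symm (hE1.trans (CC_le_cent_zpowers j))

end Fr

end Cfsg.Agent.Omega.TC
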