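import Cfsg.Agent.Omega.TC.Crit
import Cfsg.Agent.Omega.OM.PG.DOne

/-!
# Two centres, `d = 1`, `[N₀, N₁] = 1` (helper609, TEXT R4 #19278 (5)) over the frame `TC.Fr`
-/

set_option autoImplicit false
set_option linter.unusedSectionVars false

namespace Cfsg.Agent.Omega.TC.DOne

open Subgroup Cfsg Cfsg.Agent.ZN Cfsg.Agent.Omega.MinPar
open Cfsg.Agent.Omega.OM.KTwo (CC QQ WU NU EU FF ne_add_one eq_add_one add_one_add_one le_normalizer_V le_V)
open Cfsg.Agent.Omega.NoFF.Basic (conj_conj mem_conj conj_le_iff conj_le_centralizer comm_symm comm_mono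
  Z_le_V V_le conj_V_mul)
open Cfsg.Agent.ZN.ChoiceSit (Syl)
open Cfsg.Agent.MinSimple.VModule (mem_zc zc_le normalizer_le_normalizer_zc le_normalizer_o2 le_o2 o2_le
  o2_isPGroup zc_le_centralizer le_centralizer_zc)
open scoped Pointwise

universe u

/-- the section `E / Z` as a module for `H` -/
structure Sec {G : Type u} [Group G] (E Z H : Subgroup G) (M : Type u) [AddCommGroup M] [DistribMulAction H M]
    (p : G → M) : Prop where
  mul : ∀ x ∈ E, ∀ y ∈ E, p (x * y) = p x + p y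
  ker : ∀ x ∈ E, (p x = 0 ↔ x ∈ Z)
  surj : ∀ m, ∃ x ∈ E, p x = m
  act : ∀ (h : H), ∀ x ∈ E, h • p x = p (h * x * (h : G)⁻¹)

theorem exists_sec {G : Type u} [Group G] {E Z H : Subgroup G} (hcomm : ∀ a ∈ E, ∀ b ∈ E, a * b * a⁻¹ * b⁻¹ ∈ Z)
    (hEZ : E ≤ normalizer (Z : Set G)) (hHE : H ≤ normalizer (E : Set G)) (hHZ : H ≤ normalizer (Z : Set G)) :
    ∃ (M : Type u) (_ : AddCommGroup M) (_ : DistribMulAction H M) (p : G → M), Sec E Z H M p := by
  classical
  let Z' : Subgroup E := Z.subgroupOf E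
  have hZ' : ∀ x : E, x ∈ Z' ↔ (x : G) ∈ Z := fun x => Iff.rfl
  have hN : Z'.Normal := ⟨fun z hz g => by
    rw [hZ'] at hz ⊢
    exact (mem_normalizer_iff.1 (hEZ g.2) _).1 hz⟩
  let cM : CommGroup (E ⧸ Z') :=
    { (inferInstance : Group (E ⧸ Z')) with
      mul_comm := by
        intro x y
        induction x using QuotientGroup.induction_on with
        | H x =>
          induction y using QuotientGroup.induction_on with
          | H y =>
            change (QuotientGroup.mk (x * y) : E ⧸ Z') = QuotientGroup.mk (y * x)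
            rw [QuotientGroup.eq, hZ']
            have h1 := hcomm _ (inv_mem y.2) _ (inv_mem x.2)
            have e : (((x * y)⁻¹ * (y * x) : E) : G) = (y : G)⁻¹ * (x : G)⁻¹ * (y : G)⁻¹⁻¹ * (x : G)⁻¹⁻¹ := by
              push_cast; group
            rw [e]
            exact h1 }
  let cj : H → E →* E := fun h =>
    { toFun := fun x => ⟨h * x * (h : G)⁻¹, (mem_normalizer_iff.1 (hHE h.2) _).1 x.2⟩
      map_one' := Subtype.ext (by simp)
      map_mul' := fun x y => Subtype.ext (by push_cast; group) }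
  have cj_apply : ∀ (h : H) (x : E), ((cj h x : E) : G) = h * x * (h : G)⁻¹ := fun _ _ => rfl
  have cjZ : ∀ h : H, Z' ≤ Z'.comap (cj h) := fun h x hx => by
    rw [mem_comap, hZ', cj_apply]
    exact (mem_normalizer_iff.1 (hHZ h.2) _).1 hx
  let φ : H → (E ⧸ Z') →* (E ⧸ Z') := fun h => QuotientGroup.map Z' Z' (cj h) (cjZ h)
  have hφ : ∀ (h : H) (x : E), φ h (QuotientGroup.mk x) = QuotientGroup.mk (cj h x) := fun _ _ => rfl
  let act : DistribMulAction H (Additive (E ⧸ Z')) :=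
    { smul := fun h m => Additive.ofMul (φ h m.toMul)
      one_smul := fun m => by
        change Additive.ofMul (φ 1 m.toMul) = m
        have key : ∀ m : E ⧸ Z', φ 1 m = m := by
          intro m
          induction m using QuotientGroup.induction_on with
          | H x =>
            rw [hφ]
            congr 1
            apply Subtype.ext
            rw [cj_apply]
            simp
        rw [key]
        rfl
      mul_smul := fun h k m => by
        change Additive.ofMul (φ (h * k) m.toMul) = Additive.ofMul (φ h (φ k m.toMul))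
        have key : ∀ m : E ⧸ Z', φ (h * k) m = φ h (φ k m) := by
          intro m
          induction m using QuotientGroup.induction_on with
          | H x =>
            rw [hφ, hφ, hφ]
            congr 1
            apply Subtype.ext
            rw [cj_apply, cj_apply, cj_apply]
            push_cast
            group
        rw [key]
      smul_zero := fun h => by
        change Additive.ofMul (φ h 1) = 0
        rw [map_one]
        rfl
      smul_add := fun h a b => by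
        change Additive.ofMul (φ h (a.toMul * b.toMul)) = Additive.ofMul (φ h a.toMul * φ h b.toMul)
        rw [map_mul] }
  let p : G → Additive (E ⧸ Z') := fun g => if hg : g ∈ E then Additive.ofMul (QuotientGroup.mk ⟨g, hg⟩) else 0
  have hp : ∀ (g : G) (hg : g ∈ E), p g = Additive.ofMul (QuotientGroup.mk ⟨g, hg⟩) := fun g hg => dif_pos hg
  refine ⟨Additive (E ⧸ Z'), inferInstance, act, p, ?_, ?_, ?_, ?_⟩
  · intro x hx y hy
    rw [hp _ hx, hp _ hy, hp _ (mul_mem hx hy)]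
    rfl
  · intro x hx
    rw [hp _ hx]
    change (QuotientGroup.mk ⟨x, hx⟩ : E ⧸ Z') = 1 ↔ _
    rw [QuotientGroup.eq_one_iff]
    exact Iff.rfl
  · intro m
    obtain ⟨x, hx⟩ := QuotientGroup.mk_surjective (Additive.toMul m)
    refine ⟨x, x.2, ?_⟩
    rw [hp _ x.2]
    exact congrArg Additive.ofMul hx
  · intro h x hx
    rw [hp _ hx, hp _ ((mem_normalizer_iff.1 (hHE h.2) _).1 hx)]
    rfl

namespace Sec

variable {G : Type u} [Group G] {E Z H : Subgroup G} {M : Type u} [AddCommGroup M] [DistribMulAction H M] {p : G → M}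
  (s : Sec E Z H M p)

include s

theorem one : p 1 = 0 := by
  have := s.mul 1 (one_mem _) 1 (one_mem _)
  rw [mul_one] at this
  simpa using this

theorem inv {x : G} (hx : x ∈ E) : p x⁻¹ = - p x := by
  have := s.mul _ (inv_mem hx) _ hx
  rw [inv_mul_cancel, s.one] at this
  exact (neg_eq_of_add_eq_zero_left this.symm).symm

theorem eq_iff {x y : G} (hx : x ∈ E) (hy : y ∈ E) : p x = p y ↔ x * y⁻¹ ∈ Z := by
  rw [← s.ker _ (mul_mem hx (inv_mem hy)), s.mul _ hx _ (inv_mem hy), s.inv hy, ← sub_eq_add_neg, sub_eq_zero]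

theorem finite [Finite G] : Finite M := by
  refine Finite.of_surjective (fun x : E => p x) fun m => ?_
  obtain ⟨x, hx, rfl⟩ := s.surj m
  exact ⟨⟨x, hx⟩, rfl⟩

theorem add_self (hsq : ∀ x ∈ E, x * x ∈ Z) (m : M) : m + m = 0 := by
  obtain ⟨x, hx, rfl⟩ := s.surj m
  rw [← s.mul _ hx _ hx]
  exact (s.ker _ (mul_mem hx hx)).2 (hsq x hx)

theorem exists_lift {A : Type*} [AddCommGroup A] (f : G → A) (hf : ∀ x ∈ E, ∀ y ∈ E, f (x * y) = f x + f y)
    (h0 : ∀ x ∈ E, x ∈ Z → f x = 0) : ∃ F : M →+ A, ∀ x ∈ E, F (p x) = f x := by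
  classical
  have h1 : f 1 = 0 := by
    have := hf 1 (one_mem _) 1 (one_mem _)
    rw [mul_one] at this
    simpa using this
  have hinv : ∀ x ∈ E, f x⁻¹ = - f x := by
    intro x hx
    have := hf _ (inv_mem hx) _ hx
    rw [inv_mul_cancel, h1] at this
    exact (neg_eq_of_add_eq_zero_left this.symm).symm
  have key : ∀ x ∈ E, ∀ y ∈ E, p x = p y → f x = f y := by
    intro x hx y hy h
    rw [s.eq_iff hx hy] at h
    have h2 := h0 _ (mul_mem hx (inv_mem hy)) h
    rw [hf _ hx _ (inv_mem hy), hinv y hy, ← sub_eq_add_neg, sub_eq_zero] at h2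
    exact h2
  choose c hc hpc using s.surj
  refine ⟨{ toFun := fun m => f (c m), map_zero' := ?_, map_add' := fun a b => ?_ }, fun x hx => ?_⟩
  · rw [key _ (hc 0) 1 (one_mem _) (by rw [hpc, s.one]), h1]
  · rw [← hf _ (hc a) _ (hc b)]
    refine key _ (hc _) _ (mul_mem (hc a) (hc b)) ?_
    rw [hpc, s.mul _ (hc a) _ (hc b), hpc, hpc]
  · exact key _ (hc _) _ hx (hpc _)

/-- the image of a subgroup -/
def im (F : Subgroup G) (hF : F ≤ E) : AddSubgroup M where
  carrier := {m | ∃ x ∈ F, p x = m}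
  zero_mem' := ⟨1, one_mem _, s.one⟩
  add_mem' := by
    rintro _ _ ⟨x, hx, rfl⟩ ⟨y, hy, rfl⟩
    exact ⟨x * y, mul_mem hx hy, s.mul _ (hF hx) _ (hF hy)⟩
  neg_mem' := by
    rintro _ ⟨x, hx, rfl⟩
    exact ⟨x⁻¹, inv_mem hx, s.inv (hF hx)⟩

omit s in
theorem mem_im (s : Sec E Z H M p) {F : Subgroup G} {hF : F ≤ E} {m : M} : m ∈ s.im F hF ↔ ∃ x ∈ F, p x = m := Iff.rfl

end Sec

/-! ### the plug -/

variable {G : Type u} [Group G] [Finite G] {T : Subgroup G} {V P : Fin 2 → Subgroup G} {v : Fin 2 → G}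

theorem cz_comm (i : Fin 2) {c : G} (hc : c ∈ CC v i) {z : G} (hz : z ∈ zpowers (v i)) : c * z * c⁻¹ = z := by
  obtain ⟨n, rfl⟩ := mem_zpowers_iff.1 hz
  have h1 : Commute c (v i) := mem_centralizer_singleton_iff.1 hc
  have h2 : c * v i ^ n = v i ^ n * c := h1.zpow_right n
  rw [h2, mul_inv_cancel_right]

variable (D : Fr T V P v)

include D

theorem mem_zp {i : Fin 2} {x : G} (h : x ∈ zpowers (v i)) : x = 1 ∨ x = v i := by
  obtain ⟨n, rfl⟩ := mem_zpowers_iff.1 h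
  have h2 : v i ^ (2 : ℤ) = 1 := by
    have := D.v_sq' i
    exact_mod_cast this
  rcases Int.even_or_odd' n with ⟨k, hk | hk⟩
  · left
    rw [hk, zpow_mul, h2, one_zpow]
  · right
    rw [hk, zpow_add, zpow_mul, h2, one_zpow, one_mul, zpow_one]

/-- `v i ∉ V (i+1)` -/
theorem notin_V {i : Fin 2} {x : G} (hx : x ∈ V (i + 1)) (hxz : x ∈ zpowers (v i)) : x = 1 := by
  rcases mem_zp D hxz with h | h
  · exact h
  · exfalso
    have h1 : v i = v (i + 1) := D.eq_v (h ▸ hx) (D.ne i) (fun t ht => D.cen i ht)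
    exact D.mv i (h1 ▸ D.PC i (i + 1) (ne_add_one i))

theorem zp_inf {i : Fin 2} {x : G} (h1 : x ∈ zpowers (v i)) (h2 : x ∈ zpowers (v (i + 1))) : x = 1 := by
  refine notin_V D ?_ h1
  exact (zpowers_le.2 (D.mem (i + 1))) h2

theorem V_le_N' (i : Fin 2) : V i ≤ NU V v (i + 1) := by
  have h := D.V_le_N (i + 1)
  rwa [add_one_add_one] at h

theorem mem_N' (i : Fin 2) : v i ∈ NU V v (i + 1) := V_le_N' D i (D.mem i)

/-- `[W_i, Q_i] ≤ ⟨v i⟩` -/
theorem comm_WQ (i : Fin 2) {x q : G} (hx : x ∈ WU V v i) (hq : q ∈ QQ v i) :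
    x * q * x⁻¹ * q⁻¹ ∈ zpowers (v i) := by
  let K : Subgroup G :=
    { carrier := {x | x ∈ CC v i ∧ ∀ q ∈ QQ v i, x * q * x⁻¹ * q⁻¹ ∈ zpowers (v i)}
      one_mem' := ⟨one_mem _, fun q _ => by simp⟩
      mul_mem' := by
        rintro a b ⟨ha, ha'⟩ ⟨hb, hb'⟩
        refine ⟨mul_mem ha hb, fun q hq => ?_⟩
        have h1 := hb' q hq
        have e : a * b * q * (a * b)⁻¹ * q⁻¹ = a * (b * q * b⁻¹ * q⁻¹) * a⁻¹ * (a * q * a⁻¹ * q⁻¹) := by group
        rw [e, cz_comm i ha h1]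
        exact mul_mem h1 (ha' q hq)
      inv_mem' := by
        rintro a ⟨ha, ha'⟩
        refine ⟨inv_mem ha, fun q hq => ?_⟩
        have h1 := ha' q hq
        have e : a⁻¹ * q * a⁻¹⁻¹ * q⁻¹ = a⁻¹ * (a * q * a⁻¹ * q⁻¹)⁻¹ * a⁻¹⁻¹ := by group
        rw [e, cz_comm i (inv_mem ha) (inv_mem h1)]
        exact inv_mem h1 }
  have h1 : WU V v i ≤ K := by
    refine V_le fun c hc => ?_
    intro x hx
    rw [mem_conj] at hx
    refine ⟨?_, fun q hq => ?_⟩
    · have h2 := (D.V_le_T i).trans (D.T_le_C i) hx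
      have h3 := mul_mem (mul_mem hc h2) (inv_mem hc)
      have e : c * (c⁻¹ * x * c) * c⁻¹ = x := by group
      rwa [e] at h3
    · have h2 : c⁻¹ * q * c ∈ QQ v i := by
        have := (mem_normalizer_iff.1 (le_normalizer_o2 _ (inv_mem hc)) q).1 hq
        rwa [inv_inv] at this
      have h3 := D.comm_VQ i hx (D.Q_le_T i h2)
      have h4 := cz_comm i hc h3
      have e : c * (c⁻¹ * x * c * (c⁻¹ * q * c) * (c⁻¹ * x * c)⁻¹ * (c⁻¹ * q * c)⁻¹) * c⁻¹ = x * q * x⁻¹ * q⁻¹ := by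
        group
      rw [e] at h4
      rw [h4]
      exact h3
  exact (h1 hx).2 q hq

/-- an element of `Q_{i+1}` centralising `N_i` lies in `Q_i` -/
theorem f3' (i : Fin 2) {x : G} (hx : x ∈ QQ v (i + 1)) (hc : x ∈ centralizer (NU V v i : Set G)) : x ∈ QQ v i :=
  D.f3 i ⟨D.Q_le_o2D (i + 1) hx, hc⟩

theorem f3'' (i : Fin 2) {x : G} (hx : x ∈ QQ v i) (hc : x ∈ centralizer (NU V v (i + 1) : Set G)) :
    x ∈ QQ v (i + 1) :=
  D.f3 (i + 1) ⟨D.Q_le_o2D i hx, hc⟩

/-- `c v_{i+1} c⁻¹ ∈ v_{i+1} ⟨v i⟩`, `c ∈ C_i`, implies `c ∈ D` -/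
theorem mem_D_of {i : Fin 2} {c : G} (hc : c ∈ CC v i)
    (h : c * v (i + 1) * c⁻¹ * (v (i + 1))⁻¹ ∈ zpowers (v i)) : c ∈ centralizer (zc T : Set G) := by
  have hij := ne_add_one i
  rcases mem_zp D h with h1 | h1
  · refine (D.mem_D_iff hij).2 ⟨hc, ?_⟩
    rw [mem_centralizer_singleton_iff]
    have h2 := mul_inv_eq_one.1 h1
    exact mul_inv_eq_iff_eq_mul.1 h2
  · -- `T` and `T^c` are Sylow subgroups of `D`
    have h2 : c * v (i + 1) * c⁻¹ = v i * v (i + 1) := mul_inv_eq_iff_eq_mul.1 h1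
    have h3 : MulAut.conj c • T ≤ centralizer (zc T : Set G) := by
      intro x hx
      rw [mem_conj] at hx
      have k1 : x ∈ CC v i := by
        have := mul_mem (mul_mem hc (D.T_le_C i hx)) (inv_mem hc)
        have e : c * (c⁻¹ * x * c) * c⁻¹ = x := by group
        rwa [e] at this
      refine (D.mem_D_iff hij).2 ⟨k1, ?_⟩
      have k2 := mem_centralizer_singleton_iff.1 (D.T_le_C (i + 1) hx)
      have k3 : x * (c * v (i + 1) * c⁻¹) = c * v (i + 1) * c⁻¹ * x := by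
        have e1 : x * (c * v (i + 1) * c⁻¹) = c * (c⁻¹ * x * c * v (i + 1)) * c⁻¹ := by group
        have e2 : c * v (i + 1) * c⁻¹ * x = c * (v (i + 1) * (c⁻¹ * x * c)) * c⁻¹ := by group
        rw [e1, e2, k2]
      rw [h2] at k3
      have k4 : x * v i = v i * x := mem_centralizer_singleton_iff.1 k1
      rw [mem_centralizer_singleton_iff]
      have k5 : v i * (x * v (i + 1)) = v i * (v (i + 1) * x) := by
        rw [← mul_assoc, ← k4, mul_assoc, k3, mul_assoc]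
      exact mul_left_cancel k5
    have h4 : Syl (MulAut.conj c • T) (centralizer (zc T : Set G)) := by
      refine ⟨h3, D.T_isPGroup.map _, ?_⟩
      intro R hR hR2 hTR
      symm
      refine Subgroup.eq_of_le_of_card_ge hTR ?_
      have h5 : Nat.card (MulAut.conj c • T : Subgroup G) = Nat.card T :=
        Subgroup.card_map_of_injective (MulAut.conj c).injective
      rw [h5]
      obtain ⟨S, hS, hRS⟩ := ChoiceSit.exists_syl hR2 hR
      obtain ⟨y, -, hy⟩ := ChoiceSit.syl_conj hS D.syl_D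
      have h6 : Nat.card S = Nat.card T := by
        rw [← hy]
        exact (Subgroup.card_map_of_injective (MulAut.conj y).injective).symm
      rw [← h6]
      exact Subgroup.card_le_of_le hRS
    obtain ⟨y, hy, hyT⟩ := ChoiceSit.syl_conj h4 D.syl_D
    have h5 : y * c ∈ normalizer (T : Set G) := by
      refine ChoiceBase.mem_normalizer_iff_cj.2 ?_
      change MulAut.conj (y * c) • T = T
      rw [← conj_conj]
      exact hyT
    have h6 := D.norm_T_le i ⟨mul_mem (D.cent_zc_le i hy) hc, h5⟩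
    have h7 := mul_mem (inv_mem hy) h6
    rwa [inv_mul_cancel_left] at h7

/-- the hypothesis on the fixed points -/
def FixE (T : Subgroup G) (v : Fin 2 → G) (i : Fin 2) : Prop :=
  ∀ n ∈ EU T v i, (∀ t ∈ T, t * n * t⁻¹ * n⁻¹ ∈ zpowers (v i)) → n ∈ zc T

omit D in
theorem zp_le_N (i : Fin 2) : CC v i ≤ normalizer (zpowers (v i) : Set G) := by
  intro c hc
  rw [mem_normalizer_iff]
  intro x
  constructor
  · intro h
    rw [cz_comm i hc h]
    exact h
  · intro h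
    have h1 := cz_comm i (inv_mem hc) h
    have e : c⁻¹ * (c * x * c⁻¹) * c⁻¹⁻¹ = x := by group
    rw [e] at h1
    rw [h1]
    exact h

theorem exists_M (i : Fin 2) : ∃ (M : Type u) (_ : AddCommGroup M) (_ : DistribMulAction (CC v i) M) (p : G → M),
    Sec (EU T v i) (zpowers (v i)) (CC v i) M p := by
  refine exists_sec ?_ (((D.E_le_Q i).trans ((D.Q_le_T i).trans (D.T_le_C i))).trans (zp_le_N i)) (D.C_le_N_E i)
    (zp_le_N i)
  intro a ha b hb
  have h1 : a * b = b * a := (mem_centralizer_iff.1 (D.E_comm i hb) a ha)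
  rw [h1, mul_inv_cancel_right, mul_inv_cancel]
  exact one_mem _

section side

variable {i : Fin 2} {M : Type u} [AddCommGroup M] [DistribMulAction (CC v i) M] {p : G → M}
  (s : Sec (EU T v i) (zpowers (v i)) (CC v i) M p)

include s

theorem p_vi : p (v i) = 0 := (s.ker _ (D.v_mem_E i i)).2 (mem_zpowers _)

theorem act_p {g : G} (hg : g ∈ CC v i) {x : G} (hx : x ∈ EU T v i) : (⟨g, hg⟩ : CC v i) • p x = p (g * x * g⁻¹) :=
  s.act _ x hx

theorem conj_E {g : G} (hg : g ∈ CC v i) {x : G} (hx : x ∈ EU T v i) : g * x * g⁻¹ ∈ EU T v i :=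
  (mem_normalizer_iff.1 (D.C_le_N_E i hg) x).1 hx

/-- the stabiliser of `p (v (i+1))` -/
theorem stab {g : CC v i} (h : g • p (v (i + 1)) = p (v (i + 1))) : (g : G) ∈ centralizer (zc T : Set G) := by
  rw [s.act g _ (D.v_mem_E i (i + 1)), s.eq_iff (conj_E D s g.2 (D.v_mem_E i _)) (D.v_mem_E i _)] at h
  exact mem_D_of D g.2 h

theorem p_vj : p (v (i + 1)) ≠ 0 := by
  intro h
  rw [s.ker _ (D.v_mem_E i _)] at h
  exact D.ne (i + 1) (notin_V D (D.mem (i + 1)) h)

theorem p_zc {x : G} (hx : x ∈ zc T) : p x = 0 ∨ p x = p (v (i + 1)) := by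
  have key : ∀ k : Fin 2, p (v k) = 0 ∨ p (v k) = p (v (i + 1)) := by
    intro k
    rcases eq_or_ne i k with h | h
    · rw [← h]
      exact Or.inl (p_vi D s)
    · rw [eq_add_one h]
      exact Or.inr rfl
  rcases (D.zT x).1 hx with h | h | h | h
  · rw [h]
    exact Or.inl s.one
  · rw [h]
    exact key 0
  · rw [h]
    exact key 1
  · right
    rw [h, s.mul _ (D.v_mem_E i 0) _ (D.v_mem_E i 1)]
    rcases Fin.exists_fin_two.1 ⟨i, rfl⟩ with h' | h'
    · have h1 : p (v 0) = 0 := h' ▸ p_vi D s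
      rw [h1, zero_add, h']
      rfl
    · have h1 : p (v 1) = 0 := h' ▸ p_vi D s
      rw [h1, add_zero, h']
      rfl

/-- 609's module, general form: some `A ≤ C_i` centralises `W_{i+1}` and moves `N_i` -/
theorem Dat_of' (hA : ∃ A : Subgroup G, A ≤ CC v i ∧ A ≤ centralizer (WU V v (i + 1) : Set G) ∧
    ¬ A ≤ centralizer (NU V v i : Set G)) (hfix : FixE T v i) :
    OM.PG.DOne.Dat (p (v (i + 1))) (s.im (V (i + 1)) (D.V_le_E i)) (T.subgroupOf (CC v i))
      ((P (i + 1)).subgroupOf (CC v i)) := by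
  have hv0 : p (v (i + 1)) ≠ 0 := p_vj D s
  have hzc : ∀ x ∈ zc T, p x = 0 ∨ p x = p (v (i + 1)) := fun x hx => p_zc D s hx
  refine ⟨hv0, ⟨_, D.mem _, rfl⟩, ?_, ?_, ?_, ?_, ?_, ?_, ?_, ?_, ?_, ?_⟩
  · -- card
    rw [← D.four (i + 1)]
    symm
    refine Nat.card_congr (Equiv.ofBijective
      (fun x : V (i + 1) => (⟨p x, ⟨x, x.2, rfl⟩⟩ : s.im (V (i + 1)) (D.V_le_E i))) ⟨?_, ?_⟩)
    · intro x y h
      have h1 : p x = p y := congrArg Subtype.val h
      rw [s.eq_iff (D.V_le_E i x.2) (D.V_le_E i y.2)] at h1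
      exact Subtype.ext (mul_inv_eq_one.1 (notin_V D (mul_mem x.2 (inv_mem y.2)) h1))
    · rintro ⟨_, x, hx, rfl⟩
      exact ⟨⟨x, hx⟩, rfl⟩
  · exact D.T_isPGroup.comap_subtype
  · -- T fixes v
    intro t ht
    rw [mem_subgroupOf] at ht
    rw [s.act t _ (D.v_mem_E i _), D.cen (i + 1) ht]
  · -- fix
    intro m hm
    obtain ⟨x, hx, rfl⟩ := s.surj m
    refine hzc x (hfix x hx fun t ht => ?_)
    have h1 := hm ⟨t, D.T_le_C i ht⟩ (by rw [mem_subgroupOf]; exact ht)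
    rw [act_p D s _ hx, s.eq_iff (conj_E D s (D.T_le_C i ht) hx) hx] at h1
    exact h1
  · -- TV
    rintro t ht _ ⟨x, hx, rfl⟩
    rw [mem_subgroupOf] at ht
    rw [s.act t _ (D.V_le_E i hx)]
    exact ⟨_, (mem_normalizer_iff.1 (D.T_le_N (i + 1) ht) x).1 hx, rfl⟩
  · rintro t ht _ ⟨x, hx, rfl⟩
    rw [mem_subgroupOf] at ht
    rw [s.act t _ (D.V_le_E i hx)]
    exact ⟨_, (mem_normalizer_iff.1 (D.PN (i + 1) (i + 1) ht) x).1 hx, rfl⟩
  · -- tr
    rintro _ ⟨x, hx, rfl⟩ h0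
    have hx1 : x ≠ 1 := by
      rintro rfl
      exact h0 s.one
    obtain ⟨l, hl, -, hlx⟩ := D.tr (ne_add_one i).symm hx hx1
    have hlC : l ∈ CC v i := D.PC (i + 1) i (ne_add_one i).symm hl
    refine ⟨⟨l, hlC⟩, by rw [mem_subgroupOf]; exact hl, ?_⟩
    rw [act_p D s _ (D.v_mem_E i _), hlx]
  · -- span
    rw [eq_top_iff]
    rintro m -
    let K : Subgroup G :=
      { carrier := {x | x ∈ EU T v i ∧ p x ∈ AddSubgroup.closure (MulAction.orbit (CC v i) (p (v (i + 1))))}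
        one_mem' := ⟨one_mem _, by rw [s.one]; exact zero_mem _⟩
        mul_mem' := by
          rintro a b ⟨ha, ha'⟩ ⟨hb, hb'⟩
          exact ⟨mul_mem ha hb, by rw [s.mul _ ha _ hb]; exact add_mem ha' hb'⟩
        inv_mem' := by
          rintro a ⟨ha, ha'⟩
          exact ⟨inv_mem ha, by rw [s.inv ha]; exact neg_mem ha'⟩ }
    have h1 : EU T v i ≤ K := by
      refine V_le fun c hc => ?_
      intro x hx
      rw [mem_conj] at hx
      have hxE : c⁻¹ * x * c ∈ EU T v i := le_V _ _ hx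
      have e : c * (c⁻¹ * x * c) * c⁻¹ = x := by group
      have h2 := conj_E D s hc hxE
      have h3 := act_p D s hc hxE
      rw [e] at h2 h3
      refine ⟨h2, ?_⟩
      rw [← h3]
      rcases hzc _ hx with h | h
      · rw [h, smul_zero]
        exact zero_mem _
      · rw [h]
        exact AddSubgroup.subset_closure ⟨_, rfl⟩
    obtain ⟨x, hx, rfl⟩ := s.surj m
    exact (h1 hx).2
  · -- gen
    rw [eq_top_iff]
    rintro h -
    set K := MulAction.stabilizer (CC v i) (p (v (i + 1))) ⊔ (P (i + 1)).subgroupOf (CC v i) with hK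
    have h1 : P (i + 1) ⊔ centralizer (zc T : Set G) ≤ K.map (CC v i).subtype := by
      refine sup_le ?_ ?_
      · intro x hx
        have hxC : x ∈ CC v i := D.PC (i + 1) i (ne_add_one i).symm hx
        exact ⟨⟨x, hxC⟩, mem_sup_right (by rw [mem_subgroupOf]; exact hx), rfl⟩
      · intro x hx
        have hxC : x ∈ CC v i := D.cent_zc_le i hx
        refine ⟨⟨x, hxC⟩, mem_sup_left ?_, rfl⟩
        rw [MulAction.mem_stabilizer_iff, act_p D s _ (D.v_mem_E i _)]
        congr 1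
        have := mem_centralizer_singleton_iff.1 (D.cent_zc_le (i + 1) hx)
        rw [this, mul_inv_cancel_right]
    obtain ⟨k, hk, hkh⟩ := h1 (D.gen (ne_add_one i).symm h.2)
    have : k = h := Subtype.ext hkh
    rwa [← this]
  · -- ncl
    refine ⟨s.im (EU T v i ⊓ WU V v (i + 1)) inf_le_left, ?_, ?_⟩
    · intro htop
      obtain ⟨A, hAC, hAW, hAN⟩ := hA
      apply hAN
      refine comm_symm ?_
      intro e he
      have heE := D.N_le_E i he
      have h1 : p e ∈ (⊤ : AddSubgroup M) := AddSubgroup.mem_top _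
      rw [← htop] at h1
      obtain ⟨x, ⟨hxE, hxW⟩, hxe⟩ := h1
      rw [s.eq_iff hxE heE] at hxe
      have h2 : e = (x * e⁻¹)⁻¹ * x := by group
      rw [h2]
      refine mul_mem (inv_mem ?_) ((comm_symm hAW) hxW)
      rw [mem_centralizer_iff]
      intro w hw
      have h3 := cz_comm i (hAC hw) hxe
      exact mul_inv_eq_iff_eq_mul.1 h3
    · rintro g hg _ ⟨x, hx, rfl⟩
      have hgD := stab D s hg
      have hxE := D.V_le_E i hx
      rw [s.act g _ hxE]
      refine ⟨_, ⟨conj_E D s g.2 hxE, ?_⟩, rfl⟩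
      exact (mem_normalizer_iff.1 (D.C_le_N_W (i + 1) (D.cent_zc_le (i + 1) hgD)) x).1 (D.V_le_W (i + 1) hx)

theorem Dat_of (hW : ¬ WU V v (i + 1) ≤ centralizer (NU V v i : Set G)) (hfix : FixE T v i) :
    OM.PG.DOne.Dat (p (v (i + 1))) (s.im (V (i + 1)) (D.V_le_E i)) (T.subgroupOf (CC v i))
      ((P (i + 1)).subgroupOf (CC v i)) :=
  Dat_of' D s ⟨WU V v (i + 1), D.W_le_C (i + 1) i, D.W_comm (i + 1), hW⟩ hfix

/-- an element of `C_i` which centralises `E_i` modulo `⟨v_i⟩` centralises `N_i` -/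
theorem cent_of_triv {x : G} (hx : x ∈ CC v i) (h : ∀ m : M, (⟨x, hx⟩ : CC v i) • m = m) :
    x ∈ centralizer (NU V v i : Set G) := by
  have key : ∀ c ∈ CC v i, ∀ y ∈ V (i + 1), x * (c * y * c⁻¹) = c * y * c⁻¹ * x := by
    intro c hc y hy
    by_cases hy1 : y = 1
    · rw [hy1]; simp
    obtain ⟨l, hl, -, rfl⟩ := D.tr (ne_add_one i).symm hy hy1
    have hcl : c * l ∈ CC v i := mul_mem hc (D.PC (i + 1) i (ne_add_one i).symm hl)
    -- `(c l)⁻¹ x (c l) ∈ D`
    have h1 : (c * l)⁻¹ * x * (c * l) ∈ CC v i := mul_mem (mul_mem (inv_mem hcl) hx) hcl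
    have h2 : (⟨(c * l)⁻¹ * x * (c * l), h1⟩ : CC v i) • p (v (i + 1)) = p (v (i + 1)) := by
      have e : (⟨(c * l)⁻¹ * x * (c * l), h1⟩ : CC v i) = (⟨c * l, hcl⟩ : CC v i)⁻¹ * ⟨x, hx⟩ * ⟨c * l, hcl⟩ :=
        Subtype.ext rfl
      rw [e, mul_smul, mul_smul, h, inv_smul_smul]
    have h3 := stab D s h2
    have h4 : (c * l)⁻¹ * x * (c * l) * v (i + 1) = v (i + 1) * ((c * l)⁻¹ * x * (c * l)) :=
      mem_centralizer_singleton_iff.1 (D.cent_zc_le (i + 1) h3)
    have e1 : x * (c * (l * v (i + 1) * l⁻¹) * c⁻¹) = (c * l) * ((c * l)⁻¹ * x * (c * l) * v (i + 1)) * (c * l)⁻¹ := by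
      group
    have e2 : c * (l * v (i + 1) * l⁻¹) * c⁻¹ * x = (c * l) * (v (i + 1) * ((c * l)⁻¹ * x * (c * l))) * (c * l)⁻¹ := by
      group
    rw [e1, e2, h4]
  have h1 : NU V v i ≤ centralizer ({x} : Set G) := by
    refine V_le fun c hc => ?_
    intro y hy
    rw [mem_conj] at hy
    have h2 := key c hc _ hy
    have e : c * (c⁻¹ * y * c) * c⁻¹ = y := by group
    rw [e] at h2
    exact mem_centralizer_singleton_iff.2 h2.symm
  rw [mem_centralizer_iff]
  intro n hn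
  exact mem_centralizer_singleton_iff.1 (h1 hn)

end side

theorem N_le_Q' {i j : Fin 2} (hij : i ≠ j) (hN : ∀ i, NU V v i ≤ centralizer (NU V v (i + 1) : Set G)) :
    NU V v i ≤ QQ v j := by
  obtain rfl := eq_add_one hij
  exact fun x hx => f3'' D i (D.N_le_Q i hx) (hN i hx)

theorem E_le_Q' {i j : Fin 2} (hij : i ≠ j) (hN : ∀ i, NU V v i ≤ centralizer (NU V v (i + 1) : Set G)) :
    EU T v i ≤ QQ v j := by
  refine (D.E_le i).trans (sup_le (N_le_Q' D hij hN) ?_)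
  rw [zpowers_le]
  exact D.v_mem_Q' j i

/-- the elements of `W_j` act as `1` or as a transvection with centre `v j` on `E_i` -/
theorem act_or {i j : Fin 2} (hij : i ≠ j) (hN : ∀ i, NU V v i ≤ centralizer (NU V v (i + 1) : Set G)) {x e : G}
    (hx : x ∈ WU V v j) (he : e ∈ EU T v i) : x * e * x⁻¹ = e ∨ x * e * x⁻¹ = v j * e := by
  rcases mem_zp D (comm_WQ D j hx (E_le_Q' D hij hN he)) with h | h
  · exact Or.inl (mul_inv_eq_one.1 h)
  · exact Or.inr (mul_inv_eq_iff_eq_mul.1 h)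

/-- **(b)** at group level -/
theorem act_eq {i j : Fin 2} (hij : i ≠ j) (hN : ∀ i, NU V v i ≤ centralizer (NU V v (i + 1) : Set G))
    (hW : ¬ WU V v j ≤ centralizer (NU V v i : Set G)) (hfix : FixE T v i) {x y e : G}
    (hx : x ∈ WU V v j) (hy : y ∈ WU V v j) (hx' : x ∉ centralizer (NU V v i : Set G))
    (hy' : y ∉ centralizer (NU V v i : Set G)) (he : e ∈ NU V v i) : x * e * x⁻¹ = y * e * y⁻¹ := by
  have hij' := hij
  obtain rfl := eq_add_one hij
  obtain ⟨M, _, _, p, s⟩ := exists_M D i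
  have hfin : Finite M := s.finite
  have d := Dat_of D s hW hfix
  have hadd : ∀ m : M, m + m = 0 := s.add_self fun x hx => by
    rw [← pow_two, D.E_sq i x hx]
    exact one_mem _
  have hxC : ∀ x ∈ WU V v (i + 1), x ∈ CC v i := fun x hx => D.W_le_C (i + 1) i hx
  have h1 : ∀ (x : G) (hx : x ∈ WU V v (i + 1)), ∀ m : M,
      (⟨x, hxC x hx⟩ : CC v i) • m = m ∨ (⟨x, hxC x hx⟩ : CC v i) • m = m + p (v (i + 1)) := by
    intro x hx m
    obtain ⟨e, he, rfl⟩ := s.surj m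
    rw [act_p D s _ he]
    rcases act_or D hij hN hx he with h | h
    · rw [h]
      exact Or.inl rfl
    · rw [h, s.mul _ (D.v_mem_E i _) _ he, add_comm]
      exact Or.inr rfl
  have h2 : ∀ (x : G) (hx : x ∈ WU V v (i + 1)), x ∉ centralizer (NU V v i : Set G) →
      ∃ m : M, (⟨x, hxC x hx⟩ : CC v i) • m ≠ m := by
    intro x hx hx'
    rw [mem_centralizer_iff] at hx'
    push Not at hx'
    obtain ⟨e, he, hne⟩ := hx'
    have heE := D.N_le_E i he
    refine ⟨p e, ?_⟩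
    rw [act_p D s _ heE]
    rcases act_or D hij hN hx heE with h | h
    · exact absurd (mul_inv_eq_iff_eq_mul.1 h).symm hne
    · rw [h, s.mul _ (D.v_mem_E i _) _ heE]
      intro h3
      exact d.v0 (by simpa using h3)
  have h3 := d.two_eq hadd (h1 x hx) (h1 y hy) (h2 x hx hx') (h2 y hy hy') (p e)
  have heE := D.N_le_E i he
  rw [act_p D s _ heE, act_p D s _ heE, s.eq_iff (conj_E D s (hxC x hx) heE) (conj_E D s (hxC y hy) heE)] at h3
  have h4 : x * e * x⁻¹ * (y * e * y⁻¹)⁻¹ ∈ zpowers (v (i + 1)) := by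
    have k1 := comm_WQ D (i + 1) hx (E_le_Q' D hij' hN heE)
    have k2 := comm_WQ D (i + 1) hy (E_le_Q' D hij' hN heE)
    have := mul_mem k1 (inv_mem k2)
    have e' : x * e * x⁻¹ * e⁻¹ * (y * e * y⁻¹ * e⁻¹)⁻¹ = x * e * x⁻¹ * (y * e * y⁻¹)⁻¹ := by group
    rwa [e'] at this
  exact mul_inv_eq_one.1 (zp_inf D h3 h4)

/-- the elements of `N_j` outside `C(W_i)` are congruent -/
theorem idx_two {i j : Fin 2} (hij : i ≠ j) (hN : ∀ i, NU V v i ≤ centralizer (NU V v (i + 1) : Set G))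
    (hW : ¬ WU V v i ≤ centralizer (NU V v j : Set G)) (hfix : FixE T v j) {e e' : G}
    (he : e ∈ NU V v j) (he' : e' ∈ NU V v j) (hne : e ∉ centralizer (WU V v i : Set G))
    (hne' : e' ∉ centralizer (WU V v i : Set G)) : e * e'⁻¹ ∈ centralizer (WU V v i : Set G) := by
  have key : ∀ e ∈ NU V v j, e ∉ centralizer (WU V v i : Set G) → ∀ w ∈ WU V v i,
      w ∉ centralizer (NU V v j : Set G) → w * e * w⁻¹ = v i * e := by
    intro e he hne w hw hw'
    rw [mem_centralizer_iff] at hne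
    push Not at hne
    obtain ⟨w₁, hw₁, h1⟩ := hne
    have h2 : w₁ ∉ centralizer (NU V v j : Set G) := fun h => h1 ((mem_centralizer_iff.1 h) e he).symm
    rw [act_eq D hij.symm hN hW hfix hw hw₁ hw' h2 he]
    rcases act_or D hij.symm hN hw₁ (D.N_le_E j he) with h | h
    · exact absurd (mul_inv_eq_iff_eq_mul.1 h) h1
    · exact h
  rw [mem_centralizer_iff]
  intro w hw
  by_cases hw' : w ∈ centralizer (NU V v j : Set G)
  · exact ((mem_centralizer_iff.1 hw') _ (mul_mem he (inv_mem he'))).symm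
  · have h1 := key e he hne w hw hw'
    have h2 := key e' he' hne' w hw hw'
    have h3 : w * (e * e'⁻¹) * w⁻¹ = e * e'⁻¹ := by
      have e1 : w * (e * e'⁻¹) * w⁻¹ = (w * e * w⁻¹) * (w * e' * w⁻¹)⁻¹ := by group
      have h4 : (e * e'⁻¹) * v i = v i * (e * e'⁻¹) :=
        mem_centralizer_singleton_iff.1 (D.N_le_C j i (mul_mem he (inv_mem he')))
      rw [e1, h1, h2, mul_inv_rev]
      calc v i * e * (e'⁻¹ * (v i)⁻¹) = v i * (e * e'⁻¹) * (v i)⁻¹ := by group
        _ = _ := by rw [← h4, mul_inv_cancel_right]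
    exact mul_inv_eq_iff_eq_mul.1 h3

/-- `Q_i / C_{Q_i}(W_i)` -/
theorem exists_K (i : Fin 2) : ∃ (K : Type u) (_ : AddCommGroup K) (_ : DistribMulAction (CC v i) K) (p : G → K),
    Sec (QQ v i) (QQ v i ⊓ centralizer (WU V v i : Set G)) (CC v i) K p := by
  have hn : CC v i ≤ normalizer ((QQ v i ⊓ centralizer (WU V v i : Set G) : Subgroup G) : Set G) := by
    have h1 : ∀ c ∈ CC v i, ∀ x ∈ QQ v i ⊓ centralizer (WU V v i : Set G),
        c * x * c⁻¹ ∈ QQ v i ⊓ centralizer (WU V v i : Set G) := by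
      intro c hc x hxx
      obtain ⟨hx, hx'⟩ := mem_inf.1 hxx
      refine mem_inf.2 ⟨(mem_normalizer_iff.1 (le_normalizer_o2 _ hc) x).1 hx, ?_⟩
      rw [mem_centralizer_iff]
      intro w hw
      have h2 : c⁻¹ * w * c ∈ WU V v i := by
        have := (mem_normalizer_iff.1 (D.C_le_N_W i (inv_mem hc)) w).1 hw
        rwa [inv_inv] at this
      have h3 := (mem_centralizer_iff.1 hx') _ h2
      have e1 : w * (c * x * c⁻¹) = c * (c⁻¹ * w * c * x) * c⁻¹ := by group
      have e2 : c * x * c⁻¹ * w = c * (x * (c⁻¹ * w * c)) * c⁻¹ := by group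
      rw [e1, e2, h3]
    intro c hc
    rw [mem_normalizer_iff]
    intro x
    refine ⟨h1 c hc x, fun h => ?_⟩
    have := h1 c⁻¹ (inv_mem hc) _ h
    have e : c⁻¹ * (c * x * c⁻¹) * c⁻¹⁻¹ = x := by group
    rwa [e] at this
  refine exists_sec ?_ (((D.Q_le_T i).trans (D.T_le_C i)).trans hn) (le_normalizer_o2 _) hn
  intro a ha b hb
  refine mem_inf.2 ⟨mul_mem (mul_mem (mul_mem ha hb) (inv_mem ha)) (inv_mem hb), ?_⟩
  rw [mem_centralizer_iff]
  intro w hw
  have h1 := comm_WQ D i hw ha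
  have h2 := comm_WQ D i hw hb
  have hC : ∀ c ∈ QQ v i, ∀ z ∈ zpowers (v i), c * z = z * c := fun c hc z hz =>
    mul_inv_eq_iff_eq_mul.1 (cz_comm i (D.T_le_C i (D.Q_le_T i hc)) hz)
  set z₁ := w * a * w⁻¹ * a⁻¹ with hz₁
  set z₂ := w * b * w⁻¹ * b⁻¹ with hz₂
  have h3 : w * a * w⁻¹ = z₁ * a := by rw [hz₁]; group
  have h4 : w * b * w⁻¹ = z₂ * b := by rw [hz₂]; group
  have h5 : w * (a * b * a⁻¹ * b⁻¹) * w⁻¹ = a * b * a⁻¹ * b⁻¹ := by
    have e1 : w * (a * b * a⁻¹ * b⁻¹) * w⁻¹ = (w * a * w⁻¹) * (w * b * w⁻¹) * (w * a * w⁻¹)⁻¹ * (w * b * w⁻¹)⁻¹ := by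
      group
    have e2 : z₁ * a * (z₂ * b) * (z₁ * a)⁻¹ * (z₂ * b)⁻¹ = z₁ * (a * z₂ * b * a⁻¹) * z₁⁻¹ * b⁻¹ * z₂⁻¹ := by group
    have q1 := hC a ha z₂ h2
    have hb' : b⁻¹ ∈ QQ v i := inv_mem hb
    have hab : a * b * a⁻¹ ∈ QQ v i := mul_mem (mul_mem ha hb) (inv_mem ha)
    have hz12 : z₁ * z₂ = z₂ * z₁ := by
      have := (mem_zpowers_iff.1 h1)
      obtain ⟨m, hm⟩ := this
      obtain ⟨n, hn⟩ := mem_zpowers_iff.1 h2
      rw [← hm, ← hn, ← zpow_add, ← zpow_add, add_comm]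
    have q2 := hC _ hab z₁⁻¹ (inv_mem h1)
    have q3 := hC b⁻¹ hb' z₂⁻¹ (inv_mem h2)
    rw [e1, h3, h4, e2]
    calc z₁ * (a * z₂ * b * a⁻¹) * z₁⁻¹ * b⁻¹ * z₂⁻¹
        = z₁ * (z₂ * a * b * a⁻¹) * z₁⁻¹ * b⁻¹ * z₂⁻¹ := by rw [q1]
      _ = z₁ * z₂ * (a * b * a⁻¹ * z₁⁻¹) * (b⁻¹ * z₂⁻¹) := by group
      _ = z₁ * z₂ * (z₁⁻¹ * (a * b * a⁻¹)) * (z₂⁻¹ * b⁻¹) := by rw [q2, q3]
      _ = z₂ * (z₁ * z₁⁻¹) * ((a * b * a⁻¹) * z₂⁻¹) * b⁻¹ := by rw [hz12]; group
      _ = z₂ * (z₂⁻¹ * (a * b * a⁻¹)) * b⁻¹ := by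
        rw [hC _ hab z₂⁻¹ (inv_mem h2), mul_inv_cancel, mul_one]
      _ = a * b * a⁻¹ * b⁻¹ := by group
  exact mul_inv_eq_iff_eq_mul.1 h5

/-- **(5) of helper609's TEXT R4** over the frame of CARD #18791: `[N_0, N_1] = 1`, `W_1` moves `N_0`, `W_0` moves `N_1`
and `C_{E_i/⟨v_i⟩}(T) = Ω₁Z(T)/⟨v_i⟩` is impossible (`d = 1`; radical or not; no (NO), no swap). -/
theorem false_of (hN : ∀ i, NU V v i ≤ centralizer (NU V v (i + 1) : Set G))
    (hW : ∀ i, ¬ WU V v (i + 1) ≤ centralizer (NU V v i : Set G)) (hfix : ∀ i, FixE T v i) : False := by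
  classical
  obtain ⟨i, hi⟩ : ∃ i : Fin 2, i = 0 := ⟨0, rfl⟩
  have hij := ne_add_one i
  have hWi : ¬ WU V v i ≤ centralizer (NU V v (i + 1) : Set G) := by
    have := hW (i + 1)
    rwa [add_one_add_one] at this
  obtain ⟨M, _, _, p, s⟩ := exists_M D i
  obtain ⟨K, _, _, r, k⟩ := exists_K D i
  have hfin : Finite M := s.finite
  have d := Dat_of D s (hW i) (hfix i)
  have haddM : ∀ m : M, m + m = 0 := s.add_self fun x hx => by
    rw [← pow_two, D.E_sq i x hx]
    exact one_mem _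
  have hWC : ∀ x ∈ WU V v (i + 1), x ∈ CC v i := fun x hx => D.W_le_C (i + 1) i hx
  have hQn : ∀ c ∈ CC v i, ∀ q ∈ QQ v i, c * q * c⁻¹ ∈ QQ v i := fun c hc q hq =>
    (mem_normalizer_iff.1 (le_normalizer_o2 _ hc) q).1 hq
  have hQC : ∀ q ∈ QQ v i, q ∈ CC v i := fun q hq => D.T_le_C i (D.Q_le_T i hq)
  have hvC : ∀ c ∈ CC v i, c * v i = v i * c := fun c hc => mem_centralizer_singleton_iff.1 hc
  have hNQ : NU V v (i + 1) ≤ QQ v i := N_le_Q' D hij.symm hN
  -- the pairing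
  have pair : ∀ w ∈ WU V v i, ∀ q ∈ QQ v i, w * q * w⁻¹ = q ∨ w * q * w⁻¹ = v i * q := by
    intro w hw q hq
    rcases mem_zp D (comm_WQ D i hw hq) with h | h
    · exact Or.inl (mul_inv_eq_one.1 h)
    · exact Or.inr (mul_inv_eq_iff_eq_mul.1 h)
  have haddK : ∀ q : K, q + q = 0 := k.add_self fun q hq => by
    refine mem_inf.2 ⟨mul_mem hq hq, ?_⟩
    rw [mem_centralizer_iff]
    intro w hw
    have h1 : w * (q * q) * w⁻¹ = q * q := by
      have e : w * (q * q) * w⁻¹ = (w * q * w⁻¹) * (w * q * w⁻¹) := by group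
      rw [e]
      rcases pair w hw q hq with h | h
      · rw [h]
      · rw [h]
        calc v i * q * (v i * q) = v i * (q * v i) * q := by group
          _ = (v i * v i) * (q * q) := by rw [hvC q (hQC q hq)]; group
          _ = q * q := by rw [D.v_sq i, one_mul]
    exact mul_inv_eq_iff_eq_mul.1 h1
  -- the element `n₀`
  obtain ⟨n₀, hn₀, hn₀'⟩ : ∃ n ∈ NU V v (i + 1), n ∉ centralizer (WU V v i : Set G) := by
    by_contra hcon
    push Not at hcon
    exact hWi (comm_symm hcon)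
  have hn₀Q := hNQ hn₀
  -- an element of `W_i` outside `C(N_j)` moves `n₀`
  have mv₀ : ∀ w ∈ WU V v i, w ∉ centralizer (NU V v (i + 1) : Set G) → w * n₀ * w⁻¹ = v i * n₀ := by
    intro w hw hw'
    have h0 := hn₀'
    rw [mem_centralizer_iff] at h0
    push Not at h0
    obtain ⟨w₁, hw₁, h1⟩ := h0
    have h2 : w₁ ∉ centralizer (NU V v (i + 1) : Set G) := fun h => h1 ((mem_centralizer_iff.1 h) n₀ hn₀).symm
    rw [act_eq D hij.symm hN hWi (hfix (i + 1)) hw hw₁ hw' h2 hn₀]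
    rcases pair w₁ hw₁ n₀ hn₀Q with h | h
    · exact absurd (mul_inv_eq_iff_eq_mul.1 h) h1
    · exact h
  have congrK : ∀ x ∈ QQ v i, ∀ y ∈ QQ v i, x * y⁻¹ ∈ centralizer (WU V v i : Set G) → r x = r y := by
    intro x hx y hy h
    rw [k.eq_iff hx hy]
    exact mem_inf.2 ⟨mul_mem hx (inv_mem hy), h⟩
  -- `α`
  obtain ⟨a, haV, ha1, hav⟩ := D.exists_ne_v i
  have haW : a ∈ WU V v i := D.V_le_W i haV
  let f : G → ZMod 2 := fun q => if a * q * a⁻¹ = q then 0 else 1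
  have hf0 : ∀ q, f q = 0 ↔ a * q * a⁻¹ = q := by
    intro q
    by_cases h : a * q * a⁻¹ = q
    · simp [f, h]
    · simp [f, h]
  have hf1 : ∀ q ∈ QQ v i, f q = 1 → a * q * a⁻¹ = v i * q := by
    intro q hq h
    rcases pair a haW q hq with h1 | h1
    · rw [(hf0 q).2 h1] at h
      exact absurd h (by decide)
    · exact h1
  have hfm : ∀ x ∈ QQ v i, ∀ y ∈ QQ v i, f (x * y) = f x + f y := by
    intro x hx y hy
    have e : a * (x * y) * a⁻¹ = (a * x * a⁻¹) * (a * y * a⁻¹) := by group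
    have hxv := hvC x (hQC x hx)
    rcases OM.PG.DOne.z2 (f x) with h1 | h1 <;> rcases OM.PG.DOne.z2 (f y) with h2 | h2
    · rw [h1, h2, add_zero, hf0, e, (hf0 x).1 h1, (hf0 y).1 h2]
    · rw [h1, h2, zero_add]
      rcases OM.PG.DOne.z2 (f (x * y)) with h3 | h3
      · exfalso
        rw [hf0, e, (hf0 x).1 h1, hf1 y hy h2] at h3
        have h4 : v i * y = y := mul_left_cancel h3
        exact D.ne i (by simpa using h4)
      · exact h3
    · rw [h1, h2, add_zero]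
      rcases OM.PG.DOne.z2 (f (x * y)) with h3 | h3
      · exfalso
        rw [hf0, e, (hf0 y).1 h2, hf1 x hx h1] at h3
        have h4 : v i * x = x := mul_right_cancel h3
        exact D.ne i (by simpa using h4)
      · exact h3
    · rw [h1, h2, CharTwo.add_self_eq_zero, hf0, e, hf1 x hx h1, hf1 y hy h2]
      calc v i * x * (v i * y) = v i * (x * v i) * y := by group
        _ = (v i * v i) * (x * y) := by rw [hxv]; group
        _ = x * y := by rw [D.v_sq i, one_mul]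
  obtain ⟨α, hα⟩ := k.exists_lift f hfm (fun x _ hx => (hf0 x).2 (by
    have := (mem_centralizer_iff.1 (mem_inf.1 hx).2) a haW
    rw [this, mul_inv_cancel_right]))
  -- invariance of `α`
  have hinv : ∀ t ∈ CC v i, (∀ x ∈ V i, t⁻¹ * x * t ∈ V i) → ∀ q ∈ QQ v i, f (t * q * t⁻¹) = f q := by
    intro t ht htV q hq
    have h1 : t⁻¹ * a * t = a ∨ t⁻¹ * a * t = a * v i := by
      by_cases h : t⁻¹ * a * t = a
      · exact Or.inl h
      · right
        have k1 : t⁻¹ * a * t ≠ 1 := by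
          intro h2
          have e : a = t * (t⁻¹ * a * t) * t⁻¹ := by group
          rw [h2, mul_one, mul_inv_cancel] at e
          exact ha1 e
        have k2 : t⁻¹ * a * t ≠ v i := by
          intro h2
          have e : a = t * (t⁻¹ * a * t) * t⁻¹ := by group
          rw [h2, hvC t ht, mul_inv_cancel_right] at e
          exact hav e
        rcases D.eq_of_V haV ha1 (D.mem i) (D.ne i) hav (htV a haV) k1 with h2 | h2 | h2
        · exact absurd h2 h
        · exact absurd h2 k2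
        · exact h2
    have h2 : (t⁻¹ * a * t) * q * (t⁻¹ * a * t)⁻¹ = a * q * a⁻¹ := by
      rcases h1 with h | h
      · rw [h]
      · rw [h, mul_inv_rev]
        have := hvC q (hQC q hq)
        calc a * v i * q * ((v i)⁻¹ * a⁻¹) = a * (v i * q) * (v i)⁻¹ * a⁻¹ := by group
          _ = _ := by rw [← this]; group
    have h3 : a * (t * q * t⁻¹) * a⁻¹ = t * (a * q * a⁻¹) * t⁻¹ := by
      rw [← h2]; group
    have h4 : a * (t * q * t⁻¹) * a⁻¹ = t * q * t⁻¹ ↔ a * q * a⁻¹ = q := by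
      rw [h3]
      constructor
      · intro h
        exact mul_left_cancel (mul_right_cancel h)
      · intro h
        rw [h]
    have h5 : f (t * q * t⁻¹) = 0 ↔ f q = 0 := by rw [hf0, hf0, h4]
    rcases OM.PG.DOne.z2 (f (t * q * t⁻¹)) with h6 | h6 <;> rcases OM.PG.DOne.z2 (f q) with h7 | h7
    · rw [h6, h7]
    · rw [h6, h5.1 h6]
    · rw [h7, h5.2 h7]
    · rw [h6, h7]
  have hPinv : ∀ t ∈ P (i + 1), t ∈ CC v i ∧ ∀ x ∈ V i, t⁻¹ * x * t ∈ V i := by
    intro t ht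
    refine ⟨D.PC (i + 1) i hij.symm ht, fun x hx => ?_⟩
    have := (mem_normalizer_iff.1 (D.PN (i + 1) i (inv_mem ht)) x).1 hx
    rwa [inv_inv] at this
  have actK : ∀ (g : G) (hg : g ∈ CC v i), ∀ q ∈ QQ v i, (⟨g, hg⟩ : CC v i) • r q = r (g * q * g⁻¹) :=
    fun g hg q hq => k.act _ q hq
  -- `N_i W_i`: `[w, x] ∈ ⟨v_j⟩` for `w ∈ W_i ∩ C(N_j)`, `x ∈ W_j`
  have hwx : ∀ w ∈ WU V v i, w ∈ centralizer (NU V v (i + 1) : Set G) → ∀ x ∈ WU V v (i + 1),
      x⁻¹ * w * x = w ∨ x⁻¹ * w * x = w * v (i + 1) := by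
    intro w hw hw' x hx
    have h1 := f3'' D i (D.W_le_Q i hw) hw'
    have h2 : x⁻¹ * w * x⁻¹⁻¹ * w⁻¹ ∈ zpowers (v (i + 1)) := comm_WQ D (i + 1) (inv_mem hx) h1
    rw [inv_inv] at h2
    have hc : w * v (i + 1) = v (i + 1) * w := mem_centralizer_singleton_iff.1 (D.W_le_C i (i + 1) hw)
    rcases mem_zp D h2 with h | h
    · exact Or.inl (mul_inv_eq_one.1 h)
    · right
      rw [hc]
      exact mul_inv_eq_iff_eq_mul.1 h
  have hvjQ : ∀ q ∈ QQ v i, q * v (i + 1) = v (i + 1) * q := fun q hq =>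
    mem_centralizer_singleton_iff.1 (D.T_le_C (i + 1) (D.Q_le_T i hq))
  refine OM.PG.DOne.Dat.false (n := r n₀) (α := α) (X := (WU V v (i + 1)).subgroupOf (CC v i)) haddM haddK d
    ⟨?_, ?_, ?_, ?_, ?_, ?_, ?_, ?_, ?_, ?_, ?_⟩
  · -- idx
    exact ChoiceSit.syl_not_dvd (D.syl i)
  · -- tv
    intro x hx m
    rw [mem_subgroupOf] at hx
    obtain ⟨e, he, rfl⟩ := s.surj m
    rw [s.act x _ he]
    rcases act_or D hij hN hx he with h | h
    · rw [h]
      exact Or.inl rfl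
    · rw [h, s.mul _ (D.v_mem_E i _) _ he, add_comm]
      exact Or.inr rfl
  · -- nt
    have h0 : ∃ x ∈ WU V v (i + 1), ∃ e ∈ NU V v i, e * x ≠ x * e := by
      by_contra hcon
      push Not at hcon
      exact hW i fun x hx => mem_centralizer_iff.2 fun e he => hcon x hx e he
    obtain ⟨x, hx, e, he, hne⟩ := h0
    have heE := D.N_le_E i he
    refine ⟨⟨x, hWC x hx⟩, by rw [mem_subgroupOf]; exact hx, p e, ?_⟩
    rw [act_p D s _ heE]
    rcases act_or D hij hN hx heE with h | h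
    · exact absurd (mul_inv_eq_iff_eq_mul.1 h).symm hne
    · rw [h, s.mul _ (D.v_mem_E i _) _ heE]
      intro h3
      exact d.v0 (by simpa using h3)
  · -- XD
    intro g hg x hx
    rw [mem_subgroupOf] at hx ⊢
    have hgD := stab D s hg
    exact (mem_normalizer_iff.1 (D.C_le_N_W (i + 1) (D.cent_zc_le (i + 1) hgD)) (x : G)).1 hx
  · -- Dn
    intro g hg
    have hgD := stab D s hg
    rw [k.act g _ hn₀Q]
    have h1 : (g : G) * n₀ * (g : G)⁻¹ ∈ NU V v (i + 1) :=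
      (mem_normalizer_iff.1 (D.C_le_N_N (i + 1) (D.cent_zc_le (i + 1) hgD)) n₀).1 hn₀
    have h2 : (g : G) * n₀ * (g : G)⁻¹ ∉ centralizer (WU V v i : Set G) := by
      intro h
      apply hn₀'
      rw [mem_centralizer_iff] at h ⊢
      intro w hw
      have h3 : (g : G) * w * (g : G)⁻¹ ∈ WU V v i := (mem_normalizer_iff.1 (D.C_le_N_W i g.2) w).1 hw
      have h4 := h _ h3
      have e1 : (g : G) * w * (g : G)⁻¹ * ((g : G) * n₀ * (g : G)⁻¹) = g * (w * n₀) * (g : G)⁻¹ := by group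
      have e2 : (g : G) * n₀ * (g : G)⁻¹ * ((g : G) * w * (g : G)⁻¹) = g * (n₀ * w) * (g : G)⁻¹ := by group
      rw [e1, e2] at h4
      exact mul_left_cancel (mul_right_cancel h4)
    exact congrK _ (hQn _ g.2 _ hn₀Q) _ hn₀Q (idx_two D hij hN hWi (hfix (i + 1)) h1 hn₀ h2 hn₀')
  · -- tn
    intro x hx q
    rw [mem_subgroupOf] at hx
    obtain ⟨q, hq, rfl⟩ := k.surj q
    rw [k.act x _ hq]
    have hxq := hQn _ x.2 _ hq
    -- `q' = x q x⁻¹ q⁻¹`
    have key : ∀ w ∈ WU V v i, w ∈ centralizer (NU V v (i + 1) : Set G) →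
        w * ((x : G) * q * (x : G)⁻¹ * q⁻¹) * w⁻¹ = (x : G) * q * (x : G)⁻¹ * q⁻¹ := by
      intro w hw hw'
      have h1 : ((x : G)⁻¹ * w * x) * q * ((x : G)⁻¹ * w * x)⁻¹ = w * q * w⁻¹ := by
        rcases hwx w hw hw' x hx with h | h
        · rw [h]
        · rw [h, mul_inv_rev]
          calc w * v (i + 1) * q * ((v (i + 1))⁻¹ * w⁻¹) = w * (v (i + 1) * q) * (v (i + 1))⁻¹ * w⁻¹ := by group
            _ = _ := by rw [← hvjQ q hq]; group
      have h2 : w * ((x : G) * q * (x : G)⁻¹) * w⁻¹ = x * (w * q * w⁻¹) * (x : G)⁻¹ := by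
        rw [← h1]; group
      have e : w * ((x : G) * q * (x : G)⁻¹ * q⁻¹) * w⁻¹ = (w * ((x : G) * q * (x : G)⁻¹) * w⁻¹) * (w * q * w⁻¹)⁻¹ := by
        group
      rw [e, h2]
      rcases pair w hw q hq with h | h
      · rw [h]
      · rw [h]
        have h3 := hvC x x.2
        calc (x : G) * (v i * q) * (x : G)⁻¹ * (v i * q)⁻¹ = (x * v i) * q * (x : G)⁻¹ * q⁻¹ * (v i)⁻¹ := by group
          _ = v i * (x * q * (x : G)⁻¹ * q⁻¹) * (v i)⁻¹ := by rw [h3]; group
          _ = _ := by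
            have h4 : ((x : G) * q * (x : G)⁻¹ * q⁻¹) * v i = v i * ((x : G) * q * (x : G)⁻¹ * q⁻¹) :=
              hvC _ (mul_mem (hQC _ hxq) (inv_mem (hQC q hq)))
            rw [← h4, mul_inv_cancel_right]
    by_cases hc : (x : G) * q * (x : G)⁻¹ * q⁻¹ ∈ centralizer (WU V v i : Set G)
    · exact Or.inl (congrK _ hxq _ hq hc)
    · right
      rw [← k.mul _ hq _ hn₀Q]
      refine congrK _ hxq _ (mul_mem hq hn₀Q) ?_
      set q' := (x : G) * q * (x : G)⁻¹ * q⁻¹ with hq'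
      have hq'Q : q' ∈ QQ v i := mul_mem hxq (inv_mem hq)
      have mv' : ∀ w ∈ WU V v i, w ∉ centralizer (NU V v (i + 1) : Set G) → w * q' * w⁻¹ = v i * q' := by
        have hc0 := hc
        rw [mem_centralizer_iff] at hc0
        push Not at hc0
        obtain ⟨w₁, hw₁, h1⟩ := hc0
        have h2 : w₁ ∉ centralizer (NU V v (i + 1) : Set G) := fun h =>
          h1 (mul_inv_eq_iff_eq_mul.1 (key w₁ hw₁ h))
        have h3 : w₁ * q' * w₁⁻¹ = v i * q' := by
          rcases pair w₁ hw₁ q' hq'Q with h | h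
          · exact absurd (mul_inv_eq_iff_eq_mul.1 h) h1
          · exact h
        intro w hw hw'
        have h4 : w₁⁻¹ * w ∈ centralizer (NU V v (i + 1) : Set G) := by
          rw [mem_centralizer_iff]
          intro e he
          have h5 := act_eq D hij.symm hN hWi (hfix (i + 1)) hw hw₁ hw' h2 he
          have h6 : (w₁⁻¹ * w) * e * (w₁⁻¹ * w)⁻¹ = e := by
            have e1 : (w₁⁻¹ * w) * e * (w₁⁻¹ * w)⁻¹ = w₁⁻¹ * (w * e * w⁻¹) * w₁ := by group
            rw [e1, h5]; group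
          exact (mul_inv_eq_iff_eq_mul.1 h6).symm
        have h7 := key _ (mul_mem (inv_mem hw₁) hw) h4
        have e2 : w * q' * w⁻¹ = w₁ * (w₁⁻¹ * w * q' * (w₁⁻¹ * w)⁻¹) * w₁⁻¹ := by group
        rw [e2, h7, h3]
      rw [mem_centralizer_iff]
      intro w hw
      have e3 : (x : G) * q * (x : G)⁻¹ * (q * n₀)⁻¹ = (x : G) * q * (x : G)⁻¹ * n₀⁻¹ * q⁻¹ := by group
      have h8 : w * ((x : G) * q * (x : G)⁻¹ * (q * n₀)⁻¹) * w⁻¹ = (x : G) * q * (x : G)⁻¹ * (q * n₀)⁻¹ := by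
        have e4 : (x : G) * q * (x : G)⁻¹ = q' * q := by rw [hq']; group
        rw [e4]
        have e5 : w * (q' * q * (q * n₀)⁻¹) * w⁻¹ = (w * q' * w⁻¹) * (w * q * w⁻¹) * ((w * q * w⁻¹) * (w * n₀ * w⁻¹))⁻¹ := by
          group
        rw [e5]
        have e6 : (w * q * w⁻¹) * ((w * q * w⁻¹) * (w * n₀ * w⁻¹))⁻¹ = (w * q * w⁻¹) * (w * n₀ * w⁻¹)⁻¹ * (w * q * w⁻¹)⁻¹ := by
          group
        have hvq := hvC q (hQC q hq)
        have hvq' := hvC q' (hQC q' hq'Q)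
        have hvn := hvC n₀ (hQC n₀ hn₀Q)
        have hvn' := hvC n₀⁻¹ (inv_mem (hQC n₀ hn₀Q))
        have hvv := D.v_sq i
        have hvi : (v i)⁻¹ = v i := inv_eq_of_mul_eq_one_left hvv
        -- `w` acts on `q` by `1` or `v i`, which cancels
        have h9 : (w * q * w⁻¹) * ((w * q * w⁻¹) * (w * n₀ * w⁻¹))⁻¹ = q * (q * (w * n₀ * w⁻¹))⁻¹ := by
          rcases pair w hw q hq with h | h
          · rw [h]
          · rw [h]
            have hn' : (w * n₀ * w⁻¹) * v i = v i * (w * n₀ * w⁻¹) :=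
              hvC _ (mul_mem (mul_mem (hQC w (D.W_le_Q i hw)) (hQC n₀ hn₀Q)) (inv_mem (hQC w (D.W_le_Q i hw))))
            have hn'' : (q * (w * n₀ * w⁻¹)⁻¹ * q⁻¹) * v i = v i * (q * (w * n₀ * w⁻¹)⁻¹ * q⁻¹) :=
              hvC _ (mul_mem (mul_mem (hQC q hq) (inv_mem (mul_mem (mul_mem (hQC w (D.W_le_Q i hw)) (hQC n₀ hn₀Q))
                (inv_mem (hQC w (D.W_le_Q i hw)))))) (inv_mem (hQC q hq)))
            calc v i * q * (v i * q * (w * n₀ * w⁻¹))⁻¹ = v i * (q * (w * n₀ * w⁻¹)⁻¹ * q⁻¹) * (v i)⁻¹ := by group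
              _ = (q * (w * n₀ * w⁻¹)⁻¹ * q⁻¹) := by rw [← hn'', mul_inv_cancel_right]
              _ = _ := by group
        rw [mul_assoc, h9]
        by_cases hw' : w ∈ centralizer (NU V v (i + 1) : Set G)
        · rw [key w hw hw']
          have h10 := (mem_centralizer_iff.1 hw') n₀ hn₀
          rw [← h10, mul_inv_cancel_right]
          rw [hq']; group
        · rw [mv' w hw hw', mv₀ w hw hw']
          have h11 : v i * (q' * q * n₀⁻¹ * q⁻¹) * (v i)⁻¹ = q' * q * n₀⁻¹ * q⁻¹ := by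
            have h12 : (q' * q * n₀⁻¹ * q⁻¹) * v i = v i * (q' * q * n₀⁻¹ * q⁻¹) :=
              hvC _ (mul_mem (mul_mem (mul_mem (hQC q' hq'Q) (hQC q hq)) (inv_mem (hQC n₀ hn₀Q))) (inv_mem (hQC q hq)))
            rw [← h12, mul_inv_cancel_right]
          have h13 : v i * q' * (q * (q * (v i * n₀))⁻¹) = v i * (q' * q * n₀⁻¹ * (v i)⁻¹ * q⁻¹) := by group
          have h14 : (v i)⁻¹ * q⁻¹ = q⁻¹ * (v i)⁻¹ := by
            rw [← mul_inv_rev, ← mul_inv_rev, hvq]
          rw [h13, mul_assoc (q' * q * n₀⁻¹), h14, ← mul_assoc, ← mul_assoc]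
          have h15 : v i * (q' * q * n₀⁻¹) * q⁻¹ * (v i)⁻¹ = v i * (q' * q * n₀⁻¹ * q⁻¹) * (v i)⁻¹ := by group
          rw [h15, h11]
          group
      exact mul_inv_eq_iff_eq_mul.1 h8
  · -- tr
    intro x hx hxM q
    rw [mem_subgroupOf] at hx
    obtain ⟨q, hq, rfl⟩ := k.surj q
    rw [k.act x _ hq]
    -- `x` centralises `N_i`
    have h1 : (x : G) ∈ centralizer (NU V v i : Set G) := by
      rw [mem_centralizer_iff]
      intro e he
      have heE := D.N_le_E i he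
      rcases act_or D hij hN hx heE with h | h
      · exact (mul_inv_eq_iff_eq_mul.1 h).symm
      · exfalso
        have h2 := hxM (p e)
        rw [s.act x _ heE, h, s.mul _ (D.v_mem_E i _) _ heE] at h2
        exact d.v0 (by simpa using h2)
    have h2 : (x : G) ∈ QQ v i := f3' D i (D.W_le_Q (i + 1) hx) h1
    rw [k.mul _ (mul_mem h2 hq) _ (inv_mem h2), k.mul _ h2 _ hq, k.inv h2]
    abel
  · -- αT
    intro t ht q
    rw [mem_subgroupOf] at ht
    obtain ⟨q, hq, rfl⟩ := k.surj q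
    rw [k.act t _ hq, hα _ (hQn _ t.2 _ hq), hα _ hq]
    obtain ⟨h1, h2⟩ := hPinv t (D.T_le_P _ ht)
    exact hinv t h1 h2 q hq
  · -- αL
    intro t ht q
    rw [mem_subgroupOf] at ht
    obtain ⟨q, hq, rfl⟩ := k.surj q
    rw [k.act t _ hq, hα _ (hQn _ t.2 _ hq), hα _ hq]
    obtain ⟨h1, h2⟩ := hPinv t ht
    exact hinv t h1 h2 q hq
  · -- αn
    rw [hα _ hn₀Q, hf0]
    have := (mem_centralizer_iff.1 (D.N_comm (i + 1) (V_le_N' D i haV))) n₀ hn₀
    rw [← this, mul_inv_cancel_right]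
  · -- αne
    by_contra hcon
    push Not at hcon
    apply hn₀'
    -- `W_i` centralises `n₀`
    have h1 : WU V v i ≤ centralizer ({n₀} : Set G) := by
      refine V_le fun c hc => ?_
      intro x hx
      rw [mem_conj] at hx
      have h2 := hcon (⟨c⁻¹, inv_mem hc⟩ : CC v i)
      rw [actK _ (inv_mem hc) _ hn₀Q, hα _ (hQn _ (inv_mem hc) _ hn₀Q), hf0] at h2
      have h3 : a * (c⁻¹ * n₀ * c) = (c⁻¹ * n₀ * c) * a := by
        rw [inv_inv] at h2
        exact mul_inv_eq_iff_eq_mul.1 h2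
      -- `c⁻¹ x c` commutes with `c⁻¹ n₀ c`
      have h4 : (c⁻¹ * x * c) * (c⁻¹ * n₀ * c) = (c⁻¹ * n₀ * c) * (c⁻¹ * x * c) := by
        have hm : c⁻¹ * n₀ * c ∈ QQ v i := by
          have := hQn _ (inv_mem hc) _ hn₀Q
          rwa [inv_inv] at this
        have hv := hvC _ (hQC _ hm)
        by_cases hx1 : c⁻¹ * x * c = 1
        · rw [hx1, one_mul, mul_one]
        rcases D.eq_of_V haV ha1 (D.mem i) (D.ne i) hav hx hx1 with h | h | h
        · rw [h, h3]
        · rw [h, hv]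
        · rw [h, mul_assoc, ← hv, ← mul_assoc, h3, mul_assoc]
      rw [mem_centralizer_singleton_iff]
      have e1 : x * n₀ = c * ((c⁻¹ * x * c) * (c⁻¹ * n₀ * c)) * c⁻¹ := by group
      have e2 : n₀ * x = c * ((c⁻¹ * n₀ * c) * (c⁻¹ * x * c)) * c⁻¹ := by group
      rw [e1, e2, h4]
    rw [mem_centralizer_iff]
    intro w hw
    exact mem_centralizer_singleton_iff.1 (h1 hw)

end Cfsg.Agent.Omega.TC.DOne
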