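import Cfsg.Agent.Omega.TC.LemZ
import Cfsg.Agent.Omega.TC.ThmD

/-!
# LEMMA D2 (#21730; CARD #18791 TWO CENTRES, all variants): an exact group in `O₂(D) ∩ O₂(N_G(V j))` for `d ≥ 2`

`ZV V v j = ⟨v (j+1) ^ C_G(V j)⟩ ≤ N_j`.  The critical distance is `n + 1 ≥ 2`.

* `lemZ'` : `B ≤ O₂(D)` elementary abelian, exact on `N_j` ⟹ `C_B(ZV j)` is exact on `N_j`;
* `ex_near` : `N_i^h` at distance `≤ n` of `v (j+1)`, `[N_i^h, N_j] ≠ 1` ⟹ `N_i^h` is exact on `N_j`;
* `exists_flag` : for some `c ∈ C_{j+1}` the group `C_{N_i^(c⁻¹h)}(ZV j)` does not centralise `N_j`;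
* `exists_at` : **LEMMA D2** at a vertex of the type of the end of a critical pair;
* `exists_ex` : **LEMMA D2**: `[N_0, N_1] = 1` ⟹ for some `j` there is an elementary abelian `B ≤ Q_{j+1}`, exact on
  `N_j`, `[B, N_j] ≠ 1`, which centralises `N_{j+1}` and `ZV j`, and `B ≤ O₂(N_G(V j))`.
-/

set_option autoImplicit false
set_option linter.unusedSectionVars false

namespace Cfsg.Agent.Omega.TC.DTwo

open Subgroup Cfsg Cfsg.Agent.ZN Cfsg.Agent.Omega.MinPar
open Cfsg.Agent.Omega.OM.KTwo (CC QQ WU NU EU ne_add_one eq_add_one add_one_add_one le_normalizer_V le_V)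
open Cfsg.Agent.Omega.NoFF.Basic (conj_conj mem_conj conj_le_iff comm_symm comm_mono Z_le_V V_le)
open Cfsg.Agent.Omega.NOThreeL.Pair (conj_eq_of_mem conj_le_normalizer)
open Cfsg.Agent.Omega.NO3L.LemP (Near Same Adj Comm vx vx_eq vx_same vx_mono vx_mk conj_comm_iff)
open Cfsg.Agent.ZN.ChoiceSit (Syl syl_conj syl_not_dvd)
open Cfsg.Agent.Omega.TC.LemZ (ZV card_eq norm_cent norm_inf le_norm_of)
open scoped Pointwise commutatorElement

universe u

variable {G : Type u} [Group G]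

theorem conj_cent (g : G) (N : Subgroup G) :
    MulAut.conj g • centralizer (N : Set G) = centralizer ((MulAut.conj g • N : Subgroup G) : Set G) := by
  ext x
  rw [mem_conj, mem_centralizer_iff, mem_centralizer_iff]
  constructor
  · intro h y hy
    have hy' : y ∈ MulAut.conj g • N := hy
    rw [mem_conj] at hy'
    have h1 := h _ hy'
    have h2 := congrArg (fun t => g * t * g⁻¹) h1
    simpa [mul_assoc] using h2
  · intro h y hy
    have h1 := h (g * y * g⁻¹) (by
      change _ ∈ MulAut.conj g • N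
      rw [mem_conj]
      simpa [mul_assoc] using hy)
    have h2 := congrArg (fun t => g⁻¹ * t * g) h1
    simpa [mul_assoc] using h2

theorem conj_le_centralizer' {g : G} {A B : Subgroup G} (h : A ≤ centralizer (B : Set G)) :
    MulAut.conj g • A ≤ centralizer ((MulAut.conj g • B : Subgroup G) : Set G) := by
  rw [← conj_cent]; exact conj_le_iff.2 h

variable [Finite G] {T : Subgroup G} {V P : Fin 2 → Subgroup G} {v : Fin 2 → G} (D : Fr T V P v)

include D

/-- **LEMMA Z** for any exact `B` -/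
theorem lemZ' (hML : ML.Final.MLK.{u, u}) (hK : ∀ i, IsKGroup (CC v i)) (i : Fin 2) {B : Subgroup G}
    (hBO : B ≤ o2 (centralizer (zc T : Set G))) (hB2 : ∀ b ∈ B, b ^ 2 = 1) (h3 : OM.PG.Int.Ex B (NU V v i)) :
    OM.PG.Int.Ex (B ⊓ centralizer (ZV V v i : Set G)) (NU V v i) := by
  set N := NU V v i with hN
  set Z := ZV V v i with hZ
  set Y := N ⊓ centralizer (B : Set G) with hY
  set A := B ⊓ centralizer (Z : Set G) with hA
  have hZN : Z ≤ N := LemZ.ZV_le D i
  have hBT : B ≤ T := hBO.trans D.o2D_le_T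
  have hAB : A ≤ B := inf_le_left
  have hHC : centralizer (V i : Set G) ⊔ T ≤ CC v i := sup_le (LemZ.cent_V_le D i) (D.T_le_C i)
  -- (NO) for `Z`
  have h1 : (centralizer (Z : Set G)).relIndex B ≤ (centralizer (B : Set G)).relIndex Z := by
    have h := D.no_H hML (A := B) (hK i) (le_sup_right : T ≤ centralizer (V i : Set G) ⊔ T) hHC hBO
      (hBT.trans le_sup_right) hB2
    rwa [LemZ.NH_eq D i] at h
  -- (NO) for `A` on `N`
  have h2 : (centralizer (N : Set G)).relIndex A ≤ (centralizer (A : Set G)).relIndex N :=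
    D.no_N hML (hK i) (hAB.trans hBO) fun a ha => hB2 a (hAB ha)
  have h3 : (centralizer (N : Set G)).relIndex B = (centralizer (B : Set G)).relIndex N := h3
  -- cards
  have c1 : Nat.card B = Nat.card A * (centralizer (Z : Set G)).relIndex B := card_eq B _
  have c2 : Nat.card B = Nat.card (B ⊓ centralizer (N : Set G) : Subgroup G) * (centralizer (N : Set G)).relIndex B :=
    card_eq B _
  have hAN : A ⊓ centralizer (N : Set G) = B ⊓ centralizer (N : Set G) := by
    apply le_antisymm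
    · exact inf_le_inf_right _ hAB
    · exact le_inf (le_inf inf_le_left (inf_le_right.trans (centralizer_le hZN))) inf_le_right
  have c3 : Nat.card A = Nat.card (B ⊓ centralizer (N : Set G) : Subgroup G) * (centralizer (N : Set G)).relIndex A := by
    rw [← hAN]; exact card_eq A _
  have c4 : Nat.card N = Nat.card Y * (centralizer (B : Set G)).relIndex N := card_eq N _
  have c5 : Nat.card N = Nat.card (N ⊓ centralizer (A : Set G) : Subgroup G) * (centralizer (A : Set G)).relIndex N :=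
    card_eq N _
  have hNc : N ≤ centralizer (N : Set G) := D.N_comm i
  have hYZ : Y ≤ centralizer (Z : Set G) := (inf_le_left.trans hNc).trans (centralizer_le hZN)
  have c6 : Nat.card (Z ⊔ Y : Subgroup G) = (centralizer (B : Set G)).relIndex Z * Nat.card Y := by
    have h4 := PLocal.ElemAbSup.card_sup_mul_card_inf hYZ
    have h5 : Z ⊓ Y = Z ⊓ centralizer (B : Set G) := by
      rw [hY, ← inf_assoc, inf_eq_left.2 hZN]
    rw [h5] at h4
    have h6 : Nat.card Z = Nat.card (Z ⊓ centralizer (B : Set G) : Subgroup G) * (centralizer (B : Set G)).relIndex Z :=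
      card_eq Z _
    have hpos : 0 < Nat.card (Z ⊓ centralizer (B : Set G) : Subgroup G) := Nat.card_pos
    have h7 : Nat.card (Z ⊔ Y : Subgroup G) * Nat.card (Z ⊓ centralizer (B : Set G) : Subgroup G) =
        ((centralizer (B : Set G)).relIndex Z * Nat.card Y) * Nat.card (Z ⊓ centralizer (B : Set G) : Subgroup G) := by
      rw [h4, h6]; ring
    exact Nat.eq_of_mul_eq_mul_right hpos h7
  have hle : Z ⊔ Y ≤ N ⊓ centralizer (A : Set G) := by
    refine sup_le (le_inf hZN (comm_symm inf_le_right)) (le_inf inf_le_left ?_)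
    exact inf_le_right.trans (centralizer_le hAB)
  set a := (centralizer (Z : Set G)).relIndex B
  set b := (centralizer (B : Set G)).relIndex Z
  set r := (centralizer (N : Set G)).relIndex B
  set s := (centralizer (N : Set G)).relIndex A with hs'
  set t := (centralizer (A : Set G)).relIndex N with ht'
  set y' := Nat.card (B ⊓ centralizer (N : Set G) : Subgroup G)
  set y := Nat.card Y
  set c := Nat.card (N ⊓ centralizer (A : Set G) : Subgroup G)
  have hy' : 0 < y' := Nat.card_pos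
  have hy : 0 < y := Nat.card_pos
  have hc : 0 < c := Nat.card_pos
  have hs : 0 < s := Nat.pos_of_ne_zero (OM.PG.Int.rix_ne _ _)
  have hra : r = a * s := by
    have h4 : y' * r = y' * (a * s) := by
      calc y' * r = Nat.card B := c2.symm
        _ = y' * (a * s) := by rw [c1, c3]; ring
    exact Nat.eq_of_mul_eq_mul_left hy' h4
  have hyb : b * y ≤ c := by
    rw [← c6]; exact Subgroup.card_le_of_le hle
  have hyr : y * r = c * t := by rw [← c5, c4, h3]
  have e1 : y * (a * s) = c * t := by rw [← hra]; exact hyr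
  have l1 : y * (a * s) ≤ (b * y) * s := by
    calc y * (a * s) = a * (y * s) := by ring
      _ ≤ b * (y * s) := Nat.mul_le_mul_right _ h1
      _ = (b * y) * s := by ring
  have l2 : (b * y) * s ≤ c * s := Nat.mul_le_mul_right _ hyb
  have l3 : c * s ≤ c * t := Nat.mul_le_mul_left _ h2
  have e2 : c * s = c * t := le_antisymm l3 (by rw [← e1]; exact l1.trans l2)
  have hst : s = t := Nat.eq_of_mul_eq_mul_left hc e2
  exact hst

/-- `Q_{i+1} ∩ C_G(ZV i) ≤ O₂(N_G(V i))` -/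
theorem Q_inf_le_o2 (i : Fin 2) :
    QQ v (i + 1) ⊓ centralizer (ZV V v i : Set G) ≤ o2 (normalizer (V i : Set G)) := by
  set N := normalizer (V i : Set G) with hN
  set K := N ⊓ centralizer (ZV V v i : Set G) with hK
  have hKC : K ≤ CC v (i + 1) :=
    inf_le_right.trans (centralizer_le (Set.singleton_subset_iff.2 (LemZ.v_mem_ZV D i)))
  have hQK : QQ v (i + 1) ⊓ centralizer (ZV V v i : Set G) ≤ K :=
    le_inf (inf_le_left.trans ((D.Q_le_T (i + 1)).trans (D.T_le_N i))) inf_le_right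
  have h1 : QQ v (i + 1) ⊓ centralizer (ZV V v i : Set G) ≤ o2 K := by
    refine ZN.le_o2 hQK ((D.T_isPGroup.to_le (D.Q_le_T (i + 1))).to_le inf_le_left) ?_
    refine norm_inf (hKC.trans ?_) (norm_cent ?_)
    · exact Cfsg.Agent.MinSimple.VModule.le_normalizer_o2 _
    · exact inf_le_left.trans (LemZ.N_V_le D i)
  have hNK : N ≤ normalizer (K : Set G) := norm_inf le_normalizer (norm_cent (LemZ.N_V_le D i))
  refine h1.trans ?_
  refine ZN.le_o2 ((Cfsg.Agent.MinSimple.VModule.o2_le K).trans inf_le_left) (isPGroup_o2 K) ?_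
  exact hNK.trans (normalizer_le_normalizer_o2 K)

/-! ### distance `≤ n` from `v (j+1)` -/

/-- the last vertex but one -/
theorem exists_prev {n : ℕ} {a : Fin 2 × G} {j : Fin 2} (hn : 1 ≤ n) (h : Near (CC v) n a (j + 1, 1)) :
    Near (CC v) n a (j, 1) ∨ ∃ c ∈ CC v (j + 1), Near (CC v) n a (j, c) := by
  obtain ⟨m, rfl⟩ : ∃ m, n = m + 1 := ⟨n - 1, by omega⟩
  obtain ⟨e, he, x, hx, hx'⟩ := h
  have hx'' : x ∈ CC v (j + 1) := by simpa using hx'
  rcases eq_or_ne e.1 j with h1 | h1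
  · right
    refine ⟨x, hx'', NO3L.LemP.Near.mono_succ ?_⟩
    exact near_same_right he ⟨h1, hx⟩
  · left
    have h2 : e.1 = j + 1 := eq_add_one (Ne.symm h1)
    refine ⟨e, he, ?_⟩
    refine ⟨1, ?_, by simp⟩
    have h3 : Same (CC v) e (j + 1, 1) := NO3L.LemP.Adj.same ⟨x, hx, hx'⟩ h2
    exact h3.2

/-- a first vertex on the way from `(i, h)` to `v j` -/
theorem exists_first {n : ℕ} (hC : Comm (CC v) (EU T v) (n + 1)) (hn : 1 ≤ n) {i j : Fin 2} {h : G}
    (hnear : Near (CC v) n (i, h) (j + 1, 1)) (hne : ¬ MulAut.conj h • NU V v i ≤ centralizer (NU V v j : Set G)) :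
    ∃ y : G, h⁻¹ * y ∈ CC v i ∧ Near (CC v) n (i + 1, y) (j, 1) := by
  obtain ⟨m, rfl⟩ : ∃ m, n = m + 1 := ⟨n - 1, by omega⟩
  obtain ⟨e, he, x, hx, hx'⟩ := hnear.symm
  have hadj : Near (CC v) 1 (j, 1) (j + 1, (1 : G)) := near_adj j (j + 1) 1
  have hej : Near (CC v) (m + 1) (j, 1) e := by
    refine NO3L.LemP.Near.cons ?_ he
    exact ⟨1, by simp, by simp⟩
  rcases eq_or_ne e.1 i with h1 | h1
  · exfalso
    apply hne
    have h2 : Same (CC v) e (i, h) := NO3L.LemP.Adj.same ⟨x, hx, hx'⟩ h1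
    have h3 : Near (CC v) (m + 1) (i, h) (j, 1) := (near_same_right hej h2).symm
    have h4 := D.comm_N hC le_rfl h3
    rwa [map_one, one_smul] at h4
  · have h2 : e.1 = i + 1 := eq_add_one (Ne.symm h1)
    refine ⟨x, hx', (near_same_right hej ⟨h2, hx⟩).symm⟩

/-- `N_i^h ≤ Q_{j+1}`, `N_i^h` centralises `N_{j+1}` -/
theorem le_Q {n : ℕ} (hC : Comm (CC v) (EU T v) (n + 1)) {i j : Fin 2} {h : G}
    (hnear : Near (CC v) n (i, h) (j, 1)) : MulAut.conj h • NU V v i ≤ QQ v j := by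
  have h1 := D.data.le_R hC n (Nat.lt_succ_self n) _ _ hnear
  rw [vx_mk, vx_mk, map_one, one_smul] at h1
  exact (conj_le_iff.2 (D.N_le_E i)).trans h1

/-- **exactness** of `N_i^h` on `N_j` -/
theorem ex_near (hML : ML.Final.MLK.{u, u}) (hK : ∀ i, IsKGroup (CC v i)) {n : ℕ}
    (hC : Comm (CC v) (EU T v) (n + 1)) (hn : 1 ≤ n) {i j : Fin 2} {h : G}
    (hnear : Near (CC v) n (i, h) (j + 1, 1)) (hne : ¬ MulAut.conj h • NU V v i ≤ centralizer (NU V v j : Set G)) :
    OM.PG.Int.Ex (MulAut.conj h • NU V v i) (NU V v j) := by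
  obtain ⟨y, hy, hy2⟩ := exists_first D hC hn hnear hne
  have hNy : MulAut.conj h • NU V v i = MulAut.conj y • NU V v i := (conj_congr (D.C_le_N_N i) hy).symm
  have h1 : MulAut.conj h • NU V v i ≤ o2 (centralizer (zc T : Set G)) := (le_Q D hC hnear).trans (D.Q_le_o2D _)
  have hsq : ∀ x ∈ MulAut.conj h • NU V v i, x ^ 2 = 1 := by
    intro x hx
    rw [mem_conj] at hx
    have h2 := D.N_sq i _ hx
    have e : x ^ 2 = h * (h⁻¹ * x * h) ^ 2 * h⁻¹ := by simp only [pow_two]; group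
    rw [e, h2]; group
  have h2 := D.no_N hML (hK j) h1 hsq
  -- the other side: `N_j^(y⁻¹)` acts on `N_i`
  have h3 : MulAut.conj y⁻¹ • NU V v j ≤ o2 (centralizer (zc T : Set G)) := by
    have h4 : NU V v j ≤ vx (QQ v) (i + 1, y) := by
      have h5 := D.data.le_R hC n (Nat.lt_succ_self n) _ _ hy2.symm
      rw [vx_mk, map_one, one_smul] at h5
      exact (D.N_le_E j).trans h5
    rw [vx_mk] at h4
    have h6 := conj_le_iff (g := y⁻¹) |>.2 h4
    rw [conj_conj, inv_mul_cancel, map_one, one_smul] at h6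
    exact h6.trans (D.Q_le_o2D _)
  have hsq' : ∀ x ∈ MulAut.conj y⁻¹ • NU V v j, x ^ 2 = 1 := by
    intro x hx
    rw [mem_conj, inv_inv] at hx
    have h2 := D.N_sq j _ hx
    have e : x ^ 2 = y⁻¹ * (y * x * y⁻¹) ^ 2 * y := by simp only [pow_two]; group
    rw [e, h2]; group
  have h4 := D.no_N hML (hK i) h3 hsq'
  have e1 : (centralizer (NU V v i : Set G)).relIndex (MulAut.conj y⁻¹ • NU V v j) =
      (centralizer ((MulAut.conj h • NU V v i : Subgroup G) : Set G)).relIndex (NU V v j) := by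
    rw [hNy, ← relIndex_pointwise_smul (MulAut.conj y), smul_smul, ← map_mul, mul_inv_cancel, map_one, one_smul]
    congr 1
    exact Cfsg.Agent.Omega.TC.DTwo.conj_cent y _
  have e2 : (centralizer ((MulAut.conj y⁻¹ • NU V v j : Subgroup G) : Set G)).relIndex (NU V v i) =
      (centralizer (NU V v j : Set G)).relIndex (MulAut.conj h • NU V v i) := by
    rw [hNy, ← relIndex_pointwise_smul (MulAut.conj y)]
    congr 1
    rw [Cfsg.Agent.Omega.TC.DTwo.conj_cent, smul_smul, ← map_mul, mul_inv_cancel, map_one, one_smul]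
  rw [e1, e2] at h4
  exact le_antisymm h2 h4

/-! ### LEMMA D2 (2): some flag -/

/-- `N_{v_j^c}` is moved, `c ∈ C_{j+1}` -/
def Mv (V : Fin 2 → Subgroup G) (v : Fin 2 → G) (j : Fin 2) (A : Subgroup G) (c : G) : Prop :=
  ¬ MulAut.conj c⁻¹ • A ≤ centralizer (NU V v j : Set G)

theorem mv_iff {j : Fin 2} {A : Subgroup G} {c : G} :
    Mv V v j A c ↔ ¬ A ≤ centralizer ((MulAut.conj c • NU V v j : Subgroup G) : Set G) := by
  rw [Mv, not_iff_not]
  constructor
  · intro h
    have h1 := conj_le_centralizer' (g := c) h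
    rwa [conj_conj, mul_inv_cancel, map_one, one_smul] at h1
  · intro h
    have h1 := conj_le_centralizer' (g := c⁻¹) h
    rwa [conj_conj, inv_mul_cancel, map_one, one_smul] at h1

/-- If at every flag `(v_j^c, V_j^c)` with `[A, N_j^c] ≠ 1` the group `C_A(Z_j^c)` centralises `N_j^c`, then `A` moves
`N_j^c` for all `c ∈ C_{j+1}` (if for one). -/
theorem mv_all {j : Fin 2} {A : Subgroup G}
    (hall : ∀ c ∈ CC v (j + 1), Mv V v j A c →
      MulAut.conj c⁻¹ • A ⊓ centralizer (ZV V v j : Set G) ≤ centralizer (NU V v j : Set G))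
    (h1 : Mv V v j A 1) : ∀ c ∈ CC v (j + 1), Mv V v j A c := by
  -- the set of good right multiplications
  have stepD : ∀ c ∈ CC v (j + 1), Mv V v j A c → ∀ d ∈ centralizer (zc T : Set G), Mv V v j A (c * d) := by
    intro c _ hm d hd
    rw [mv_iff D] at hm ⊢
    rwa [← conj_conj, conj_eq_of_mem (D.C_le_N_N j (D.cent_zc_le j hd))]
  have stepP : ∀ c ∈ CC v (j + 1), Mv V v j A c → ∀ p ∈ P j, Mv V v j A (c * p) := by
    intro c hc hm p hp
    have h2 := hall c hc hm
    intro hcon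
    -- `A^(c⁻¹)` centralises `N_j^p ≥ Z_j`
    have h3 : MulAut.conj c⁻¹ • A ≤ centralizer ((MulAut.conj p • NU V v j : Subgroup G) : Set G) := by
      have h4 := conj_le_centralizer' (g := p) hcon
      rw [conj_conj] at h4
      have e : p * (c * p)⁻¹ = c⁻¹ := by group
      rwa [e] at h4
    have h5 : ZV V v j ≤ MulAut.conj p • NU V v j := by
      have h6 := conj_le_iff (g := p) |>.2 (LemZ.ZV_le D j)
      rwa [conj_eq_of_mem (LemZ.P_le_N_ZV D j hp)] at h6
    have h7 : MulAut.conj c⁻¹ • A ≤ centralizer (ZV V v j : Set G) := h3.trans (centralizer_le h5)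
    exact hm ((le_inf le_rfl h7).trans h2)
  -- `C_{j+1} = ⟨P j, D⟩`
  have hgen : CC v (j + 1) ≤ P j ⊔ centralizer (zc T : Set G) := D.gen (ne_add_one j)
  have hP : P j ≤ CC v (j + 1) := D.PC j (j + 1) (ne_add_one j)
  have hDc : centralizer (zc T : Set G) ≤ CC v (j + 1) := D.cent_zc_le (j + 1)
  let K : Subgroup G :=
    { carrier := {x | x ∈ CC v (j + 1) ∧ ∀ c ∈ CC v (j + 1), (Mv V v j A c ↔ Mv V v j A (c * x))}
      one_mem' := ⟨one_mem _, fun c _ => by rw [mul_one]⟩
      mul_mem' := by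
        rintro x y ⟨hx, hx'⟩ ⟨hy, hy'⟩
        refine ⟨mul_mem hx hy, fun c hc => ?_⟩
        rw [hx' c hc, hy' (c * x) (mul_mem hc hx), mul_assoc]
      inv_mem' := by
        rintro x ⟨hx, hx'⟩
        refine ⟨inv_mem hx, fun c hc => ?_⟩
        have h2 := hx' (c * x⁻¹) (mul_mem hc (inv_mem hx))
        rw [inv_mul_cancel_right] at h2
        exact h2.symm }
  have hPK : P j ≤ K := by
    intro p hp
    refine ⟨hP hp, fun c hc => ⟨fun h => stepP c hc h p hp, fun h => ?_⟩⟩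
    have h2 := stepP (c * p) (mul_mem hc (hP hp)) h p⁻¹ (inv_mem hp)
    rwa [mul_inv_cancel_right] at h2
  have hDK : centralizer (zc T : Set G) ≤ K := by
    intro d hd
    refine ⟨hDc hd, fun c hc => ⟨fun h => stepD c hc h d hd, fun h => ?_⟩⟩
    have h2 := stepD (c * d) (mul_mem hc (hDc hd)) h d⁻¹ (inv_mem hd)
    rwa [mul_inv_cancel_right] at h2
  intro c hc
  have h2 := (sup_le hPK hDK (hgen hc)).2 1 (one_mem _)
  rw [one_mul] at h2
  exact h2.1 h1

/-- **LEMMA D2 (2)** -/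
theorem exists_flag {n : ℕ} (hC : Comm (CC v) (EU T v) (n + 1)) (hn : 1 ≤ n) {i j : Fin 2} {h : G}
    (hnear : Near (CC v) n (i, h) (j + 1, 1)) (hne : ¬ MulAut.conj h • NU V v i ≤ centralizer (NU V v j : Set G)) :
    ∃ c ∈ CC v (j + 1), ¬ MulAut.conj (c⁻¹ * h) • NU V v i ⊓ centralizer (ZV V v j : Set G) ≤
      centralizer (NU V v j : Set G) := by
  by_contra hcon
  push Not at hcon
  have h1 : Mv V v j (MulAut.conj h • NU V v i) 1 := by
    rw [mv_iff D, map_one, one_smul]; exact hne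
  have h2 := mv_all D (j := j) (A := MulAut.conj h • NU V v i)
    (fun c hc _ => by rw [conj_conj]; exact hcon c hc) h1
  rcases exists_prev D hn hnear with h3 | ⟨c, hc, h3⟩
  · have h4 := D.comm_N hC le_rfl h3
    rw [map_one, one_smul] at h4
    exact hne h4
  · exact (mv_iff D).1 (h2 c hc) (D.comm_N hC le_rfl h3)

/-! ### LEMMA D2 -/

/-- **LEMMA D2** at `j` = the type of the end of a critical pair at distance `n + 1 ≥ 2` -/
theorem exists_at (hML : ML.Final.MLK.{u, u}) (hK : ∀ i, IsKGroup (CC v i)) {n : ℕ}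
    (hC : Comm (CC v) (EU T v) (n + 1)) (hn : 1 ≤ n) {i j : Fin 2} {h : G}
    (hnear : Near (CC v) n (i, h) (j + 1, 1)) (hne : ¬ MulAut.conj h • NU V v i ≤ centralizer (NU V v j : Set G)) :
    ∃ B : Subgroup G, B ≤ QQ v (j + 1) ∧ B ≤ centralizer (NU V v (j + 1) : Set G) ∧
      B ≤ centralizer (ZV V v j : Set G) ∧ B ≤ o2 (normalizer (V j : Set G)) ∧ (∀ b ∈ B, b ^ 2 = 1) ∧
      OM.PG.Int.Ex B (NU V v j) ∧ ¬ B ≤ centralizer (NU V v j : Set G) := by
  obtain ⟨c, hc, hc'⟩ := exists_flag D hC hn hnear hne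
  have hnear' : Near (CC v) n (i, c⁻¹ * h) (j + 1, 1) := by
    have h1 := hnear.smul c⁻¹
    refine near_same_right h1 ⟨rfl, ?_⟩
    simpa using hc
  have hne' : ¬ MulAut.conj (c⁻¹ * h) • NU V v i ≤ centralizer (NU V v j : Set G) := fun h1 =>
    hc' (inf_le_left.trans h1)
  have hQ := le_Q D hC hnear'
  have hsq : ∀ x ∈ MulAut.conj (c⁻¹ * h) • NU V v i, x ^ 2 = 1 := by
    intro x hx
    rw [mem_conj] at hx
    have h2 := D.N_sq i _ hx
    have e : x ^ 2 = (c⁻¹ * h) * ((c⁻¹ * h)⁻¹ * x * (c⁻¹ * h)) ^ 2 * (c⁻¹ * h)⁻¹ := by simp only [pow_two]; group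
    rw [e, h2]; group
  refine ⟨MulAut.conj (c⁻¹ * h) • NU V v i ⊓ centralizer (ZV V v j : Set G), inf_le_left.trans hQ, ?_, inf_le_right,
    ?_, fun b hb => hsq b hb.1, ?_, hc'⟩
  · refine inf_le_left.trans ?_
    have h1 := D.comm_N hC le_rfl hnear'
    rwa [map_one, one_smul] at h1
  · exact (inf_le_inf_right _ hQ).trans (Q_inf_le_o2 D j)
  · exact lemZ' D hML hK j (hQ.trans (D.Q_le_o2D _)) hsq (ex_near D hML hK hC hn hnear' hne')

/-- **LEMMA D2** (#21730): `d ≥ 2` ⟹ an exact group in `O₂(D) ∩ O₂(N_G(V j))` -/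
theorem exists_ex (hML : ML.Final.MLK.{u, u}) (hK : ∀ i, IsKGroup (CC v i))
    (hd : NU V v 0 ≤ centralizer (NU V v 1 : Set G)) :
    ∃ (j : Fin 2) (B : Subgroup G), B ≤ QQ v (j + 1) ∧ B ≤ centralizer (NU V v (j + 1) : Set G) ∧
      B ≤ centralizer (ZV V v j : Set G) ∧ B ≤ o2 (normalizer (V j : Set G)) ∧ (∀ b ∈ B, b ^ 2 = 1) ∧
      OM.PG.Int.Ex B (NU V v j) ∧ ¬ B ≤ centralizer (NU V v j : Set G) := by
  obtain ⟨n, hC, -, i, j, h, hnear, hnear2, hne⟩ := D.crit2
  have hcomm : ∀ i j : Fin 2, NU V v i ≤ centralizer (NU V v j : Set G) := by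
    intro i j
    rcases Fin.exists_fin_two.1 ⟨i, rfl⟩ with hi | hi <;> rcases Fin.exists_fin_two.1 ⟨j, rfl⟩ with hj | hj <;>
      rw [hi, hj]
    · exact D.N_comm 0
    · exact hd
    · exact comm_symm hd
    · exact D.N_comm 1
  have hn : 1 ≤ n := by
    by_contra hcon
    have h0 : n = 0 := by omega
    subst h0
    apply hne
    have hs : Same (CC v) (i, h) (j + 1, 1) := hnear
    obtain ⟨e1, e2⟩ := hs
    have hh : h ∈ CC v i := by
      have h1 := (CC v i).inv_mem e2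
      simpa using h1
    rw [conj_eq_of_mem (D.C_le_N_N i hh)]
    exact hcomm i j
  exact ⟨j, exists_at D hML hK hC hn hnear hne⟩

/-- `B ≤ T`, `B ≤ O₂(N_G(V j))` ⟹ `B ≤ O₂(N_{C_j}(V j))` -/
theorem le_o2_inf {j : Fin 2} {B : Subgroup G} (hB : B ≤ T) (h : B ≤ o2 (normalizer (V j : Set G))) :
    B ≤ o2 (normalizer (V j : Set G) ⊓ CC v j) := by
  have h1 : B ≤ o2 (normalizer (V j : Set G)) ⊓ CC v j := le_inf h (hB.trans (D.T_le_C j))
  refine h1.trans (ZN.le_o2 ?_ ((isPGroup_o2 _).to_le inf_le_left) ?_)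
  · exact inf_le_inf_right _ (Cfsg.Agent.MinSimple.VModule.o2_le _)
  · exact norm_inf (inf_le_left.trans (Cfsg.Agent.ZN.le_normalizer_o2 _)) (inf_le_right.trans le_normalizer)

/-- **LEMMA D2**, literal input of the plug of THEOREM KL -/
theorem exists_kl (hML : ML.Final.MLK.{u, u}) (hK : ∀ i, IsKGroup (CC v i))
    (hd : NU V v 0 ≤ centralizer (NU V v 1 : Set G)) :
    ∃ (j : Fin 2) (B : Subgroup G), (∀ b ∈ B, b ^ 2 = 1) ∧ (∀ a ∈ B, ∀ b ∈ B, a * b = b * a) ∧
      B ≤ o2 (centralizer (zc T : Set G)) ∧ B ≤ o2 (normalizer (V j : Set G) ⊓ CC v j) ∧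
      OM.PG.Int.Ex B (NU V v j) ∧ ¬ B ≤ centralizer (NU V v j : Set G) := by
  obtain ⟨j, B, h1, -, -, h2, h3, h4, h5⟩ := exists_ex D hML hK hd
  refine ⟨j, B, h3, fun a ha b hb => ?_, h1.trans (D.Q_le_o2D _), le_o2_inf D (h1.trans (D.Q_le_T _)) h2, h4, h5⟩
  have k : ∀ x ∈ B, x⁻¹ = x := fun x hx => by
    have h6 := h3 x hx
    rw [pow_two] at h6
    exact inv_eq_of_mul_eq_one_left h6
  have h6 := k _ (mul_mem ha hb)
  rw [mul_inv_rev, k a ha, k b hb] at h6
  exact h6.symm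

end Cfsg.Agent.Omega.TC.DTwo
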