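import Cfsg.Agent.Omega.KL.EndR
import Cfsg.Agent.Omega.TC.RSix.End
import Cfsg.Agent.Omega.TC.LevU

/-!
# CARD #18791 (`k = 2`, `q = 2`), the end over every frame `TC.Fr` (helper836)

No `VBang` / `VOff` / `WOff`, no swap, no stage: the inputs are THEOREM KL (`KL.Quo.NoInp`), `MLK`, `IsKGroup (C_i)` and
`HU` ("a minimal parabolic `R ≤ C_i` over `T` which moves `v_j` normalises `V_i`").

* `oneB` : (1b) of #21425, from `KL.EndR.no_1b`;
* **`false_of`** : no frame `Fr T V P v` with `HU T V v`;
* **`false_of_offK`** : no frame with `OffK T V K` for some `K`; `RIn` and card [A] are consequences.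
-/

set_option autoImplicit false
set_option linter.unusedSectionVars false

namespace Cfsg.Agent.Omega.TC.EndKL

open Subgroup Cfsg Cfsg.Agent.ZN Cfsg.Agent.Omega.MinPar
open Cfsg.Agent.Omega.OM.KTwo (CC QQ WU NU EU)

universe u

variable {G : Type u} [Group G] [Finite G] {T : Subgroup G} {V P : Fin 2 → Subgroup G} {v : Fin 2 → G}
  (D : Fr T V P v) (hML : ML.Final.MLK.{u, u}) (hKL : KL.Quo.NoInp.{u, u}) (hK : ∀ i, IsKGroup (CC v i))

include D hML hKL hK

/-- (1b) of #21425 -/
theorem oneB (hU : KL.EndR.HU T V v) : RSix.OneB T V v := fun _ _ hA hm => KL.EndR.no_1b D hML hKL hK hU hA hm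

/-- **There is no frame.** -/
theorem false_of (hU : KL.EndR.HU T V v) : False :=
  RSix.six D hML hK (KL.EndR.not_le D hML hKL hK hU) (oneB D hML hKL hK hU)

/-- **There is no frame with `OffK`.** -/
theorem false_of_offK {K : Subgroup G} (h : OffK T V K) : False :=
  false_of D hML hKL hK fun i _ hR hRi hRj => OffK.hU D h (OM.KTwo.ne_add_one i) hR hRi hRj

end Cfsg.Agent.Omega.TC.EndKL
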