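import Cfsg.Agent.Omega.TC.ThmI
import Cfsg.Agent.Omega.TC.Crit
import Cfsg.Agent.Omega.ML.Final

/-!
# CARD #18791 "(E) = TWO CENTRES", `q = 2`: THEOREM I over the frame `Fr`

`D : Fr T V P v`, `Qs` a normal subgroup of `D = C_G(Ω₁Z(T))` with `E_0, E_1 ≤ Qs ≤ O₂(D)` (`E_i = N_i ⟨v i⟩`), e.g.
`O₂(D)` or `Q_0 Q_1`; (NO) = `MLK` for the K-groups `C_G(v i)`.

* `Fr.thmI_not_conj` : `v (i+1)` and `v 0 v 1` are not conjugate in `C_i`;
* `Fr.thmI_exact` : `|A : C_A(E_i)| = |E_i : C_{E_i}(A)|` for `A ∈ AA Qs`;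
* `Fr.thmI_exact` (second part) : (K3) `x ∈ E_i`, `[x,A] ≤ ⟨v i⟩` ⟹ `[x,A] = 1` for `A ∈ AA Qs`;
* `Fr.thmI_side` : `ThmI.Side`;
* `Fr.thmI` : **THEOREM I**: if members of `AA Qs` move `V 0` and `V 1`, then `E_0 ⊓ E_1 ≤ Ω₁Z(T)`;
* `Fr.thmI_one` : one-sided version.
-/

set_option autoImplicit false
set_option linter.unusedSectionVars false

namespace Cfsg.Agent.Omega.TC

open Subgroup Cfsg Cfsg.Agent.ZN Cfsg.Agent.Omega.MinPar Cfsg.Agent.PLocal.ThompsonJ
open Cfsg.Agent.Omega.OM.KTwo (CC QQ WU NU EU FF ne_add_one eq_add_one add_one_add_one le_normalizer_V le_V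
  le_o2_of_commutator)
open Cfsg.Agent.MinSimple.MinParabolic (IsMinPar)
open Cfsg.Agent.Omega.NoFF.Basic (conj_conj mem_conj conj_le_iff conj_le_centralizer comm_symm comm_mono
  Z_le_V V_le conj_V_mul)
open Cfsg.Agent.Omega.NOThreeL.Pair (conj_eq_of_mem conj_le_normalizer)
open Cfsg.Agent.ZN.ChoiceSit (Syl exists_syl syl_conj o2_le_syl)
open Cfsg.Agent.MinSimple.VModule (mem_zc zc_le normalizer_le_normalizer_zc le_normalizer_o2 le_o2 o2_le
  o2_isPGroup zc_le_centralizer le_centralizer_zc)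
open Cfsg.Agent.Omega.NO3b.Ineq (cidx cidx_pos cidx_eq_one_iff rel_ne)
open Cfsg.Agent.Omega.ML.Final (MLK)
open ChoiceBase (AA)
open ThmI (kp Side)
open scoped Pointwise

universe u

variable {G : Type u} [Group G]

namespace ThmI

theorem fin_two_cases {i j : Fin 2} (h : i ≠ j) : (i = 0 ∧ j = 1) ∨ (i = 1 ∧ j = 0) := by
  revert i j; decide

theorem le_inf_normalizer {C A B : Subgroup G} (hA : C ≤ normalizer (A : Set G)) (hB : C ≤ normalizer (B : Set G)) :
    C ≤ normalizer ((A ⊓ B : Subgroup G) : Set G) := fun c hc => by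
  rw [mem_normalizer_iff]
  intro x
  have h1 := (mem_normalizer_iff.1 (hA hc)) x
  have h2 := (mem_normalizer_iff.1 (hB hc)) x
  rw [mem_inf, mem_inf, h1, h2]

theorem normalizer_le_normalizer_centralizer' (A : Subgroup G) :
    normalizer (A : Set G) ≤ normalizer ((centralizer (A : Set G) : Subgroup G) : Set G) := by
  have key : ∀ c ∈ normalizer (A : Set G), ∀ x ∈ centralizer (A : Set G), c * x * c⁻¹ ∈ centralizer (A : Set G) := by
    intro c hc x hx
    rw [mem_centralizer_iff]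
    intro y hy
    have h1 : c⁻¹ * y * c ∈ A := by
      have := (mem_normalizer_iff.1 (inv_mem hc) y).1 hy
      rwa [inv_inv] at this
    have h2 := mem_centralizer_iff.1 hx _ h1
    calc y * (c * x * c⁻¹) = c * ((c⁻¹ * y * c) * x) * c⁻¹ := by group
      _ = c * (x * (c⁻¹ * y * c)) * c⁻¹ := by rw [h2]
      _ = c * x * c⁻¹ * y := by group
  intro c hc
  rw [mem_normalizer_iff]
  intro x
  refine ⟨key c hc x, fun h => ?_⟩
  have h1 := key c⁻¹ (inv_mem hc) _ h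
  have e : c⁻¹ * (c * x * c⁻¹) * c⁻¹⁻¹ = x := by group
  rwa [e] at h1

theorem centralizer_le_normalizer' {C : Subgroup G} (Y : Subgroup G) (h : C ≤ centralizer (Y : Set G)) :
    C ≤ normalizer (Y : Set G) := h.trans (OM.ThreeCore.cent_norm Y)

end ThmI

open ThmI (fin_two_cases le_inf_normalizer normalizer_le_normalizer_centralizer' centralizer_le_normalizer')

namespace Fr

variable [Finite G] {T : Subgroup G} {V P : Fin 2 → Subgroup G} {v : Fin 2 → G} (D : Fr T V P v)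

include D

theorem thmI_comm_vv (i j : Fin 2) : v i * v j = v j * v i := D.comm_v j (D.v_mem_T i)

/-- `C_i ∩ C_G(v 0 v 1) = D` -/
theorem thmI_inf_z_le {i j : Fin 2} (hij : i ≠ j) : CC v i ⊓ centralizer ({v i * v j} : Set G) ≤ centralizer (zc T : Set G) := by
  rintro c ⟨h1', h2'⟩
  have h1 : c * v i = v i * c := mem_centralizer_singleton_iff.1 h1'
  have h2 : c * (v i * v j) = v i * v j * c := mem_centralizer_singleton_iff.1 h2'
  refine (D.mem_D_iff hij).2 ⟨h1', mem_centralizer_singleton_iff.2 ?_⟩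
  have h3 : v i * (c * v j) = v i * (v j * c) := by
    calc v i * (c * v j) = (v i * c) * v j := by group
      _ = c * (v i * v j) := by rw [← h1]; group
      _ = v i * (v j * c) := by rw [h2]; group
  exact mul_left_cancel h3

/-- `v j` and `v i v j` are not conjugate in `C_i` -/
theorem thmI_not_conj {i j : Fin 2} (hij : i ≠ j) {c : G} (hc : c ∈ CC v i) : c * v j * c⁻¹ ≠ v i * v j := by
  intro hcv
  -- `T`, `T^c` are Sylow in `C_i ∩ C(v i v j) = D`
  have hTc : ChoiceBase.cj c T ≤ centralizer (zc T : Set G) := by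
    refine le_trans ?_ (D.thmI_inf_z_le hij)
    intro x hx
    rw [ChoiceBase.mem_cj] at hx
    have hx1 : x ∈ CC v i := by
      have h1 := mul_mem (mul_mem hc (D.T_le_C i hx)) (inv_mem hc)
      have e : c * (c⁻¹ * x * c) * c⁻¹ = x := by group
      rwa [e] at h1
    refine ⟨hx1, mem_centralizer_singleton_iff.2 ?_⟩
    have h2 := D.comm_v j hx
    rw [← hcv]
    calc x * (c * v j * c⁻¹) = c * ((c⁻¹ * x * c) * v j) * c⁻¹ := by group
      _ = c * (v j * (c⁻¹ * x * c)) * c⁻¹ := by rw [h2]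
      _ = c * v j * c⁻¹ * x := by group
  have hS2 : Syl (ChoiceBase.cj c T) (centralizer (zc T : Set G)) := by
    refine ⟨hTc, ChoiceBase.isPGroup_cj c D.T_isPGroup, fun R hR hR2 hTR => ?_⟩
    have h1 : ChoiceBase.cj c⁻¹ R ≤ CC v i := by
      have h2 := ChoiceBase.cj_mono c⁻¹ (hR.trans (D.cent_zc_le i))
      refine h2.trans ?_
      intro x hx
      rw [ChoiceBase.mem_cj, inv_inv] at hx
      have h3 := mul_mem (mul_mem (inv_mem hc) hx) hc
      have e : c⁻¹ * (c * x * c⁻¹) * c = x := by group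
      rwa [e] at h3
    have h2 : T ≤ ChoiceBase.cj c⁻¹ R := by
      have := ChoiceBase.cj_mono c⁻¹ hTR
      rwa [ChoiceBase.cj_inv_cj] at this
    rw [← (D.syl i).2.2 _ h1 (ChoiceBase.isPGroup_cj _ hR2) h2, ChoiceBase.cj_cj_inv]
  obtain ⟨d, hd, hdT⟩ := syl_conj hS2 D.syl_D
  rw [ChoiceBase.cj_cj] at hdT
  have h1 : d * c ∈ centralizer (zc T : Set G) :=
    D.norm_T_le i ⟨mul_mem (D.cent_zc_le i hd) hc, ChoiceBase.mem_normalizer_iff_cj.2 hdT⟩
  have h2 : c ∈ centralizer (zc T : Set G) := by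
    have := mul_mem (inv_mem hd) h1
    rwa [inv_mul_cancel_left] at this
  have h3 : c * v j = v j * c := mem_centralizer_singleton_iff.1 (D.cent_zc_le j h2)
  apply D.ne i
  rw [h3] at hcv
  have h4 : v j = v i * v j := by rw [← hcv]; group
  exact (mul_eq_right.1 h4.symm)

/-- an element of `C_i` which fixes `v j` modulo `⟨v i⟩` is in `D` -/
theorem thmI_mem_D {i j : Fin 2} (hij : i ≠ j) {c : G} (hc : c ∈ CC v i)
    (h : c * v j * c⁻¹ * (v j)⁻¹ ∈ zpowers (v i)) : c ∈ centralizer (zc T : Set G) := by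
  have hz : ∀ y ∈ zpowers (v i), y = 1 ∨ y = v i := by
    intro y hy
    obtain ⟨n, rfl⟩ := mem_zpowers_iff.1 hy
    rcases Int.even_or_odd' n with ⟨k, rfl | rfl⟩
    · left; rw [zpow_mul]
      have : v i ^ (2 : ℤ) = 1 := by have := D.v_sq' i; exact_mod_cast this
      rw [this, one_zpow]
    · right; rw [zpow_add, zpow_mul, zpow_one]
      have : v i ^ (2 : ℤ) = 1 := by have := D.v_sq' i; exact_mod_cast this
      rw [this, one_zpow, one_mul]
  rcases hz _ h with h1 | h1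
  · refine (D.mem_D_iff hij).2 ⟨hc, mem_centralizer_singleton_iff.2 ?_⟩
    calc c * v j = (c * v j * c⁻¹ * (v j)⁻¹) * (v j * c) := by group
      _ = v j * c := by rw [h1, one_mul]
  · exfalso
    apply D.thmI_not_conj hij hc
    rw [← h1]; group

/-- `[E_i, a] ≤ ⟨v i⟩` implies `[E_i, a] = 1`, for `a ∈ C_i` -/
theorem thmI_cent (i : Fin 2) {a : G} (ha : a ∈ CC v i)
    (h : ∀ x ∈ EU T v i, a * x * a⁻¹ * x⁻¹ ∈ zpowers (v i)) : a ∈ centralizer (EU T v i : Set G) := by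
  have hcen : ∀ c ∈ CC v i, ∀ z ∈ zpowers (v i), c * z * c⁻¹ = z := by
    intro c hc z hz
    have := mem_centralizer_iff.1 (CC_le_cent_zpowers i hc) z hz
    rw [← this]; group
  let K : Subgroup G :=
    { carrier := {k | k ∈ CC v i ∧ ∀ x ∈ EU T v i, k * x * k⁻¹ * x⁻¹ ∈ zpowers (v i)}
      one_mem' := ⟨one_mem _, fun x _ => by simp⟩
      mul_mem' := by
        rintro a b ⟨ha, ha'⟩ ⟨hb, hb'⟩
        refine ⟨mul_mem ha hb, fun w hw => ?_⟩
        have e : a * b * w * (a * b)⁻¹ * w⁻¹ = (a * (b * w * b⁻¹ * w⁻¹) * a⁻¹) * (a * w * a⁻¹ * w⁻¹) := by group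
        rw [e, hcen a ha _ (hb' w hw)]
        exact mul_mem (hb' w hw) (ha' w hw)
      inv_mem' := by
        rintro a ⟨ha, ha'⟩
        refine ⟨inv_mem ha, fun w hw => ?_⟩
        have e : a⁻¹ * w * a⁻¹⁻¹ * w⁻¹ = (a⁻¹ * (a * w * a⁻¹ * w⁻¹) * a⁻¹⁻¹)⁻¹ := by group
        rw [e, hcen _ (inv_mem ha) _ (ha' w hw)]
        exact inv_mem (ha' w hw) }
  have hKC : CC v i ≤ normalizer (K : Set G) := by
    have key : ∀ c ∈ CC v i, ∀ k ∈ K, c * k * c⁻¹ ∈ K := by
      rintro c hc k ⟨hk, hk'⟩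
      refine ⟨mul_mem (mul_mem hc hk) (inv_mem hc), fun x hx => ?_⟩
      have h1 : c⁻¹ * x * c ∈ EU T v i := by
        have := (mem_normalizer_iff.1 (D.C_le_N_E i (inv_mem hc)) x).1 hx
        rwa [inv_inv] at this
      have h2 := hk' _ h1
      have e : c * k * c⁻¹ * x * (c * k * c⁻¹)⁻¹ * x⁻¹ =
          c * (k * (c⁻¹ * x * c) * k⁻¹ * (c⁻¹ * x * c)⁻¹) * c⁻¹ := by group
      rw [e, hcen c hc _ h2]
      exact h2
    intro c hc
    rw [mem_normalizer_iff]
    intro x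
    refine ⟨key c hc x, fun h => ?_⟩
    have h1 := key c⁻¹ (inv_mem hc) _ h
    have e : c⁻¹ * (c * x * c⁻¹) * c⁻¹⁻¹ = x := by group
    rwa [e] at h1
  have hKD : K ≤ CC v (i + 1) := by
    rintro k ⟨hk, hk'⟩
    exact D.cent_zc_le _ (D.thmI_mem_D (ne_add_one i) hk (hk' _ (D.v_mem_E i _)))
  rw [D.cent_E i]
  exact ⟨ha, D.cent_N_of_le hKD hKC ⟨ha, h⟩⟩

/-- the data of (ML) for `C_i` on `E_i / ⟨v i⟩` -/
theorem thmI_gdat {i : Fin 2} {Qs A : Subgroup G} (hQD : centralizer (zc T : Set G) ≤ normalizer (Qs : Set G))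
    (hQo : Qs ≤ o2 (centralizer (zc T : Set G))) (hA2 : ∀ a ∈ A, a * a = 1) (hAQ : A ≤ Qs) :
    ML.Final.GDat (CC v i) (EU T v i) (zpowers (v i)) T Qs A (v (i + 1)) where
  nW := D.C_le_N_E i
  nY := centralizer_le_normalizer' _ (CC_le_cent_zpowers i)
  YW := by rw [zpowers_le]; exact D.v_mem_E i i
  WY := by
    refine (((D.E_le_Q i).trans (D.Q_le_T i)).trans (D.T_le_C i)).trans ?_
    exact centralizer_le_normalizer' _ (CC_le_cent_zpowers i)
  sq := fun x hx => by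
    have := D.E_sq i x hx
    rw [pow_two] at this
    rw [this]; exact one_mem _
  mem := D.v_mem_E i _
  gen := fun U hv hY hC => by
    have h1 : ∀ j, v j ∈ U := by
      intro j
      rcases eq_or_ne i j with h | h
      · rw [← h]; exact hY (mem_zpowers _)
      · rw [eq_add_one h]; exact hv
    have h2 : zc T ≤ U := by
      intro x hx
      rcases (D.zT x).1 hx with h1' | h1' | h1' | h1'
      · rw [h1']; exact one_mem _
      · rw [h1']; exact h1 0
      · rw [h1']; exact h1 1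
      · rw [h1']; exact mul_mem (h1 0) (h1 1)
    refine V_le fun c hc => ?_
    have h4 := conj_le_iff (g := c) |>.2 h2
    rwa [conj_eq_of_mem (hC hc)] at h4
  TC := D.T_le_C i
  two := D.T_isPGroup
  odd := Cfsg.Agent.ZN.ChoiceSit.syl_not_dvd (D.syl i)
  fixT := fun t ht => by rw [D.cen _ ht]; simp
  QC := hQo.trans (D.o2D_le_T.trans (D.T_le_C i))
  Q2 := D.T_isPGroup.to_le (hQo.trans D.o2D_le_T)
  fixQ := fun t ht => by rw [D.cen _ (D.o2D_le_T (hQo ht))]; simp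
  nrmQ := fun g hg h q hq => (mem_normalizer_iff.1 (hQD (D.thmI_mem_D (ne_add_one i) hg h)) q).1 hq
  AQ := hAQ
  Asq := fun a ha x _ => by
    have e : a * (a * x * a⁻¹) * a⁻¹ * x⁻¹ = (a * a) * x * (a * a)⁻¹ * x⁻¹ := by group
    rw [e, hA2 a ha]; simp

/-- **exactness of `AA Qs` on `E_i`, and (K3)** -/
theorem thmI_exact (hML : MLK.{u, u}) {i : Fin 2} (hK : IsKGroup (CC v i)) {Qs A : Subgroup G}
    (hQD : centralizer (zc T : Set G) ≤ normalizer (Qs : Set G))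
    (hQo : Qs ≤ o2 (centralizer (zc T : Set G))) (hEQ : EU T v i ≤ Qs) (hA : A ∈ AA Qs) :
    cidx A (EU T v i) = cidx (EU T v i) A ∧
      ∀ x ∈ EU T v i, (∀ a ∈ A, kp a x ∈ zpowers (v i)) → ∀ a ∈ A, a * x = x * a := by
  set W : Subgroup G := EU T v i with hW
  have hAC : A ≤ CC v i := hA.2.1.trans (hQo.trans (D.o2D_le_T.trans (D.T_le_C i)))
  have hWe : IsElementaryAbelian 2 W := isElementaryAbelian_iff.2
    ⟨fun a ha b hb => (mem_centralizer_iff.1 (D.E_comm i ha) b hb).symm, fun a ha => D.E_sq i a ha⟩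
  have hAsq : ∀ a ∈ A, a * a = 1 := fun a ha => by rw [← pow_two]; exact (isElementaryAbelian_iff.1 hA.1).2 a ha
  -- (T)
  have h1 := OM.ThreeCore.off_le hA hWe hEQ
  -- (NO)
  let CW : Subgroup G :=
    { carrier := {x | x ∈ W ∧ ∀ a ∈ A, a * x * a⁻¹ * x⁻¹ ∈ zpowers (v i)}
      one_mem' := ⟨one_mem _, fun a _ => by simp⟩
      mul_mem' := by
        rintro x y ⟨hx, hx'⟩ ⟨hy, hy'⟩
        refine ⟨mul_mem hx hy, fun a ha => ?_⟩
        have h2 := ThmI.kp_mul (N := W) (isElementaryAbelian_iff.1 hWe).1 (a := a) hx hy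
          ((mem_normalizer_iff.1 (D.C_le_N_E i (hAC ha)) y).1 hy)
        unfold kp at h2
        rw [h2]
        exact mul_mem (hx' a ha) (hy' a ha)
      inv_mem' := by
        rintro x ⟨hx, hx'⟩
        have h2 : x⁻¹ = x := inv_eq_of_mul_eq_one_left (by rw [← pow_two]; exact D.E_sq i x hx)
        rw [h2]
        exact ⟨hx, hx'⟩ }
  have hCWm : ∀ x, x ∈ CW ↔ x ∈ W ∧ ∀ a ∈ A, a * x * a⁻¹ * x⁻¹ ∈ zpowers (v i) := fun x => Iff.rfl
  have hKAm : ∀ a, a ∈ A ⊓ centralizer (W : Set G) ↔ a ∈ A ∧ ∀ x ∈ W, a * x * a⁻¹ * x⁻¹ ∈ zpowers (v i) := by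
    intro a
    constructor
    · rintro ⟨ha, hc⟩
      refine ⟨ha, fun x hx => ?_⟩
      rw [ThmI.kp_eq_one_iff (a := a) (x := x) |>.2 (mem_centralizer_iff.1 hc x hx).symm |> (show a * x * a⁻¹ * x⁻¹ = 1 from ·)]
      exact one_mem _
    · rintro ⟨ha, hc⟩
      exact ⟨ha, D.thmI_cent i (hAC ha) hc⟩
  have h2 : (A ⊓ centralizer (W : Set G)).relIndex A ≤ CW.relIndex W :=
    hML.grp hK (D.thmI_gdat hQD hQo hAsq hA.2.1) hKAm hCWm
  have h3 : (A ⊓ centralizer (W : Set G)).relIndex A = cidx A W := Cfsg.Agent.Omega.NO3b.Ineq.cidx_inf A W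
  have hle : W ⊓ centralizer (A : Set G) ≤ CW := by
    rintro x ⟨hx, hc⟩
    refine ⟨hx, fun a ha => ?_⟩
    have h4 : a * x = x * a := mem_centralizer_iff.1 hc a ha
    rw [h4]
    simp
  have h4 : (W ⊓ centralizer (A : Set G)).relIndex W = cidx W A := Cfsg.Agent.Omega.NO3b.Ineq.cidx_inf W A
  have h5 : (W ⊓ centralizer (A : Set G)).relIndex CW * CW.relIndex W = (W ⊓ centralizer (A : Set G)).relIndex W :=
    relIndex_mul_relIndex _ _ _ hle fun x hx => hx.1
  rw [h3] at h2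
  rw [h4] at h5
  have h6 : 0 < CW.relIndex W := Nat.pos_of_ne_zero (rel_ne _ _)
  have h7 : 0 < (W ⊓ centralizer (A : Set G)).relIndex CW := Nat.pos_of_ne_zero (rel_ne _ _)
  have h8 : CW.relIndex W ≤ cidx W A := by
    rw [← h5]; exact Nat.le_mul_of_pos_left _ h7
  have h9 : (W ⊓ centralizer (A : Set G)).relIndex CW = 1 := by
    by_contra hne
    have h10 : 2 ≤ (W ⊓ centralizer (A : Set G)).relIndex CW := by omega
    have h11 : 2 * CW.relIndex W ≤ cidx W A := by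
      rw [← h5]; exact Nat.mul_le_mul_right _ h10
    omega
  refine ⟨by omega, fun x hx hk a ha => ?_⟩
  have h10 : x ∈ CW := ⟨hx, hk⟩
  exact mem_centralizer_iff.1 (relIndex_eq_one.1 h9 h10).2 a ha

theorem thmI_zpowers_v (i : Fin 2) {y : G} : y ∈ zpowers (v i) ↔ y = 1 ∨ y = v i := by
  constructor
  · intro h
    obtain ⟨n, rfl⟩ := mem_zpowers_iff.1 h
    have h2 : v i ^ (2 : ℤ) = 1 := by have := D.v_sq' i; exact_mod_cast this
    rcases Int.even_or_odd' n with ⟨k, rfl | rfl⟩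
    · left; rw [zpow_mul, h2, one_zpow]
    · right; rw [zpow_add, zpow_mul, zpow_one, h2, one_zpow, one_mul]
  · rintro (rfl | rfl)
    · exact one_mem _
    · exact mem_zpowers _

/-- `C_T(V j) ≤ O₂(P j)` -/
theorem thmI_inf_cent_le (j : Fin 2) : T ⊓ centralizer (V j : Set G) ≤ o2 (P j) := by
  obtain ⟨i, hij⟩ : ∃ i : Fin 2, i ≠ j := ⟨j + 1, (ne_add_one j).symm⟩
  have hsyl : Syl T (P j) := ⟨D.T_le_P j, D.T_isPGroup, fun Q hQ hQ2 hTQ =>
    (D.syl i).2.2 Q (hQ.trans (D.PC j i hij.symm)) hQ2 hTQ⟩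
  have hN : P j ≤ normalizer ((P j ⊓ centralizer (V j : Set G) : Subgroup G) : Set G) := by
    refine le_inf_normalizer ?_ ?_
    · exact le_normalizer
    · exact (D.PN j j).trans (normalizer_le_normalizer_centralizer' _)
  rcases (D.par j).sup_eq_or_inf_le D.T_isPGroup (Cfsg.Agent.ZN.ChoiceSit.syl_not_dvd hsyl) inf_le_left hN with h | h
  · exfalso
    apply D.mv j
    rw [← h]
    refine sup_le (inf_le_right.trans ?_) (D.T_le_C j)
    exact centralizer_le (Set.singleton_subset_iff.2 (D.mem j))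
  · refine le_trans (le_inf inf_le_left (le_inf (inf_le_left.trans (D.T_le_P j)) inf_le_right)) h

/-- the hypotheses of THEOREM I -/
theorem thmI_side (hML : MLK.{u, u}) {i j : Fin 2} (hij : i ≠ j) (hK : IsKGroup (CC v i)) {Qs : Subgroup G}
    (hQD : centralizer (zc T : Set G) ≤ normalizer (Qs : Set G))
    (hQo : Qs ≤ o2 (centralizer (zc T : Set G))) (hEQ : EU T v i ≤ Qs) :
    Side T Qs (EU T v i) (V j) (P j) (v i) (v j) where
  TP := D.T_le_P j
  QT := hQo.trans D.o2D_le_T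
  NQ := hEQ
  Nc := fun a ha b hb => (mem_centralizer_iff.1 (D.E_comm i ha) b hb).symm
  Nsq := fun a ha => by rw [← pow_two]; exact D.E_sq i a ha
  zN := D.v_mem_E i i
  z1 := D.ne i
  vV := D.mem j
  v1 := D.ne j
  zV := fun h => by
    obtain ⟨l, hl, -, hlv⟩ := D.tr hij.symm h (D.ne i)
    have h1 := mem_centralizer_singleton_iff.1 (D.PC j i hij.symm hl)
    apply D.mv j
    have h2 : v j = v i := by
      have h3 : l * v j = l * v i := by
        calc l * v j = l * v j * l⁻¹ * l := by group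
          _ = v i * l := by rw [hlv]
          _ = l * v i := h1.symm
      exact mul_left_cancel h3
    rw [h2]; exact D.PC j i hij.symm
  VN := by
    rw [eq_add_one hij]; exact D.V_le_E i
  V4 := D.four j
  Tv := fun t ht => D.cen j ht
  Pz := fun p hp => by
    rw [mem_centralizer_singleton_iff.1 (D.PC j i hij.symm hp)]; group
  PV := fun p hp x hx => (mem_normalizer_iff.1 (D.PN j j hp) x).1 hx
  PN := fun p hp x hx => (mem_normalizer_iff.1 (D.C_le_N_E i (D.PC j i hij.symm hp)) x).1 hx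
  PR := fun p hp e he heV => by
    have h1 : e ∈ o2 (P j) := D.thmI_inf_cent_le j ⟨he, mem_centralizer_iff.2 fun x hx => (heV x hx).symm⟩
    have h2 := (mem_normalizer_iff.1 (MinSimple.VModule.le_normalizer_o2 _ hp) e).1 h1
    have hsyl : Syl T (P j) := ⟨D.T_le_P j, D.T_isPGroup, fun Q hQ hQ2 hTQ =>
      (D.syl i).2.2 Q (hQ.trans (D.PC j i hij.symm)) hQ2 hTQ⟩
    exact o2_le_syl hsyl h2
  tr := by
    obtain ⟨x, hx, hx1, hxv⟩ := D.exists_ne_v j
    obtain ⟨l, hl, -, hlx⟩ := D.tr hij.symm hx hx1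
    exact ⟨l, hl, by rw [hlx]; exact hxv⟩
  K3 := fun A hA x hx h => (D.thmI_exact hML hK hQD hQo hEQ hA).2 x hx fun a ha => by
    rw [D.thmI_zpowers_v]; exact h a ha

/-- `(2)` of THEOREM I: `r ∈ E_i ∩ E_j`, `[r,T] ≤ Ω₁Z(T)` implies `[r,T] ≤ ⟨v i⟩` if `AA Qs` moves `V j`. -/
theorem thmI_one (hML : MLK.{u, u}) {i j : Fin 2} (hij : i ≠ j) (hK : ∀ i, IsKGroup (CC v i)) {Qs A : Subgroup G}
    (hQD : centralizer (zc T : Set G) ≤ normalizer (Qs : Set G))
    (hQo : Qs ≤ o2 (centralizer (zc T : Set G))) (hEQ : ∀ i, EU T v i ≤ Qs) (hA : A ∈ AA Qs)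
    (hAV : ¬ A ≤ centralizer (V j : Set G)) {r : G} (hr : r ∈ EU T v i ⊓ EU T v j)
    (hrT : ∀ t ∈ T, kp t r ∈ zc T) : ∀ t ∈ T, kp t r ∈ zpowers (v i) := by
  intro t ht
  rw [D.thmI_zpowers_v]
  refine (D.thmI_side hML hij (hK i) hQD hQo (hEQ i)).two (D.thmI_side hML hij.symm (hK j) hQD hQo (hEQ j)).K3 hA
    (fun h => hAV fun a ha => mem_centralizer_iff.2 fun x hx => (h a ha x hx).symm) hr.1 hr.2 ?_ t ht
  intro t ht
  have h1 := (D.zT _).1 (hrT t ht)
  rcases fin_two_cases hij with ⟨rfl, rfl⟩ | ⟨rfl, rfl⟩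
  · exact h1
  · rcases h1 with h | h | h | h
    · exact Or.inl h
    · exact Or.inr (Or.inr (Or.inl h))
    · exact Or.inr (Or.inl h)
    · right; right; right
      rw [h]
      exact D.comm_v 1 (D.v_mem_T 0)

/-- **THEOREM I** (bb OMEGA #20267, helper990; also #20259 (helper15), #20647 (3) (helper609)): if members of `AA Qs`
move `V 0` and `V 1` then `E_0 ∩ E_1 ≤ Ω₁Z(T)`. -/
theorem thmI (hML : MLK.{u, u}) (hK : ∀ i, IsKGroup (CC v i)) {Qs : Subgroup G}
    (hQD : centralizer (zc T : Set G) ≤ normalizer (Qs : Set G))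
    (hQo : Qs ≤ o2 (centralizer (zc T : Set G))) (hEQ : ∀ i, EU T v i ≤ Qs)
    (hA : ∀ i, ∃ A ∈ AA Qs, ¬ A ≤ centralizer (V i : Set G)) : EU T v 0 ⊓ EU T v 1 ≤ zc T := by
  have h01 : (0 : Fin 2) ≠ 1 := by decide
  obtain ⟨A0, hA0, hA0V⟩ := hA 0
  obtain ⟨A1, hA1, hA1V⟩ := hA 1
  intro x hx
  rw [D.zT]
  refine ThmI.inter_le D.T_isPGroup (D.thmI_side hML h01 (hK 0) hQD hQo (hEQ 0))
    (D.thmI_side hML h01.symm (hK 1) hQD hQo (hEQ 1)) hA1
    (fun h => hA1V fun a ha => mem_centralizer_iff.2 fun x hx => (h a ha x hx).symm) hA0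
    (fun h => hA0V fun a ha => mem_centralizer_iff.2 fun x hx => (h a ha x hx).symm) ?_ x hx
  intro y hy hT
  rw [← D.zT]
  exact MinSimple.VModule.mem_zc.2 ⟨D.Q_le_T 0 (D.E_le_Q 0 hy.1), hT, D.E_sq 0 y hy.1⟩

end Fr

end Cfsg.Agent.Omega.TC
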