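import Cfsg.Agent.Omega.TC.ThmGOf
import Cfsg.Agent.Omega.TC.ThmIFr
import Cfsg.Agent.Omega.TC.Phi

/-!
# CARD #18791, variant (MT), `k = 2 = q`: the reduction to `V i ≤ N_i` (card [A])

`D : Fr T V P v`, `Swap T V v`, `¬ J(T) ≤ O₂(P i)`, (ML) and all proper subgroups `K`-groups. If `V 0 ≰ N_0`:
* `Fr.fixE_of` : LEMMA FIX on `E_i` from COROLLARY PHI; `Fr.hmv_of` : a member of `AA T` moves `V i`;
* `Fr.not_pt` : `v 0 * v 1` is not a point; `Fr.inter_mt` : `E_0 ∩ E_1 ≤ Ω₁Z(T)` (THEOREM I);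
* `Fr.mt_one` : `[N_0, N_1] ≠ 1` (THEOREM G, EXACTNESS, PEELING, R4 (5));
* `Fr.V_le_N_of` : `V 0 ≤ N_0` if `EndOne T V v` (the ending for `1 ≠ [N_0, N_1] ≤ Ω₁Z(T)`).
-/

set_option autoImplicit false
set_option linter.unusedSectionVars false

namespace Cfsg.Agent.Omega.TC

open Subgroup Cfsg Cfsg.Agent.ZN Cfsg.Agent.Omega.MinPar
open Cfsg.Agent.Omega.OM.KTwo (CC QQ WU NU EU FF ne_add_one eq_add_one add_one_add_one le_normalizer_V le_V)
open Cfsg.Agent.Omega.NoFF.Basic (conj_conj mem_conj conj_le_iff conj_le_centralizer comm_symm comm_mono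
  Z_le_V V_le conj_V_mul)
open Cfsg.Agent.ZN.ChoiceSit (Syl exists_syl syl_conj o2_le_syl syl_not_dvd)
open Cfsg.Agent.ZN.ChoiceBase (AA mem_AA_iff mem_normalizer_iff_cj cj_mono cj_eq_of_mem_normalizer cj_centralizer)
open Cfsg.Agent.Omega.NO3S.EThree.ExactA (NoP eab_iff)
open Cfsg.Agent.Omega.OM
open Cfsg.Agent.Omega.TC.DOne (FixE)
open scoped Pointwise commutatorElement

universe u

variable {G : Type u} [Group G]

/-- the ending of case (E), `d = 1`: `[N_0, N_1] ≤ Ω₁Z(T)` implies `[N_0, N_1] = 1` -/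
def EndOne (T : Subgroup G) (V : Fin 2 → Subgroup G) (v : Fin 2 → G) : Prop :=
  (∀ i, FixE T v i) → ⁅NU V v 0, NU V v 1⁆ ≤ zc T → NU V v 0 ≤ centralizer (NU V v 1 : Set G)

namespace Fr

variable [Finite G] {T : Subgroup G} {V P : Fin 2 → Subgroup G} {v : Fin 2 → G} (D : Fr T V P v)

include D

theorem conj_WU {s : G} (w : Sw V v s) {i j : Fin 2} (hij : i ≠ j) : MulAut.conj s • WU V v i = WU V v j := by
  have key : ∀ {s : G}, Sw V v s → ∀ {i j : Fin 2}, i ≠ j → MulAut.conj s • WU V v i ≤ WU V v j := by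
    intro s w i j hij
    obtain ⟨h1, h2, h3, h4⟩ := w.side hij
    unfold WU
    refine NoFF.Basic.conj_V_le fun p hp => ?_
    have e : s * p = (s * p * s⁻¹) * s := by group
    rw [e, ← conj_conj, h3]
    refine Z_le_V ?_
    rw [mem_centralizer_singleton_iff] at hp ⊢
    rw [← h1]
    calc s * p * s⁻¹ * (s * v i * s⁻¹) = s * (p * v i) * s⁻¹ := by group
      _ = s * (v i * p) * s⁻¹ := by rw [hp]
      _ = s * v i * s⁻¹ * (s * p * s⁻¹) := by group
  apply le_antisymm (key w hij)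
  have w' : Sw V v s⁻¹ := by
    refine ⟨?_, ?_, ?_, ?_⟩
    · rw [← w.v10]; group
    · rw [← w.v01]; group
    · rw [← w.V10, conj_conj, inv_mul_cancel, map_one, one_smul]
    · rw [← w.V01, conj_conj, inv_mul_cancel, map_one, one_smul]
  have h1 := key w' hij.symm
  have h2 := (conj_le_iff (g := s)).2 h1
  rwa [conj_conj, mul_inv_cancel, map_one, one_smul] at h2

theorem XW_eq_one {s : G} (w : Sw V v s) : PG.Peel.XW (ZZ v) V (ZZ v 1) = NU V v 1 ⊔ WU V v 1 := by
  have h1 : PG.Peel.XW (ZZ v) V (MulAut.conj s • ZZ v 0) = _ := PG.Peel.XW_conj s (ZZ v 0)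
  rw [conj_ZZ w.v01, D.XW_eq w, Subgroup.smul_sup, D.conj_NU w (by decide : (0 : Fin 2) ≠ 1),
    D.conj_WU w (by decide : (0 : Fin 2) ≠ 1)] at h1
  exact h1

/-- LEMMA FIX on `E_i`, from COROLLARY PHI. -/
theorem fixE_of {i : Fin 2} (hJ : ¬ jj T ≤ o2 (P i)) (hV : ¬ V i ≤ NU V v i) : FixE T v i := by
  intro n hn h
  have hij := ne_add_one i
  rw [D.E_eq] at hn
  have hN : NU V v i ≤ normalizer ((zpowers (v i) : Subgroup G) : Set G) := by
    refine (D.N_le_C i i).trans ?_
    rw [← D.HH_eq i]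
    exact le_rfl
  obtain ⟨a, ha, z, hz, rfl⟩ := OM.KTwo.exists_mul_of_mem_sup
    (show zpowers (v i) ≤ normalizer (NU V v i : Set G) from
      (zpowers_le.2 (mem_centralizer_singleton_iff.2 rfl)).trans (D.C_le_N_N i)) hn
  have hzT : z ∈ zc T := (zpowers_le.2 (D.v_mem_zc i)) hz
  refine mul_mem ?_ hzT
  refine Phi.phi_N_zc D hij hJ hV ha fun o ho => ?_
  have hoT : o ∈ T := by
    rw [Phi.o2_P D i] at ho
    exact ho.1
  have h1 := inv_mem (h o hoT)
  have hoz : o * z = z * o := by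
    rcases D.mem_ZZ.1 (show z ∈ ZZ v i from hz) with rfl | rfl
    · group
    · exact D.comm_v i hoT
  have e : (o * (a * z) * o⁻¹ * (a * z)⁻¹)⁻¹ = a * o * a⁻¹ * o⁻¹ := by
    have e1 : o * (a * z) * o⁻¹ = o * a * o⁻¹ * z := by
      calc o * (a * z) * o⁻¹ = o * a * (z * o⁻¹) := by group
        _ = o * a * (o⁻¹ * z) := by
          have : z * o⁻¹ = o⁻¹ * z := by
            calc z * o⁻¹ = o⁻¹ * (o * z) * o⁻¹ := by group
              _ = o⁻¹ * (z * o) * o⁻¹ := by rw [hoz]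
              _ = o⁻¹ * z := by group
          rw [this]
        _ = _ := by group
    rw [e1]
    group
  rwa [e] at h1

/-- A member of `AA T` moves `V i`. -/
theorem hmv_of {i : Fin 2} (hJ : ¬ jj T ≤ o2 (P i)) : ∃ A ∈ AA T, ¬ A ≤ centralizer (V i : Set G) := by
  by_contra hcon
  push Not at hcon
  apply hJ
  rw [Phi.o2_P D i]
  refine le_inf (ChoiceBase.jj_le _) ?_
  rw [ChoiceBase.jj_eq]
  have h1 : ∀ A ∈ AA T, A ≤ T ⊓ centralizer (V i : Set G) := fun A hA => le_inf hA.2.1 (hcon A hA)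
  exact (sSup_le h1).trans inf_le_right

/-- With the swap: `v 0 * v 1` is not a point. -/
theorem not_pt (hs : Swap T V v) {g : G} : g * v 0 * g⁻¹ ≠ v 0 * v 1 := by
  intro hg
  obtain ⟨s, hsT, hsv⟩ := hs
  have h01 : (0 : Fin 2) ≠ 1 := by decide
  have s0 : s * v 0 * s⁻¹ = v 1 := (hsv 0).2
  have s1 : s * v 1 * s⁻¹ = v 0 := (hsv 1).2
  set z : G := v 0 * v 1 with hz
  have hcomm : v 0 * v 1 = v 1 * v 0 := (D.comm_v 0 (D.v_mem_T 1)).symm
  set C : Subgroup G := centralizer ({z} : Set G) with hC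
  have hsC : s ∈ C := by
    rw [hC, mem_centralizer_singleton_iff]
    calc s * z = (s * v 0 * s⁻¹) * (s * v 1 * s⁻¹) * s := by rw [hz]; group
      _ = z * s := by rw [s0, s1, hz, hcomm]
  -- `|T : C_G(z)|` is odd
  have hTC : T ≤ C := by
    intro t ht
    rw [hC, mem_centralizer_singleton_iff]
    have h0 := D.comm_v 0 ht
    have h1 := D.comm_v 1 ht
    calc t * z = (t * v 0) * v 1 := by rw [hz]; group
      _ = v 0 * (t * v 1) := by rw [h0]; group
      _ = z * t := by rw [h1, hz]; group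
  have hcard : Nat.card C = Nat.card (CC v 0) := by
    have e : C = MulAut.conj g • CC v 0 := by
      rw [hC, ← hg]
      ext x
      rw [mem_conj, mem_centralizer_singleton_iff, mem_centralizer_singleton_iff]
      constructor
      · intro h
        calc g⁻¹ * x * g * v 0 = g⁻¹ * (x * (g * v 0 * g⁻¹)) * g := by group
          _ = g⁻¹ * (g * v 0 * g⁻¹ * x) * g := by rw [h]
          _ = v 0 * (g⁻¹ * x * g) := by group
      · intro h
        calc x * (g * v 0 * g⁻¹) = g * (g⁻¹ * x * g * v 0) * g⁻¹ := by group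
          _ = g * (v 0 * (g⁻¹ * x * g)) * g⁻¹ := by rw [h]
          _ = g * v 0 * g⁻¹ * x := by group
    rw [e]
    exact ChoiceBase.card_cj g _
  have hodd : ¬ 2 ∣ T.relIndex C := by
    have h1 : Nat.card T * T.relIndex C = Nat.card C := PG.card_mul_relIndex' hTC
    have h2 : Nat.card T * T.relIndex (CC v 0) = Nat.card (CC v 0) := PG.card_mul_relIndex' (D.T_le_C 0)
    have h3 : T.relIndex C = T.relIndex (CC v 0) :=
      Nat.eq_of_mul_eq_mul_left (Nat.card_pos (α := T)) (by rw [h1, h2, hcard])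
    rw [h3]
    exact syl_not_dvd (D.syl 0)
  -- the stabiliser of `{v 0, v 1}`
  let K : Subgroup G :=
    { carrier := {c | c ∈ C ∧ (c * v 0 * c⁻¹ = v 0 ∨ c * v 0 * c⁻¹ = v 1)}
      one_mem' := ⟨one_mem _, Or.inl (by group)⟩
      mul_mem' := by
        rintro a b ⟨ha, ha'⟩ ⟨hb, hb'⟩
        refine ⟨mul_mem ha hb, ?_⟩
        have haz : a * z * a⁻¹ = z := by
          rw [mem_centralizer_singleton_iff.1 ha]; group
        have ha1 : (a * v 0 * a⁻¹) * (a * v 1 * a⁻¹) = v 0 * v 1 := by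
          rw [← hz]
          calc (a * v 0 * a⁻¹) * (a * v 1 * a⁻¹) = a * z * a⁻¹ := by rw [hz]; group
            _ = z := haz
        have e : a * b * v 0 * (a * b)⁻¹ = a * (b * v 0 * b⁻¹) * a⁻¹ := by group
        rw [e]
        rcases hb' with h1 | h1
        · rw [h1]; exact ha'
        · rw [h1]
          rcases ha' with h2 | h2
          · right
            rw [h2] at ha1
            exact mul_left_cancel ha1
          · left
            rw [h2, hcomm] at ha1
            exact mul_left_cancel ha1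
      inv_mem' := by
        rintro a ⟨ha, ha'⟩
        refine ⟨inv_mem ha, ?_⟩
        rcases ha' with h1 | h1
        · left
          calc a⁻¹ * v 0 * a⁻¹⁻¹ = a⁻¹ * (a * v 0 * a⁻¹) * a := by rw [h1]; group
            _ = v 0 := by group
        · right
          have haz : a * z * a⁻¹ = z := by
            rw [mem_centralizer_singleton_iff.1 ha]; group
          have ha1 : (a * v 0 * a⁻¹) * (a * v 1 * a⁻¹) = v 0 * v 1 := by
            rw [← hz]
            calc (a * v 0 * a⁻¹) * (a * v 1 * a⁻¹) = a * z * a⁻¹ := by rw [hz]; group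
              _ = z := haz
          rw [h1, hcomm] at ha1
          have h2 : a * v 1 * a⁻¹ = v 0 := mul_left_cancel ha1
          calc a⁻¹ * v 0 * a⁻¹⁻¹ = a⁻¹ * (a * v 1 * a⁻¹) * a := by rw [h2]; group
            _ = v 1 := by group }
  set D' : Subgroup G := centralizer (zc T : Set G) with hD'
  have hDK : D' ≤ K := by
    intro d hd
    have h0 := mem_centralizer_singleton_iff.1 (D.cent_zc_le 0 hd)
    have h1 := mem_centralizer_singleton_iff.1 (D.cent_zc_le 1 hd)
    refine ⟨?_, Or.inl (by rw [h0]; group)⟩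
    rw [hC, mem_centralizer_singleton_iff]
    calc d * z = (d * v 0) * v 1 := by rw [hz]; group
      _ = v 0 * (d * v 1) := by rw [h0]; group
      _ = z * d := by rw [h1, hz]; group
  have hmem : ∀ c ∈ K, c * v 0 * c⁻¹ = v 0 → c ∈ D' := by
    intro c hc h1
    have h2 : c ∈ CC v 0 := by
      rw [mem_centralizer_singleton_iff]
      calc c * v 0 = c * v 0 * c⁻¹ * c := by group
        _ = v 0 * c := by rw [h1]
    refine (D.mem_D_iff h01).2 ⟨h2, ?_⟩
    have haz : c * z * c⁻¹ = z := by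
      rw [mem_centralizer_singleton_iff.1 hc.1]; group
    have h3 : (c * v 0 * c⁻¹) * (c * v 1 * c⁻¹) = v 0 * v 1 := by
      rw [← hz]
      calc (c * v 0 * c⁻¹) * (c * v 1 * c⁻¹) = c * z * c⁻¹ := by rw [hz]; group
        _ = z := haz
    rw [h1] at h3
    have h4 : c * v 1 * c⁻¹ = v 1 := mul_left_cancel h3
    rw [mem_centralizer_singleton_iff]
    calc c * v 1 = c * v 1 * c⁻¹ * c := by group
      _ = v 1 * c := by rw [h4]
  have hsK : s ∈ K := ⟨hsC, Or.inr s0⟩
  have hne : v 1 ≠ v 0 := (D.v_ne h01).symm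
  have hDj : ∀ c ∈ D', c * v 0 * c⁻¹ = v 0 := fun c hc => by
    rw [mem_centralizer_singleton_iff.1 (D.cent_zc_le 0 hc)]; group
  have hDj1 : ∀ c ∈ D', c * v 1 * c⁻¹ = v 1 := fun c hc => by
    rw [mem_centralizer_singleton_iff.1 (D.cent_zc_le 1 hc)]; group
  have hidx : D'.relIndex K = 2 := by
    rw [relIndex_eq_two_iff]
    refine ⟨s, hsK, fun b hb => ?_⟩
    have e : b * s * v 0 * (b * s)⁻¹ = b * v 1 * b⁻¹ := by
      calc b * s * v 0 * (b * s)⁻¹ = b * (s * v 0 * s⁻¹) * b⁻¹ := by group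
        _ = _ := by rw [s0]
    by_cases hbD : b ∈ D'
    · right
      refine ⟨hbD, fun h1 => hne ?_⟩
      rw [hDj1 b hbD] at e
      rw [← e]
      exact hDj _ h1
    · left
      refine ⟨hmem _ (mul_mem hb hsK) ?_, hbD⟩
      have hbv : b * v 0 * b⁻¹ = v 1 := hb.2.resolve_left fun e => hbD (hmem b hb e)
      have haz : b * z * b⁻¹ = z := by
        rw [mem_centralizer_singleton_iff.1 hb.1]; group
      have h3 : (b * v 0 * b⁻¹) * (b * v 1 * b⁻¹) = v 0 * v 1 := by
        rw [← hz]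
        calc (b * v 0 * b⁻¹) * (b * v 1 * b⁻¹) = b * z * b⁻¹ := by rw [hz]; group
          _ = z := haz
      rw [hbv, hcomm] at h3
      rw [e]
      exact mul_left_cancel h3
  have h1 : T.relIndex D' * D'.relIndex K = T.relIndex K := relIndex_mul_relIndex _ _ _ D.T_le_D hDK
  have h2 : T.relIndex K * K.relIndex C = T.relIndex C :=
    relIndex_mul_relIndex _ _ _ (D.T_le_D.trans hDK) fun x hx => hx.1
  apply hodd
  rw [← h2, ← h1, hidx]
  exact Dvd.intro_left _ rfl |>.mul_right _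

/-- `E_0 ∩ E_1 ≤ Ω₁Z(T)` -/
theorem inter_mt (hML : ML.Final.MLK.{u, u}) (hK : IsKProper G) (hs : Swap T V v)
    (hJ : ∀ i, ¬ jj T ≤ o2 (P i)) (hV : ∀ i, ¬ V i ≤ NU V v i) : EU T v 0 ⊓ EU T v 1 ≤ zc T := by
  have hG : ThmG V v := D.thmG (fun i => D.fixE_of (hJ i) (hV i)) hV fun i => D.hmv_of (hJ i)
  refine D.thmI hML (fun i => hK _ (D.CC_ne_top i)) (Qs := o2 (centralizer (zc T : Set G)))
    (MinSimple.VModule.le_normalizer_o2 _) le_rfl (fun i => (D.E_le_Q i).trans (D.Q_le_o2D i)) fun i => ?_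
  exact D.exists_mv hs (D.noD hML hK) hG i

/-- **If `V i ≰ N_i`, then `[N_0, N_1] ≠ 1`.** -/
theorem mt_one (hML : ML.Final.MLK.{u, u}) (hK : IsKProper G) (hs : Swap T V v)
    (hJ : ∀ i, ¬ jj T ≤ o2 (P i)) (hV : ∀ i, ¬ V i ≤ NU V v i) : ¬ NU V v 0 ≤ centralizer (NU V v 1 : Set G) := by
  intro hcom
  obtain ⟨s, w⟩ := Sw.of_swap hs
  have hfix : ∀ i, FixE T v i := fun i => D.fixE_of (hJ i) (hV i)
  have h01 : (0 : Fin 2) ≠ 1 := by decide
  have hG : PG.Peel.ThmG (ZZ v) (PG.Peel.XW (ZZ v) V) := D.thmG_XW w (hfix 0) (hV 0) (D.hmv_of (hJ 1))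
  have hI : NU V v 0 ⊓ NU V v 1 ≤ zc T :=
    (inf_le_inf (D.N_le_E 0) (D.N_le_E 1)).trans (D.inter_mt hML hK hs hJ hV)
  have PP' := D.pp w
  have hpt0 : PG.IsPt (ZZ v) (ZZ v 0) := ⟨1, by rw [map_one, one_smul]⟩
  obtain ⟨d, a, b, hd, hc⟩ := D.far hML hK w hG
  have hd' : d = 0 ∨ d = 1 := by omega
  rcases hd' with rfl | rfl
  · -- distance 1
    have hc' : PG.CX (ZZ v) (PG.Peel.XW (ZZ v) V) 0 (ZZ v 0) (ZZ v 1) := by
      have h0 := hc.pth
      have hne := hc.ne
      cases h0 with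
      | @succ _ _ u _ h1 h2 =>
        cases h1 with
        | zero h3 =>
          obtain ⟨k, rfl, rfl⟩ := h2
          refine ⟨PG.PP.pth_one ⟨1, by rw [map_one, one_smul], by rw [map_one, one_smul]⟩, fun h4 => hne ?_, hc.com⟩
          rw [PG.Peel.XW_conj, PG.Peel.XW_conj]
          exact conj_le_centralizer h4
    have hW0 : ¬ WU V v 0 ≤ centralizer (NU V v 1 : Set G) := by
      intro hW
      obtain ⟨-, x, hx, y, hy, hxy, -⟩ := D.red hML hK w hG hc'
      rw [D.XW_eq w] at hx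
      rw [D.NN_eq w, D.NN_eq w] at hy
      have h1 : NU V v 0 ⊔ WU V v 0 ≤ centralizer ({y} : Set G) := by
        refine sup_le (fun n hn => ?_) fun n hn => ?_
        · rw [mem_centralizer_singleton_iff]; exact mem_centralizer_iff.1 hy.2 n hn
        · rw [mem_centralizer_singleton_iff]; exact (mem_centralizer_iff.1 (hW hn) y hy.1).symm
      exact hxy (commutatorElement_eq_one_iff_mul_comm.2 (mem_centralizer_singleton_iff.1 (h1 hx)))
    have hW1 : ¬ WU V v 1 ≤ centralizer (NU V v 0 : Set G) := by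
      intro hW
      obtain ⟨-, x, hx, y, hy, hxy, -⟩ := D.red hML hK w hG (hc'.symm PP')
      rw [D.XW_eq_one w] at hx
      rw [D.NN_eq w, D.NN_eq w] at hy
      have h1 : NU V v 1 ⊔ WU V v 1 ≤ centralizer ({y} : Set G) := by
        refine sup_le (fun n hn => ?_) fun n hn => ?_
        · rw [mem_centralizer_singleton_iff]; exact mem_centralizer_iff.1 hy.2 n hn
        · rw [mem_centralizer_singleton_iff]; exact (mem_centralizer_iff.1 (hW hn) y hy.1).symm
      exact hxy (commutatorElement_eq_one_iff_mul_comm.2 (mem_centralizer_singleton_iff.1 (h1 hx)))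
    refine DOne.false_of D (fun i => ?_) (fun i => ?_) hfix
    · have h0 : i = 0 ∨ i = 1 := by clear * -; revert i; decide
      rcases h0 with rfl | rfl
      · exact hcom
      · exact comm_symm hcom
    · have h0 : i = 0 ∨ i = 1 := by clear * -; revert i; decide
      rcases h0 with rfl | rfl
      · exact hW1
      · exact hW0
  · -- distance 2
    have h1 := (D.red hML hK w hG hc).1
    have h2 := hc.pth
    have hne := hc.ne
    have hab : a ≠ b := by
      rintro rfl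
      exact hne (eab_iff.1 ((D.xf w).eab a (PG.PP.pth_pt h2))).1
    cases h2 with
    | @succ _ _ u _ h3 h4 =>
      cases h3 with
      | @succ _ _ t _ h5 h6 =>
        cases h5 with
        | zero h7 =>
          have hau : a ≠ u := by
            rintro rfl
            obtain ⟨k, e1, e2⟩ := h6
            have e3 : ZZ v 0 = ZZ v 1 := smul_left_cancel _ (e1.symm.trans e2)
            have e4 : v 0 ∈ ZZ v 1 := e3 ▸ mem_zpowers _
            rcases D.mem_ZZ.1 e4 with e | e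
            · exact D.ne 0 e
            · exact D.v_ne h01 e
          have h8 : a ≤ PG.NN (ZZ v) u ⊓ PG.NN (ZZ v) b := le_inf (PP'.adj_symm h6).le_NN h1
          obtain ⟨k, rfl, rfl⟩ := h4
          rw [PG.NN_conj, PG.NN_conj, ← Subgroup.smul_inf, D.NN_eq w, D.NN_eq w] at h8
          obtain ⟨g, rfl⟩ := h7
          have hx : g * v 0 * g⁻¹ ∈ MulAut.conj g • ZZ v 0 := ⟨v 0, mem_zpowers _, rfl⟩
          have h9 : k⁻¹ * (g * v 0 * g⁻¹) * k ∈ zc T := hI (mem_conj.1 (h8 hx))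
          have hkey : ∀ j : Fin 2, k⁻¹ * (g * v 0 * g⁻¹) * k = v j → MulAut.conj g • ZZ v 0 = MulAut.conj k • ZZ v j := by
            intro j e
            have e1 : (k⁻¹ * g) * v 0 * (k⁻¹ * g)⁻¹ = v j := by rw [← e]; group
            have e2 := conj_ZZ e1
            rw [← e2, conj_conj, mul_inv_cancel_left]
          rcases (D.zT _).1 h9 with e | e | e | e
          · have e1 : g * v 0 * g⁻¹ = 1 := by
              calc g * v 0 * g⁻¹ = k * (k⁻¹ * (g * v 0 * g⁻¹) * k) * k⁻¹ := by group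
                _ = 1 := by rw [e]; group
            exact D.ne 0 (conj_eq_one_iff.1 e1)
          · exact hau (hkey 0 e)
          · exact hab (hkey 1 e)
          · refine D.not_pt hs (g := k⁻¹ * g) ?_
            rw [← e]; group

/-- `V 0 ≤ N_0` iff `V 1 ≤ N_1` -/
theorem V_le_N_iff (hs : Swap T V v) (i : Fin 2) : V i ≤ NU V v i ↔ V 0 ≤ NU V v 0 := by
  obtain ⟨s, w⟩ := Sw.of_swap hs
  have h01 : (0 : Fin 2) ≠ 1 := by decide
  have h0 : i = 0 ∨ i = 1 := by revert i; decide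
  rcases h0 with rfl | rfl
  · exact Iff.rfl
  · rw [← w.V01, ← D.conj_NU w h01]
    exact conj_le_iff

/-- **(E), `k = 2 = q`, (MT): `V i ≤ N_i`.** -/
theorem V_le_N_of (hML : ML.Final.MLK.{u, u}) (hK : IsKProper G) (hs : Swap T V v)
    (hJ : ∀ i, ¬ jj T ≤ o2 (P i)) (hEnd : EndOne T V v) (i : Fin 2) : V i ≤ NU V v i := by
  rw [D.V_le_N_iff hs i]
  by_contra hV0
  have hV : ∀ i, ¬ V i ≤ NU V v i := fun i h => hV0 ((D.V_le_N_iff hs i).1 h)
  refine D.mt_one hML hK hs hJ hV (hEnd (fun i => D.fixE_of (hJ i) (hV i)) ?_)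
  refine le_trans ?_ ((inf_le_inf (D.N_le_E 0) (D.N_le_E 1)).trans (D.inter_mt hML hK hs hJ hV))
  have h1 : NU V v 1 ≤ normalizer (NU V v 0 : Set G) := (D.N_le_C 1 0).trans (D.C_le_N_N 0)
  have h2 : NU V v 0 ≤ normalizer (NU V v 1 : Set G) := (D.N_le_C 0 1).trans (D.C_le_N_N 1)
  have key : ∀ {A B : Subgroup G}, A ≤ normalizer (B : Set G) → ⁅A, B⁆ ≤ B := by
    intro A B h
    rw [commutator_le]
    intro x hx y hy
    exact mul_mem ((mem_normalizer_iff.1 (h hx) y).1 hy) (inv_mem hy)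
  refine le_inf ?_ (key h2)
  rw [commutator_comm]
  exact key h1

end Fr

end Cfsg.Agent.Omega.TC
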