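import Cfsg.Agent.Omega.TC.Int
import Cfsg.Agent.Omega.TC.No

/-!
# CARD #18791 : `NoD`, `NoQ` (the forms of (NO) in `TC/Int.lean`) from `MLK`
-/

set_option autoImplicit false
set_option linter.unusedSectionVars false

namespace Cfsg.Agent.Omega.TC.NoInt

open Subgroup Cfsg Cfsg.Agent.ZN
open Cfsg.Agent.Omega.OM.KTwo (CC NU ne_add_one)
open Cfsg.Agent.Omega.NO3S.EThree.ExactA (eab_iff)
open Cfsg.Agent.MinSimple.VModule (zc_le_centralizer)

universe u

variable {G : Type u} [Group G] [Finite G] {T : Subgroup G} {V P : Fin 2 → Subgroup G} {v : Fin 2 → G}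

theorem noD (D : Fr T V P v) (hML : ML.Final.MLK.{u, u}) (hK : ∀ i, IsKGroup (CC v i)) : NoD T V v := fun i _ hB hBO =>
  D.no_N hML (hK i) hBO (eab_iff.1 hB).2

/-- `v (i+1) ∉ ⟨v i⟩` -/
theorem not_mem (D : Fr T V P v) (i : Fin 2) : v (i + 1) ∉ zpowers (v i) := by
  intro h
  -- otherwise `V (i+1)`, moved by `P (i+1) ≤ C_i`, would be fixed
  refine D.mv (i + 1) fun p hp => ?_
  rw [mem_centralizer_singleton_iff]
  have h1 : p * v i = v i * p := mem_centralizer_singleton_iff.1 (D.PC (i + 1) i (ne_add_one i).symm hp)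
  obtain ⟨n, hn⟩ := mem_zpowers_iff.1 h
  rw [← hn]
  have h2 : Commute p (v i) := h1
  exact (h2.zpow_right n).eq

theorem noQ (D : Fr T V P v) (hML : ML.Final.MLK.{u, u}) (hK : ∀ i, IsKGroup (CC v i)) : NoQ T V v := by
  intro i B hB hBO M hM hMB
  have hB2 := (eab_iff.1 hB).2
  have hBC : B ≤ CC v i := (hBO.trans (o2_le _)).trans (D.cent_zc_le i)
  -- `Y = ⟨v i⟩ ∩ N_i`
  have hn : CC v i ≤ normalizer ((NU V v i ⊓ zpowers (v i) : Subgroup G) : Set G) :=
    NO3L.LemP.le_normalizer_inf (D.C_le_N_N i)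
      ((Fr.CC_le_cent_zpowers i).trans (centralizer_le_normalizer _))
  have h := D.no hML (H := CC v i) (Y := NU V v i ⊓ zpowers (v i)) (A := B) (M := M) (hK i) (D.T_le_C i) le_rfl hn
    (by rw [D.NH_CC]; exact inf_le_left) (fun h => not_mem D i h.2) hBO hBC hB2 (by rwa [D.NH_CC]) ?_
  · rwa [D.NH_CC] at h
  · intro m hm b hb
    have h1 := hMB m hm b hb
    have h2 : b * m * b⁻¹ * m⁻¹ = (m * b * m⁻¹ * b⁻¹)⁻¹ := by group
    refine mem_inf.2 ⟨?_, ?_⟩
    · exact (NU V v i).mul_mem ((mem_normalizer_iff.1 (D.C_le_N_N i (hBC hb)) _).1 (hM hm)) ((NU V v i).inv_mem (hM hm))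
    · rw [h2]
      exact (zpowers (v i)).inv_mem h1

end Cfsg.Agent.Omega.TC.NoInt
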