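import Cfsg.Agent.Omega.TC.LemZ
import Cfsg.Agent.Omega.TC.NoInt
import Cfsg.Agent.Omega.TC.ThmI

/-!
# CARD #18791: THEOREM EX (helper254 #21690) and THEOREM EX-R (helper909 #21924) over `TC.Fr`, both sides

`D : Fr T V P v`, `hML : MLK`, `hK : ∀ i, IsKGroup (CC v i)`; `O = O₂(D)`, `Z_i = ZV V v i = ⟨v (i+1) ^ C_G(V i)⟩ ≤ N_i`.
No swap, no hypothesis on `V i ≤ N_i`, any distance `d`.

* `AA_sub` : `AA (Q_i) ⊆ AA O`;
* `ex_inf`, `Fr.dich` : **(1) of #21690**: for `A ∈ AA (Q_(i+1))` the group `C_A(Z_i)` is exact on `N_i` or centralises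
  it, and it lies in `O₂(C_G(V i))`;
* `Fail V v i` : `C_A(Z_i) = C_A(N_i)` for all `A ∈ AA (Q_(i+1))`; `Fr.fail_norm` : then `N_i N_(i+1)` is normal in
  `C_(i+1)` (and `Fr.fail_K1`, `Fr.fail_mul` : `C_(i+1) = K_1 D`, `[⟨N_i ^ C_(i+1)⟩ N_(i+1), K_1] ≤ N_(i+1)`);
* `Fr.exBoth` : **for some `i` there is an elementary abelian `B ≤ Q_(i+1)`, `B ≤ O₂(C_G(V i))`, exact on `N_i`, moving
  `N_i`**; `Fr.exBoth_plug` : the form of the plug of THEOREM KL if `V i ≤ N_i` for both `i`.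
-/

set_option autoImplicit false
set_option linter.unusedSectionVars false

namespace Cfsg.Agent.Omega.TC.ExBoth

open Subgroup Cfsg Cfsg.Agent.ZN Cfsg.Agent.Omega.MinPar Cfsg.Agent.Omega.TC.LemZ
open Cfsg.Agent.Omega.OM.KTwo (CC QQ WU NU EU ne_add_one eq_add_one add_one_add_one le_normalizer_V le_V)
open Cfsg.Agent.Omega.NoFF.Basic (conj_conj mem_conj conj_le_iff comm_symm comm_mono Z_le_V V_le)
open Cfsg.Agent.Omega.NOThreeL.Pair (conj_eq_of_mem conj_le_normalizer)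
open Cfsg.Agent.ZN.ChoiceBase (AA cj cj_cj cj_mono cj_inf cj_centralizer cj_mem_AA cj_eq_of_mem_normalizer
  mem_normalizer_iff_cj mem_normalizer_of_cj_le AA_nonempty card_le_mm mm_eq)
open Cfsg.Agent.MinSimple.VModule (o2_isPGroup le_centralizer_zc)
open Cfsg.Agent.Omega.NO3b.Ineq (cidx rel_ne)
open Cfsg.Agent.Omega.NO3S.EThree.ExactA (eab_iff eab_mono eab_sup)
open Cfsg.Agent.Omega.OM.PG.Int (Ex)
open scoped Pointwise

universe u

variable {G : Type u} [Group G]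

/-! ### A count -/

/-- `A` exact on `N`, `|A : C_A(Z)| ≤ |Z : C_Z(A)|`, `Z ≤ N`, (NO) for `C_A(Z)`: `C_A(Z)` is exact on `N`. -/
theorem ex_inf [Finite G] {A Z N : Subgroup G} (hZN : Z ≤ N) (hN : N ≤ centralizer (N : Set G))
    (h1 : (centralizer (Z : Set G)).relIndex A ≤ (centralizer (A : Set G)).relIndex Z)
    (h3 : (centralizer (N : Set G)).relIndex A = (centralizer (A : Set G)).relIndex N)
    (h2 : (centralizer (N : Set G)).relIndex (A ⊓ centralizer (Z : Set G) : Subgroup G) ≤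
      (centralizer ((A ⊓ centralizer (Z : Set G) : Subgroup G) : Set G)).relIndex N) :
    Ex (A ⊓ centralizer (Z : Set G)) N := by
  set B : Subgroup G := A ⊓ centralizer (Z : Set G) with hB
  set Y : Subgroup G := N ⊓ centralizer (A : Set G) with hY
  have hBA : B ≤ A := inf_le_left
  have c1 : Nat.card A = Nat.card B * (centralizer (Z : Set G)).relIndex A := card_eq A _
  have c2 : Nat.card A = Nat.card (A ⊓ centralizer (N : Set G) : Subgroup G) * (centralizer (N : Set G)).relIndex A :=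
    card_eq A _
  have hBN : B ⊓ centralizer (N : Set G) = A ⊓ centralizer (N : Set G) := by
    apply le_antisymm
    · exact inf_le_inf_right _ hBA
    · exact le_inf (le_inf inf_le_left (inf_le_right.trans (centralizer_le hZN))) inf_le_right
  have c3 : Nat.card B = Nat.card (A ⊓ centralizer (N : Set G) : Subgroup G) * (centralizer (N : Set G)).relIndex B := by
    rw [← hBN]; exact card_eq B _
  have c4 : Nat.card N = Nat.card Y * (centralizer (A : Set G)).relIndex N := card_eq N _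
  have c5 : Nat.card N = Nat.card (N ⊓ centralizer (B : Set G) : Subgroup G) * (centralizer (B : Set G)).relIndex N :=
    card_eq N _
  have hYZ : Y ≤ centralizer (Z : Set G) := (inf_le_left.trans hN).trans (centralizer_le hZN)
  have c6 : Nat.card (Z ⊔ Y : Subgroup G) = (centralizer (A : Set G)).relIndex Z * Nat.card Y := by
    have h4 := PLocal.ElemAbSup.card_sup_mul_card_inf hYZ
    have h5 : Z ⊓ Y = Z ⊓ centralizer (A : Set G) := by
      rw [hY, ← inf_assoc, inf_eq_left.2 hZN]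
    rw [h5] at h4
    have h6 : Nat.card Z = Nat.card (Z ⊓ centralizer (A : Set G) : Subgroup G) * (centralizer (A : Set G)).relIndex Z :=
      card_eq Z _
    have hpos : 0 < Nat.card (Z ⊓ centralizer (A : Set G) : Subgroup G) := Nat.card_pos
    have h7 : Nat.card (Z ⊔ Y : Subgroup G) * Nat.card (Z ⊓ centralizer (A : Set G) : Subgroup G) =
        ((centralizer (A : Set G)).relIndex Z * Nat.card Y) * Nat.card (Z ⊓ centralizer (A : Set G) : Subgroup G) := by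
      rw [h4, h6]; ring
    exact Nat.eq_of_mul_eq_mul_right hpos h7
  have hle : Z ⊔ Y ≤ N ⊓ centralizer (B : Set G) := by
    refine sup_le (le_inf hZN (comm_symm inf_le_right)) (le_inf inf_le_left ?_)
    exact inf_le_right.trans (centralizer_le hBA)
  set a := (centralizer (Z : Set G)).relIndex A
  set b := (centralizer (A : Set G)).relIndex Z
  set r := (centralizer (N : Set G)).relIndex A
  set s := (centralizer (N : Set G)).relIndex B
  set t := (centralizer (B : Set G)).relIndex N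
  set y' := Nat.card (A ⊓ centralizer (N : Set G) : Subgroup G)
  set y := Nat.card Y
  set c := Nat.card (N ⊓ centralizer (B : Set G) : Subgroup G)
  have hy' : 0 < y' := Nat.card_pos
  have hc : 0 < c := Nat.card_pos
  have hra : r = a * s := by
    have h4 : y' * r = y' * (a * s) := by
      calc y' * r = Nat.card A := c2.symm
        _ = y' * (a * s) := by rw [c1, c3]; ring
    exact Nat.eq_of_mul_eq_mul_left hy' h4
  have hyb : b * y ≤ c := by
    rw [← c6]; exact Subgroup.card_le_of_le hle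
  have hyr : y * r = c * t := by rw [← c5, c4, h3]
  have e1 : y * (a * s) = c * t := by rw [← hra]; exact hyr
  have l1 : y * (a * s) ≤ (b * y) * s := by
    calc y * (a * s) = a * (y * s) := by ring
      _ ≤ b * (y * s) := Nat.mul_le_mul_right _ h1
      _ = (b * y) * s := by ring
  have l2 : (b * y) * s ≤ c * s := Nat.mul_le_mul_right _ hyb
  have l3 : c * s ≤ c * t := Nat.mul_le_mul_left _ h2
  have e2 : c * s = c * t := le_antisymm l3 (by rw [← e1]; exact l1.trans l2)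
  exact Nat.eq_of_mul_eq_mul_left hc e2

/-- `m ∈ A N`, `[A, m] ≤ N` for `A` abelian normalising `N`. -/
theorem comm_mem {C A N : Subgroup G} (hAC : A ≤ C) (hCN : C ≤ normalizer (N : Set G))
    (hA : ∀ a ∈ A, ∀ b ∈ A, a * b = b * a) {K : Subgroup G} (hK : K ≤ A) {m b : G} (hm : m ∈ K ⊔ N) (hb : b ∈ A) :
    b * m * b⁻¹ * m⁻¹ ∈ N := by
  obtain ⟨n, hn, a, ha, rfl⟩ := OM.KTwo.exists_mul_of_mem_sup ((hK.trans hAC).trans hCN)
    (by rwa [sup_comm] at hm)
  have hba := hA b hb a (hK ha)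
  have e : b * (n * a) * b⁻¹ * (n * a)⁻¹ = b * n * b⁻¹ * n⁻¹ := by
    calc b * (n * a) * b⁻¹ * (n * a)⁻¹ = b * n * (a * b⁻¹) * a⁻¹ * n⁻¹ := by group
      _ = b * n * (b⁻¹ * a) * a⁻¹ * n⁻¹ := by
        have h1 : a * b⁻¹ = b⁻¹ * a := by
          calc a * b⁻¹ = b⁻¹ * (b * a) * b⁻¹ := by group
            _ = b⁻¹ * (a * b) * b⁻¹ := by rw [hba]
            _ = b⁻¹ * a := by group
        rw [h1]
      _ = b * n * b⁻¹ * n⁻¹ := by group
  rw [e]
  exact mul_mem ((mem_normalizer_iff.1 (hCN (hAC hb)) n).1 hn) (inv_mem hn)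

variable [Finite G] {T : Subgroup G} {V P : Fin 2 → Subgroup G} {v : Fin 2 → G} (D : Fr T V P v)

include D

theorem f3' (i : Fin 2) {A : Subgroup G} (hA : A ≤ o2 (centralizer (zc T : Set G)))
    (hc : A ≤ centralizer (NU V v i : Set G)) : A ≤ QQ v i := (le_inf hA hc).trans (D.f3 i)

section no

variable (hML : ML.Final.MLK.{u, u}) (hK : ∀ i, IsKGroup (CC v i))

include hML hK

/-- `A^# = C_A(N_i) N_i` -/
theorem sharp (i : Fin 2) {A : Subgroup G} (hA : A ∈ AA (o2 (centralizer (zc T : Set G)))) :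
    Ex A (NU V v i) ∧ NU V v i ⊓ centralizer (A : Set G) ≤ A ∧
      (A ⊓ centralizer (NU V v i : Set G)) ⊔ NU V v i ∈ AA (o2 (centralizer (zc T : Set G))) ∧
      (A ⊓ centralizer (NU V v i : Set G)) ⊔ NU V v i ≤ QQ v i := by
  obtain ⟨h1, h2, h3⟩ := D.exact_AA (NoInt.noD D hML hK) i hA
  exact ⟨h1, h2, h3, sup_le (f3' D i (inf_le_left.trans hA.2.1) inf_le_right) (D.N_le_Q i)⟩

/-- `AA (Q_i) ⊆ AA O₂(D)` -/
theorem AA_sub {i : Fin 2} {A : Subgroup G} (hA : A ∈ AA (QQ v i)) : A ∈ AA (o2 (centralizer (zc T : Set G))) := by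
  obtain ⟨A₀, hA₀⟩ := AA_nonempty (o2 (centralizer (zc T : Set G)))
  obtain ⟨-, -, h1, h2⟩ := sharp D hML hK i hA₀
  refine ⟨hA.1, hA.2.1.trans (D.Q_le_o2D i), fun B hB hBO => ?_⟩
  exact (h1.2.2 B hB hBO).trans (hA.2.2 _ h1.1 h2)

omit hML hK in
theorem AA_of {i : Fin 2} {A : Subgroup G} (hA : A ∈ AA (o2 (centralizer (zc T : Set G)))) (hAQ : A ≤ QQ v i) :
    A ∈ AA (QQ v i) := ⟨hA.1, hAQ, fun B hB hBQ => hA.2.2 B hB (hBQ.trans (D.Q_le_o2D i))⟩

/-- `A^# ∈ AA (Q_i)` -/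
theorem sharp_mem (i : Fin 2) {A : Subgroup G} (hA : A ∈ AA (o2 (centralizer (zc T : Set G)))) :
    (A ⊓ centralizer (NU V v i : Set G)) ⊔ NU V v i ∈ AA (QQ v i) :=
  AA_of D (sharp D hML hK i hA).2.2.1 (sharp D hML hK i hA).2.2.2

omit hML hK in
/-- the members of `AA (Q_(i+1))` centralise `V i` -/
theorem cent_V {i : Fin 2} {A : Subgroup G} (hA : A ≤ QQ v (i + 1)) : A ≤ centralizer (V i : Set G) := by
  have h1 : V i ≤ NU V v (i + 1) := by
    have := D.V_le_N (i + 1)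
    rwa [add_one_add_one] at this
  exact (hA.trans (D.Q_le_cent_N (i + 1))).trans (centralizer_le h1)

omit hK in
/-- `(NO)` for `Z_i` -/
theorem no_ZV {i : Fin 2} (hK : IsKGroup (CC v i)) {A : Subgroup G} (hA : IsElementaryAbelian 2 A)
    (hAO : A ≤ o2 (centralizer (zc T : Set G))) :
    (centralizer (ZV V v i : Set G)).relIndex A ≤ (centralizer (A : Set G)).relIndex (ZV V v i) := by
  have hHC : centralizer (V i : Set G) ⊔ T ≤ CC v i := sup_le (cent_V_le D i) (D.T_le_C i)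
  have h := D.no_H hML (A := A) hK (le_sup_right : T ≤ centralizer (V i : Set G) ⊔ T) hHC hAO
    ((hAO.trans D.o2D_le_T).trans le_sup_right) (eab_iff.1 hA).2
  rwa [NH_eq D i] at h

/-- **(1) of #21690**, exactness -/
theorem dich (i : Fin 2) {A : Subgroup G} (hA : A ∈ AA (o2 (centralizer (zc T : Set G)))) :
    Ex (A ⊓ centralizer (ZV V v i : Set G)) (NU V v i) := by
  refine ex_inf (ZV_le D i) (D.N_comm i) (no_ZV D hML (hK i) hA.1 hA.2.1) (sharp D hML hK i hA).1 ?_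
  exact NoInt.noD D hML hK i _ (eab_mono hA.1 inf_le_left) (inf_le_left.trans hA.2.1)

omit hML hK in
/-- **(1) of #21690**: `C_A(Z_i) ≤ O₂(C_G(V i))` -/
theorem le_o2_cent (i : Fin 2) {B : Subgroup G} (hBO : B ≤ o2 (centralizer (zc T : Set G)))
    (hBV : B ≤ centralizer (V i : Set G)) (hBZ : B ≤ centralizer (ZV V v i : Set G)) :
    B ≤ o2 (centralizer (V i : Set G)) := by
  set O := o2 (centralizer (zc T : Set G)) with hO
  set H : Subgroup G := centralizer (V i : Set G) ⊓ centralizer (ZV V v i : Set G) with hH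
  have hHD : H ≤ centralizer (zc T : Set G) := by
    intro x hx
    refine (D.mem_D_iff (ne_add_one i)).2 ⟨cent_V_le D i hx.1, ?_⟩
    exact centralizer_le (Set.singleton_subset_iff.2 (v_mem_ZV D i)) hx.2
  -- `O ⊓ H` is a normal 2-subgroup of `H`
  have h1 : O ⊓ H ≤ o2 H := by
    refine le_o2 inf_le_right ((o2_isPGroup _).to_le inf_le_left) ?_
    exact norm_inf (hHD.trans (le_normalizer_o2 _)) le_normalizer
  -- `H` is normal in `C_G(V i)`
  have h2 : centralizer (V i : Set G) ≤ normalizer (H : Set G) :=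
    norm_inf le_normalizer (norm_cent (K_le_N_ZV D i))
  have h3 : centralizer (V i : Set G) ≤ normalizer ((o2 H : Subgroup G) : Set G) :=
    h2.trans (Cfsg.Agent.Omega.normalizer_le_normalizer_o2' _)
  have h4 : o2 H ≤ o2 (centralizer (V i : Set G)) :=
    le_o2 ((o2_le _).trans inf_le_left) (o2_isPGroup _) h3
  exact (le_inf hBO (le_inf hBV hBZ)).trans (h1.trans h4)

end no

/-! ### The failure of side `i` -/

omit [Finite G] D in
/-- `C_A(Z_i) ≤ C_A(N_i)` for all `A ∈ AA (Q_(i+1))` -/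
def Fail (V : Fin 2 → Subgroup G) (v : Fin 2 → G) (i : Fin 2) : Prop :=
  ∀ A ∈ AA (QQ v (i + 1)), A ⊓ centralizer (ZV V v i : Set G) ≤ centralizer (NU V v i : Set G)

omit [Finite G] D in
/-- `A^# = C_A(N_i) N_i` -/
def sh (V : Fin 2 → Subgroup G) (v : Fin 2 → G) (i : Fin 2) (A : Subgroup G) : Subgroup G :=
  (A ⊓ centralizer (NU V v i : Set G)) ⊔ NU V v i

omit [Finite G] D in
/-- the family `{A^# : A ∈ AA (Q_(i+1))}` -/
def SS (V : Fin 2 → Subgroup G) (v : Fin 2 → G) (i : Fin 2) : Set (Subgroup G) :=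
  {S | ∃ A ∈ AA (QQ v (i + 1)), S = sh V v i A}

variable (hML : ML.Final.MLK.{u, u}) (hK : ∀ i, IsKGroup (CC v i))

include hML hK

/-- `A^# = C_A(Z_i) Z_i` -/
theorem sh_eq {i : Fin 2} (hF : Fail V v i) {A : Subgroup G} (hA : A ∈ AA (QQ v (i + 1))) :
    sh V v i A = (A ⊓ centralizer (ZV V v i : Set G)) ⊔ ZV V v i := by
  have hAO := AA_sub D hML hK hA
  obtain ⟨-, -, h1, -⟩ := sharp D hML hK i hAO
  have hZe : IsElementaryAbelian 2 (ZV V v i) := eab_mono (D.N_eab i) (ZV_le D i)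
  have h2 : (A ⊓ centralizer (ZV V v i : Set G)) ⊔ ZV V v i ∈ AA (o2 (centralizer (zc T : Set G))) :=
    ThmI.off_eq hAO hZe ((ZV_le D i).trans (D.N_le_oD i)) (no_ZV D hML (hK i) hA.1 hAO.2.1)
  refine (Subgroup.eq_of_le_of_card_ge (sup_le ?_ ((ZV_le D i).trans le_sup_right)) ?_).symm
  · exact (le_inf inf_le_left (hF A hA)).trans le_sup_left
  · exact h2.2.2 _ h1.1 h1.2.1

theorem sh_mem {i : Fin 2} {A : Subgroup G} (hA : A ∈ AA (QQ v (i + 1))) : sh V v i A ∈ AA (QQ v i) :=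
  sharp_mem D hML hK i (AA_sub D hML hK hA)

/-- `{A^#}` is invariant under `C_(i+1)` -/
theorem SS_inv {i : Fin 2} (hF : Fail V v i) {g : G} (hg : g ∈ CC v (i + 1)) {S : Subgroup G} (hS : S ∈ SS V v i) :
    cj g S ∈ SS V v i := by
  -- the stabiliser
  let K : Subgroup G :=
    { carrier := {g | ∀ S ∈ SS V v i, cj g S ∈ SS V v i ∧ cj g⁻¹ S ∈ SS V v i}
      one_mem' := fun S hS => by
        simp only [inv_one, ChoiceBase.cj_one]
        exact ⟨hS, hS⟩
      mul_mem' := by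
        intro a b ha hb S hS
        constructor
        · rw [← cj_cj]
          exact (ha _ (hb S hS).1).1
        · rw [mul_inv_rev, ← cj_cj]
          exact (hb _ (ha S hS).2).2
      inv_mem' := by
        intro a ha S hS
        refine ⟨(ha S hS).2, ?_⟩
        rw [inv_inv]
        exact (ha S hS).1 }
  have hof : ∀ L : Subgroup G, (∀ g ∈ L, ∀ S ∈ SS V v i, cj g S ∈ SS V v i) → L ≤ K := fun L hL g hg S hS =>
    ⟨hL g hg S hS, hL g⁻¹ (inv_mem hg) S hS⟩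
  have hQ : ∀ g ∈ CC v (i + 1), ∀ A ∈ AA (QQ v (i + 1)), cj g A ∈ AA (QQ v (i + 1)) := by
    intro g hg A hA
    have h1 := cj_mem_AA g hA
    have h2 : cj g (QQ v (i + 1)) = QQ v (i + 1) := D.conj_QQ hg
    rwa [h2] at h1
  -- `D`
  have h1 : centralizer (zc T : Set G) ≤ K := by
    refine hof _ ?_
    rintro d hd _ ⟨A, hA, rfl⟩
    refine ⟨cj d A, hQ d (D.cent_zc_le _ hd) A hA, ?_⟩
    have h2 : cj d (NU V v i) = NU V v i := conj_eq_of_mem (D.C_le_N_N i (D.cent_zc_le i hd))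
    unfold sh
    rw [cj, Subgroup.map_sup]
    change cj d (A ⊓ centralizer (NU V v i : Set G)) ⊔ cj d (NU V v i) = _
    rw [cj_inf, cj_centralizer, h2]
  -- `P i`
  have h2 : P i ≤ K := by
    refine hof _ ?_
    rintro p hp _ ⟨A, hA, rfl⟩
    have hp' : p ∈ CC v (i + 1) := D.PC i (i + 1) (ne_add_one i) hp
    refine ⟨cj p A, hQ p hp' A hA, ?_⟩
    have h2 : cj p (ZV V v i) = ZV V v i := conj_eq_of_mem (P_le_N_ZV D i hp)
    rw [sh_eq D hML hK hF hA, sh_eq D hML hK hF (hQ p hp' A hA)]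
    rw [cj, Subgroup.map_sup]
    change cj p (A ⊓ centralizer (ZV V v i : Set G)) ⊔ cj p (ZV V v i) = _
    rw [cj_inf, cj_centralizer, h2]
  exact ((D.gen (ne_add_one i)).trans (sup_le h2 h1) hg S hS).1

omit hML hK in
theorem SS_nonempty (i : Fin 2) : (SS V v i).Nonempty := by
  obtain ⟨A, hA⟩ := AA_nonempty (QQ v (i + 1))
  exact ⟨_, A, hA, rfl⟩

omit hML hK D in
theorem N_le_SS {i : Fin 2} {S : Subgroup G} (hS : S ∈ SS V v i) : NU V v i ≤ S := by
  obtain ⟨A, -, rfl⟩ := hS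
  exact le_sup_right

theorem SS_mem {i : Fin 2} {S : Subgroup G} (hS : S ∈ SS V v i) : S ∈ AA (QQ v i) := by
  obtain ⟨A, hA, rfl⟩ := hS
  exact sh_mem D hML hK hA

/-- `A^# ≤ Q_(i+1)` -/
theorem SS_le {i : Fin 2} (hF : Fail V v i) {S : Subgroup G} (hS : S ∈ SS V v i) : S ≤ QQ v (i + 1) := by
  set R : Subgroup G := sSup (SS V v i) with hR
  have h1 : R ≤ QQ v i := sSup_le fun S hS => (SS_mem D hML hK hS).2.1
  have h2 : CC v (i + 1) ≤ normalizer (R : Set G) := by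
    intro g hg
    apply mem_normalizer_of_cj_le
    rw [ChoiceBase.cj_le_iff]
    refine sSup_le fun S hS => ?_
    rw [← ChoiceBase.cj_le_iff]
    exact le_sSup (SS_inv D hML hK hF hg hS)
  have h3 : R ≤ QQ v (i + 1) :=
    ZN.le_o2 (h1.trans ((D.Q_le_T i).trans (D.T_le_C (i + 1)))) ((o2_isPGroup _).to_le h1) h2
  exact (le_sSup hS).trans h3

/-- `A^# ∈ AA (Q_(i+1))` -/
theorem SS_mem' {i : Fin 2} (hF : Fail V v i) {S : Subgroup G} (hS : S ∈ SS V v i) : S ∈ AA (QQ v (i + 1)) :=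
  AA_of D (AA_sub D hML hK (SS_mem D hML hK hS)) (SS_le D hML hK hF hS)

/-- `M_(i+1) = ⟨N_i ^ C_(i+1)⟩ ≤ A^#` -/
theorem M_le {i : Fin 2} (hF : Fail V v i) {S : Subgroup G} (hS : S ∈ SS V v i) :
    NoFF.Basic.V (NU V v i) (CC v (i + 1)) ≤ S := by
  refine V_le fun c hc => ?_
  change cj c (NU V v i) ≤ S
  rw [ChoiceBase.cj_le_iff]
  exact N_le_SS (SS_inv D hML hK hF (inv_mem hc) hS)

/-- `N_i ≤ Q_(i+1)` -/
theorem N_le_Q' {i : Fin 2} (hF : Fail V v i) : NU V v i ≤ QQ v (i + 1) := by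
  obtain ⟨S, hS⟩ := SS_nonempty D i
  exact (N_le_SS hS).trans (SS_le D hML hK hF hS)

/-- `N_(i+1) ≤ Q_i` -/
theorem N_le_Q'' {i : Fin 2} (hF : Fail V v i) : NU V v (i + 1) ≤ QQ v i :=
  f3' D i (D.N_le_oD _) (comm_symm ((N_le_Q' D hML hK hF).trans (D.Q_le_cent_N (i + 1))))

/-- **(a)**: `C_A(N_i) ≤ C(M_(i+1))` for all `A ∈ AA (Q_(i+1))` -/
theorem cent_M {i : Fin 2} (hF : Fail V v i) {A : Subgroup G} (hA : A ∈ AA (QQ v (i + 1))) :
    A ⊓ centralizer (NU V v i : Set G) ≤ centralizer (NoFF.Basic.V (NU V v i) (CC v (i + 1)) : Set G) := by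
  have hS : sh V v i A ∈ SS V v i := ⟨A, hA, rfl⟩
  have h1 := M_le D hML hK hF hS
  have h2 := (eab_iff.1 (SS_mem D hML hK hS).1).1
  exact (le_sup_left.trans h2).trans (centralizer_le h1)

/-- **(b)**: some `A ∈ AA (Q_i)` moves `N_(i+1)` -/
theorem exists_moves {i : Fin 2} (hF : Fail V v i) : ∃ A ∈ AA (QQ v i), ¬ A ≤ centralizer (NU V v (i + 1) : Set G) := by
  by_contra hcon
  push Not at hcon
  have hsub : ∀ A, A ∈ AA (QQ v i) ↔ A ∈ SS V v i := by
    intro A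
    constructor
    · intro hA
      have hAO := AA_sub D hML hK hA
      have hA' : A ∈ AA (QQ v (i + 1)) := AA_of D hAO (f3' D (i + 1) hAO.2.1 (hcon A hA))
      refine ⟨A, hA', ?_⟩
      have h1 : A ≤ centralizer (NU V v i : Set G) := hA.2.1.trans (D.Q_le_cent_N i)
      have h2 : NU V v i ≤ A := by
        refine le_trans (le_inf le_rfl (comm_symm h1)) (sharp D hML hK i hAO).2.1
      unfold sh
      rw [inf_eq_left.2 h1, sup_eq_left.2 h2]
    · exact SS_mem D hML hK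
  set J : Subgroup G := sSup (AA (QQ v i)) with hJ
  have h1 : CC v (i + 1) ≤ normalizer (J : Set G) := by
    intro g hg
    apply mem_normalizer_of_cj_le
    rw [ChoiceBase.cj_le_iff]
    refine sSup_le fun S hS => ?_
    rw [← ChoiceBase.cj_le_iff]
    exact le_sSup ((hsub _).2 (SS_inv D hML hK hF hg ((hsub _).1 hS)))
  have h2 : CC v i ≤ normalizer (J : Set G) := by
    intro g hg
    apply mem_normalizer_of_cj_le
    rw [ChoiceBase.cj_le_iff]
    refine sSup_le fun S hS => ?_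
    rw [← ChoiceBase.cj_le_iff]
    have h3 := cj_mem_AA g hS
    have h4 : cj g (QQ v i) = QQ v i := D.conj_QQ hg
    rw [h4] at h3
    exact le_sSup h3
  have h3 : IsPGroup 2 J := (o2_isPGroup _).to_le (sSup_le fun S hS => hS.2.1 : J ≤ QQ v i)
  have h4 : J = ⊥ := by
    rcases Fin.exists_fin_two.1 ⟨i, rfl⟩ with h | h
    · rw [h] at h1 h2
      exact D.nonloc J h3 h2 h1
    · rw [h] at h1 h2
      exact D.nonloc J h3 h1 h2
  obtain ⟨S, hS⟩ := SS_nonempty D i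
  have h5 : v (i + 1) ∈ J := le_sSup ((hsub S).2 hS) (N_le_SS hS (D.mem_N i))
  rw [h4, mem_bot] at h5
  exact D.ne _ h5

/-! ### `K_1 = C_(C_(i+1))(M_(i+1) N_(i+1) / N_(i+1))` -/

omit [Finite G] D hML hK in
/-- `M_(i+1) N_(i+1)`, `M_(i+1) = ⟨N_i ^ C_(i+1)⟩` -/
def MN (V : Fin 2 → Subgroup G) (v : Fin 2 → G) (i : Fin 2) : Subgroup G :=
  NoFF.Basic.V (NU V v i) (CC v (i + 1)) ⊔ NU V v (i + 1)

omit hML hK in
theorem C_le_N_MN (i : Fin 2) : CC v (i + 1) ≤ normalizer (MN V v i : Set G) := by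
  apply le_norm_of
  intro c hc x hx
  have h1 := le_normalizer_V (NU V v i) (CC v (i + 1)) hc
  have h2 := D.C_le_N_N (i + 1) hc
  have h3 : cj c (MN V v i) = MN V v i := by
    unfold MN
    rw [cj, Subgroup.map_sup]
    change cj c _ ⊔ cj c _ = _
    rw [cj_eq_of_mem_normalizer h1, cj_eq_of_mem_normalizer h2]
  rw [← h3]
  exact ⟨x, hx, rfl⟩

/-- `K_1 = {k ∈ C_(i+1) : [MN, k] ≤ N_(i+1)}` -/
def K1 (D : Fr T V P v) (i : Fin 2) : Subgroup G where
  carrier := {k | k ∈ CC v (i + 1) ∧ ∀ m ∈ MN V v i, k * m * k⁻¹ * m⁻¹ ∈ NU V v (i + 1)}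
  one_mem' := ⟨one_mem _, fun m _ => by simp⟩
  mul_mem' := by
    rintro a b ⟨ha, ha'⟩ ⟨hb, hb'⟩
    refine ⟨mul_mem ha hb, fun m hm => ?_⟩
    have h1 : b * m * b⁻¹ ∈ MN V v i := (mem_normalizer_iff.1 (C_le_N_MN D i hb) m).1 hm
    have e : a * b * m * (a * b)⁻¹ * m⁻¹ = (a * (b * m * b⁻¹) * a⁻¹ * (b * m * b⁻¹)⁻¹) * (b * m * b⁻¹ * m⁻¹) := by
      group
    rw [e]
    exact mul_mem (ha' _ h1) (hb' m hm)
  inv_mem' := by
    rintro a ⟨ha, ha'⟩
    refine ⟨inv_mem ha, fun m hm => ?_⟩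
    have h1 : a⁻¹ * m * a ∈ MN V v i := by
      have := (mem_normalizer_iff.1 (C_le_N_MN D i (inv_mem ha)) m).1 hm
      rwa [inv_inv] at this
    have h2 := inv_mem (ha' _ h1)
    have e : a⁻¹ * m * a⁻¹⁻¹ * m⁻¹ = (a * (a⁻¹ * m * a) * a⁻¹ * (a⁻¹ * m * a)⁻¹)⁻¹ := by group
    rw [e]
    exact h2

omit hML hK in
theorem K1_le (i : Fin 2) : K1 D i ≤ CC v (i + 1) := fun _ h => h.1

omit hML hK in
theorem K1_comm {i : Fin 2} {k m : G} (hk : k ∈ K1 D i) (hm : m ∈ MN V v i) : k * m * k⁻¹ * m⁻¹ ∈ NU V v (i + 1) :=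
  hk.2 m hm

omit hML hK in
theorem C_le_N_K1 (i : Fin 2) : CC v (i + 1) ≤ normalizer (K1 D i : Set G) := by
  apply le_norm_of
  rintro c hc k ⟨hk, hk'⟩
  refine ⟨mul_mem (mul_mem hc hk) (inv_mem hc), fun m hm => ?_⟩
  have h1 : c⁻¹ * m * c ∈ MN V v i := by
    have := (mem_normalizer_iff.1 (C_le_N_MN D i (inv_mem hc)) m).1 hm
    rwa [inv_inv] at this
  have h2 := (mem_normalizer_iff.1 (D.C_le_N_N (i + 1) hc) _).1 (hk' _ h1)
  have e : c * k * c⁻¹ * m * (c * k * c⁻¹)⁻¹ * m⁻¹ = c * (k * (c⁻¹ * m * c) * k⁻¹ * (c⁻¹ * m * c)⁻¹) * c⁻¹ := by group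
  rw [e]
  exact h2

/-- **(c)**: the members of `AA (Q_i)` are in `K_1` -/
theorem le_K1 {i : Fin 2} (hF : Fail V v i) {A : Subgroup G} (hA : A ∈ AA (QQ v i)) : A ≤ K1 D i := by
  have hAO := AA_sub D hML hK hA
  have hAC : A ≤ CC v (i + 1) := hA.2.1.trans ((D.Q_le_T i).trans (D.T_le_C (i + 1)))
  -- `A' = C_A(N_(i+1)) N_(i+1)`
  obtain ⟨-, -, -, h1⟩ := sharp D hML hK (i + 1) hAO
  have h2 := sharp_mem D hML hK (i + 1) hAO
  have h3 : (A ⊓ centralizer (NU V v (i + 1) : Set G)) ⊔ NU V v (i + 1) ≤ centralizer (NU V v i : Set G) :=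
    sup_le ((inf_le_left.trans hA.2.1).trans (D.Q_le_cent_N i)) ((N_le_Q'' D hML hK hF).trans (D.Q_le_cent_N i))
  have h4 := cent_M D hML hK hF h2
  rw [inf_eq_left.2 h3] at h4
  -- `M ≤ A'`
  set M : Subgroup G := NoFF.Basic.V (NU V v i) (CC v (i + 1)) with hM
  obtain ⟨S, hS⟩ := SS_nonempty D i
  have h5 : M ≤ S := M_le D hML hK hF hS
  have hSe := SS_mem' D hML hK hF hS
  have hMe : IsElementaryAbelian 2 M := eab_mono hSe.1 h5
  have h6 : M ≤ (A ⊓ centralizer (NU V v (i + 1) : Set G)) ⊔ NU V v (i + 1) := by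
    set A' : Subgroup G := (A ⊓ centralizer (NU V v (i + 1) : Set G)) ⊔ NU V v (i + 1) with hA'
    have h7 : IsElementaryAbelian 2 (A' ⊔ M : Subgroup G) := eab_sup h2.1 hMe h4
    have h8 : A' = A' ⊔ M :=
      Subgroup.eq_of_le_of_card_ge le_sup_left (h2.2.2 _ h7 (sup_le h2.2.1 (h5.trans hSe.2.1)))
    rw [h8]; exact le_sup_right
  have h7 : MN V v i ≤ (A ⊓ centralizer (NU V v (i + 1) : Set G)) ⊔ NU V v (i + 1) := sup_le h6 le_sup_right
  intro a ha
  refine ⟨hAC ha, fun m hm => ?_⟩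
  exact comm_mem hAC (D.C_le_N_N (i + 1)) (fun x hx y hy => (mem_centralizer_iff.1 ((eab_iff.1 hA.1).1 hx) y hy).symm)
    inf_le_left (h7 hm) ha

/-- `C_(i+1) = K_1 D` -/
theorem K1_mul {i : Fin 2} (hF : Fail V v i) :
    ∀ c ∈ CC v (i + 1), ∃ x ∈ K1 D i, ∃ d ∈ centralizer (zc T : Set G), c = x * d := by
  refine D.lem0 (K1_le D i) (C_le_N_K1 D i) fun h => ?_
  obtain ⟨A, hA, hAm⟩ := exists_moves D hML hK hF
  exact hAm ((le_K1 D hML hK hF hA).trans h)

/-- `M_(i+1) N_(i+1) = N_i N_(i+1)` -/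
theorem MN_eq {i : Fin 2} (hF : Fail V v i) : MN V v i = NU V v i ⊔ NU V v (i + 1) := by
  apply le_antisymm
  · refine sup_le (V_le fun c hc => ?_) le_sup_right
    obtain ⟨k, hk, d, hd, rfl⟩ := K1_mul D hML hK hF c hc
    rw [← conj_conj, conj_eq_of_mem (D.C_le_N_N i (D.cent_zc_le i hd))]
    rintro _ ⟨n, hn, rfl⟩
    have hn' : n ∈ NU V v i := hn
    have h1 := K1_comm D hk (show n ∈ MN V v i from mem_sup_left (le_V _ _ hn'))
    change k * n * k⁻¹ ∈ _
    have e : k * n * k⁻¹ = (k * n * k⁻¹ * n⁻¹) * n := by group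
    rw [e]
    exact mul_mem (mem_sup_right h1) (mem_sup_left hn')
  · exact sup_le ((le_V _ _).trans le_sup_left) le_sup_right

/-- **`N_i N_(i+1)` is normal in `C_(i+1)`** -/
theorem fail_norm {i : Fin 2} (hF : Fail V v i) :
    CC v (i + 1) ≤ normalizer ((NU V v i ⊔ NU V v (i + 1) : Subgroup G) : Set G) := by
  rw [← MN_eq D hML hK hF]
  exact C_le_N_MN D i

/-- **THEOREM EX**: not both sides fail. -/
theorem not_fail : ¬ ∀ i, Fail V v i := by
  intro hF
  have h0 := fail_norm D hML hK (hF 0)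
  have h1 := fail_norm D hML hK (hF 1)
  rw [show (0 : Fin 2) + 1 = 1 from rfl] at h0
  rw [show (1 : Fin 2) + 1 = 0 from rfl, sup_comm] at h1
  have h2 := D.nonloc _ (D.T_isPGroup.to_le (sup_le (D.N_le_T 0) (D.N_le_T 1))) h1 h0
  have h3 : v (0 + 1) ∈ NU V v 0 ⊔ NU V v 1 := mem_sup_left (D.mem_N 0)
  rw [h2, mem_bot] at h3
  exact D.ne _ h3

/-- the exact group if side `i` does not fail -/
theorem of_not_fail {i : Fin 2} (hF : ¬ Fail V v i) : ∃ B : Subgroup G, IsElementaryAbelian 2 B ∧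
    B ≤ QQ v (i + 1) ∧ B ≤ o2 (centralizer (V i : Set G)) ∧ Ex B (NU V v i) ∧ ¬ B ≤ centralizer (NU V v i : Set G) := by
  unfold Fail at hF
  push Not at hF
  obtain ⟨A, hA, hAm⟩ := hF
  have hAO := AA_sub D hML hK hA
  refine ⟨A ⊓ centralizer (ZV V v i : Set G), eab_mono hA.1 inf_le_left, inf_le_left.trans hA.2.1, ?_,
    dich D hML hK i hAO, hAm⟩
  exact le_o2_cent D i (inf_le_left.trans hAO.2.1) (cent_V D (inf_le_left.trans hA.2.1)) inf_le_right

omit hML hK in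
/-- `O₂(C_G(V i)) ≤ O₂(N_(C_i)(V i))` -/
theorem o2_cent_le (i : Fin 2) :
    o2 (centralizer (V i : Set G)) ≤ o2 (normalizer (V i : Set G) ⊓ CC v i) := by
  have h1 : centralizer (V i : Set G) ≤ normalizer (V i : Set G) ⊓ CC v i :=
    le_inf (centralizer_le_normalizer _) (cent_V_le D i)
  refine ZN.le_o2 ((ZN.o2_le _).trans h1) (o2_isPGroup _) ?_
  exact (inf_le_left.trans (norm_cent le_rfl)).trans (Cfsg.Agent.Omega.normalizer_le_normalizer_o2' _)

end Cfsg.Agent.Omega.TC.ExBoth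

namespace Cfsg.Agent.Omega.TC.Fr

open Subgroup Cfsg Cfsg.Agent.ZN
open Cfsg.Agent.Omega.OM.KTwo (CC QQ NU)
open Cfsg.Agent.Omega.OM.PG.Int (Ex)

universe u

variable {G : Type u} [Group G] [Finite G] {T : Subgroup G} {V P : Fin 2 → Subgroup G} {v : Fin 2 → G}

/-- **THEOREM EX / EX-R** (#21690, #21924): any frame, any `d`: on some side `i` there is an exact elementary abelian
group in `O₂(D) ∩ O₂(C_G(V i))` which moves `N_i`. -/
theorem exBoth (D : Fr T V P v) (hML : ML.Final.MLK.{u, u}) (hK : ∀ i, IsKGroup (CC v i)) :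
    ∃ (i : Fin 2) (B : Subgroup G), IsElementaryAbelian 2 B ∧ B ≤ QQ v (i + 1) ∧
      B ≤ o2 (centralizer (V i : Set G)) ∧ Ex B (NU V v i) ∧ ¬ B ≤ centralizer (NU V v i : Set G) := by
  have h := ExBoth.not_fail D hML hK
  push Not at h
  obtain ⟨i, hi⟩ := h
  exact ⟨i, ExBoth.of_not_fail D hML hK hi⟩

/-- the literal of `KL/Plug.lean`: [A] `V i ≤ N_i` for both `i`, any `d` -/
theorem exBoth_plug (D : Fr T V P v) (hML : ML.Final.MLK.{u, u}) (hK : ∀ i, IsKGroup (CC v i)) :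
    ∃ (i : Fin 2) (A : Subgroup G), IsElementaryAbelian 2 A ∧ A ≤ o2 (centralizer (zc T : Set G)) ∧
      A ≤ o2 (normalizer (V i : Set G) ⊓ CC v i) ∧ Ex A (NU V v i) ∧ ¬ A ≤ centralizer (NU V v i : Set G) := by
  obtain ⟨i, A, h1, h2, h3, h4, h5⟩ := D.exBoth hML hK
  exact ⟨i, A, h1, h2.trans (D.Q_le_o2D _), h3.trans (ExBoth.o2_cent_le D i), h4, h5⟩

end Cfsg.Agent.Omega.TC.Fr
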