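import Cfsg.Agent.Omega.TC.Phi
import Cfsg.Agent.Omega.TC.OneEnd
import Cfsg.Agent.Omega.TC.Int

/-!
# LEMMA FIX over the frame `TC.Fr` (helper609 #19750 (1), helper364 #20327; CARD #18791 TWO CENTRES)

Hypothesis `hJ : ∀ i, ¬ jj T ≤ o2 (P i)` (i. e. `J(T)` moves `V i`; `hJ_iff`).

* `exists_A` : some `A ∈ A(T)` moves `V i` and centralises `V j`;
* `zc_OO` : `Ω₁Z(O) ≤ V 0 V 1`, `O = C_T(V 0 V 1)`;
* `fixL` : **LEMMA FIX** : `FixL T V v`;
* `fixE` : **LEMMA FIX for `E_i`** : `V i ≰ N_i` implies `FixE T v i`;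
* `comm_of_inter` : `V i ≰ N_i`, `N_0 ∩ N_1 ≤ Ω₁Z(T)` imply `[N_0, N_1] = 1` (with `TC/OneEnd.lean`);
* `false_of_comm` : `V i ≰ N_i`, `[N_0, N_1] = 1` implies `[W_{i+1}, N_i] = 1` for some `i` (with `TC/DOne.lean`).
-/

set_option autoImplicit false
set_option linter.unusedSectionVars false

namespace Cfsg.Agent.Omega.TC.FixEL

open Subgroup Cfsg Cfsg.Agent.ZN Cfsg.Agent.PLocal.ThompsonJ Cfsg.Agent.PLocal.ElemAbSup
open Cfsg.Agent.Omega.MinPar
open Cfsg.Agent.Omega.OM.KTwo (CC QQ WU NU EU FF ne_add_one eq_add_one add_one_add_one le_normalizer_V le_V)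
open Cfsg.Agent.Omega.NoFF.Basic (conj_conj mem_conj conj_le_iff conj_le_centralizer comm_symm comm_mono
  Z_le_V V_le conj_V_mul)
open Cfsg.Agent.ZN.ChoiceSit (Syl)
open Cfsg.Agent.ZN.ChoiceBase (AA jj_eq)
open Phi
open DOne (FixE)
open scoped Pointwise

universe u

variable {G : Type u} [Group G]

theorem card_le_two_mul [Finite G] {A C : Subgroup G} {τ : G} (hτ : τ ∈ A) (hCA : C ≤ A)
    (hidx : ∀ a ∈ A, a ∈ C ∨ τ * a ∈ C) : Nat.card A ≤ 2 * Nat.card C := by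
  have h1 : C.relIndex A ≤ 2 := by
    by_cases hτC : τ ∈ C
    · have : C = A := le_antisymm hCA fun a ha => by
        rcases hidx a ha with h | h
        · exact h
        · have := C.mul_mem (C.inv_mem hτC) h
          rwa [inv_mul_cancel_left] at this
      rw [this, relIndex_self]
      omega
    · refine le_of_eq ?_
      rw [relIndex_eq_two_iff_exists_notMem_and]
      by_cases hh : ∀ b ∈ A, b * τ ∈ C ∨ b ∈ C
      · exact ⟨τ, hτ, hτC, hh⟩
      · -- use left cosets for `τ⁻¹`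
        refine ⟨τ⁻¹, inv_mem hτ, fun h => hτC (by rw [← inv_inv τ]; exact inv_mem h), fun b hb => ?_⟩
        rcases hidx _ (inv_mem hb) with h | h
        · exact Or.inr (by rw [← inv_inv b]; exact inv_mem h)
        · left
          have := inv_mem h
          rwa [mul_inv_rev, inv_inv] at this
  have h2 := relIndex_mul_relIndex (⊥ : Subgroup G) C A bot_le hCA
  rw [relIndex_bot_left, relIndex_bot_left] at h2
  rw [← h2, mul_comm]
  exact Nat.mul_le_mul_right _ h1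

variable [Finite G] {T : Subgroup G} {V P : Fin 2 → Subgroup G} {v : Fin 2 → G} (D : Fr T V P v)

include D

/-- the two forms of the hypothesis -/
theorem hJ_iff (i : Fin 2) : (¬ jj T ≤ o2 (P i)) ↔ ∃ A ∈ AA T, ¬ A ≤ centralizer (V i : Set G) := by
  rw [o2_P D i, jj_eq]
  constructor
  · intro h
    by_contra hcon
    push Not at hcon
    exact h (sSup_le fun A hA => le_inf hA.2.1 (hcon A hA))
  · rintro ⟨A, hA, h1⟩ h
    exact h1 ((le_sSup hA).trans (h.trans inf_le_right))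

theorem V_le_cent (i j : Fin 2) : V i ≤ centralizer (V j : Set G) := by
  by_cases hij : i = j
  · subst hij
    intro x hx
    exact mem_centralizer_iff.2 fun y hy => D.V_comm hy hx
  · exact (D.U_le_Q i).trans (D.half hij).2

theorem eabV (i : Fin 2) : IsElementaryAbelian 2 (V i) :=
  isElementaryAbelian_iff.2 ⟨fun _ ha _ hb => D.V_comm ha hb, fun a ha => D.sqV i a ha⟩

theorem V_inf {i j : Fin 2} (hij : i ≠ j) : V i ⊓ V j = ⊥ := by
  rw [eq_bot_iff]
  intro x hxx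
  have hx : x ∈ V i := hxx.1
  have hx' : x ∈ V j := hxx.2
  by_contra hx1
  have hx1 : x ≠ 1 := hx1
  -- `v i` or `x` is in `V i ⊓ V j`
  have hvi : v i ∉ V j := v_notMem D hij.symm
  have hxv : x ≠ v i := fun h => hvi (h ▸ hx')
  obtain ⟨t, ht, htx⟩ := D.exists_swap hx hx1 hxv
  have h1 : t * x * t⁻¹ ∈ V j := (mem_normalizer_iff.1 (D.T_le_N j ht) x).1 hx'
  rw [htx] at h1
  apply hvi
  have := mul_mem (inv_mem hx') h1
  rwa [inv_mul_cancel_left] at this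

theorem card_V_sup {i j : Fin 2} (hij : i ≠ j) : Nat.card (V i ⊔ V j : Subgroup G) = 16 := by
  have h := card_sup_mul_card_inf (V_le_cent D j i)
  rw [V_inf D hij, Subgroup.card_bot, mul_one, D.four i, D.four j] at h
  exact h

theorem eab_sup {i j : Fin 2} : IsElementaryAbelian 2 (V i ⊔ V j : Subgroup G) :=
  isElementaryAbelian_sup (eabV D i) (eabV D j) (V_le_cent D j i)

theorem mem_sup {i j : Fin 2} {x : G} (hx : x ∈ V i ⊔ V j) : ∃ a ∈ V i, ∃ b ∈ V j, x = a * b := by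
  have h1 : (x : G) ∈ ((V i ⊔ V j : Subgroup G) : Set G) := hx
  rw [coe_sup_of_le_centralizer (V_le_cent D j i)] at h1
  obtain ⟨a, ha, b, hb, hx⟩ := h1
  exact ⟨a, ha, b, hb, hx.symm⟩

/-- an element of `T` moving `V i` fixes only `v i` in `V i` -/
theorem eq_of_fix {i : Fin 2} {t a : G} (ht : t ∈ T) (hto : t ∉ centralizer (V i : Set G)) (ha : a ∈ V i)
    (hta : t * a * t⁻¹ = a) : a = 1 ∨ a = v i := by
  by_contra hcon
  push Not at hcon
  have hto' : t ∉ o2 (P i) := fun h => hto (by rw [o2_P D i] at h; exact h.2)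
  have := moves D ht hto' ha hcon.1 hcon.2
  rw [hta] at this
  exact D.ne i (mul_eq_left.1 this.symm)

/-- some `A ∈ A(T)` moves `V i` and centralises `V j` -/
theorem exists_A (hJ : ∀ i, ¬ jj T ≤ o2 (P i)) {i j : Fin 2} (hij : i ≠ j) :
    ∃ A, IsMaxIn T A ∧ A ≤ centralizer (V j : Set G) ∧ ∃ τ ∈ A, τ ∉ o2 (P i) := by
  obtain ⟨A, hA, τ, hτ, hτo, hidx⟩ := exists_max D (hJ i)
  by_cases hAj : A ≤ centralizer (V j : Set G)
  · exact ⟨A, hA, hAj, τ, hτ, hτo⟩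
  obtain ⟨σ, hσ, hσo⟩ := SetLike.not_le_iff_exists.1 hAj
  have hAc := (isElementaryAbelian_iff.1 hA.2.1).1
  set C := A ⊓ centralizer (V j : Set G) with hC
  have hidxj : ∀ ρ ∈ A, ρ ∉ C → ∀ a ∈ A, a ∈ C ∨ ρ * a ∈ C := by
    intro ρ hρ hρo a ha
    by_cases hao : a ∈ centralizer (V j : Set G)
    · exact Or.inl ⟨ha, hao⟩
    · have h1 := mul_mem_o2 D (i := j) (hA.1 hρ) (fun h => hρo ⟨hρ, by rw [o2_P D j] at h; exact h.2⟩) (hA.1 ha)
        (fun h => hao (by rw [o2_P D j] at h; exact h.2))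
      rw [o2_P D j] at h1
      exact Or.inr ⟨mul_mem hρ ha, h1.2⟩
  have hσC : σ ∉ C := fun h => hσo h.2
  have hcard := card_le_two_mul hσ inf_le_left (hidxj σ hσ hσC)
  have hCe : IsElementaryAbelian 2 C := isElementaryAbelian_mono hA.2.1 inf_le_left
  by_cases hCi : C ≤ centralizer (V i : Set G)
  · exfalso
    have hτi : τ ∉ centralizer (V i : Set G) := fun h => hτo (by rw [o2_P D i]; exact ⟨hA.1 hτ, h⟩)
    have hτj : τ ∉ centralizer (V j : Set G) := fun h => hτi (hCi ⟨hτ, h⟩)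
    have hCX : C ≤ centralizer ((V i ⊔ V j : Subgroup G) : Set G) := by
      refine comm_symm (sup_le (comm_symm hCi) (comm_symm inf_le_right))
    have h1 := card_sup_mul_card_inf hCX
    have h2 : Nat.card ((V i ⊔ V j) ⊔ C : Subgroup G) ≤ Nat.card A :=
      hA.2.2 _ (sup_le (sup_le (D.V_le_T i) (D.V_le_T j)) (inf_le_left.trans hA.1))
        (isElementaryAbelian_sup (eab_sup D) hCe hCX)
    have h3 : (V i ⊔ V j) ⊓ C ≤ zc T := by
      intro x hxx
      have hxC : x ∈ C := hxx.2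
      obtain ⟨a, ha, b, hb, rfl⟩ := mem_sup D hxx.1
      have h4 : τ * (a * b) * τ⁻¹ = a * b := by
        rw [hAc τ hτ _ hxC.1, mul_inv_cancel_right]
      have h5 : τ * a * τ⁻¹ ∈ V i := (mem_normalizer_iff.1 (D.T_le_N i (hA.1 hτ)) a).1 ha
      have h6 : τ * b * τ⁻¹ ∈ V j := (mem_normalizer_iff.1 (D.T_le_N j (hA.1 hτ)) b).1 hb
      have h7 : a⁻¹ * (τ * a * τ⁻¹) = b * (τ * b * τ⁻¹)⁻¹ := by
        have e : τ * (a * b) * τ⁻¹ = (τ * a * τ⁻¹) * (τ * b * τ⁻¹) := by group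
        rw [e] at h4
        calc a⁻¹ * (τ * a * τ⁻¹) = a⁻¹ * ((τ * a * τ⁻¹) * (τ * b * τ⁻¹)) * (τ * b * τ⁻¹)⁻¹ := by group
          _ = b * (τ * b * τ⁻¹)⁻¹ := by rw [h4]; group
      have h8 : a⁻¹ * (τ * a * τ⁻¹) ∈ V i ⊓ V j :=
        mem_inf.2 ⟨mul_mem (inv_mem ha) h5, by rw [h7]; exact mul_mem hb (inv_mem h6)⟩
      rw [V_inf D hij, mem_bot] at h8
      have h9 : τ * a * τ⁻¹ = a := by rw [inv_mul_eq_one] at h8; exact h8.symm
      have h10 : τ * b * τ⁻¹ = b := by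
        rw [h8, eq_comm, mul_inv_eq_one] at h7
        exact h7.symm
      refine mul_mem ?_ ?_
      · rcases eq_of_fix D (hA.1 hτ) hτi ha h9 with h | h
        · rw [h]; exact one_mem _
        · rw [h]; exact D.v_mem_zc i
      · rcases eq_of_fix D (hA.1 hτ) hτj hb h10 with h | h
        · rw [h]; exact one_mem _
        · rw [h]; exact D.v_mem_zc j
    have h4 : Nat.card ((V i ⊔ V j) ⊓ C : Subgroup G) ≤ 4 := (Subgroup.card_le_of_le h3).trans (card_zc_le D)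
    rw [card_V_sup D hij] at h1
    have h5 : 0 < Nat.card C := Nat.card_pos
    have h6 : 16 * Nat.card C ≤ 8 * Nat.card C := by
      rw [← h1]
      calc _ ≤ (2 * Nat.card C) * 4 := Nat.mul_le_mul (h2.trans hcard) h4
        _ = 8 * Nat.card C := by ring
    omega
  · -- `V j C`
    obtain ⟨ρ, hρ, hρi⟩ := SetLike.not_le_iff_exists.1 hCi
    have hCX : C ≤ centralizer (V j : Set G) := inf_le_right
    have h1 := card_sup_mul_card_inf hCX
    have he : IsElementaryAbelian 2 (V j ⊔ C : Subgroup G) := isElementaryAbelian_sup (eabV D j) hCe hCX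
    have h3 : Nat.card (V j ⊓ C : Subgroup G) ≤ 2 := by
      have h4 : V j ⊓ C ≤ zpowers (v j) := by
        rintro x ⟨hx, hxC⟩
        have h5 : σ * x * σ⁻¹ = x := by rw [hAc σ hσ x hxC.1, mul_inv_cancel_right]
        rcases eq_of_fix D (hA.1 hσ) hσo hx h5 with h | h
        · rw [h]; exact one_mem _
        · rw [h]; exact mem_zpowers _
      refine (Subgroup.card_le_of_le h4).trans ?_
      rw [Nat.card_zpowers, orderOf_eq_prime (D.v_sq' j) (D.ne j)]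
    have h5 : 2 * Nat.card C ≤ Nat.card (V j ⊔ C : Subgroup G) := by
      rw [D.four j] at h1
      have h6 : Nat.card (V j ⊔ C : Subgroup G) * Nat.card (V j ⊓ C : Subgroup G) ≤
          Nat.card (V j ⊔ C : Subgroup G) * 2 := Nat.mul_le_mul_left _ h3
      omega
    refine ⟨V j ⊔ C, ⟨sup_le (D.V_le_T j) (inf_le_left.trans hA.1), he, fun B hB hBe => ?_⟩,
      sup_le (V_le_cent D j j) inf_le_right, ρ, mem_sup_right hρ, fun h => hρi (by rw [o2_P D i] at h; exact h.2)⟩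
    exact (hA.2.2 B hB hBe).trans (hcard.trans h5)

/-! ### `Ω₁Z(O)`, `O = C_T(V 0 V 1)` -/

omit D in
/-- `O = C_T(V 0 V 1)` -/
def OO (T : Subgroup G) (V : Fin 2 → Subgroup G) : Subgroup G :=
  T ⊓ (centralizer (V 0 : Set G) ⊓ centralizer (V 1 : Set G))

omit D [Finite G] in
theorem mem_OO {x : G} : x ∈ OO T V ↔ x ∈ T ∧ ∀ j, x ∈ centralizer (V j : Set G) := by
  constructor
  · rintro ⟨h1, h2, h3⟩
    refine ⟨h1, fun j => ?_⟩
    rcases Fin.exists_fin_two.1 ⟨j, rfl⟩ with h | h <;> rw [h]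
    · exact h2
    · exact h3
  · rintro ⟨h1, h2⟩
    exact ⟨h1, h2 0, h2 1⟩

omit D [Finite G] in
theorem mem_OO' {i j : Fin 2} (hij : i ≠ j) {x : G} :
    x ∈ OO T V ↔ x ∈ T ∧ x ∈ centralizer (V i : Set G) ∧ x ∈ centralizer (V j : Set G) := by
  rw [mem_OO]
  refine and_congr_right fun _ => ⟨fun h => ⟨h i, h j⟩, fun h k => ?_⟩
  by_cases hk : k = i
  · rw [hk]; exact h.1
  · have : k = j := by
      have h1 := eq_add_one hij
      have h2 := eq_add_one (i := i) (j := k) (fun h => hk h.symm)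
      rw [h2, h1]
    rw [this]; exact h.2

theorem OO_le_o2 (i : Fin 2) : OO T V ≤ o2 (P i) := by
  rw [o2_P D i]
  exact fun x hx => ⟨(mem_OO.1 hx).1, (mem_OO.1 hx).2 i⟩

theorem P_le_N_OO (i : Fin 2) : P i ≤ normalizer (OO T V : Set G) := by
  obtain ⟨j, hij⟩ : ∃ j : Fin 2, i ≠ j := ⟨i + 1, ne_add_one i⟩
  have key : ∀ g ∈ P i, ∀ x ∈ OO T V, g * x * g⁻¹ ∈ OO T V := by
    intro g hg x hx
    have h1 : g * x * g⁻¹ ∈ o2 (P i) := (mem_normalizer_iff.1 (le_normalizer_o2 _ hg) x).1 (OO_le_o2 D i hx)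
    rw [o2_P D i] at h1
    refine (mem_OO' hij).2 ⟨h1.1, h1.2, mem_centralizer_iff.2 fun y hy => ?_⟩
    have h2 : g⁻¹ * y * g ∈ V j := (mem_normalizer_iff''.1 (D.PN i j hg) y).1 hy
    have h3 := mem_centralizer_iff.1 ((mem_OO.1 hx).2 j) _ h2
    calc y * (g * x * g⁻¹) = g * ((g⁻¹ * y * g) * x) * g⁻¹ := by group
      _ = g * (x * (g⁻¹ * y * g)) * g⁻¹ := by rw [h3]
      _ = g * x * g⁻¹ * y := by group
  intro g hg
  rw [mem_normalizer_iff]
  intro x
  refine ⟨key g hg x, fun hx => ?_⟩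
  have h1 := key g⁻¹ (inv_mem hg) _ hx
  have e : g⁻¹ * (g * x * g⁻¹) * g⁻¹⁻¹ = x := by group
  rwa [e] at h1

theorem V_le_OO (i : Fin 2) : V i ≤ OO T V := fun _ hx => mem_OO.2 ⟨D.V_le_T i hx, fun j => V_le_cent D i j hx⟩

/-- `|Y : C_Y(A)| ≤ 2`, `Y = Ω₁Z(O)` -/
theorem card_zc_OO {i j : Fin 2} (hij : i ≠ j) {A : Subgroup G} (hA : IsMaxIn T A)
    (hAj : A ≤ centralizer (V j : Set G)) {τ : G} (hτ : τ ∈ A) (hτo : τ ∉ o2 (P i)) :
    Nat.card (zc (OO T V)) ≤ 2 * Nat.card (zc (OO T V) ⊓ centralizer (A : Set G) : Subgroup G) := by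
  set Y := zc (OO T V) with hY
  have hYO : Y ≤ OO T V := zc_le _
  set C := A ⊓ OO T V with hC
  have hidx : ∀ a ∈ A, a ∈ C ∨ τ * a ∈ C := by
    intro a ha
    by_cases hao : a ∈ o2 (P i)
    · rw [o2_P D i] at hao
      exact Or.inl ⟨ha, (mem_OO' hij).2 ⟨hA.1 ha, hao.2, hAj ha⟩⟩
    · have h1 := mul_mem_o2 D (hA.1 hτ) hτo (hA.1 ha) hao
      rw [o2_P D i] at h1
      exact Or.inr ⟨mul_mem hτ ha, (mem_OO' hij).2 ⟨h1.1, h1.2, mul_mem (hAj hτ) (hAj ha)⟩⟩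
  have hcard := card_le_two_mul hτ inf_le_left hidx
  have hCY : C ≤ centralizer (Y : Set G) := by
    intro a ha
    exact mem_centralizer_iff.2 fun y hy => ((mem_zc.1 hy).2.1 a ha.2).symm
  have h1 := card_sup_mul_card_inf hCY
  have h2 : Nat.card (Y ⊔ C : Subgroup G) ≤ Nat.card A :=
    hA.2.2 _ (sup_le (hYO.trans fun x hx => (mem_OO.1 hx).1) (inf_le_left.trans hA.1))
      (isElementaryAbelian_sup (isElementaryAbelian_zc _) (isElementaryAbelian_mono hA.2.1 inf_le_left) hCY)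
  have h3 : Y ⊓ C ≤ Y ⊓ centralizer (A : Set G) := by
    refine inf_le_inf_left _ (inf_le_left.trans ?_)
    intro a ha
    exact mem_centralizer_iff.2 fun b hb => (isElementaryAbelian_iff.1 hA.2.1).1 b hb a ha
  have h4 := Subgroup.card_le_of_le h3
  have h5 : 0 < Nat.card C := Nat.card_pos
  refine Nat.le_of_mul_le_mul_right ?_ h5
  rw [← h1]
  calc _ ≤ (2 * Nat.card C) * Nat.card (Y ⊓ centralizer (A : Set G) : Subgroup G) :=
        Nat.mul_le_mul (h2.trans hcard) h4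
    _ = _ := by ring

/-- `Ω₁Z(O) = V 0 V 1` -/
theorem zc_OO (hJ : ∀ i, ¬ jj T ≤ o2 (P i)) : zc (OO T V) ≤ V 0 ⊔ V 1 := by
  have h01 : (0 : Fin 2) ≠ 1 := by decide
  obtain ⟨A, hA, hAj, τ, hτ, hτo⟩ := exists_A D hJ h01
  obtain ⟨B, hB, hBj, σ, hσ, hσo⟩ := exists_A D hJ h01.symm
  set Y := zc (OO T V) with hY
  have hYO : Y ≤ OO T V := zc_le _
  have hOT : OO T V ≤ T := fun x hx => (mem_OO.1 hx).1
  have h1 := card_zc_OO D h01 hA hAj hτ hτo
  have h2 := card_zc_OO D h01.symm hB hBj hσ hσo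
  -- `|C_Y(A)| ≤ 2 |C_Y(A) ∩ C_Y(B)|`
  set YA := Y ⊓ centralizer (A : Set G) with hYA
  set YB := Y ⊓ centralizer (B : Set G) with hYB
  have hcomm : YB ≤ centralizer (YA : Set G) := by
    rintro x ⟨hx, -⟩
    refine mem_centralizer_iff.2 fun y hy => ?_
    exact (isElementaryAbelian_iff.1 (isElementaryAbelian_zc (OO T V))).1 y hy.1 x hx
  have h3 := card_sup_mul_card_inf hcomm
  have h4 : Nat.card (YA ⊔ YB : Subgroup G) ≤ Nat.card Y := Subgroup.card_le_of_le (sup_le inf_le_left inf_le_left)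
  have h5 : YA ⊓ YB ≤ zc T := by
    rintro y ⟨⟨hy, hyA⟩, ⟨-, hyB⟩⟩
    have hy' := mem_zc.1 hy
    have cτ : τ * y = y * τ := mem_centralizer_iff.1 hyA τ hτ
    have cσ : σ * y = y * σ := mem_centralizer_iff.1 hyB σ hσ
    refine mem_zc.2 ⟨hOT (hYO hy), fun t ht => ?_, hy'.2.2⟩
    -- modify `t` by `τ` and `σ`
    have key : ∀ s : G, s * y = y * s → s * t * y = y * (s * t) → t * y = y * t := by
      intro s hs hst
      have h6 : s⁻¹ * y = y * s⁻¹ := by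
        calc s⁻¹ * y = s⁻¹ * (y * s) * s⁻¹ := by group
          _ = s⁻¹ * (s * y) * s⁻¹ := by rw [hs]
          _ = y * s⁻¹ := by group
      calc t * y = s⁻¹ * (s * t * y) := by group
        _ = (s⁻¹ * y) * (s * t) := by rw [hst]; group
        _ = y * t := by rw [h6]; group
    have hτc : τ ∈ centralizer (V 1 : Set G) := hAj hτ
    have hσc : σ ∈ centralizer (V 0 : Set G) := hBj hσ
    have hmem : ∀ s ∈ T, s ∈ o2 (P 0) → s ∈ o2 (P 1) → s * y = y * s := by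
      intro s hs h0 h1
      rw [o2_P D] at h0 h1
      exact hy'.2.1 s ((mem_OO' h01).2 ⟨hs, h0.2, h1.2⟩)
    have hσ0 : σ ∈ o2 (P 0) := by rw [o2_P D]; exact ⟨hB.1 hσ, hσc⟩
    have hτ1 : τ ∈ o2 (P 1) := by rw [o2_P D]; exact ⟨hA.1 hτ, hτc⟩
    have h1' : ∀ s ∈ T, s ∈ o2 (P 0) → s * y = y * s := by
      intro s hs h0
      by_cases hs1 : s ∈ o2 (P 1)
      · exact hmem s hs h0 hs1
      · have h7 := hmem (σ * s) (mul_mem (hB.1 hσ) hs) (mul_mem hσ0 h0) (mul_mem_o2 D (hB.1 hσ) hσo hs hs1)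
        have h6 : σ⁻¹ * y = y * σ⁻¹ := by
          calc σ⁻¹ * y = σ⁻¹ * (y * σ) * σ⁻¹ := by group
            _ = σ⁻¹ * (σ * y) * σ⁻¹ := by rw [cσ]
            _ = y * σ⁻¹ := by group
        calc s * y = σ⁻¹ * (σ * s * y) := by group
          _ = (σ⁻¹ * y) * (σ * s) := by rw [h7]; group
          _ = y * s := by rw [h6]; group
    by_cases ht0 : t ∈ o2 (P 0)
    · exact h1' t ht ht0
    · exact key τ cτ (h1' (τ * t) (mul_mem (hA.1 hτ) ht) (mul_mem_o2 D (hA.1 hτ) hτo ht ht0))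
  have h6 : Nat.card (YA ⊓ YB : Subgroup G) ≤ 4 := (Subgroup.card_le_of_le h5).trans (card_zc_le D)
  have h7 : 0 < Nat.card YB := Nat.card_pos
  have hpY : 0 < Nat.card Y := Nat.card_pos
  have h8 : Nat.card Y ≤ 16 := by
    -- `|YA||YB| ≤ 4 |Y|`, `|Y| ≤ 2 |YA|`, `|Y| ≤ 2 |YB|`
    have h9 : Nat.card YA * Nat.card YB ≤ Nat.card Y * 4 := by
      rw [← h3]; exact Nat.mul_le_mul h4 h6
    have h10 : Nat.card Y * Nat.card Y ≤ 16 * Nat.card Y := by
      calc Nat.card Y * Nat.card Y ≤ (2 * Nat.card YA) * (2 * Nat.card YB) := Nat.mul_le_mul h1 h2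
        _ = 4 * (Nat.card YA * Nat.card YB) := by ring
        _ ≤ 4 * (Nat.card Y * 4) := Nat.mul_le_mul_left _ h9
        _ = 16 * Nat.card Y := by ring
    exact Nat.le_of_mul_le_mul_right h10 hpY
  have hVY : V 0 ⊔ V 1 ≤ Y := by
    have h9 : ∀ i, V i ≤ Y := by
      intro i x hx
      refine mem_zc.2 ⟨V_le_OO D i hx, fun o ho => ?_, D.sqV i x hx⟩
      exact (mem_centralizer_iff.1 ((mem_OO.1 ho).2 i) x hx).symm
    exact sup_le (h9 0) (h9 1)
  exact (Subgroup.eq_of_le_of_card_ge hVY (by rw [card_V_sup D h01]; exact h8)).ge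

/-- **LEMMA FIX** for `O = C_T(V 0 V 1)` -/
theorem fixL (hJ : ∀ i, ¬ jj T ≤ o2 (P i)) : FixL T V v := by
  intro i n hn hn2 hnV hnb
  obtain ⟨j, hij⟩ : ∃ j : Fin 2, i ≠ j := ⟨i + 1, ne_add_one i⟩
  obtain ⟨A, hA, hAj, τ, hτ, hτo⟩ := exists_A D hJ hij
  obtain ⟨p, hp, hp1, hpv⟩ := D.exists_ne_v i
  obtain ⟨g, hg, -, hgp⟩ := D.tr hij hp hp1
  have hnO : n ∈ OO T V := mem_OO.2 ⟨hn, hnV⟩
  have hcomm := cor_phi (O := OO T V) (v := v i) (p := p) (g := g) hA hτ (fun x hx => (mem_OO.1 hx).1)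
    (fun a ha => by
      by_cases hao : a ∈ o2 (P i)
      · rw [o2_P D i] at hao
        exact Or.inl ((mem_OO' hij).2 ⟨hA.1 ha, hao.2, hAj ha⟩)
      · have h1 := mul_mem_o2 D (hA.1 hτ) hτo (hA.1 ha) hao
        rw [o2_P D i] at h1
        exact Or.inr ((mem_OO' hij).2 ⟨h1.1, h1.2, mul_mem (hAj hτ) (hAj ha)⟩))
    (P_le_N_OO D i (D.T_le_P i (hA.1 hτ))) (P_le_N_OO D i hg) hgp.symm (V_le_OO D i hp)
    (fun o ho => (mem_centralizer_iff.1 ((mem_OO.1 ho).2 i) p hp).symm) (by rw [← pow_two]; exact D.sqV i p hp) hp1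
    (by
      rw [moves D (hA.1 hτ) hτo hp hp1 hpv]
      intro h
      exact D.ne i (mul_eq_left.1 h)) hnO (by rw [← pow_two]; exact hn2) (fun o ho => by
      obtain ⟨m, hm⟩ := mem_zpowers_iff.1 (hnb o (mem_OO.1 ho).1 (mem_OO.1 ho).2)
      rw [← hm]
      rcases Int.even_or_odd' m with ⟨k, rfl | rfl⟩
      · left; rw [zpow_mul, zpow_two, D.v_sq, one_zpow]
      · right; rw [zpow_add, zpow_mul, zpow_two, D.v_sq, one_zpow, one_mul, zpow_one])
  exact zc_OO D hJ (mem_zc.2 ⟨hnO, fun o ho => (hcomm o ho).symm, hn2⟩)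

/-- **LEMMA FIX** for `E_i` -/
theorem fixE {i : Fin 2} (hJ : ¬ jj T ≤ o2 (P i)) (hV : ¬ V i ≤ NU V v i) : FixE T v i := by
  obtain ⟨j, hij⟩ : ∃ j : Fin 2, i ≠ j := ⟨i + 1, ne_add_one i⟩
  intro e he hfix
  have hEN := D.E_le i he
  have hEo : EU T v i ≤ o2 (P i) := by
    refine (D.E_le i).trans (sup_le (N_le_o2 D i) ?_)
    rw [zpowers_le, o2_P D i]
    exact ⟨D.v_mem_T i, mem_centralizer_iff.2 fun b hb => D.comm_v i (D.V_le_T i hb)⟩
  have hoT : o2 (P i) ≤ T := by rw [o2_P D i]; exact inf_le_left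
  obtain ⟨a, ha, h⟩ := phi_mem D hij hJ (hEo he) (by rw [← pow_two]; exact D.E_sq i e he) fun o ho => by
    have h1 := inv_mem (hfix o (hoT ho))
    have e1 : (o * e * o⁻¹ * e⁻¹)⁻¹ = e * o * e⁻¹ * o⁻¹ := by group
    rwa [e1] at h1
  have haE : a ∈ EU T v i := by
    rcases h with h | h
    · rw [← h]; exact he
    · have e1 : a = e * (v j)⁻¹ := by rw [h]; group
      rw [e1]
      exact mul_mem he (inv_mem (le_V _ _ (D.v_mem_zc j)))
  have haz : a ∈ zc T := by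
    by_cases ha1 : a = 1
    · rw [ha1]; exact one_mem _
    by_cases hav : a = v i
    · rw [hav]; exact D.v_mem_zc i
    exfalso
    apply hV
    obtain ⟨t, ht, hta⟩ := D.exists_swap ha ha1 hav
    -- `a` or `a v i` is in `N_i`, so both
    obtain ⟨n, hn, y, hy, hny⟩ : ∃ n ∈ NU V v i, ∃ y ∈ zpowers (v i), n * y = a := by
      have h1 : a ∈ NU V v i ⊔ zpowers (v i) := D.E_le i haE
      have h2 : zpowers (v i) ≤ normalizer (NU V v i : Set G) := by
        rw [zpowers_le]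
        exact D.C_le_N_N i (D.T_le_C i (D.v_mem_T i))
      have h3 : a ∈ ((zpowers (v i) ⊔ NU V v i : Subgroup G) : Set G) := by
        rw [sup_comm] at h1
        exact h1
      rw [coe_mul_of_left_le_normalizer_right _ _ h2] at h3
      obtain ⟨y, hy, n, hn, hyn⟩ := h3
      have hyn : y * n = a := hyn
      refine ⟨n, hn, y, hy, ?_⟩
      rw [← hyn]
      obtain ⟨k, rfl⟩ := mem_zpowers_iff.1 hy
      have h4 : n * v i = v i * n := mem_centralizer_singleton_iff.1 (D.N_le_C i i hn)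
      exact (Commute.zpow_right (show Commute n (v i) from h4) k)
    have hyt : t * y * t⁻¹ = y := by
      obtain ⟨k, rfl⟩ := mem_zpowers_iff.1 hy
      have h4 : Commute t (v i) := D.comm_v i ht
      rw [(h4.zpow_right k).eq, mul_inv_cancel_right]
    have htn : t * n * t⁻¹ = n * v i := by
      have e1 : t * (n * y) * t⁻¹ = t * n * t⁻¹ * (t * y * t⁻¹) := by group
      have e2 : y * v i = v i * y := by
        obtain ⟨k, rfl⟩ := mem_zpowers_iff.1 hy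
        exact ((Commute.refl (v i)).zpow_left k).eq
      rw [← hny, e1, hyt, mul_assoc n, e2, ← mul_assoc] at hta
      exact mul_right_cancel hta
    have hvN : v i ∈ NU V v i := by
      have h1 : t * n * t⁻¹ ∈ NU V v i := (mem_normalizer_iff.1 (D.C_le_N_N i (D.T_le_C i ht)) n).1 hn
      rw [htn] at h1
      have := mul_mem (inv_mem hn) h1
      rwa [inv_mul_cancel_left] at this
    have haN : a ∈ NU V v i := by
      rw [← hny]
      exact mul_mem hn ((zpowers_le.2 hvN) hy)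
    rcases D.le_or hvN with h3 | h3
    · exact h3
    · rcases h3 a ⟨ha, haN⟩ with h4 | h4
      · exact absurd h4 ha1
      · exact absurd h4 hav
  rcases h with h | h
  · rw [h]; exact haz
  · rw [h]; exact mul_mem haz (D.v_mem_zc j)

/-! ### The case `d = 1` -/

theorem comm_le_inf {x e : G} (hx : x ∈ NU V v 1) (he : e ∈ NU V v 0) :
    x * e * x⁻¹ * e⁻¹ ∈ NU V v 0 ⊓ NU V v 1 := by
  have h1 : x * e * x⁻¹ ∈ NU V v 0 := (mem_normalizer_iff.1 (D.C_le_N_N 0 (D.N_le_C 1 0 hx)) e).1 he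
  have h2 : e * x⁻¹ * e⁻¹ ∈ NU V v 1 := (mem_normalizer_iff.1 (D.C_le_N_N 1 (D.N_le_C 0 1 he)) _).1 (inv_mem hx)
  refine mem_inf.2 ⟨mul_mem h1 (inv_mem he), ?_⟩
  have e1 : x * e * x⁻¹ * e⁻¹ = x * (e * x⁻¹ * e⁻¹) := by group
  rw [e1]
  exact mul_mem hx h2

/-- **`V i ≰ N_i`, `N_0 ∩ N_1 ≤ Ω₁Z(T)` imply `[N_0, N_1] = 1`** -/
theorem comm_of_inter (hJ : ∀ i, ¬ jj T ≤ o2 (P i)) (hV : ∀ i, ¬ V i ≤ NU V v i)
    (hI : NU V v 0 ⊓ NU V v 1 ≤ zc T) : NU V v 0 ≤ centralizer (NU V v 1 : Set G) := by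
  by_contra hne
  exact OneEnd.false_of D (fun x hx e he => hI (comm_le_inf D hx he)) hne (fun i => fixE D (hJ i) (hV i))

/-- **`V i ≰ N_i`, `[N_0, N_1] = 1`: some `[W_{i+1}, N_i] = 1`** -/
theorem false_of_comm (hJ : ∀ i, ¬ jj T ≤ o2 (P i)) (hV : ∀ i, ¬ V i ≤ NU V v i)
    (hN : NU V v 0 ≤ centralizer (NU V v 1 : Set G)) :
    ∃ i, WU V v (i + 1) ≤ centralizer (NU V v i : Set G) := by
  by_contra hcon
  push Not at hcon
  refine DOne.false_of D (fun i => ?_) hcon (fun i => fixE D (hJ i) (hV i))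
  rcases Fin.exists_fin_two.1 ⟨i, rfl⟩ with h | h
  · rw [h]; exact hN
  · rw [h]; exact comm_symm hN

end Cfsg.Agent.Omega.TC.FixEL
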