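import Cfsg.Agent.Omega.TC.FixEL
import Cfsg.Agent.Omega.TC.Av
import Cfsg.Agent.Omega.TC.ThmIFr
import Cfsg.Agent.Omega.NO1.BestOff

/-!
# LEMMA FIX inside `X` and `hU`, at every level (CARD #18791 "TWO CENTRES", helper691)

`X ≥ V 0, V 1` elementary abelian, normalised by `P 0`, `P 1`, with best offenders on `X` in `T` which centralise `V j`
and move `V i` (`Dat`; `X = Ω₁(Z(lev S n))` at stage `n`).

* `fixX` : **LEMMA FIX in `X`**: `n ∈ X`, `[n, C_T(V 0 V 1)] ≤ ⟨v i⟩` implies `n ∈ V 0 V 1`;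
* `inf_cent_le_o2` : `C_T(V j) ≤ O₂(R)` for a `T`-minimal `R ≤ C(v i)` which moves `v j`.
-/

set_option autoImplicit false
set_option linter.unusedSectionVars false

namespace Cfsg.Agent.Omega.TC.FixX

open Subgroup Cfsg Cfsg.Agent.ZN Cfsg.Agent.PLocal.ThompsonJ Cfsg.Agent.PLocal.ElemAbSup
open Cfsg.Agent.Omega.MinPar
open Cfsg.Agent.Omega.OM.KTwo (CC QQ WU NU EU FF ne_add_one eq_add_one add_one_add_one le_normalizer_V le_V)
open Cfsg.Agent.Omega.NoFF.Basic (conj_conj mem_conj conj_le_iff conj_le_centralizer comm_symm comm_mono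
  Z_le_V V_le conj_V_mul)
open Cfsg.Agent.MinSimple.MinParabolic (IsMinPar)
open Cfsg.Agent.MinSimple.VModule (le_normalizer_o2 le_o2 o2_le o2_isPGroup)
open Cfsg.Agent.ZN.ChoiceSit (Syl o2_le_syl syl_not_dvd)
open Cfsg.Agent.Omega.NO1.BestOff (Best)
open Phi FixEL
open scoped Pointwise

universe u

variable {G : Type u} [Group G]

/-- The data. -/
structure Dat (T X : Subgroup G) (V P : Fin 2 → Subgroup G) : Prop where
  comm : ∀ x ∈ X, ∀ y ∈ X, x * y = y * x
  sq : ∀ x ∈ X, x ^ 2 = 1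
  le : ∀ i, V i ≤ X
  leT : X ≤ T
  norm : ∀ i, P i ≤ normalizer (X : Set G)
  off : ∀ i j : Fin 2, i ≠ j → ∃ A : Subgroup G, A ≤ T ∧ Best X A ∧ A ≤ centralizer (V j : Set G) ∧
    ¬ A ≤ centralizer (V i : Set G)

theorem two_mul_card_le [Finite G] {K H : Subgroup G} {z : G} (hKH : K ≤ H) (hz : z ∈ H) (hzK : z ∉ K) :
    2 * Nat.card K ≤ Nat.card H := by
  obtain ⟨m, hm⟩ := card_dvd_of_le hKH
  have hm2 : 2 ≤ m := by
    by_contra hcon
    push Not at hcon
    have hpos : 0 < Nat.card H := Nat.card_pos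
    have hm1 : m = 1 := by
      rcases Nat.eq_zero_or_pos m with h0 | h0
      · rw [h0, mul_zero] at hm; omega
      · omega
    rw [hm1, mul_one] at hm
    exact hzK ((Subgroup.eq_of_le_of_card_ge hKH hm.le) ▸ hz)
  rw [hm, mul_comm 2]
  exact Nat.mul_le_mul_left _ hm2

variable [Finite G] {T X : Subgroup G} {V P : Fin 2 → Subgroup G} {v : Fin 2 → G} (D : Fr T V P v)
  (d : Dat T X V P)

include D d

theorem T_norm (i : Fin 2) : T ≤ normalizer (X : Set G) := (D.T_le_P i).trans (d.norm i)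

/-- `C_X(C_A(V i)) = V i C_X(A)` for a best offender `A` which moves `V i` -/
theorem k1 {i : Fin 2} {A : Subgroup G} (hAT : A ≤ T) (hA : Best X A) (hAi : ¬ A ≤ centralizer (V i : Set G)) {x : G}
    (hx : x ∈ X) (hxe : ∀ e ∈ A ⊓ centralizer (V i : Set G), e * x = x * e) :
    ∃ w ∈ V i, w * x ∈ centralizer (A : Set G) := by
  obtain ⟨τ, hτ, hτi⟩ := SetLike.not_le_iff_exists.1 hAi
  have hτo : τ ∉ o2 (P i) := fun h => hτi (by rw [o2_P D i] at h; exact h.2)
  set E := A ⊓ centralizer (V i : Set G) with hE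
  have hidx : ∀ a ∈ A, a ∈ E ∨ τ * a ∈ E := by
    intro a ha
    by_cases hao : a ∈ o2 (P i)
    · rw [o2_P D i] at hao
      exact Or.inl ⟨ha, hao.2⟩
    · have h1 := mul_mem_o2 D (hAT hτ) hτo (hAT ha) hao
      rw [o2_P D i] at h1
      exact Or.inr ⟨mul_mem hτ ha, h1.2⟩
  have hcard : Nat.card A ≤ 2 * Nat.card E := card_le_two_mul hτ inf_le_left hidx
  have hmax := hA.max E inf_le_left (le_inf inf_le_left (inf_le_right.trans (centralizer_le (d.le i))))
  set Y0 := X ⊓ centralizer (A : Set G) with hY0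
  set Y1 := X ⊓ centralizer (E : Set G) with hY1
  obtain ⟨p, hp, hp1, hpv⟩ := D.exists_ne_v i
  have hmv := moves D (hAT hτ) hτo hp hp1 hpv
  have hp0 : p ∉ Y0 := by
    rintro ⟨-, hpA⟩
    have h1 : τ * p = p * τ := mem_centralizer_iff.1 hpA τ hτ
    rw [h1, mul_inv_cancel_right] at hmv
    exact D.ne i (by simpa using hmv.symm)
  have hY01 : Y0 ≤ Y1 := inf_le_inf_left _ (centralizer_le inf_le_left)
  have hpY1 : p ∈ Y1 := ⟨d.le i hp, mem_centralizer_iff.2 fun e he => (mem_centralizer_iff.1 he.2 p hp).symm⟩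
  have hxY1 : x ∈ Y1 := ⟨hx, mem_centralizer_iff.2 fun e he => hxe e he⟩
  have hle : Nat.card Y1 ≤ 2 * Nat.card Y0 := by
    have hpos : 0 < Nat.card E := Nat.card_pos
    refine Nat.le_of_mul_le_mul_left (hmax.trans ?_) hpos
    calc Nat.card A * Nat.card Y0 ≤ (2 * Nat.card E) * Nat.card Y0 := Nat.mul_le_mul_right _ hcard
      _ = Nat.card E * (2 * Nat.card Y0) := by ring
  have hsup : Y0 ⊔ zpowers p ≤ Y1 := sup_le hY01 (zpowers_le.2 hpY1)
  have heq : Y0 ⊔ zpowers p = Y1 := by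
    refine Subgroup.eq_of_le_of_card_ge hsup (hle.trans ?_)
    exact two_mul_card_le le_sup_left (mem_sup_right (mem_zpowers p)) hp0
  have hpn : zpowers p ≤ centralizer (Y0 : Set G) := by
    rw [zpowers_le]
    exact mem_centralizer_iff.2 fun y hy => d.comm y hy.1 p (d.le i hp)
  rw [← heq] at hxY1
  have hx' : x ∈ ((Y0 ⊔ zpowers p : Subgroup G) : Set G) := hxY1
  rw [coe_sup_of_le_centralizer hpn] at hx'
  obtain ⟨y, hy, z, hz, hyz⟩ := hx'
  have hyz : y * z = x := hyz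
  have hzV : z ∈ V i := (zpowers_le.2 hp) hz
  refine ⟨z⁻¹, inv_mem hzV, ?_⟩
  have e : z⁻¹ * x = y := by
    rw [← hyz, d.comm y hy.1 z (d.le i hzV)]
    group
  rw [e]
  exact hy.2

/-- `[n, O] ≤ ⟨v i⟩` implies `[n, O] = 1`, `O = C_T(V 0 V 1)`. -/
theorem k2 {i j : Fin 2} (hij : i ≠ j) {n : G} (hn : n ∈ X)
    (hno : ∀ o ∈ OO T V, o * n * o⁻¹ * n⁻¹ = 1 ∨ o * n * o⁻¹ * n⁻¹ = v i) : ∀ o ∈ OO T V, o * n = n * o := by
  obtain ⟨A, hAT, hA, hAj, hAi⟩ := d.off i j hij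
  obtain ⟨τ, hτ, hτi⟩ := SetLike.not_le_iff_exists.1 hAi
  have hτo : τ ∉ o2 (P i) := fun h => hτi (by rw [o2_P D i] at h; exact h.2)
  obtain ⟨p, hp, hp1, hpv⟩ := D.exists_ne_v i
  obtain ⟨g, hg, -, hgp⟩ := D.tr hij hp hp1
  have hmv := moves D (hAT hτ) hτo hp hp1 hpv
  have hp2 : p * p = 1 := by rw [← pow_two]; exact D.sqV i p hp
  have hvp : v i * p = p * v i := D.V_comm (D.mem i) hp
  have hpvX : p ∈ X := d.le i hp
  have hvX : v i ∈ X := d.le i (D.mem i)
  have hOp : ∀ o ∈ OO T V, o * p = p * o := fun o ho => (mem_centralizer_iff.1 ((mem_OO.1 ho).2 i) p hp).symm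
  have hOv : ∀ o ∈ OO T V, o * v i = v i * o := fun o ho =>
    (mem_centralizer_iff.1 ((mem_OO.1 ho).2 i) (v i) (D.mem i)).symm
  have hgX : g ∈ normalizer (X : Set G) := d.norm i hg
  have hτX : τ ∈ normalizer (X : Set G) := T_norm D d i (hAT hτ)
  set y := g * n * g⁻¹ with hy
  have hyX : y ∈ X := (mem_normalizer_iff.1 hgX n).1 hn
  set y' := τ * y * τ⁻¹ with hy'
  have hy'X : y' ∈ X := (mem_normalizer_iff.1 hτX y).1 hyX
  -- `[o, y] ∈ ⟨p⟩`
  have hoy : ∀ o ∈ OO T V, o * y * o⁻¹ = y ∨ o * y * o⁻¹ = p * y := by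
    intro o ho
    have ho' : g⁻¹ * o * g ∈ OO T V := by
      have := (mem_normalizer_iff.1 (inv_mem (P_le_N_OO D i hg)) o).1 ho
      rwa [inv_inv] at this
    have e : o * y * o⁻¹ * y⁻¹ = g * ((g⁻¹ * o * g) * n * (g⁻¹ * o * g)⁻¹ * n⁻¹) * g⁻¹ := by rw [hy]; group
    rcases hno _ ho' with h | h
    · left
      rw [h, mul_one, mul_inv_cancel] at e
      exact mul_inv_eq_one.1 e
    · right
      rw [h, hgp] at e
      exact mul_inv_eq_iff_eq_mul.1 e
  set E0 := A ⊓ centralizer (V i : Set G) with hE0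
  have hE0O : E0 ≤ OO T V := fun e he => (mem_OO' hij).2 ⟨hAT he.1, he.2, hAj he.1⟩
  -- modulo `C(X)`, `A` is abelian
  have hcX : ∀ u ∈ centralizer (X : Set G), ∀ x ∈ X, u * x * u⁻¹ = x := fun u hu x hx => by
    rw [← mem_centralizer_iff.1 hu x hx, mul_inv_cancel_right]
  have htau : ∀ e ∈ A, ∀ z ∈ X, e * (τ * z * τ⁻¹) * e⁻¹ = τ * (e * z * e⁻¹) * τ⁻¹ := by
    intro e he z hz
    have h1 := hA.comm e he τ hτ
    have heX : e ∈ normalizer (X : Set G) := T_norm D d i (hAT he)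
    have h2 : τ * (e * z * e⁻¹) * τ⁻¹ ∈ X :=
      (mem_normalizer_iff.1 hτX _).1 ((mem_normalizer_iff.1 heX z).1 hz)
    have h3 := hcX _ h1 _ h2
    rw [← h3]
    group
  have hcomE : ∀ e ∈ E0, e * y = y * e := by
    by_contra hcon
    push Not at hcon
    obtain ⟨e0, he0, he0y⟩ := hcon
    have h0 : e0 * y * e0⁻¹ = p * y := by
      rcases hoy e0 (hE0O he0) with h | h
      · exact absurd (mul_inv_eq_iff_eq_mul.1 h) he0y
      · exact h
    set E := E0 ⊓ centralizer ({y} : Set G) with hE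
    have hEE0 : E ≤ E0 := inf_le_left
    have hEA : E ≤ A := inf_le_left.trans inf_le_left
    have hidx : ∀ e ∈ E0, e ∈ E ∨ e0 * e ∈ E := by
      intro e he
      rcases hoy e (hE0O he) with h | h
      · exact Or.inl ⟨he, mem_centralizer_singleton_iff.2 (mul_inv_eq_iff_eq_mul.1 h)⟩
      · refine Or.inr ⟨mul_mem he0 he, mem_centralizer_singleton_iff.2 (mul_inv_eq_iff_eq_mul.1 ?_)⟩
        have e1 : e0 * e * y * (e0 * e)⁻¹ = e0 * (e * y * e⁻¹) * e0⁻¹ := by group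
        have e2 : e0 * (p * y) * e0⁻¹ = (e0 * p * e0⁻¹) * (e0 * y * e0⁻¹) := by group
        rw [e1, h, e2, h0, hOp e0 (hE0O he0), mul_inv_cancel_right, ← mul_assoc, hp2, one_mul]
    have hc1 : Nat.card E0 ≤ 2 * Nat.card E := card_le_two_mul he0 hEE0 hidx
    have hidx2 : ∀ a ∈ A, a ∈ E0 ∨ τ * a ∈ E0 := by
      intro a ha
      by_cases hao : a ∈ o2 (P i)
      · rw [o2_P D i] at hao
        exact Or.inl ⟨ha, hao.2⟩
      · have h1 := mul_mem_o2 D (hAT hτ) hτo (hAT ha) hao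
        rw [o2_P D i] at h1
        exact Or.inr ⟨mul_mem hτ ha, h1.2⟩
    have hc2 : Nat.card A ≤ 2 * Nat.card E0 := card_le_two_mul hτ inf_le_left hidx2
    have hXE : A ⊓ centralizer (X : Set G) ≤ E := by
      refine le_inf (le_inf inf_le_left (inf_le_right.trans (centralizer_le (d.le i)))) ?_
      exact inf_le_right.trans (centralizer_le (Set.singleton_subset_iff.2 hyX))
    have hmax := hA.max E hEA hXE
    set Y1 := X ⊓ centralizer (E0 : Set G) with hY1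
    have hYA : 2 * Nat.card ↥(X ⊓ centralizer (A : Set G)) ≤ Nat.card Y1 := by
      refine two_mul_card_le (z := p) (inf_le_inf_left _ (centralizer_le inf_le_left)) ?_ ?_
      · exact ⟨hpvX, mem_centralizer_iff.2 fun e he => (mem_centralizer_iff.1 he.2 p hp).symm⟩
      · rintro ⟨-, hpA⟩
        have h1 : τ * p = p * τ := mem_centralizer_iff.1 hpA τ hτ
        rw [h1, mul_inv_cancel_right] at hmv
        exact D.ne i (by simpa using hmv.symm)
    -- `e0` on `y'`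
    have h0' : e0 * y' * e0⁻¹ = p * v i * y' := by
      rw [hy', htau e0 he0.1 y hyX, h0]
      have e2 : τ * (p * y) * τ⁻¹ = (τ * p * τ⁻¹) * (τ * y * τ⁻¹) := by group
      rw [e2, hmv]
    have hy1 : y ∉ Y1 := fun h => he0y (mem_centralizer_iff.1 h.2 e0 he0)
    have hy2 : y' ∉ Y1 ⊔ zpowers y := by
      intro h
      have hyc : zpowers y ≤ centralizer (Y1 : Set G) := by
        rw [zpowers_le]
        exact mem_centralizer_iff.2 fun z hz => d.comm z hz.1 y hyX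
      have h' : y' ∈ ((Y1 ⊔ zpowers y : Subgroup G) : Set G) := h
      rw [coe_sup_of_le_centralizer hyc] at h'
      obtain ⟨z, hz, c, hc, hzc⟩ := h'
      have hzc : z * c = y' := hzc
      obtain ⟨m, rfl⟩ := mem_zpowers_iff.1 hc
      have hz0 : e0 * z * e0⁻¹ = z := by
        rw [mem_centralizer_iff.1 hz.2 e0 he0, mul_inv_cancel_right]
      have hy2' : y ^ 2 = 1 := d.sq y hyX
      have hz0' : e0 * (z * y ^ m) * e0⁻¹ = z * (e0 * y * e0⁻¹) ^ m := by
        have e1 : e0 * (z * y ^ m) * e0⁻¹ = (e0 * z * e0⁻¹) * (e0 * y ^ m * e0⁻¹) := by group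
        have e3 : (e0 * y * e0⁻¹) ^ m = e0 * y ^ m * e0⁻¹ := conj_zpow
        rw [e1, hz0, e3]
      rw [hzc, h0', h0, ← hzc] at hz0'
      -- `p v_i z y^m = z (p y)^m`
      have hpyc : Commute p y := d.comm p hpvX y hyX
      rw [hpyc.mul_zpow] at hz0'
      have hzp : z * (p ^ m * y ^ m) = p ^ m * (z * y ^ m) := by
        have : z * p ^ m = p ^ m * z := d.comm z hz.1 _ (zpow_mem hpvX m)
        rw [← mul_assoc, this, mul_assoc]
      rw [hzp] at hz0'
      have h5 : p * v i = p ^ m := mul_right_cancel hz0'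
      rcases Int.even_or_odd' m with ⟨k, rfl | rfl⟩
      · rw [zpow_mul, zpow_two, hp2, one_zpow] at h5
        apply hpv
        calc p = p * v i * (v i)⁻¹ := by group
          _ = v i := by rw [h5, one_mul, inv_eq_iff_mul_eq_one.2 (D.v_sq i)]
      · rw [zpow_add, zpow_mul, zpow_two, hp2, one_zpow, one_mul, zpow_one] at h5
        exact D.ne i (by simpa using h5)
    have hcard1 := two_mul_card_le (K := Y1) (H := Y1 ⊔ zpowers y) le_sup_left (mem_sup_right (mem_zpowers y)) hy1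
    have hcard2 := two_mul_card_le (K := Y1 ⊔ zpowers y) (H := (Y1 ⊔ zpowers y) ⊔ zpowers y') le_sup_left
      (mem_sup_right (mem_zpowers y')) hy2
    have hcard3 : Nat.card ↥((Y1 ⊔ zpowers y) ⊔ zpowers y') ≤ Nat.card ↥(X ⊓ centralizer (E : Set G)) := by
      refine Subgroup.card_le_of_le (sup_le (sup_le ?_ ?_) ?_)
      · exact inf_le_inf_left _ (centralizer_le hEE0)
      · rw [zpowers_le]
        exact ⟨hyX, mem_centralizer_iff.2 fun e he => mem_centralizer_singleton_iff.1 he.2⟩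
      · rw [zpowers_le]
        refine ⟨hy'X, mem_centralizer_iff.2 fun e he => ?_⟩
        have h1 : e * y * e⁻¹ = y := by
          rw [mem_centralizer_singleton_iff.1 he.2, mul_inv_cancel_right]
        have h2 := htau e (hEA he) y hyX
        rw [h1] at h2
        exact mul_inv_eq_iff_eq_mul.1 h2
    have hpE : 0 < Nat.card E := Nat.card_pos
    have hpY : 0 < Nat.card Y1 := Nat.card_pos
    have hf1 : Nat.card A * Nat.card ↥(X ⊓ centralizer (A : Set G)) ≤ 2 * (Nat.card E * Nat.card Y1) := by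
      have h1 : Nat.card A ≤ 4 * Nat.card E := by omega
      have h2 : 2 * (Nat.card A * Nat.card ↥(X ⊓ centralizer (A : Set G))) ≤ 4 * (Nat.card E * Nat.card Y1) := by
        calc 2 * (Nat.card A * Nat.card ↥(X ⊓ centralizer (A : Set G)))
            = Nat.card A * (2 * Nat.card ↥(X ⊓ centralizer (A : Set G))) := by ring
          _ ≤ (4 * Nat.card E) * Nat.card Y1 := Nat.mul_le_mul h1 hYA
          _ = 4 * (Nat.card E * Nat.card Y1) := by ring
      omega
    have hf2 : 4 * (Nat.card E * Nat.card Y1) ≤ Nat.card E * Nat.card ↥(X ⊓ centralizer (E : Set G)) := by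
      calc 4 * (Nat.card E * Nat.card Y1) = Nat.card E * (4 * Nat.card Y1) := by ring
        _ ≤ _ := Nat.mul_le_mul_left _ (by omega)
    have hf3 : 0 < Nat.card E * Nat.card Y1 := Nat.mul_pos hpE hpY
    omega
  obtain ⟨w, hw, hwy⟩ := k1 D d hAT hA hAi hyX hcomE
  -- `y' = c y`, `c ∈ ⟨v i⟩`
  have hcy : y' = y ∨ y' = v i * y := by
    have h1 : τ * (w * y) * τ⁻¹ = w * y := by
      rw [mem_centralizer_iff.1 hwy τ hτ, mul_inv_cancel_right]
    have h2 : τ * (w * y) * τ⁻¹ = (τ * w * τ⁻¹) * y' := by rw [hy']; group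
    rw [h2] at h1
    by_cases hw1 : w = 1
    · rw [hw1] at h1
      left; simpa using h1
    by_cases hwv : w = v i
    · rw [hwv, D.cen i (hAT hτ)] at h1
      left; exact mul_left_cancel h1
    · right
      rw [moves D (hAT hτ) hτo hw hw1 hwv, mul_assoc] at h1
      have h3 : v i * y' = y := mul_left_cancel h1
      calc y' = v i * v i * y' := by rw [D.v_sq, one_mul]
        _ = v i * y := by rw [mul_assoc, h3]
  have hOy : ∀ o ∈ OO T V, o * y = y * o := by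
    intro o ho
    rcases hoy o ho with h | h
    · exact mul_inv_eq_iff_eq_mul.1 h
    exfalso
    have ho' : τ⁻¹ * o * τ ∈ OO T V := by
      have := (mem_normalizer_iff.1 (inv_mem (P_le_N_OO D i (D.T_le_P i (hAT hτ)))) o).1 ho
      rwa [inv_inv] at this
    have h1 : o * y' * o⁻¹ = p * y' := by
      rcases hcy with hc | hc
      · rw [hc]; exact h
      · rw [hc]
        have e : o * (v i * y) * o⁻¹ = (o * v i * o⁻¹) * (o * y * o⁻¹) := by group
        rw [e, hOv o ho, mul_inv_cancel_right, h, ← mul_assoc, hvp, mul_assoc]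
    have h2 : o * y' * o⁻¹ = τ * ((τ⁻¹ * o * τ) * y * (τ⁻¹ * o * τ)⁻¹) * τ⁻¹ := by rw [hy']; group
    rcases hoy _ ho' with h3 | h3
    · rw [h3, h1] at h2
      have h4 : p * y' = 1 * y' := by rw [h2, one_mul]
      exact hp1 (mul_right_cancel h4)
    · rw [h3, h1] at h2
      have e2 : τ * (p * y) * τ⁻¹ = (τ * p * τ⁻¹) * y' := by rw [hy']; group
      rw [e2, hmv] at h2
      have h4 : p = p * v i := mul_right_cancel h2
      exact D.ne i (by simpa using h4)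
  intro o ho
  have ho' : g * o * g⁻¹ ∈ OO T V := (mem_normalizer_iff.1 (P_le_N_OO D i hg) o).1 ho
  have h1 := hOy _ ho'
  have h2 : g * (o * n) * g⁻¹ = g * (n * o) * g⁻¹ := by
    calc g * (o * n) * g⁻¹ = (g * o * g⁻¹) * y := by rw [hy]; group
      _ = y * (g * o * g⁻¹) := h1
      _ = g * (n * o) * g⁻¹ := by rw [hy]; group
  exact mul_left_cancel (mul_right_cancel h2)

/-- `C_X(C_T(V 0 V 1)) ≤ V 0 V 1` -/
theorem k3 {y : G} (hy : y ∈ X) (hyo : ∀ o ∈ OO T V, o * y = y * o) : y ∈ V 0 ⊔ V 1 := by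
  have h01 : (0 : Fin 2) ≠ 1 := by decide
  obtain ⟨A, hAT, hA, hAj, hAi⟩ := d.off 0 1 h01
  obtain ⟨B, hBT, hB, hBj, hBi⟩ := d.off 1 0 h01.symm
  obtain ⟨τ, hτ, hτi⟩ := SetLike.not_le_iff_exists.1 hAi
  obtain ⟨σ, hσ, hσi⟩ := SetLike.not_le_iff_exists.1 hBi
  have hτo : τ ∉ o2 (P 0) := fun h => hτi (by rw [o2_P D 0] at h; exact h.2)
  have hσo : σ ∉ o2 (P 1) := fun h => hσi (by rw [o2_P D 1] at h; exact h.2)
  have hVo : ∀ k, ∀ w ∈ V k, ∀ o ∈ OO T V, o * w = w * o := fun k w hw o ho =>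
    (mem_centralizer_iff.1 ((mem_OO.1 ho).2 k) w hw).symm
  obtain ⟨w, hw, hwy⟩ := k1 D d hAT hA hAi hy fun e he => hyo e ((mem_OO' h01).2 ⟨hAT he.1, he.2, hAj he.1⟩)
  have hwX : w * y ∈ X := mul_mem (d.le 0 hw) hy
  have hwo : ∀ o ∈ OO T V, o * (w * y) = w * y * o := fun o ho => by
    rw [← mul_assoc, hVo 0 w hw o ho, mul_assoc, hyo o ho, ← mul_assoc]
  obtain ⟨w', hw', hwy'⟩ := k1 D d hBT hB hBi hwX fun e he =>
    hwo e ((mem_OO' h01.symm).2 ⟨hBT he.1, he.2, hBj he.1⟩)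
  set c := w' * (w * y) with hc
  have hcX : c ∈ X := mul_mem (d.le 1 hw') hwX
  have hco : ∀ o ∈ OO T V, o * c = c * o := fun o ho => by
    rw [hc, ← mul_assoc, hVo 1 w' hw' o ho, mul_assoc, hwo o ho, ← mul_assoc w']
  have hcτ : τ * c = c * τ := by
    have h1 : τ * w' = w' * τ := (mem_centralizer_iff.1 (hAj hτ) w' hw').symm
    have h2 : τ * (w * y) = w * y * τ := mem_centralizer_iff.1 hwy τ hτ
    rw [hc, ← mul_assoc, h1, mul_assoc, h2, ← mul_assoc w']
  have hcσ : σ * c = c * σ := mem_centralizer_iff.1 hwy' σ hσ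
  have key : ∀ t s : G, s * c = c * s → s * t * c = c * (s * t) → t * c = c * t := by
    intro t s hs hst
    have h6 : s⁻¹ * c = c * s⁻¹ := by
      calc s⁻¹ * c = s⁻¹ * (c * s) * s⁻¹ := by group
        _ = s⁻¹ * (s * c) * s⁻¹ := by rw [hs]
        _ = c * s⁻¹ := by group
    calc t * c = s⁻¹ * (s * t * c) := by group
      _ = (s⁻¹ * c) * (s * t) := by rw [hst]; group
      _ = c * t := by rw [h6]; group
  have hmem : ∀ s ∈ T, s ∈ o2 (P 0) → s ∈ o2 (P 1) → s * c = c * s := by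
    intro s hs h0 h1
    rw [o2_P D] at h0 h1
    exact hco s ((mem_OO' h01).2 ⟨hs, h0.2, h1.2⟩)
  have hσ0 : σ ∈ o2 (P 0) := by rw [o2_P D]; exact ⟨hBT hσ, hBj hσ⟩
  have hτ1 : τ ∈ o2 (P 1) := by rw [o2_P D]; exact ⟨hAT hτ, hAj hτ⟩
  have h1' : ∀ s ∈ T, s ∈ o2 (P 0) → s * c = c * s := by
    intro s hs h0
    by_cases hs1 : s ∈ o2 (P 1)
    · exact hmem s hs h0 hs1
    · exact key s σ hcσ (hmem (σ * s) (mul_mem (hBT hσ) hs) (mul_mem hσ0 h0) (mul_mem_o2 D (hBT hσ) hσo hs hs1))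
  have hcT : c ∈ zc T := by
    refine MinSimple.VModule.mem_zc.2 ⟨d.leT hcX, fun t ht => ?_, d.sq c hcX⟩
    by_cases ht0 : t ∈ o2 (P 0)
    · exact h1' t ht ht0
    · exact key t τ hcτ (h1' (τ * t) (mul_mem (hAT hτ) ht) (mul_mem_o2 D (hAT hτ) hτo ht ht0))
  have hcV : c ∈ V 0 ⊔ V 1 := by
    have h0 : v 0 ∈ V 0 ⊔ V 1 := mem_sup_left (D.mem 0)
    have h1 : v 1 ∈ V 0 ⊔ V 1 := mem_sup_right (D.mem 1)
    rcases (D.zT c).1 hcT with h | h | h | h <;> rw [h]
    · exact one_mem _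
    · exact h0
    · exact h1
    · exact mul_mem h0 h1
  have e : y = w⁻¹ * (w'⁻¹ * c) := by rw [hc]; group
  rw [e]
  exact mul_mem (inv_mem (mem_sup_left hw)) (mul_mem (inv_mem (mem_sup_right hw')) hcV)

/-- **LEMMA FIX in `X`** -/
theorem fixX {i : Fin 2} {n : G} (hn : n ∈ X)
    (hno : ∀ o ∈ OO T V, o * n * o⁻¹ * n⁻¹ = 1 ∨ o * n * o⁻¹ * n⁻¹ = v i) : n ∈ V 0 ⊔ V 1 := by
  obtain ⟨j, hij⟩ : ∃ j : Fin 2, i ≠ j := ⟨i + 1, ne_add_one i⟩
  exact k3 D d hn (k2 D d hij hn hno)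

omit d in
/-- `C_T(V j) ≤ O₂(R)` -/
theorem inf_cent_le_o2 {i j : Fin 2} (_hij : i ≠ j) {R : Subgroup G} (hR : IsMinPar T R) (hRC : R ≤ CC v i)
    (hRm : ¬ R ≤ CC v j) (hRN : R ≤ normalizer (V j : Set G)) : T ⊓ centralizer (V j : Set G) ≤ o2 R := by
  have hsyl : Syl T R := ⟨hR.le, D.T_isPGroup, fun Q hQ hQ2 hTQ => (D.syl i).2.2 Q (hQ.trans hRC) hQ2 hTQ⟩
  have hN : R ≤ normalizer ((R ⊓ centralizer (V j : Set G) : Subgroup G) : Set G) := by
    refine ThmI.le_inf_normalizer ?_ ?_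
    · exact le_normalizer
    · exact hRN.trans (ThmI.normalizer_le_normalizer_centralizer' _)
  rcases hR.sup_eq_or_inf_le D.T_isPGroup (syl_not_dvd hsyl) inf_le_left hN with h | h
  · exfalso
    apply hRm
    rw [← h]
    refine sup_le (inf_le_right.trans ?_) (D.T_le_C j)
    exact centralizer_le (Set.singleton_subset_iff.2 (D.mem j))
  · exact le_trans (le_inf inf_le_left (le_inf (inf_le_left.trans hR.le) inf_le_right)) h

end Cfsg.Agent.Omega.TC.FixX
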