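import Cfsg.Agent.Omega.TC.LemR
import Cfsg.Agent.Omega.TC.No

/-!
# CARD #18791 "(E) = TWO CENTRES", `q = 2`: helper716 #19420, COROLLARY of LEMMA Q and LEMMA R

`D : Fr T V P v`, `hML : MLK`, `hK : ∀ i, IsKGroup (CC v i)`; LEMMA Q itself is `Fr.sub_comm`, `Fr.lemQ` (TC/No.lean).

* `Fr.noD_of`, `Fr.noQ_of` : helper15's `NoD`, `NoQ` (TC/Int.lean), literally;
* `Fr.sub_RR` : `[U, R_i] = 1` for the proper submodules `U` of `N_i`;
* `Fr.W_eq_N` : **COROLLARY** `[N_0, N_1] ≠ 1`, `V_j ≤ N_j` ⟹ `W_j = N_j`.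
-/

set_option autoImplicit false
set_option linter.unusedSectionVars false

namespace Cfsg.Agent.Omega.TC

open Subgroup Cfsg Cfsg.Agent.ZN Cfsg.Agent.Omega.MinPar
open Cfsg.Agent.Omega.OM.KTwo (CC QQ WU NU EU FF ne_add_one eq_add_one add_one_add_one le_normalizer_V le_V)
open Cfsg.Agent.Omega.NoFF.Basic (conj_conj mem_conj conj_le_iff conj_le_centralizer comm_symm comm_mono
  Z_le_V V_le conj_V_mul)
open Cfsg.Agent.Omega.NOThreeL.Pair (conj_eq_of_mem)
open Cfsg.Agent.MinSimple.VModule (mem_zc zc_le le_o2 o2_isPGroup le_centralizer_zc)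
open Cfsg.Agent.Omega.ML.Final (MLK)
open scoped Pointwise

universe u

variable {G : Type u} [Group G]

namespace Fr

variable [Finite G] {T : Subgroup G} {V P : Fin 2 → Subgroup G} {v : Fin 2 → G} (D : Fr T V P v)

include D

/-- helper15's `NoD` -/
theorem noD_of (hML : MLK.{u, u}) (hK : ∀ i, IsKGroup (CC v i)) (i : Fin 2) (B : Subgroup G)
    (hB : IsElementaryAbelian 2 B) (hBD : B ≤ o2 (centralizer (zc T : Set G))) :
    (centralizer (NU V v i : Set G)).relIndex B ≤ (centralizer (B : Set G)).relIndex (NU V v i) :=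
  D.no_N hML (hK i) hBD hB.2

theorem v_notMem_zp (i : Fin 2) : v (i + 1) ∉ zpowers (v i) := by
  intro h
  apply D.mv (i + 1)
  intro p hp
  have h1 : p ∈ CC v i := D.PC (i + 1) i (ne_add_one i).symm hp
  rw [mem_centralizer_singleton_iff]
  obtain ⟨n, hn⟩ := mem_zpowers_iff.1 h
  have h2 : Commute p (v i) := mem_centralizer_singleton_iff.1 h1
  rw [← hn]
  exact (h2.zpow_right n).eq

/-- helper15's `NoQ` -/
theorem noQ_of (hML : MLK.{u, u}) (hK : ∀ i, IsKGroup (CC v i)) (i : Fin 2) (B : Subgroup G)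
    (hB : IsElementaryAbelian 2 B) (hBD : B ≤ o2 (centralizer (zc T : Set G))) (M : Subgroup G)
    (hM : M ≤ NU V v i) (hMB : ∀ m ∈ M, ∀ b ∈ B, m * b * m⁻¹ * b⁻¹ ∈ zpowers (v i)) :
    (centralizer (NU V v i : Set G)).relIndex B ≤ M.relIndex (NU V v i) := by
  have hz : CC v i ≤ normalizer (zpowers (v i) : Set G) := fun c hc =>
    centralizer_le_normalizer _ (CC_le_cent_zpowers i hc)
  have hBC : B ≤ CC v i := (hBD.trans (o2_le _)).trans (D.cent_zc_le i)
  have h := D.no hML (H := CC v i) (Y := NU V v i ⊓ zpowers (v i)) (A := B) (M := M) (hK i) (D.T_le_C i) le_rfl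
    (fun c hc => ?_) (by rw [D.NH_CC]; exact inf_le_left) (fun h => D.v_notMem_zp i h.2) hBD hBC hB.2
    (by rwa [D.NH_CC]) fun m hm b hb => ?_
  · rwa [D.NH_CC] at h
  · have ha := D.C_le_N_N i hc
    have hb := hz hc
    rw [mem_normalizer_iff] at ha hb ⊢
    intro y
    exact ⟨fun hy => ⟨(ha y).1 hy.1, (hb y).1 hy.2⟩, fun hy => ⟨(ha y).2 hy.1, (hb y).2 hy.2⟩⟩
  · have h0 : b * m * b⁻¹ ∈ NU V v i := (mem_normalizer_iff.1 (D.C_le_N_N i (hBC hb)) m).1 (hM hm)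
    refine ⟨(NU V v i).mul_mem h0 ((NU V v i).inv_mem (hM hm)), ?_⟩
    have h1 := inv_mem (hMB m hm b hb)
    have e : (m * b * m⁻¹ * b⁻¹)⁻¹ = b * m * b⁻¹ * m⁻¹ := by group
    rwa [e] at h1

/-- LEMMA Q: `R_i = ⟨N_j ^ C_i⟩` centralises the proper submodules of `N_i`. -/
theorem sub_RR (hML : MLK.{u, u}) (hK : ∀ i, IsKGroup (CC v i)) {i j : Fin 2} (hij : i ≠ j) {U : Subgroup G}
    (hn : CC v i ≤ normalizer (U : Set G)) (hUN : U ≤ NU V v i) (hU : ¬ NU V v i ≤ U) :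
    RR V v j i ≤ centralizer (U : Set G) := V_le fun c hc => by
  have hv : v (i + 1) ∉ U := fun h => hU (by
    rw [← D.NH_CC]
    exact NH_le h hn)
  have h0 := D.sub_comm hML hK hn hUN hv
  rw [← eq_add_one hij] at h0
  have h1 := conj_le_centralizer (g := c) (comm_symm h0)
  rwa [conj_eq_of_mem (hn hc)] at h1

/-- **COROLLARY** (#19420): `[N_0, N_1] ≠ 1`, `V_j ≤ N_j` ⟹ `W_j = N_j`. -/
theorem W_eq_N (hML : MLK.{u, u}) (hK : ∀ i, IsKGroup (CC v i)) {i j : Fin 2} (hij : i ≠ j)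
    (h : ¬ NU V v i ≤ centralizer (NU V v j : Set G)) (hV : V j ≤ NU V v j) : WU V v j = NU V v j := by
  have hWN : WU V v j ≤ NU V v j := V_le fun c hc => by
    have h1 := conj_le_iff (g := c) |>.2 hV
    rwa [conj_eq_of_mem (D.C_le_N_N j hc)] at h1
  by_contra hne
  have h1 : ¬ NU V v j ≤ WU V v j := fun h' => hne (le_antisymm hWN h')
  have h2 := D.sub_RR hML hK hij.symm (D.C_le_N_W j) hWN h1
  exact D.lemR hij h (h2.trans (centralizer_le (D.V_le_W j)))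

end Fr

end Cfsg.Agent.Omega.TC
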