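import Cfsg.Agent.Omega.TC.Fr

/-!
# CARD #18791 "(E) = TWO CENTRES", `q = 2`: helper716 #19420, LEMMA R

`D : Fr T V P v`, `RR v i j = ⟨N_i ^ C_j⟩` (`i ≠ j`).

* `Fr.RR_le`, `Fr.C_le_N_RR`, `Fr.N_le_RR` : `N_i ≤ RR v V i j ⊴ C_j`;
* `Fr.RR_mul` : `C_j = (RR) D` and `RR_self` : `RR = ⟨N_i ^ RR⟩` (`[N_0, N_1] ≠ 1`);
* `Fr.lemR` : **LEMMA R**: `[N_0, N_1] ≠ 1` implies `[RR, V_j] ≠ 1`.
-/

set_option autoImplicit false
set_option linter.unusedSectionVars false

namespace Cfsg.Agent.Omega.TC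

open Subgroup Cfsg Cfsg.Agent.ZN Cfsg.Agent.Omega.MinPar
open Cfsg.Agent.Omega.OM.KTwo (CC QQ WU NU EU FF ne_add_one eq_add_one add_one_add_one le_normalizer_V le_V)
open Cfsg.Agent.Omega.NoFF.Basic (conj_conj mem_conj conj_le_iff conj_le_centralizer comm_symm comm_mono
  Z_le_V V_le conj_V_mul)
open Cfsg.Agent.Omega.NOThreeL.Pair (conj_eq_of_mem)
open Cfsg.Agent.MinSimple.VModule (mem_zc zc_le le_normalizer_o2 le_o2 o2_le o2_isPGroup)
open scoped Pointwise

universe u

variable {G : Type u} [Group G]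

/-- `R_j = ⟨N_i ^ C_j⟩` -/
def RR (V : Fin 2 → Subgroup G) (v : Fin 2 → G) (i j : Fin 2) : Subgroup G :=
  NoFF.Basic.V (NU V v i) (CC v j)

theorem card_conj [Finite G] (x : G) (H : Subgroup G) : Nat.card (MulAut.conj x • H : Subgroup G) = Nat.card H := by
  rw [← SetLike.coe_sort_coe, Subgroup.coe_pointwise_smul]
  exact Set.ncard_smul_set _ _

namespace Fr

variable [Finite G] {T : Subgroup G} {V P : Fin 2 → Subgroup G} {v : Fin 2 → G} (D : Fr T V P v)

include D

theorem N_le_RR (i j : Fin 2) : NU V v i ≤ RR V v i j := le_V _ _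

theorem RR_le (i j : Fin 2) : RR V v i j ≤ CC v j := V_le fun c hc => by
  have h1 := conj_le_iff (g := c) |>.2 (D.N_le_C i j)
  rwa [D.conj_CC hc] at h1

theorem C_le_N_RR (i j : Fin 2) : CC v j ≤ normalizer (RR V v i j : Set G) := le_normalizer_V _ _

/-- the hypothesis `d = 1` for the pair `(i, j)` -/
theorem not_comm_of {i j : Fin 2} (hij : i ≠ j) (h : ¬ NU V v 0 ≤ centralizer (NU V v 1 : Set G)) :
    ¬ NU V v i ≤ centralizer (NU V v j : Set G) := by
  intro h2
  apply h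
  rcases Fin.exists_fin_two.1 ⟨i, rfl⟩ with hi | hi
  · have hj : j = 1 := by rw [eq_add_one hij, hi]; rfl
    rw [hi, hj] at h2
    exact h2
  · have hj : j = 0 := by rw [eq_add_one hij, hi]; rfl
    rw [hi, hj] at h2
    exact comm_symm h2

/-- `C_j = R_j D` -/
theorem RR_mul {i j : Fin 2} (h : ¬ NU V v i ≤ centralizer (NU V v j : Set G)) :
    ∀ c ∈ CC v j, ∃ x ∈ RR V v i j, ∃ d ∈ centralizer (zc T : Set G), c = x * d :=
  D.lem0 (D.RR_le i j) (D.C_le_N_RR i j) fun h' => h ((D.N_le_RR i j).trans h')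

/-- `R_j = ⟨N_i ^ R_j⟩` -/
theorem RR_self {i j : Fin 2} (h : ¬ NU V v i ≤ centralizer (NU V v j : Set G)) :
    RR V v i j ≤ NoFF.Basic.V (NU V v i) (RR V v i j) := V_le fun c hc => by
  obtain ⟨x, hx, d, hd, rfl⟩ := D.RR_mul h c hc
  rw [← conj_conj, conj_eq_of_mem (D.C_le_N_N i (D.cent_zc_le i hd))]
  exact Z_le_V hx

/-- **LEMMA R** of #19420: `R_j` does not centralise `V_j`. -/
theorem lemR {i j : Fin 2} (hij : i ≠ j) (h : ¬ NU V v i ≤ centralizer (NU V v j : Set G)) :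
    ¬ RR V v i j ≤ centralizer (V j : Set G) := by
  intro hR
  set R : Subgroup G := RR V v i j with hRdef
  -- `P j` normalises `R`
  have hP : P j ≤ normalizer (R : Set G) := by
    intro x hx
    have hxC : x ∈ CC v i := D.PC j i hij.symm hx
    have hxN : MulAut.conj x • NU V v i = NU V v i := conj_eq_of_mem (D.C_le_N_N i hxC)
    have hVC : centralizer (V j : Set G) ≤ MulAut.conj x • CC v j := by
      intro c hc
      rw [mem_conj]
      rw [mem_centralizer_singleton_iff]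
      have h1 : x * v j * x⁻¹ ∈ V j := (mem_normalizer_iff.1 (D.PN j j hx) _).1 (D.mem j)
      have h2 : (x * v j * x⁻¹) * c = c * (x * v j * x⁻¹) := mem_centralizer_iff.1 hc _ h1
      calc x⁻¹ * c * x * v j = x⁻¹ * (c * (x * v j * x⁻¹)) * x := by group
        _ = x⁻¹ * ((x * v j * x⁻¹) * c) * x := by rw [h2]
        _ = v j * (x⁻¹ * c * x) := by group
    have hn : MulAut.conj x • CC v j ≤ normalizer ((MulAut.conj x • R : Subgroup G) : Set G) := by
      have h1 : MulAut.conj x • CC v j ≤ MulAut.conj x • normalizer (R : Set G) := conj_le_iff.2 (D.C_le_N_RR i j)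
      exact h1.trans (Cfsg.Agent.Omega.NoFF.Main.normalizer_conj _ _).ge
    have hRn : R ≤ normalizer ((MulAut.conj x • R : Subgroup G) : Set G) := (hR.trans hVC).trans hn
    have hNR : NU V v i ≤ MulAut.conj x • R := by
      rw [← hxN]
      exact conj_le_iff.2 (D.N_le_RR i j)
    have hle : R ≤ MulAut.conj x • R := (D.RR_self h).trans (V_le fun c hc => by
      rw [← conj_eq_of_mem (hRn hc)]
      exact conj_le_iff.2 hNR)
    have heq : R = MulAut.conj x • R := Subgroup.eq_of_le_of_card_ge hle (card_conj x R).le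
    exact ChoiceBase.mem_normalizer_iff_cj.2 heq.symm
  have hC : CC v i ≤ normalizer (R : Set G) :=
    (D.gen hij.symm).trans (sup_le hP ((D.cent_zc_le j).trans (D.C_le_N_RR i j)))
  have hC' : CC v j ≤ normalizer (R : Set G) := D.C_le_N_RR i j
  -- `O₂(R) = 1`
  have ho : o2 R = ⊥ := by
    have a1 : CC v i ≤ normalizer (o2 R : Set G) := hC.trans (Cfsg.Agent.Omega.normalizer_le_normalizer_o2' R)
    have a2 : CC v j ≤ normalizer (o2 R : Set G) := hC'.trans (Cfsg.Agent.Omega.normalizer_le_normalizer_o2' R)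
    refine D.nonloc _ (o2_isPGroup R) ?_ ?_
    · rcases Fin.exists_fin_two.1 ⟨i, rfl⟩ with hi | hi
      · rw [hi] at a1; exact a1
      · have hj : j = 0 := by rw [eq_add_one hij, hi]; rfl
        rw [hj] at a2; exact a2
    · rcases Fin.exists_fin_two.1 ⟨i, rfl⟩ with hi | hi
      · have hj : j = 1 := by rw [eq_add_one hij, hi]; rfl
        rw [hj] at a2; exact a2
      · rw [hi] at a1; exact a1
  have hRC : R ≤ CC v j := D.RR_le i j
  have hRQ : R ⊓ QQ v j ≤ o2 R := by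
    refine le_o2 inf_le_left (D.T_isPGroup.to_le (inf_le_right.trans (D.Q_le_T j))) ?_
    intro x hx
    have ha : x ∈ normalizer (R : Set G) := le_normalizer hx
    have hb : x ∈ normalizer (QQ v j : Set G) := le_normalizer_o2 _ (hRC hx)
    rw [mem_normalizer_iff] at ha hb ⊢
    intro y
    exact ⟨fun hy => ⟨(ha y).1 hy.1, (hb y).1 hy.2⟩, fun hy => ⟨(ha y).2 hy.1, (hb y).2 hy.2⟩⟩
  have hcomm : R ≤ centralizer (QQ v j : Set G) := by
    intro r hr
    rw [mem_centralizer_iff]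
    intro q hq
    replace hq : q ∈ QQ v j := hq
    have h1 : r * q * r⁻¹ * q⁻¹ ∈ R ⊓ QQ v j := by
      refine ⟨?_, ?_⟩
      · have h2 : q * r⁻¹ * q⁻¹ ∈ R :=
          (mem_normalizer_iff.1 (hC' (o2_le _ hq)) _).1 (inv_mem hr)
        have e : r * q * r⁻¹ * q⁻¹ = r * (q * r⁻¹ * q⁻¹) := by group
        rw [e]
        exact mul_mem hr h2
      · show r * q * r⁻¹ * q⁻¹ ∈ QQ v j
        exact mul_mem ((mem_normalizer_iff.1 (le_normalizer_o2 _ (hRC hr)) q).1 hq) (inv_mem hq)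
    have h2 := hRQ h1
    rw [ho, mem_bot] at h2
    calc q * r = (r * q * r⁻¹ * q⁻¹)⁻¹ * (r * q) := by group
      _ = r * q := by rw [h2]; group
  have hle : R ≤ QQ v j := fun r hr => D.isChar2 j ⟨hRC hr, hcomm hr⟩
  have h3 : R ≤ ⊥ := by
    rw [← ho]
    exact (le_inf le_rfl hle).trans hRQ
  have h4 : v j ∈ R := by
    apply D.N_le_RR i j
    rw [eq_add_one hij]
    exact D.mem_N i
  exact D.ne j ((mem_bot).1 (h3 h4))

end Fr

end Cfsg.Agent.Omega.TC
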