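import Cfsg.Agent.Omega.TC.No
import Cfsg.Agent.Omega.TC.LemR

/-!
# CARD #18791 "(E) = TWO CENTRES", `q = 2`, `d = 1`: LEMMA Q, `W_i = N_i` (helper716 #19420)

`D : Fr T V P v`, `hd : [N_{i+1}, N_i] ≠ 1`; `RR V v (i+1) i = R_i = ⟨N_{i+1} ^ C_i⟩` (helper452's LemR.lean),
`JU V v i = J_i = C_{N_i}(R_i)`.

* `Fr.sub_le_J`, `Fr.N_le_of_not` : `J_i` is THE maximal submodule of `N_i`; `Fr.lift_J` : `n ∈ N_i`,
  `[n, N_{i+1}] ≤ J_i` ⇒ `[n, N_{i+1}] = 1`; `Fr.stab_J` : the stabiliser of `v (i+1) J_i` is `D`;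
* `Fr.W_eq` : `V i ≤ N_i` ⇒ `W_i = N_i`.
-/

set_option autoImplicit false
set_option linter.unusedSectionVars false

namespace Cfsg.Agent.Omega.TC

open Subgroup Cfsg Cfsg.Agent.ZN Cfsg.Agent.Omega.MinPar
open Cfsg.Agent.Omega.OM.KTwo (CC QQ WU NU EU FF ne_add_one eq_add_one add_one_add_one le_normalizer_V le_V
  le_o2_of_commutator)
open Cfsg.Agent.MinSimple.MinParabolic (IsMinPar)
open Cfsg.Agent.Omega.NoFF.Basic (conj_conj mem_conj conj_le_iff conj_le_centralizer comm_symm comm_mono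
  Z_le_V V_le conj_V_mul)
open Cfsg.Agent.Omega.NOThreeL.Pair (conj_eq_of_mem conj_le_normalizer)
open Cfsg.Agent.ZN.ChoiceSit (Syl exists_syl syl_conj o2_le_syl)
open Cfsg.Agent.MinSimple.VModule (mem_zc zc_le normalizer_le_normalizer_zc le_o2
  o2_isPGroup zc_le_centralizer le_centralizer_zc)
open scoped Pointwise

universe u

variable {G : Type u} [Group G]

/-- `J_i = C_{N_i}(R_i)`, `R_i = ⟨N_{i+1} ^ C_i⟩` -/
def JU (V : Fin 2 → Subgroup G) (v : Fin 2 → G) (i : Fin 2) : Subgroup G :=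
  NU V v i ⊓ centralizer (RR V v (i + 1) i : Set G)

theorem J_le_N (V : Fin 2 → Subgroup G) (v : Fin 2 → G) (i : Fin 2) : JU V v i ≤ NU V v i := inf_le_left

namespace Fr

variable [Finite G] {T : Subgroup G} {V P : Fin 2 → Subgroup G} {v : Fin 2 → G} (D : Fr T V P v)

include D

theorem C_le_N_J (i : Fin 2) : CC v i ≤ normalizer (JU V v i : Set G) :=
  NO3L.LemP.le_normalizer_inf (D.C_le_N_N i)
    ((D.C_le_N_RR (i + 1) i).trans (Cfsg.Agent.Omega.NO3L.LemP.normalizer_le_normalizer_cent _))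

theorem R_cent_iff {i : Fin 2} {X : Subgroup G} (hX : CC v i ≤ normalizer (X : Set G)) :
    X ≤ centralizer (RR V v (i + 1) i : Set G) ↔ X ≤ centralizer (NU V v (i + 1) : Set G) := by
  constructor
  · exact fun h => h.trans (centralizer_le (D.N_le_RR (i + 1) i))
  · intro h
    refine comm_symm (V_le fun c hc => ?_)
    have h1 := conj_le_centralizer (g := c) (comm_symm h)
    rwa [conj_eq_of_mem (hX hc)] at h1

theorem J_le_cent (i : Fin 2) : JU V v i ≤ centralizer (NU V v (i + 1) : Set G) :=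
  inf_le_right.trans (centralizer_le (D.N_le_RR (i + 1) i))

/-- `v i ∈ J_i` if `v i ∈ N_i` -/
theorem v_mem_J {i : Fin 2} (h : v i ∈ NU V v i) : v i ∈ JU V v i := by
  refine ⟨h, mem_centralizer_iff.2 fun r hr => ?_⟩
  exact mem_centralizer_singleton_iff.1 (D.RR_le (i + 1) i hr)

section d1

variable {i : Fin 2} (hd : ¬ NU V v (i + 1) ≤ centralizer (NU V v i : Set G))

include hd

theorem R_not : ¬ RR V v (i + 1) i ≤ centralizer (NU V v i : Set G) := fun h =>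
  hd ((D.N_le_RR (i + 1) i).trans h)

/-- `v (i+1) ∉ J_i` -/
theorem v_not_mem_J : v (i + 1) ∉ JU V v i := by
  intro h
  apply D.R_not hd
  have h1 : NU V v i ≤ JU V v i := by
    rw [← D.NH_CC]
    exact NH_le h (D.C_le_N_J i)
  exact comm_symm (h1.trans inf_le_right)

/-- the stabiliser of `v (i+1) J_i` is in `D` -/
theorem stab_J {g : G} (hg : g ∈ CC v i) (h : g * v (i + 1) * g⁻¹ * (v (i + 1))⁻¹ ∈ JU V v i) :
    g ∈ centralizer (zc T : Set G) :=
  D.stab_le (D.T_le_C i) le_rfl (D.C_le_N_J i) (D.v_not_mem_J hd) g hg h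

variable (hML : ML.Final.MLK.{u, u}) (hK : ∀ i, IsKGroup (CC v i))

include hML hK

/-- every proper submodule of `N_i` is in `J_i` -/
theorem sub_le_J {Y : Subgroup G} (hY : CC v i ≤ normalizer (Y : Set G)) (hYW : Y ≤ NU V v i) (hv : v (i + 1) ∉ Y) :
    Y ≤ JU V v i :=
  le_inf hYW ((D.R_cent_iff hY).2 (D.sub_comm hML hK hY hYW hv))

/-- a submodule of `N_i` not in `J_i` is `N_i` -/
theorem N_le_of_not {Y : Subgroup G} (hY : CC v i ≤ normalizer (Y : Set G)) (hYW : Y ≤ NU V v i)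
    (h : ¬ Y ≤ JU V v i) : NU V v i ≤ Y := by
  by_contra hcon
  refine h (D.sub_le_J hd hML hK hY hYW fun hv => hcon ?_)
  rw [← D.NH_CC]
  exact NH_le hv hY

/-- `M ≤ N_i`, `[M, N_{i+1}] ≤ J_i`: `[M, N_{i+1}] = 1` -/
theorem lift_J {M : Subgroup G} (hM : M ≤ NU V v i)
    (hMY : ∀ m ∈ M, ∀ a ∈ NU V v (i + 1), a * m * a⁻¹ * m⁻¹ ∈ JU V v i) :
    M ≤ centralizer (NU V v (i + 1) : Set G) :=
  D.lemQ hML hK (D.C_le_N_J i) (J_le_N V v i) (D.v_not_mem_J hd) hM hMY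

/-- **`V i ≤ N_i` ⇒ `W_i = N_i`** -/
theorem W_eq (hV : V i ≤ NU V v i) : WU V v i = NU V v i := by
  have h1 : WU V v i ≤ NU V v i := V_le fun c hc => by
    have := conj_le_iff (g := c) |>.2 hV
    rwa [conj_eq_of_mem (D.C_le_N_N i hc)] at this
  refine le_antisymm h1 (D.N_le_of_not hd hML hK (D.C_le_N_W i) h1 fun h => D.lemR (ne_add_one i).symm hd ?_)
  exact comm_symm ((D.V_le_W i).trans (h.trans inf_le_right))

end d1

end Fr

end Cfsg.Agent.Omega.TC
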