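import Cfsg.Agent.Omega.TC.Crit
import Cfsg.Agent.Omega.OM.KTwo.LemX

/-!
# CARD #18791: LEMMA X (helper918 #19487, by averaging: helper178) over the common frame `Fr`

* `Fr.v_ne_v`, `Fr.v_notin` : `v i ∉ V (i+1)`;
* `Fr.R_le_normalizer` : a normal subgroup `R` of `C_i` with `[V i, R] ≤ E_i`, `C_{N~}(T) = ⟨v~_j⟩`, `C_{N~}(R) = 1`
  normalises `V i`;
* `Fr.lemX` : **LEMMA X**: such an `R` centralises `N_i`.
-/

set_option autoImplicit false
set_option linter.unusedSectionVars false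

namespace Cfsg.Agent.Omega.TC

open Subgroup Cfsg Cfsg.Agent.ZN Cfsg.Agent.Omega.MinPar
open Cfsg.Agent.Omega.OM.KTwo (CC QQ WU NU EU FF ne_add_one eq_add_one add_one_add_one le_normalizer_V le_V
  le_o2_of_commutator)
open Cfsg.Agent.Omega.NoFF.Basic (conj_conj mem_conj conj_le_iff conj_le_centralizer comm_symm comm_mono
  Z_le_V V_le conj_V_mul)
open Cfsg.Agent.Omega.NOThreeL.Pair (conj_eq_of_mem)
open Cfsg.Agent.MinSimple.VModule (mem_zc zc_le le_normalizer_o2 le_o2 o2_le o2_isPGroup)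
open scoped Pointwise

universe u

variable {G : Type u} [Group G]

namespace Fr

variable [Finite G] {T : Subgroup G} {V P : Fin 2 → Subgroup G} {v : Fin 2 → G} (D : Fr T V P v)

include D

theorem v_ne_v {i j : Fin 2} (hij : i ≠ j) : v i ≠ v j := by
  intro h
  apply D.mv i
  rw [h]
  exact D.PC i j hij

/-- `v i ∉ V (i+1)` -/
theorem v_notin {i j : Fin 2} (hij : i ≠ j) : v i ∉ V j := by
  intro h
  obtain ⟨l, hl, -, hlw⟩ := D.tr hij.symm h (D.ne i)
  have h1 : l * v i = v i * l := mem_centralizer_singleton_iff.1 (D.PC j i hij.symm hl)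
  have h2 : l⁻¹ * v i * l = v i := by rw [mul_assoc, ← h1]; group
  apply D.v_ne_v hij
  rw [← h2, ← hlw]
  group

theorem conj_v (i : Fin 2) {c : G} (hc : c ∈ CC v i) : c * v i * c⁻¹ = v i := by
  have h : c * v i = v i * c := mem_centralizer_singleton_iff.1 hc
  rw [h]; group

theorem mem_zpv {i : Fin 2} {x : G} (hx : x ∈ zpowers (v i)) : x = 1 ∨ x = v i := by
  obtain ⟨n, hn⟩ := mem_zpowers_iff.1 hx
  have h2 : v i ^ (2 : ℤ) = 1 := by
    have := D.v_sq' i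
    exact_mod_cast this
  rcases Int.even_or_odd n with he | ho
  · obtain ⟨k, hk⟩ := he
    left
    rw [← hn, hk, ← two_mul, zpow_mul, h2, one_zpow]
  · obtain ⟨k, hk⟩ := ho
    right
    rw [← hn, hk, zpow_add, zpow_mul, zpow_one, h2, one_zpow, one_mul]

theorem C_le_N_Z (i : Fin 2) : CC v i ≤ normalizer (zpowers (v i) : Set G) :=
  (CC_le_cent_zpowers i).trans (centralizer_le_normalizer _)

/-- elements of `C_G(v i) ∩ N(V i)` act trivially on `V i / ⟨v i⟩` -/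
theorem comm_VN {i : Fin 2} {h e : G} (hv : h ∈ CC v i) (hU : h ∈ normalizer (V i : Set G)) (he : e ∈ V i) :
    e⁻¹ * h * e * h⁻¹ ∈ zpowers (v i) := by
  have he' : h * e * h⁻¹ ∈ V i := (mem_normalizer_iff.1 hU e).1 he
  have e0 : e⁻¹ * h * e * h⁻¹ = e⁻¹ * (h * e * h⁻¹) := by group
  rw [e0]
  have hv' := D.conj_v i hv
  by_cases h1 : e = 1
  · rw [h1]; simp
  by_cases h2 : e = v i
  · rw [h2, hv', inv_mul_cancel]; exact one_mem _
  have h3 : h * e * h⁻¹ ≠ 1 := fun h => h1 (conj_eq_one_iff.1 h)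
  have h4 : h * e * h⁻¹ ≠ v i := by
    intro h5
    apply h2
    rw [← hv'] at h5
    have h6 := congrArg (fun t => h⁻¹ * t * h) h5
    simpa [mul_assoc] using h6
  have hes : e⁻¹ = e := inv_eq_of_mul_eq_one_left (by rw [← pow_two]; exact D.sqV i e he)
  rcases D.eq_of_V he h1 (D.mem i) (D.ne i) h2 he' h3 with h5 | h5 | h5
  · rw [h5, inv_mul_cancel]; exact one_mem _
  · exact absurd h5 h4
  · rw [h5, inv_mul_cancel_left]; exact mem_zpowers _

/-- **LEMMA X (918 #19487).** -/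
theorem R_le_normalizer {i : Fin 2} {R : Subgroup G} (hRC : R ≤ CC v i) (hCR : CC v i ≤ normalizer (R : Set G))
    (hUR : ∀ r ∈ R, ∀ u ∈ V i, u⁻¹ * r * u * r⁻¹ ∈ EU T v i)
    (hT : ∀ n ∈ EU T v i, (∀ t ∈ T, n⁻¹ * t * n * t⁻¹ ∈ zpowers (v i)) → n ∈ zc T)
    (hR : ∀ n ∈ EU T v i, (∀ r ∈ R, n⁻¹ * r * n * r⁻¹ ∈ zpowers (v i)) → n ∈ zpowers (v i)) :
    R ≤ normalizer (V i : Set G) := by
  have hij := ne_add_one i
  have hCZ := D.C_le_N_Z i
  have hvE : zpowers (v i) ≤ EU T v i := zpowers_le.2 (D.v_mem_E i i)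
  have hEC : EU T v i ≤ CC v i := ((D.E_le_Q i).trans (D.Q_le_T i)).trans (D.T_le_C i)
  -- `M` : the elements of `P (i+1)` centralising `V i`
  set M := P (i + 1) ⊓ centralizer (V i : Set G) with hM
  have hMC : M ≤ CC v i := inf_le_right.trans (centralizer_le (Set.singleton_subset_iff.2 (D.mem i)))
  set H := T ⊔ M with hH
  have hHC : H ≤ CC v i := sup_le (D.T_le_C i) hMC
  have hHU : H ≤ normalizer (V i : Set G) := sup_le (D.T_le_N i) (inf_le_right.trans (centralizer_le_normalizer _))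
  have hodd : Odd ((R ⊓ T).relIndex R) := by
    rw [← Nat.not_even_iff_odd, even_iff_two_dvd]
    exact IId.Big.Red.odd_inf (D.T_le_C i) hRC ((D.T_le_C i).trans hCR) (ZN.ChoiceSit.syl_not_dvd (D.syl i))
  have hEsq : ∀ y ∈ EU T v i, y * y = 1 := by
    intro y hy
    have h1 := D.E_sq i y hy
    rwa [pow_two] at h1
  have key : ∀ e ∈ V i, ∀ r ∈ R, e⁻¹ * r * e * r⁻¹ ∈ zpowers (v i) := by
    intro e he
    have heC : e ∈ CC v i := D.T_le_C i (D.V_le_T i he)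
    refine OM.KTwo.LemX.comm (P := R ⊓ T) (H := H) (Y := EU T v i) inf_le_left hodd hvE (hRC.trans (D.C_le_N_E i))
      (hRC.trans hCZ) (hEC.trans hCZ) (fun y hy => by rw [hEsq y hy]; exact one_mem _) (hCZ heC)
      (fun r hr => hUR r hr e he) (fun p hp => ?_) (hHC.trans hCR) (hHC.trans (D.C_le_N_E i)) (hHC.trans hCZ)
      (fun h hh => ?_) hR ?_
    · exact D.comm_VN (hRC hp.1) (D.T_le_N i hp.2) he
    · exact D.comm_VN (hHC hh) (hHU hh) he
    · intro y hy hyH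
      have h1 := hT y hy fun t ht => hyH t (mem_sup_left ht)
      by_contra hyv
      -- `y = v_j` or `v_i v_j`
      have h2 : ∃ d ∈ zpowers (v i), y = v (i + 1) * d := by
        have hc : v 0 * v 1 = v 1 * v 0 := D.comm_v 1 (D.v_mem_T 0)
        rcases (D.zT y).1 h1 with h | h | h | h
        · exact absurd (h ▸ one_mem _) hyv
        · rcases Fin.exists_fin_two.1 ⟨i, rfl⟩ with hi | hi
          · rw [hi, h] at hyv; exact absurd (mem_zpowers _) hyv
          · exact ⟨1, one_mem _, by rw [h, hi]; simp⟩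
        · rcases Fin.exists_fin_two.1 ⟨i, rfl⟩ with hi | hi
          · exact ⟨1, one_mem _, by rw [h, hi]; simp⟩
          · rw [hi, h] at hyv; exact absurd (mem_zpowers _) hyv
        · rcases Fin.exists_fin_two.1 ⟨i, rfl⟩ with hi | hi
          · exact ⟨v 0, by rw [hi]; exact mem_zpowers _, by rw [h, hi, hc]; rfl⟩
          · exact ⟨v 1, by rw [hi]; exact mem_zpowers _, by rw [h, hi]; rfl⟩
      obtain ⟨d, hd, hyd⟩ := h2
      -- an element of `M` moving `v_j`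
      obtain ⟨w, hw, hw1, hwv⟩ := D.exists_ne_v (i + 1)
      obtain ⟨m, hmP, hmC, hmw⟩ := D.tr hij.symm hw hw1
      have hmM : m ∈ M := ⟨hmP, hmC⟩
      have h3 := hyH m (mem_sup_right hmM)
      have hmd : m * d * m⁻¹ = d := by
        obtain ⟨n, rfl⟩ := mem_zpowers_iff.1 hd
        rw [← conj_zpow, D.conj_v i (hMC hmM)]
      have h4 : y⁻¹ * m * y * m⁻¹ = d⁻¹ * ((v (i + 1))⁻¹ * w) * d := by
        calc y⁻¹ * m * y * m⁻¹ = (v (i + 1) * d)⁻¹ * (m * v (i + 1) * m⁻¹) * (m * d * m⁻¹) := by rw [hyd]; group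
          _ = d⁻¹ * ((v (i + 1))⁻¹ * w) * d := by rw [hmw, hmd]; group
      rw [h4] at h3
      have h5 : (v (i + 1))⁻¹ * w ∈ zpowers (v i) := by
        have := mul_mem (mul_mem hd h3) (inv_mem hd)
        have e5 : d * (d⁻¹ * ((v (i + 1))⁻¹ * w) * d) * d⁻¹ = (v (i + 1))⁻¹ * w := by group
        rwa [e5] at this
      have h6 : (v (i + 1))⁻¹ * w ∈ V (i + 1) := (V (i + 1)).mul_mem ((V (i + 1)).inv_mem (D.mem _)) hw
      have h7 : (v (i + 1))⁻¹ * w ≠ 1 := fun h => hwv (inv_mul_eq_one.1 h).symm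
      rcases D.mem_zpv h5 with h8 | h8
      · exact h7 h8
      · exact D.v_notin hij (h8 ▸ h6)
  -- conclusion
  intro r hr
  have hle : ∀ r ∈ R, ∀ e ∈ V i, r * e * r⁻¹ ∈ V i := by
    intro r hr e he
    have h1 := key e he r hr
    have h2 := mul_mem he ((zpowers_le.2 (D.mem i)) h1)
    have e2 : e * (e⁻¹ * r * e * r⁻¹) = r * e * r⁻¹ := by group
    rwa [e2] at h2
  rw [mem_normalizer_iff]
  intro x
  refine ⟨fun hx => hle r hr x hx, fun hx => ?_⟩
  have h2 := hle r⁻¹ (inv_mem hr) _ hx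
  have e : r⁻¹ * (r * x * r⁻¹) * r⁻¹⁻¹ = x := by group
  rwa [e] at h2

/-- **LEMMA X** over `Fr` -/
theorem lemX {i : Fin 2} {R : Subgroup G} (hRC : R ≤ CC v i) (hCR : CC v i ≤ normalizer (R : Set G))
    (hm : ¬ R ≤ centralizer (NU V v i : Set G))
    (hUR : ∀ r ∈ R, ∀ u ∈ V i, u⁻¹ * r * u * r⁻¹ ∈ EU T v i)
    (hT : ∀ n ∈ EU T v i, (∀ t ∈ T, n⁻¹ * t * n * t⁻¹ ∈ zpowers (v i)) → n ∈ zc T)
    (hR : ∀ n ∈ EU T v i, (∀ r ∈ R, n⁻¹ * r * n * r⁻¹ ∈ zpowers (v i)) → n ∈ zpowers (v i)) : False := by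
  have h1 := D.R_le_normalizer hRC hCR hUR hT hR
  refine D.comp i fun c hc => ?_
  obtain ⟨x, hx, d, hd, e⟩ := D.lem0 hRC hCR hm c⁻¹ (inv_mem hc)
  refine ⟨d⁻¹, inv_mem hd, x⁻¹, inv_mem (h1 hx), ?_⟩
  rw [← mul_inv_rev, ← e, inv_inv]

end Fr

end Cfsg.Agent.Omega.TC
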