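import Cfsg.Agent.Omega.TC.No
import Cfsg.Agent.Omega.TC.LemR
import Cfsg.Agent.Omega.TC.Av
import Cfsg.Agent.Omega.TC.Phi

/-!
# LEMMA Z (helper830 #20100 (2), (3); CARD #18791 TWO CENTRES)

`ZV V v i = ⟨v (i+1) ^ C_G(V i)⟩ ≤ N_i`, `AZ V v i = C_{N_{i+1}}(ZV)`.

* `quad_cent` : a normal subgroup of `C_i` acting trivially on `R` and on `N_i / R` centralises `N_i`;
* `lemZ` : **LEMMA Z**: `A₀ = AZ V v i` is exact on `N_i`, `C_{N_i}(A₀) = Z_i Y_i`, `|N_{i+1} : A₀| = |Z_i : C_{Z_i}(N_{i+1})|`;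
* `AZ_not` : `A₀` does not centralise `N_i` (`d = 1`);
* `N_V_le` : `N_G(V i) = C_G(V i) P i` normalises `Z_i`; `AZ_inv`;
* `FZ V v i = F₀ = ⟨A₀ ^ C_G(V i)⟩` is a 2-group normal in `N_G(V i)` and centralises `Z_i`: `FZ_le_cent`, `N_V_le_FZ`,
  `FZ_isPGroup`, `FZ_le_o2`, `FZ_not_le`;
* `fix_pt` : (3) a point `v (i+1)^c` which is fixed by `T` modulo a proper submodule is `v (i+1)`;
* `sub_le_v` : with `J(T) ≰ O₂(P i)`: every proper submodule of `N_i` is `≤ ⟨v i⟩` (`d = 1`).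
-/

set_option autoImplicit false
set_option linter.unusedSectionVars false

namespace Cfsg.Agent.Omega.TC.LemZ

open Subgroup Cfsg Cfsg.Agent.ZN Cfsg.Agent.Omega.MinPar
open Cfsg.Agent.Omega.OM.KTwo (CC QQ WU NU EU ne_add_one eq_add_one add_one_add_one le_normalizer_V le_V)
open Cfsg.Agent.Omega.NoFF.Basic (conj_conj mem_conj conj_le_iff comm_symm comm_mono Z_le_V V_le)
open Cfsg.Agent.Omega.NOThreeL.Pair (conj_eq_of_mem conj_le_normalizer)
open Cfsg.Agent.ZN.ChoiceSit (Syl syl_conj syl_not_dvd)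
open scoped Pointwise commutatorElement

universe u

variable {G : Type u} [Group G]

/-- `Z_i = ⟨v (i+1) ^ C_G(V i)⟩` -/
def ZV (V : Fin 2 → Subgroup G) (v : Fin 2 → G) (i : Fin 2) : Subgroup G := NH v i (centralizer (V i : Set G))

/-- `A₀ = C_{N_{i+1}}(Z_i)` -/
def AZ (V : Fin 2 → Subgroup G) (v : Fin 2 → G) (i : Fin 2) : Subgroup G :=
  NU V v (i + 1) ⊓ centralizer (ZV V v i : Set G)

theorem card_eq [Finite G] (A C : Subgroup G) : Nat.card A = Nat.card (A ⊓ C : Subgroup G) * C.relIndex A := by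
  have h := relIndex_mul_relIndex (⊥ : Subgroup G) (A ⊓ C) A bot_le inf_le_left
  rw [relIndex_bot_left, relIndex_bot_left, inf_relIndex_left] at h
  exact h.symm

theorem le_norm_of {A : Subgroup G} {N : Subgroup G} (h : ∀ a ∈ A, ∀ n ∈ N, a * n * a⁻¹ ∈ N) :
    A ≤ normalizer (N : Set G) := by
  intro a ha
  rw [mem_normalizer_iff]
  intro x
  refine ⟨h a ha x, fun hx => ?_⟩
  have h1 := h a⁻¹ (inv_mem ha) _ hx
  have e : a⁻¹ * (a * x * a⁻¹) * a⁻¹⁻¹ = x := by group
  rwa [e] at h1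

theorem norm_cent {A N : Subgroup G} (h : A ≤ normalizer (N : Set G)) :
    A ≤ normalizer ((centralizer (N : Set G) : Subgroup G) : Set G) := by
  apply le_norm_of
  intro a ha x hx
  rw [mem_centralizer_iff] at hx ⊢
  intro n hn
  have h1 : a⁻¹ * n * a ∈ N := by
    have := (mem_normalizer_iff.1 (inv_mem (h ha)) n).1 hn
    rwa [inv_inv] at this
  have h2 := hx _ h1
  calc n * (a * x * a⁻¹) = a * ((a⁻¹ * n * a) * x) * a⁻¹ := by group
    _ = a * (x * (a⁻¹ * n * a)) * a⁻¹ := by rw [h2]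
    _ = a * x * a⁻¹ * n := by group

theorem norm_inf {A N M : Subgroup G} (h : A ≤ normalizer (N : Set G)) (h' : A ≤ normalizer (M : Set G)) :
    A ≤ normalizer ((N ⊓ M : Subgroup G) : Set G) :=
  le_norm_of fun _ ha _ hx => ⟨(mem_normalizer_iff.1 (h ha) _).1 hx.1, (mem_normalizer_iff.1 (h' ha) _).1 hx.2⟩

variable [Finite G] {T : Subgroup G} {V P : Fin 2 → Subgroup G} {v : Fin 2 → G} (D : Fr T V P v)

include D

/-- a normal subgroup `X` of `C_i` with `[N_i, X] ≤ R`, `[R, X] = 1` centralises `N_i` (`R ≤ N_i`) -/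
theorem quad_cent {i : Fin 2} {X R : Subgroup G} (hX : X ≤ CC v i) (hn : CC v i ≤ normalizer (X : Set G))
    (hR : R ≤ NU V v i) (h1 : ∀ x ∈ X, ∀ n ∈ NU V v i, x * n * x⁻¹ * n⁻¹ ∈ R) (h2 : ∀ x ∈ X, ∀ r ∈ R, x * r = r * x) :
    X ≤ centralizer (NU V v i : Set G) := by
  have hfact : Fact (Nat.Prime 2) := ⟨Nat.prime_two⟩
  refine D.cent_N_of_le ?_ hn
  set C : Subgroup G := X ⊓ centralizer (NU V v i : Set G) with hC
  -- squares
  have hsq : ∀ x ∈ X, x * x ∈ C := by
    intro x hx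
    refine ⟨mul_mem hx hx, mem_centralizer_iff.2 fun n hn' => ?_⟩
    have h3 := h1 x hx n hn'
    have h4 := h2 x hx _ h3
    have h5 : x * n * x⁻¹ = (x * n * x⁻¹ * n⁻¹) * n := by group
    have h6 : x * n * x⁻¹ * n⁻¹ * (x * n * x⁻¹ * n⁻¹) = 1 := by
      rw [← pow_two]; exact D.N_sq i _ (hR h3)
    have h7 : x * (x * n * x⁻¹) * x⁻¹ = n := by
      calc x * (x * n * x⁻¹) * x⁻¹ = x * ((x * n * x⁻¹ * n⁻¹) * n) * x⁻¹ := by rw [← h5]
        _ = (x * (x * n * x⁻¹ * n⁻¹)) * n * x⁻¹ := by group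
        _ = (x * n * x⁻¹ * n⁻¹) * (x * n * x⁻¹) := by rw [h4]; group
        _ = (x * n * x⁻¹ * n⁻¹) * ((x * n * x⁻¹ * n⁻¹) * n) := by rw [← h5]
        _ = (x * n * x⁻¹ * n⁻¹ * (x * n * x⁻¹ * n⁻¹)) * n := by group
        _ = n := by rw [h6, one_mul]
    calc n * (x * x) = (x * (x * n * x⁻¹) * x⁻¹) * (x * x) := by rw [h7]
      _ = x * x * n := by group
  have hCn : X ≤ normalizer (C : Set G) :=
    norm_inf le_normalizer (norm_cent (hX.trans (D.C_le_N_N i)))
  have hCnor : (C.subgroupOf X).Normal := normal_subgroupOf_of_le_normalizer hCn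
  have hq : IsPGroup 2 (↥X ⧸ C.subgroupOf X) := by
    intro x
    obtain ⟨y, rfl⟩ := QuotientGroup.mk_surjective x
    refine ⟨1, ?_⟩
    rw [pow_one, pow_two, ← QuotientGroup.mk_mul, QuotientGroup.eq_one_iff, mem_subgroupOf]
    exact hsq y y.2
  obtain ⟨n, hn2⟩ := IsPGroup.iff_card.1 hq
  have hidx : C.relIndex X = 2 ^ n := hn2
  have hodd := Av.odd_inf (D.T_le_C i) (syl_not_dvd (D.syl i)) hX ((D.T_le_C i).trans hn)
  set L : Subgroup G := (T ⊓ X) ⊔ C with hL
  have hLX : L ≤ X := sup_le inf_le_right inf_le_left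
  have h3 : L.relIndex X ∣ 2 ^ n := by
    rw [← hidx, ← relIndex_mul_relIndex _ _ _ (le_sup_right : C ≤ L) hLX]
    exact Dvd.intro_left _ rfl
  have h4 : L.relIndex X ∣ (T ⊓ X).relIndex X := by
    rw [← relIndex_mul_relIndex _ _ _ (le_sup_left : T ⊓ X ≤ L) hLX]
    exact Dvd.intro_left _ rfl
  have h5 : L.relIndex X = 1 := by
    obtain ⟨m, _, hm⟩ := (Nat.dvd_prime_pow Nat.prime_two).1 h3
    rcases Nat.eq_zero_or_pos m with hm0 | hm0
    · rw [hm, hm0, pow_zero]
    · exfalso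
      apply hodd
      exact ((dvd_pow_self 2 hm0.ne').trans (hm ▸ dvd_rfl)).trans h4
  refine (relIndex_eq_one.1 h5).trans (sup_le (inf_le_left.trans (D.T_le_C (i + 1))) (inf_le_right.trans ?_))
  exact centralizer_le (Set.singleton_subset_iff.2 (D.mem_N i))

theorem cent_V_le (i : Fin 2) : centralizer (V i : Set G) ≤ CC v i :=
  centralizer_le (Set.singleton_subset_iff.2 (D.mem i))

theorem ZV_le (i : Fin 2) : ZV V v i ≤ NU V v i := D.NH_le_N (cent_V_le D i)

theorem v_mem_ZV (i : Fin 2) : v (i + 1) ∈ ZV V v i := mem_NH v i _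

theorem le_N_ZV (i : Fin 2) : normalizer (V i : Set G) ⊓ CC v (i + 1) ≤ normalizer (ZV V v i : Set G) := by
  have key : ∀ g ∈ normalizer (V i : Set G) ⊓ CC v (i + 1), MulAut.conj g • ZV V v i ≤ ZV V v i := by
    rintro g ⟨hg, hgv⟩
    rw [Subgroup.pointwise_smul_subset_iff]
    refine V_le fun k hk => ?_
    rw [← Subgroup.pointwise_smul_subset_iff, conj_conj]
    have hgk : g * k * g⁻¹ ∈ centralizer (V i : Set G) := (mem_normalizer_iff.1 (norm_cent (A := normalizer (V i : Set G))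
      le_rfl hg) k).1 hk
    have hgz : MulAut.conj g • zpowers (v (i + 1)) = zpowers (v (i + 1)) := by
      apply conj_eq_of_mem
      apply centralizer_le_normalizer
      rw [mem_centralizer_iff]
      rintro _ ⟨n, rfl⟩
      have h1 : Commute g (v (i + 1)) := mem_centralizer_singleton_iff.1 hgv
      exact (h1.zpow_right n).eq.symm
    have e : g * k = (g * k * g⁻¹) * g := by group
    rw [e, ← conj_conj, hgz]
    exact Z_le_V hgk
  intro g hg
  have hinv : MulAut.conj g⁻¹ • ZV V v i ≤ ZV V v i := key g⁻¹ (inv_mem hg)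
  rw [mem_normalizer_iff]
  intro x
  constructor
  · intro hx
    apply key g hg
    rw [mem_conj]
    have e : g⁻¹ * (g * x * g⁻¹) * g = x := by group
    rwa [e]
  · intro hx
    apply hinv
    rw [mem_conj, inv_inv]
    exact hx

theorem P_le_N_ZV (i : Fin 2) : P i ≤ normalizer (ZV V v i : Set G) :=
  (le_inf (D.PN i i) (D.PC i (i + 1) (ne_add_one i))).trans (le_N_ZV D i)

/-- `N_G(V i) = C_G(V i) P i` -/
theorem N_V_eq {i : Fin 2} {g : G} (hg : g ∈ normalizer (V i : Set G)) :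
    ∃ p ∈ P i, p⁻¹ * g ∈ centralizer (V i : Set G) := by
  have h1 : g * v i * g⁻¹ ∈ V i := (mem_normalizer_iff.1 hg _).1 (D.mem i)
  have h2 : g * v i * g⁻¹ ≠ 1 := fun h => D.ne i (conj_eq_one_iff.1 h)
  obtain ⟨p, hp, -, hpv⟩ := D.tr (ne_add_one i) h1 h2
  obtain ⟨y, hy, hy1, hyv⟩ := D.exists_ne_v i
  have hc : p⁻¹ * g * v i = v i * (p⁻¹ * g) := by
    calc p⁻¹ * g * v i = p⁻¹ * (g * v i * g⁻¹) * g := by group
      _ = p⁻¹ * (p * v i * p⁻¹) * g := by rw [hpv]
      _ = v i * (p⁻¹ * g) := by group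
  have key : ∀ q : G, q * v i = v i * q → q * y * q⁻¹ = y → q ∈ centralizer (V i : Set G) := by
    intro q h3 h4
    have h4' : q * y = y * q := by
      calc q * y = q * y * q⁻¹ * q := by group
        _ = y * q := by rw [h4]
    rw [mem_centralizer_iff]
    intro x hx
    by_cases hx1 : x = 1
    · rw [hx1, one_mul, mul_one]
    rcases D.eq_of_V (D.mem i) (D.ne i) hy hy1 (Ne.symm hyv) hx hx1 with h | h | h
    · rw [h, h3]
    · rw [h, h4']
    · rw [h]
      calc v i * y * q = v i * (q * y) := by rw [h4']; group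
        _ = q * (v i * y) := by rw [← mul_assoc, ← h3]; group
  have hqN : p⁻¹ * g ∈ normalizer (V i : Set G) := mul_mem (inv_mem (D.PN i i hp)) hg
  have h3 : (p⁻¹ * g) * y * (p⁻¹ * g)⁻¹ ∈ V i := (mem_normalizer_iff.1 hqN _).1 hy
  have h4 : (p⁻¹ * g) * y * (p⁻¹ * g)⁻¹ ≠ 1 := fun h => hy1 (conj_eq_one_iff.1 h)
  rcases D.eq_of_V hy hy1 (D.mem i) (D.ne i) hyv h3 h4 with h | h | h
  · exact ⟨p, hp, key _ hc h⟩
  · exfalso
    apply hyv
    have h5 : (p⁻¹ * g) * y * (p⁻¹ * g)⁻¹ = (p⁻¹ * g) * v i * (p⁻¹ * g)⁻¹ := by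
      rw [h, hc, mul_inv_cancel_right]
    exact mul_left_cancel (mul_right_cancel h5)
  · obtain ⟨t, ht, hty⟩ := D.exists_swap hy hy1 hyv
    refine ⟨p * t, mul_mem hp (D.T_le_P i ht), ?_⟩
    have e : (p * t)⁻¹ * g = t⁻¹ * (p⁻¹ * g) := by group
    rw [e]
    have ht2 : t⁻¹ * v i * t = v i := by
      have := D.cen i (T.inv_mem ht)
      rwa [inv_inv] at this
    have ht3 : t⁻¹ * (y * v i) * t = y := by
      rw [← hty]; group
    refine key _ ?_ ?_
    · calc t⁻¹ * (p⁻¹ * g) * v i = t⁻¹ * ((p⁻¹ * g) * v i) := by group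
        _ = (t⁻¹ * v i * t) * (t⁻¹ * (p⁻¹ * g)) := by rw [hc]; group
        _ = v i * (t⁻¹ * (p⁻¹ * g)) := by rw [ht2]
    · calc t⁻¹ * (p⁻¹ * g) * y * (t⁻¹ * (p⁻¹ * g))⁻¹ = t⁻¹ * ((p⁻¹ * g) * y * (p⁻¹ * g)⁻¹) * t := by group
        _ = y := by rw [h, ht3]

/-- `N_G(V i)` normalises `Z_i` -/
theorem N_V_le (i : Fin 2) : normalizer (V i : Set G) ≤ normalizer (ZV V v i : Set G) := by
  intro g hg
  obtain ⟨p, hp, hk⟩ := N_V_eq D hg
  have e : g = p * (p⁻¹ * g) := by group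
  rw [e]
  exact mul_mem (P_le_N_ZV D i hp) (le_normalizer_NH v i _ hk)

theorem AZ_le (i : Fin 2) : AZ V v i ≤ NU V v (i + 1) := inf_le_left

/-- `N_G(V i) ∩ C_{i+1}` normalises `A₀` -/
theorem AZ_inv (i : Fin 2) : normalizer (V i : Set G) ⊓ CC v (i + 1) ≤ normalizer (AZ V v i : Set G) :=
  norm_inf (inf_le_right.trans (D.C_le_N_N (i + 1))) (norm_cent (inf_le_left.trans (N_V_le D i)))

theorem P_le_N_AZ (i : Fin 2) : P i ≤ normalizer (AZ V v i : Set G) :=
  (le_inf (D.PN i i) (D.PC i (i + 1) (ne_add_one i))).trans (AZ_inv D i)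

/-- `⟨v (i+1) ^ (C_G(V i) T)⟩ = Z_i` -/
theorem NH_eq (i : Fin 2) : NH v i (centralizer (V i : Set G) ⊔ T) = ZV V v i := by
  apply le_antisymm
  · refine NH_le (v_mem_ZV D i) (sup_le (le_normalizer_NH v i _) ?_)
    exact (le_inf (D.T_le_N i) (D.T_le_C (i + 1))).trans (le_N_ZV D i)
  · exact NH_le (mem_NH v i _) (le_sup_left.trans (le_normalizer_NH v i _))

/-- **LEMMA Z** (helper830 #20100 (2)) -/
theorem lemZ (hML : ML.Final.MLK.{u, u}) (hK : ∀ i, IsKGroup (CC v i)) (i : Fin 2) :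
    OM.PG.Int.Ex (AZ V v i) (NU V v i) ∧
      NU V v i ⊓ centralizer (AZ V v i : Set G) = ZV V v i ⊔ (NU V v i ⊓ centralizer (NU V v (i + 1) : Set G)) ∧
      (AZ V v i).relIndex (NU V v (i + 1)) = (centralizer (NU V v (i + 1) : Set G)).relIndex (ZV V v i) := by
  set N := NU V v i with hN
  set B := NU V v (i + 1) with hB
  set Z := ZV V v i with hZ
  set Y := N ⊓ centralizer (B : Set G) with hY
  set A := AZ V v i with hA
  have hZN : Z ≤ N := ZV_le D i
  have hBO : B ≤ o2 (centralizer (zc T : Set G)) :=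
    (D.N_le_Q (i + 1)).trans (D.Q_le_o2D (i + 1))
  have hBT : B ≤ T := D.N_le_T (i + 1)
  have hAB : A ≤ B := inf_le_left
  have hB2 := D.N_sq (i + 1)
  have hHC : centralizer (V i : Set G) ⊔ T ≤ CC v i := sup_le (cent_V_le D i) (D.T_le_C i)
  -- (NO) for `Z`
  have h1 : (centralizer (Z : Set G)).relIndex B ≤ (centralizer (B : Set G)).relIndex Z := by
    have h := D.no_H hML (A := B) (hK i) (le_sup_right : T ≤ centralizer (V i : Set G) ⊔ T) hHC hBO
      (hBT.trans le_sup_right) hB2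
    rwa [NH_eq D i] at h
  -- (NO) for `A` on `N`
  have h2 : (centralizer (N : Set G)).relIndex A ≤ (centralizer (A : Set G)).relIndex N :=
    D.no_N hML (hK i) (hAB.trans hBO) fun a ha => hB2 a (hAB ha)
  have h3 : (centralizer (N : Set G)).relIndex B = (centralizer (B : Set G)).relIndex N := D.ex hML hK i (i + 1)
  -- cards
  have c1 : Nat.card B = Nat.card A * (centralizer (Z : Set G)).relIndex B := card_eq B _
  have c2 : Nat.card B = Nat.card (B ⊓ centralizer (N : Set G) : Subgroup G) * (centralizer (N : Set G)).relIndex B :=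
    card_eq B _
  have hAN : A ⊓ centralizer (N : Set G) = B ⊓ centralizer (N : Set G) := by
    apply le_antisymm
    · exact inf_le_inf_right _ hAB
    · exact le_inf (le_inf inf_le_left (inf_le_right.trans (centralizer_le hZN))) inf_le_right
  have c3 : Nat.card A = Nat.card (B ⊓ centralizer (N : Set G) : Subgroup G) * (centralizer (N : Set G)).relIndex A := by
    rw [← hAN]; exact card_eq A _
  have c4 : Nat.card N = Nat.card Y * (centralizer (B : Set G)).relIndex N := card_eq N _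
  have c5 : Nat.card N = Nat.card (N ⊓ centralizer (A : Set G) : Subgroup G) * (centralizer (A : Set G)).relIndex N :=
    card_eq N _
  have hNc : N ≤ centralizer (N : Set G) := D.N_comm i
  have hYZ : Y ≤ centralizer (Z : Set G) := (inf_le_left.trans hNc).trans (centralizer_le hZN)
  have c6 : Nat.card (Z ⊔ Y : Subgroup G) = (centralizer (B : Set G)).relIndex Z * Nat.card Y := by
    have h4 := PLocal.ElemAbSup.card_sup_mul_card_inf hYZ
    have h5 : Z ⊓ Y = Z ⊓ centralizer (B : Set G) := by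
      rw [hY, ← inf_assoc, inf_eq_left.2 hZN]
    rw [h5] at h4
    have h6 : Nat.card Z = Nat.card (Z ⊓ centralizer (B : Set G) : Subgroup G) * (centralizer (B : Set G)).relIndex Z :=
      card_eq Z _
    have hpos : 0 < Nat.card (Z ⊓ centralizer (B : Set G) : Subgroup G) := Nat.card_pos
    have h7 : Nat.card (Z ⊔ Y : Subgroup G) * Nat.card (Z ⊓ centralizer (B : Set G) : Subgroup G) =
        ((centralizer (B : Set G)).relIndex Z * Nat.card Y) * Nat.card (Z ⊓ centralizer (B : Set G) : Subgroup G) := by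
      rw [h4, h6]; ring
    exact Nat.eq_of_mul_eq_mul_right hpos h7
  have hle : Z ⊔ Y ≤ N ⊓ centralizer (A : Set G) := by
    refine sup_le (le_inf hZN (comm_symm inf_le_right)) (le_inf inf_le_left ?_)
    exact inf_le_right.trans (centralizer_le hAB)
  set a := (centralizer (Z : Set G)).relIndex B
  set b := (centralizer (B : Set G)).relIndex Z
  set r := (centralizer (N : Set G)).relIndex B
  set s := (centralizer (N : Set G)).relIndex A
  set t := (centralizer (A : Set G)).relIndex N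
  set y' := Nat.card (B ⊓ centralizer (N : Set G) : Subgroup G)
  set y := Nat.card Y
  set c := Nat.card (N ⊓ centralizer (A : Set G) : Subgroup G)
  have hy' : 0 < y' := Nat.card_pos
  have hy : 0 < y := Nat.card_pos
  have hc : 0 < c := Nat.card_pos
  have hs : 0 < s := Nat.pos_of_ne_zero (OM.PG.Int.rix_ne _ _)
  have hra : r = a * s := by
    have h4 : y' * r = y' * (a * s) := by
      calc y' * r = Nat.card B := c2.symm
        _ = y' * (a * s) := by rw [c1, c3]; ring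
    exact Nat.eq_of_mul_eq_mul_left hy' h4
  have hyb : b * y ≤ c := by
    rw [← c6]; exact Subgroup.card_le_of_le hle
  have hyr : y * r = c * t := by rw [← c5, c4, h3]
  -- `y a s = c t`, `a ≤ b`, `b y ≤ c`, `s ≤ t`
  have e1 : y * (a * s) = c * t := by rw [← hra]; exact hyr
  have l1 : y * (a * s) ≤ (b * y) * s := by
    calc y * (a * s) = a * (y * s) := by ring
      _ ≤ b * (y * s) := Nat.mul_le_mul_right _ h1
      _ = (b * y) * s := by ring
  have l2 : (b * y) * s ≤ c * s := Nat.mul_le_mul_right _ hyb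
  have l3 : c * s ≤ c * t := Nat.mul_le_mul_left _ h2
  have e2 : c * s = c * t := le_antisymm l3 (by rw [← e1]; exact l1.trans l2)
  have hst : s = t := Nat.eq_of_mul_eq_mul_left hc e2
  have e3 : (b * y) * s = c * s := le_antisymm l2 (by rw [e2, ← e1]; exact l1)
  have hbc : b * y = c := Nat.eq_of_mul_eq_mul_right hs e3
  have e4 : y * (a * s) = (b * y) * s := by rw [e1, e3, e2]
  have hab : a = b := by
    have h4 : (y * s) * a = (y * s) * b := by
      calc (y * s) * a = y * (a * s) := by ring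
        _ = (y * s) * b := by rw [e4]; ring
    exact Nat.eq_of_mul_eq_mul_left (Nat.mul_pos hy hs) h4
  refine ⟨hst, ?_, ?_⟩
  · refine (Subgroup.eq_of_le_of_card_ge hle ?_).symm
    rw [c6]
    exact hbc.ge
  · have h4 : A.relIndex B = a := by
      change (B ⊓ centralizer (Z : Set G)).relIndex B = _
      rw [inf_relIndex_left]
    rw [h4, hab]

/-- `[N_{i+1}, N_i] = [N_{i+1}, Z_i]` cannot happen: **`A₀` does not centralise `N_i`** (`d = 1`) -/
theorem AZ_not (hML : ML.Final.MLK.{u, u}) (hK : ∀ i, IsKGroup (CC v i)) {i : Fin 2}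
    (hd : ¬ NU V v (i + 1) ≤ centralizer (NU V v i : Set G)) : ¬ AZ V v i ≤ centralizer (NU V v i : Set G) := by
  intro hA
  obtain ⟨h1, h2, -⟩ := lemZ D hML hK i
  set N := NU V v i with hN
  set B := NU V v (i + 1) with hB
  set Z := ZV V v i with hZ
  set Y := N ⊓ centralizer (B : Set G) with hY
  have hNA : N ≤ centralizer (AZ V v i : Set G) := comm_symm hA
  have hNZY : N = Z ⊔ Y := by rw [← h2, inf_eq_left.2 hNA]
  -- `R = [B, N]`
  set R : Subgroup G := ⁅B, N⁆ with hR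
  have hBn : B ≤ normalizer (N : Set G) := (D.N_le_C (i + 1) i).trans (D.C_le_N_N i)
  have hNn : N ≤ normalizer (B : Set G) := (D.N_le_C i (i + 1)).trans (D.C_le_N_N (i + 1))
  have hRB : R ≤ B := by
    rw [hR, commutator_le]
    intro b hb n hn
    have e : ⁅b, n⁆ = b * (n * b⁻¹ * n⁻¹) := by simp only [commutatorElement_def]; group
    rw [e]
    exact mul_mem hb ((mem_normalizer_iff.1 (hNn hn) _).1 (inv_mem hb))
  have hRN : R ≤ N := by
    rw [hR, commutator_le]
    intro b hb n hn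
    rw [commutatorElement_def]
    exact mul_mem ((mem_normalizer_iff.1 (hBn hb) n).1 hn) (inv_mem hn)
  -- invariance
  have hinv : ∀ {A : Subgroup G}, A ≤ normalizer (B : Set G) → A ≤ normalizer (N : Set G) →
      A ≤ normalizer (R : Set G) := by
    intro A hAB hAN
    apply le_norm_of
    intro a ha x hx
    have h3 : a * x * a⁻¹ ∈ R.map (MulAut.conj a).toMonoidHom := ⟨x, hx, rfl⟩
    rw [hR, map_commutator] at h3
    have e1 : B.map (MulAut.conj a).toMonoidHom = B := conj_eq_of_mem (hAB ha)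
    have e2 : N.map (MulAut.conj a).toMonoidHom = N := conj_eq_of_mem (hAN ha)
    rw [e1, e2] at h3
    exact h3
  -- `R = [B, Z]`
  have hRZ : R = ⁅B, Z⁆ := by
    apply le_antisymm
    · rw [hR, commutator_le]
      intro b hb n hn
      rw [hNZY] at hn
      have hYc : Y ≤ centralizer (Z : Set G) := (inf_le_left.trans (D.N_comm i)).trans (centralizer_le (ZV_le D i))
      have h3 : (n : G) ∈ ((Z ⊔ Y : Subgroup G) : Set G) := hn
      rw [PLocal.ElemAbSup.coe_sup_of_le_centralizer hYc] at h3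
      obtain ⟨z, hz, y, hy, hzy⟩ := h3
      have hzy : n = z * y := hzy.symm
      have h4 := mem_centralizer_iff.1 hy.2 b hb
      have e : ⁅b, n⁆ = ⁅b, z⁆ := by
        rw [hzy]
        simp only [commutatorElement_def]
        calc b * (z * y) * b⁻¹ * (z * y)⁻¹ = b * z * (y * b⁻¹) * y⁻¹ * z⁻¹ := by group
          _ = b * z * (b⁻¹ * y) * y⁻¹ * z⁻¹ := by
            have h5 : y * b⁻¹ = b⁻¹ * y := by
              calc y * b⁻¹ = b⁻¹ * (b * y) * b⁻¹ := by group
                _ = b⁻¹ * (y * b) * b⁻¹ := by rw [h4]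
                _ = b⁻¹ * y := by group
            rw [h5]
          _ = b * z * b⁻¹ * z⁻¹ := by group
      rw [e]
      exact commutator_mem_commutator hb hz
    · exact commutator_mono le_rfl (ZV_le D i)
  have hPR : P i ≤ normalizer (R : Set G) := by
    apply le_norm_of
    intro a ha x hx
    rw [hRZ] at hx ⊢
    have h3 : a * x * a⁻¹ ∈ (⁅B, Z⁆ : Subgroup G).map (MulAut.conj a).toMonoidHom := ⟨x, hx, rfl⟩
    rw [map_commutator] at h3
    have e1 : B.map (MulAut.conj a).toMonoidHom = B :=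
      conj_eq_of_mem (D.C_le_N_N (i + 1) (D.PC i (i + 1) (ne_add_one i) ha))
    have e2 : Z.map (MulAut.conj a).toMonoidHom = Z := conj_eq_of_mem (P_le_N_ZV D i ha)
    rw [e1, e2] at h3
    exact h3
  have hDR : centralizer (zc T : Set G) ≤ normalizer (R : Set G) :=
    hinv ((D.cent_zc_le (i + 1)).trans (D.C_le_N_N (i + 1))) ((D.cent_zc_le i).trans (D.C_le_N_N i))
  have hCR : CC v (i + 1) ≤ normalizer (R : Set G) := (D.gen (ne_add_one i)).trans (sup_le hPR hDR)
  -- `R` is proper in `B`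
  have hii : i + 1 + 1 = i := add_one_add_one i
  have hvR : v (i + 1 + 1) ∉ R := by
    intro hv
    have h3 : NH v (i + 1) (CC v (i + 1)) ≤ R := NH_le hv hCR
    rw [D.NH_CC (i + 1)] at h3
    -- `B = [B, N]`, `B N` nilpotent
    have hBR : B ≤ ⁅B, N⁆ := h3
    have hT2 := D.T_isPGroup
    have hfact : Fact (Nat.Prime 2) := ⟨Nat.prime_two⟩
    have hbot : B = ⊥ := by
      have h4 : ∀ n, B ≤ T.lowerCentralSeries n := by
        intro n
        induction n with
        | zero => exact D.N_le_T (i + 1)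
        | succ n ih => exact hBR.trans (commutator_mono ih (D.N_le_T i))
      have := hT2.isNilpotent
      obtain ⟨n, hn⟩ := (T.isNilpotent_iff_lowerCentralSeries).mp inferInstance
      exact le_bot_iff.mp (hn ▸ h4 n)
    have h4 : v (i + 1 + 1) ∈ B := D.mem_N (i + 1)
    rw [hbot, mem_bot] at h4
    exact D.ne _ h4
  have hRc : R ≤ centralizer (NU V v (i + 1 + 1) : Set G) := D.sub_comm hML hK hCR hRB hvR
  rw [hii] at hRc
  -- `R_{i+1} = ⟨N_i ^ C_{i+1}⟩` centralises `N_{i+1}`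
  set X : Subgroup G := RR V v i (i + 1) with hX
  have hXC : X ≤ CC v (i + 1) := D.RR_le i (i + 1)
  have hXn : CC v (i + 1) ≤ normalizer (X : Set G) := D.C_le_N_RR i (i + 1)
  have hXR : X ≤ centralizer (R : Set G) := by
    refine V_le fun c hc => ?_
    have h3 := NoFF.Basic.conj_le_centralizer (g := c) (comm_symm hRc)
    rwa [conj_eq_of_mem (hCR hc)] at h3
  have hXB : ∀ x ∈ X, ∀ n ∈ B, x * n * x⁻¹ * n⁻¹ ∈ R := by
    let K : Subgroup G :=
      { carrier := {x | x ∈ CC v (i + 1) ∧ ∀ n ∈ B, x * n * x⁻¹ * n⁻¹ ∈ R}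
        one_mem' := ⟨one_mem _, fun n _ => by
          have e : (1 : G) * n * 1⁻¹ * n⁻¹ = 1 := by group
          rw [e]; exact one_mem _⟩
        mul_mem' := by
          rintro x y ⟨hx, hx'⟩ ⟨hy, hy'⟩
          refine ⟨mul_mem hx hy, fun n hn => ?_⟩
          have h3 := (mem_normalizer_iff.1 (hCR hx) _).1 (hy' n hn)
          have e : x * y * n * (x * y)⁻¹ * n⁻¹ = (x * (y * n * y⁻¹ * n⁻¹) * x⁻¹) * (x * n * x⁻¹ * n⁻¹) := by group
          rw [e]; exact mul_mem h3 (hx' n hn)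
        inv_mem' := by
          rintro x ⟨hx, hx'⟩
          refine ⟨inv_mem hx, fun n hn => ?_⟩
          have h3 : x⁻¹ * n * x ∈ B := by
            have := (mem_normalizer_iff.1 (D.C_le_N_N (i + 1) (inv_mem hx)) n).1 hn
            rwa [inv_inv] at this
          have h4 := inv_mem (hx' _ h3)
          have e : x⁻¹ * n * x⁻¹⁻¹ * n⁻¹ = (x * (x⁻¹ * n * x) * x⁻¹ * (x⁻¹ * n * x)⁻¹)⁻¹ := by group
          rw [e]; exact h4 }
    have hKn : CC v (i + 1) ≤ normalizer (K : Set G) := by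
      apply le_norm_of
      rintro c hc x ⟨hx, hx'⟩
      refine ⟨(CC v (i + 1)).mul_mem ((CC v (i + 1)).mul_mem hc hx) ((CC v (i + 1)).inv_mem hc), fun n hn => ?_⟩
      have h3 : c⁻¹ * n * c ∈ B := by
        have := (mem_normalizer_iff.1 (D.C_le_N_N (i + 1) (inv_mem hc)) n).1 hn
        rwa [inv_inv] at this
      have h4 := (mem_normalizer_iff.1 (hCR hc) _).1 (hx' _ h3)
      have e : c * x * c⁻¹ * n * (c * x * c⁻¹)⁻¹ * n⁻¹ = c * (x * (c⁻¹ * n * c) * x⁻¹ * (c⁻¹ * n * c)⁻¹) * c⁻¹ := by group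
      rw [e]; exact h4
    have hNK : N ≤ K := by
      intro n hn
      refine ⟨D.N_le_C i (i + 1) hn, fun b hb => ?_⟩
      have h3 : ⁅b, n⁆ ∈ R := commutator_mem_commutator hb hn
      have e : n * b * n⁻¹ * b⁻¹ = ⁅b, n⁆⁻¹ := by simp only [commutatorElement_def]; group
      rw [e]; exact inv_mem h3
    have hXK : X ≤ K := V_le fun c hc => by
      rw [← conj_eq_of_mem (hKn hc)]
      exact conj_le_iff.2 hNK
    exact fun x hx => (hXK hx).2
  have h5 := quad_cent D hXC hXn hRB hXB fun x hx r hr => (mem_centralizer_iff.1 (hXR hx) r hr).symm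
  exact hd (comm_symm ((D.N_le_RR i (i + 1)).trans h5))

/-! ### The group `F₀` -/

/-- `F₀ = ⟨A₀ ^ C_G(V i)⟩` -/
def FZ (V : Fin 2 → Subgroup G) (v : Fin 2 → G) (i : Fin 2) : Subgroup G :=
  NoFF.Basic.V (AZ V v i) (centralizer (V i : Set G))

theorem K_le_N_ZV (i : Fin 2) : centralizer (V i : Set G) ≤ normalizer (ZV V v i : Set G) := le_normalizer_NH v i _

theorem AZ_le_FZ (i : Fin 2) : AZ V v i ≤ FZ V v i := le_V _ _

theorem FZ_le_cent (i : Fin 2) : FZ V v i ≤ centralizer (ZV V v i : Set G) :=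
  V_le fun k hk => by
    have h1 : AZ V v i ≤ centralizer (ZV V v i : Set G) := inf_le_right
    have h2 := NoFF.Basic.conj_le_centralizer (g := k) h1
    rwa [conj_eq_of_mem (K_le_N_ZV D i hk)] at h2

/-- `N_G(V i)` normalises `F₀` -/
theorem N_V_le_FZ (i : Fin 2) : normalizer (V i : Set G) ≤ normalizer (FZ V v i : Set G) := by
  have hP : P i ≤ normalizer (FZ V v i : Set G) := by
    have key : ∀ g ∈ P i, MulAut.conj g • FZ V v i ≤ FZ V v i := by
      intro g hg
      rw [Subgroup.pointwise_smul_subset_iff]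
      refine V_le fun k hk => ?_
      rw [← Subgroup.pointwise_smul_subset_iff, conj_conj]
      have hgk : g * k * g⁻¹ ∈ centralizer (V i : Set G) := (mem_normalizer_iff.1 (norm_cent (D.PN i i) hg) k).1 hk
      have e : g * k = (g * k * g⁻¹) * g := by group
      rw [e, ← conj_conj, conj_eq_of_mem (P_le_N_AZ D i hg)]
      exact Z_le_V hgk
    apply le_norm_of
    intro g hg x hx
    apply key g hg
    rw [mem_conj]
    have e : g⁻¹ * (g * x * g⁻¹) * g = x := by group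
    rwa [e]
  intro g hg
  obtain ⟨p, hp, hk⟩ := N_V_eq D hg
  have e : g = p * (p⁻¹ * g) := by group
  rw [e]
  exact mul_mem (hP hp) (le_normalizer_V _ _ hk)

theorem FZ_le_N_V (i : Fin 2) : FZ V v i ≤ normalizer (V i : Set G) :=
  V_le fun k hk => by
    have h1 : AZ V v i ≤ normalizer (V i : Set G) := ((AZ_le D i).trans (D.N_le_T (i + 1))).trans (D.T_le_N i)
    have h2 := conj_le_normalizer (g := k) h1
    rwa [conj_eq_of_mem (centralizer_le_normalizer _ hk)] at h2

/-- `F₀` is a 2-group -/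
theorem FZ_isPGroup (i : Fin 2) : IsPGroup 2 (FZ V v i) := by
  -- `A₀^k = C_{N_a}(Z_i)`, `a = v (i+1)^k ∈ Z_i`
  have hconj : ∀ k ∈ centralizer (V i : Set G), MulAut.conj k • AZ V v i ≤
      (MulAut.conj k • NU V v (i + 1)) ⊓ centralizer (ZV V v i : Set G) := by
    intro k hk
    refine le_inf (conj_le_iff.2 (AZ_le D i)) ?_
    have h1 : AZ V v i ≤ centralizer (ZV V v i : Set G) := inf_le_right
    have h2 := NoFF.Basic.conj_le_centralizer (g := k) h1
    rwa [conj_eq_of_mem (K_le_N_ZV D i hk)] at h2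
  have hconj' : ∀ k ∈ centralizer (V i : Set G), (MulAut.conj k • NU V v (i + 1)) ⊓ centralizer (ZV V v i : Set G) ≤
      MulAut.conj k • AZ V v i := by
    rintro k hk x ⟨hx, hx'⟩
    have hx2 : x ∈ MulAut.conj k • NU V v (i + 1) := hx
    rw [mem_conj] at hx2 ⊢
    refine ⟨hx2, mem_centralizer_iff.2 fun z hz => ?_⟩
    have h1 : k * z * k⁻¹ ∈ ZV V v i := (mem_normalizer_iff.1 (le_normalizer_NH v i _ hk) z).1 hz
    have h2 := mem_centralizer_iff.1 hx' _ h1
    calc z * (k⁻¹ * x * k) = k⁻¹ * ((k * z * k⁻¹) * x) * k := by group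
      _ = k⁻¹ * (x * (k * z * k⁻¹)) * k := by rw [h2]
      _ = k⁻¹ * x * k * z := by group
  have hn : ∀ k ∈ centralizer (V i : Set G), FZ V v i ≤ normalizer ((MulAut.conj k • AZ V v i : Subgroup G) : Set G) := by
    intro k hk
    have heq : MulAut.conj k • AZ V v i = (MulAut.conj k • NU V v (i + 1)) ⊓ centralizer (ZV V v i : Set G) :=
      le_antisymm (hconj k hk) (hconj' k hk)
    rw [heq]
    have hF : FZ V v i ≤ centralizer (ZV V v i : Set G) := FZ_le_cent D i
    refine norm_inf ?_ (norm_cent (hF.trans (centralizer_le_normalizer _)))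
    -- `F₀` centralises `v (i+1)^k`
    have h1 : FZ V v i ≤ MulAut.conj k • CC v (i + 1) := by
      intro x hx
      rw [mem_conj, mem_centralizer_singleton_iff]
      have h2 : k * v (i + 1) * k⁻¹ ∈ ZV V v i :=
        (mem_normalizer_iff.1 (le_normalizer_NH v i _ hk) _).1 (v_mem_ZV D i)
      have h3 := mem_centralizer_iff.1 (hF hx) _ h2
      calc k⁻¹ * x * k * v (i + 1) = k⁻¹ * (x * (k * v (i + 1) * k⁻¹)) * k := by group
        _ = k⁻¹ * ((k * v (i + 1) * k⁻¹) * x) * k := by rw [h3]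
        _ = v (i + 1) * (k⁻¹ * x * k) := by group
    have h2 : MulAut.conj k • CC v (i + 1) ≤ normalizer ((MulAut.conj k • NU V v (i + 1) : Subgroup G) : Set G) := by
      exact conj_le_normalizer (D.C_le_N_N (i + 1))
    exact h1.trans h2
  have h1 : FZ V v i ≤ o2 (FZ V v i) := by
    refine V_le fun k hk => ?_
    exact ZN.le_o2 (Z_le_V hk)
      ((D.T_isPGroup.to_le ((AZ_le D i).trans (D.N_le_T (i + 1)))).map (MulAut.conj k).toMonoidHom) (hn k hk)
  exact (isPGroup_o2 (FZ V v i)).to_le h1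

theorem FZ_le_o2 (i : Fin 2) : FZ V v i ≤ o2 (normalizer (V i : Set G)) :=
  ZN.le_o2 (FZ_le_N_V D i) (FZ_isPGroup D i) (N_V_le_FZ D i)

theorem FZ_not_le (hML : ML.Final.MLK.{u, u}) (hK : ∀ i, IsKGroup (CC v i)) {i : Fin 2}
    (hd : ¬ NU V v (i + 1) ≤ centralizer (NU V v i : Set G)) : ¬ FZ V v i ≤ QQ v i := fun h =>
  AZ_not D hML hK hd (((AZ_le_FZ D i).trans h).trans (D.Q_le_cent_N i))

/-! ### (3) -/

theorem syl_conj_T {i : Fin 2} {c : G} (hc : c ∈ CC v i) : Syl (MulAut.conj c • T) (CC v i) := by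
  have h1 : MulAut.conj c • T ≤ CC v i := by
    have := conj_le_iff (g := c) |>.2 (D.T_le_C i)
    rwa [D.conj_CC hc] at this
  refine ⟨h1, D.T_isPGroup.map _, fun Q hQ hQ2 hTQ => ?_⟩
  have h2 : MulAut.conj c⁻¹ • Q ≤ CC v i := by
    have := conj_le_iff (g := c⁻¹) |>.2 hQ
    rwa [D.conj_CC (inv_mem hc)] at this
  have h3 : T ≤ MulAut.conj c⁻¹ • Q := by
    have := conj_le_iff (g := c⁻¹) |>.2 hTQ
    rwa [conj_conj, inv_mul_cancel, map_one, one_smul] at this
  have h4 : MulAut.conj c⁻¹ • Q = T := (D.syl i).2.2 _ h2 (hQ2.map _) h3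
  rw [← h4, conj_conj, mul_inv_cancel, map_one, one_smul]

/-- **(3)**: a point `v (i+1)^c` fixed by `T` modulo a proper submodule is `v (i+1)` -/
theorem fix_pt {i : Fin 2} {Y : Subgroup G} (hY : CC v i ≤ normalizer (Y : Set G)) (hv : v (i + 1) ∉ Y) {c : G}
    (hc : c ∈ CC v i) (h : ∀ t ∈ T, t * (c * v (i + 1) * c⁻¹) * t⁻¹ * (c * v (i + 1) * c⁻¹)⁻¹ ∈ Y) :
    c ∈ centralizer (zc T : Set G) := by
  have h1 : MulAut.conj c⁻¹ • T ≤ centralizer (zc T : Set G) := by
    intro x hx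
    rw [mem_conj, inv_inv] at hx
    refine D.stab_le (D.T_le_C i) le_rfl hY hv x ?_ ?_
    · have e : x = c⁻¹ * (c * x * c⁻¹) * c := by group
      rw [e]
      exact mul_mem (mul_mem (inv_mem hc) (D.T_le_C i hx)) hc
    · have h2 := (mem_normalizer_iff.1 (hY (inv_mem hc)) _).1 (h _ hx)
      have e : c⁻¹ * (c * x * c⁻¹ * (c * v (i + 1) * c⁻¹) * (c * x * c⁻¹)⁻¹ * (c * v (i + 1) * c⁻¹)⁻¹) * c⁻¹⁻¹ =
          x * v (i + 1) * x⁻¹ * (v (i + 1))⁻¹ := by group
      rwa [e] at h2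
  have h2 : Syl (MulAut.conj c⁻¹ • T) (centralizer (zc T : Set G)) :=
    ⟨h1, D.T_isPGroup.map _, fun Q hQ hQ2 hTQ =>
      (syl_conj_T D (inv_mem hc)).2.2 Q (hQ.trans (D.cent_zc_le i)) hQ2 hTQ⟩
  obtain ⟨d, hd, hdT⟩ := syl_conj h2 D.syl_D
  have h3 : MulAut.conj (d * c⁻¹) • T = T := by
    rw [← conj_conj]; exact hdT
  have h4 : d * c⁻¹ ∈ normalizer (T : Set G) := ChoiceBase.mem_normalizer_iff_cj.2 h3
  have h5 := D.norm_T_le i ⟨(CC v i).mul_mem (D.cent_zc_le i hd) ((CC v i).inv_mem hc), h4⟩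
  have e : c = (d * c⁻¹)⁻¹ * d := by group
  rw [e]
  exact mul_mem (inv_mem h5) hd

/-- **`N_i / ⟨v i⟩` is irreducible** (`J(T) ≰ O₂(P i)`, `d = 1`) -/
theorem sub_le_v (hML : ML.Final.MLK.{u, u}) (hK : ∀ i, IsKGroup (CC v i)) {i : Fin 2}
    (hJ : ¬ jj T ≤ o2 (P i)) (hd : ¬ NU V v (i + 1) ≤ centralizer (NU V v i : Set G)) {Y : Subgroup G}
    (hY : CC v i ≤ normalizer (Y : Set G)) (hYW : Y ≤ NU V v i) (hv : v (i + 1) ∉ Y) : Y ≤ zpowers (v i) := by
  have hij := ne_add_one i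
  refine Phi.sub_le D hij hJ hYW ((D.PC (i + 1) i hij.symm).trans hY) hv fun hV => ?_
  -- `N_{i+1}` centralises `Y`
  have h1 : Y ≤ centralizer (NU V v (i + 1) : Set G) := D.sub_comm hML hK hY hYW hv
  have h2 : RR V v (i + 1) i ≤ centralizer (Y : Set G) := by
    refine V_le fun c hc => ?_
    have h3 := NoFF.Basic.conj_le_centralizer (g := c) (comm_symm h1)
    rwa [conj_eq_of_mem (hY hc)] at h3
  exact D.lemR hij.symm hd (h2.trans (centralizer_le hV))

end Cfsg.Agent.Omega.TC.LemZ
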