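import Cfsg.Agent.Omega.TC.EndMT
import Cfsg.Agent.Omega.TC.OneEnd

/-!
# CARD #18791, variant (MT), `k = 2 = q`: `V i ≤ N_i`

* `Fr.endOne` : the ending (`OneEnd.false_of`);
* `Fr.V_le_N_mt` : (ML), all proper subgroups `K`-groups, swap, `¬ J(T) ≤ O₂(P i)` imply `V i ≤ N_i` (the only case left: card [A]).
-/

set_option autoImplicit false
set_option linter.unusedSectionVars false

namespace Cfsg.Agent.Omega.TC

open Subgroup Cfsg Cfsg.Agent.ZN
open Cfsg.Agent.Omega.OM.KTwo (CC QQ WU NU EU FF)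
open Cfsg.Agent.Omega.OM
open scoped Pointwise commutatorElement

universe u

variable {G : Type u} [Group G]

namespace Fr

variable [Finite G] {T : Subgroup G} {V P : Fin 2 → Subgroup G} {v : Fin 2 → G} (D : Fr T V P v)

include D

/-- the ending of case (E), `d = 1` -/
theorem endOne : EndOne T V v := by
  intro hfix hcomm
  by_contra hne
  refine OneEnd.false_of D (fun x hx e he => ?_) hne hfix
  have h1 : ⁅x, e⁆ ∈ ⁅NU V v 1, NU V v 0⁆ := commutator_mem_commutator hx he
  rw [commutator_comm] at h1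
  exact hcomm h1

/-- **Variant (MT): only `V i ≤ N_i` is left.** -/
theorem V_le_N_mt (hML : ML.Final.MLK.{u, u}) (hK : IsKProper G) (hs : Swap T V v)
    (hJ : ∀ i, ¬ jj T ≤ o2 (P i)) (i : Fin 2) : V i ≤ NU V v i :=
  D.V_le_N_of hML hK hs hJ D.endOne i

end Fr

end Cfsg.Agent.Omega.TC
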