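import Cfsg.Agent.Omega.TC.PP
import Cfsg.Agent.Omega.TC.Int
import Cfsg.Agent.Omega.TC.Av

/-!
# CARD #18791: `(NO)` over `TC.Fr` from `ML.Final.MLK`

No swap.
* `Fr.stab` : `g ∈ C_i`, `[v j, g] ∈ ⟨v i⟩` implies `g ∈ D` (`v_0 v_1` is not conjugate to `v j` in `C_i`);
* `Fr.faithful` : the elements of `C_i` which centralise `N_i ⟨v i⟩ / ⟨v i⟩` centralise `N_i`;
* `Fr.noD : NoD T V v`, `Fr.noQ : NoQ T V v` (helper15's `Int.lean`);
* `Sw.of_swap` : `Swap T V v` gives `Sw V v s`.
-/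

set_option autoImplicit false
set_option linter.unusedSectionVars false

namespace Cfsg.Agent.Omega.TC

open Subgroup Cfsg Cfsg.Agent.ZN Cfsg.Agent.Omega.MinPar
open Cfsg.Agent.Omega.OM.KTwo (CC QQ WU NU EU FF ne_add_one eq_add_one add_one_add_one le_normalizer_V le_V)
open Cfsg.Agent.Omega.NoFF.Basic (conj_conj mem_conj conj_le_iff conj_le_centralizer comm_symm comm_mono
  Z_le_V V_le conj_V_mul)
open Cfsg.Agent.ZN.ChoiceSit (Syl exists_syl syl_conj o2_le_syl syl_not_dvd)
open Cfsg.Agent.ZN.ChoiceBase (mem_normalizer_iff_cj cj_mono cj_eq_of_mem_normalizer cj_centralizer)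
open Cfsg.Agent.Omega.NO3S.EThree.ExactA (NoP eab_iff)
open Cfsg.Agent.Omega.OM
open scoped Pointwise commutatorElement

universe u

variable {G : Type u} [Group G]

theorem Sw.of_swap {T : Subgroup G} {V : Fin 2 → Subgroup G} {v : Fin 2 → G} (h : Swap T V v) :
    ∃ s, Sw V v s := by
  obtain ⟨s, -, hs⟩ := h
  exact ⟨s, (hs 0).2, (hs 1).2, (hs 0).1, (hs 1).1⟩

namespace Fr

variable [Finite G] {T : Subgroup G} {V P : Fin 2 → Subgroup G} {v : Fin 2 → G} (D : Fr T V P v)

include D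

theorem mem_zp' (i : Fin 2) {x : G} : x ∈ zpowers (v i) ↔ x = 1 ∨ x = v i := D.mem_ZZ

/-- `v i v j` is not conjugate to `v j` in `C_i`. -/
theorem stab {i j : Fin 2} (hij : i ≠ j) {g : G} (hg : g ∈ CC v i) (h : g * v j * g⁻¹ * (v j)⁻¹ ∈ zpowers (v i)) :
    g ∈ centralizer (zc T : Set G) := by
  by_contra hgD
  have hcomm : v i * v j = v j * v i := (D.comm_v i (D.v_mem_T j)).symm
  -- the stabiliser of `{v j, v i v j}`
  have hv : ∀ c : G, c ∈ CC v i → (c * v j * c⁻¹ * (v j)⁻¹ ∈ zpowers (v i) ↔ c * v j * c⁻¹ = v j ∨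
      c * v j * c⁻¹ = v i * v j) := by
    intro c _
    rw [D.mem_zp', mul_inv_eq_one]
    exact or_congr Iff.rfl mul_inv_eq_iff_eq_mul
  have hfix : ∀ c ∈ CC v i, c * v i * c⁻¹ = v i := fun c hc => by
    rw [mem_centralizer_singleton_iff.1 hc]; group
  let K : Subgroup G :=
    { carrier := {c | c ∈ CC v i ∧ (c * v j * c⁻¹ = v j ∨ c * v j * c⁻¹ = v i * v j)}
      one_mem' := ⟨one_mem _, Or.inl (by group)⟩
      mul_mem' := by
        rintro a b ⟨ha, ha'⟩ ⟨hb, hb'⟩
        refine ⟨mul_mem ha hb, ?_⟩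
        have e : a * b * v j * (a * b)⁻¹ = a * (b * v j * b⁻¹) * a⁻¹ := by group
        rw [e]
        rcases hb' with h1 | h1
        · rw [h1]; exact ha'
        · have e2 : a * (v i * v j) * a⁻¹ = (a * v i * a⁻¹) * (a * v j * a⁻¹) := by group
          rw [h1, e2, hfix a ha]
          rcases ha' with h2 | h2
          · rw [h2]; exact Or.inr rfl
          · rw [h2, ← mul_assoc, D.v_sq, one_mul]; exact Or.inl rfl
      inv_mem' := by
        rintro a ⟨ha, ha'⟩
        refine ⟨inv_mem ha, ?_⟩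
        rcases ha' with h1 | h1
        · left
          calc a⁻¹ * v j * a⁻¹⁻¹ = a⁻¹ * (a * v j * a⁻¹) * a := by rw [h1]; group
            _ = v j := by group
        · right
          have h2 : a * (v i * v j) * a⁻¹ = v j := by
            have e2 : a * (v i * v j) * a⁻¹ = (a * v i * a⁻¹) * (a * v j * a⁻¹) := by group
            rw [e2, hfix a ha, h1, ← mul_assoc, D.v_sq, one_mul]
          calc a⁻¹ * v j * a⁻¹⁻¹ = a⁻¹ * (a * (v i * v j) * a⁻¹) * a := by rw [h2]; group
            _ = v i * v j := by group }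
  set D' : Subgroup G := centralizer (zc T : Set G) with hD'
  have hDK : D' ≤ K := by
    intro d hd
    have h1 := D.cent_zc_le i hd
    have h2 := mem_centralizer_singleton_iff.1 (D.cent_zc_le j hd)
    exact ⟨h1, Or.inl (by rw [h2]; group)⟩
  have hmem : ∀ c ∈ K, c * v j * c⁻¹ = v j → c ∈ D' := by
    intro c hc h1
    refine (D.mem_D_iff hij).2 ⟨hc.1, ?_⟩
    rw [mem_centralizer_singleton_iff]
    calc c * v j = c * v j * c⁻¹ * c := by group
      _ = v j * c := by rw [h1]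
  have hne : v i * v j ≠ v j := fun e => D.ne i (mul_eq_right.1 e)
  have hDj : ∀ c ∈ D', c * v j * c⁻¹ = v j := fun c hc => by
    rw [mem_centralizer_singleton_iff.1 (D.cent_zc_le j hc)]; group
  have hgK : g ∈ K := ⟨hg, (hv g hg).1 h⟩
  have hgv : g * v j * g⁻¹ = v i * v j := hgK.2.resolve_left fun e => hgD (hmem g hgK e)
  have hidx : D'.relIndex K = 2 := by
    rw [relIndex_eq_two_iff]
    refine ⟨g, hgK, fun b hb => ?_⟩
    have e : b * g * v j * (b * g)⁻¹ = (b * v i * b⁻¹) * (b * v j * b⁻¹) := by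
      calc b * g * v j * (b * g)⁻¹ = b * (g * v j * g⁻¹) * b⁻¹ := by group
        _ = b * (v i * v j) * b⁻¹ := by rw [hgv]
        _ = _ := by group
    rw [hfix b hb.1] at e
    by_cases hbD : b ∈ D'
    · right
      refine ⟨hbD, fun h1 => hne ?_⟩
      rw [hDj b hbD] at e
      rw [← e]
      exact hDj _ h1
    · left
      refine ⟨?_, hbD⟩
      have hbv : b * v j * b⁻¹ = v i * v j := hb.2.resolve_left fun e => hbD (hmem b hb e)
      rw [hbv, ← mul_assoc, D.v_sq, one_mul] at e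
      exact hmem _ (mul_mem hb hgK) e
  have h1 : T.relIndex D' * D'.relIndex K = T.relIndex K := relIndex_mul_relIndex _ _ _ D.T_le_D hDK
  have h2 : T.relIndex K * K.relIndex (CC v i) = T.relIndex (CC v i) :=
    relIndex_mul_relIndex _ _ _ (D.T_le_D.trans hDK) fun x hx => hx.1
  refine syl_not_dvd (D.syl i) ?_
  change 2 ∣ T.relIndex (CC v i)
  rw [← h2, ← h1, hidx]
  exact Dvd.intro_left _ rfl |>.mul_right _

/-- the elements of `C_i` centralising `N_i ⟨v i⟩ / ⟨v i⟩` centralise `N_i` -/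
theorem faithful (i : Fin 2) {c : G} (hc : c ∈ CC v i)
    (h : ∀ x ∈ NU V v i, c * x * c⁻¹ * x⁻¹ ∈ zpowers (v i)) : c ∈ centralizer (NU V v i : Set G) := by
  have hzp : ∀ c ∈ CC v i, ∀ z ∈ zpowers (v i), c * z * c⁻¹ = z := by
    intro c hc z hz
    rcases (D.mem_zp' i).1 hz with rfl | rfl
    · group
    · rw [mem_centralizer_singleton_iff.1 hc]; group
  let K : Subgroup G :=
    { carrier := {k | k ∈ CC v i ∧ ∀ w ∈ NU V v i, k * w * k⁻¹ * w⁻¹ ∈ zpowers (v i)}
      one_mem' := ⟨one_mem _, fun w _ => by simp⟩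
      mul_mem' := by
        rintro a b ⟨ha, ha'⟩ ⟨hb, hb'⟩
        refine ⟨mul_mem ha hb, fun w hw => ?_⟩
        have e : a * b * w * (a * b)⁻¹ * w⁻¹ = (a * (b * w * b⁻¹ * w⁻¹) * a⁻¹) * (a * w * a⁻¹ * w⁻¹) := by group
        rw [e, hzp a ha _ (hb' w hw)]
        exact mul_mem (hb' w hw) (ha' w hw)
      inv_mem' := by
        rintro a ⟨ha, ha'⟩
        refine ⟨inv_mem ha, fun w hw => ?_⟩
        have e : a⁻¹ * w * a⁻¹⁻¹ * w⁻¹ = a⁻¹ * (a * w * a⁻¹ * w⁻¹)⁻¹ * a⁻¹⁻¹ := by group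
        rw [e, hzp _ (inv_mem ha) _ (inv_mem (ha' w hw))]
        exact inv_mem (ha' w hw) }
  have hKn : CC v i ≤ normalizer (K : Set G) := by
    have key : ∀ c ∈ CC v i, ∀ x ∈ K, c * x * c⁻¹ ∈ K := by
      intro c hc x hx
      refine ⟨mul_mem (mul_mem hc hx.1) (inv_mem hc), fun w hw => ?_⟩
      have h1 : c⁻¹ * w * c ∈ NU V v i := by
        have := (mem_normalizer_iff.1 (D.C_le_N_N i (inv_mem hc)) w).1 hw
        rwa [inv_inv] at this
      have e : c * x * c⁻¹ * w * (c * x * c⁻¹)⁻¹ * w⁻¹ =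
          c * (x * (c⁻¹ * w * c) * x⁻¹ * (c⁻¹ * w * c)⁻¹) * c⁻¹ := by group
      rw [e, hzp c hc _ (hx.2 _ h1)]
      exact hx.2 _ h1
    intro c hc
    rw [mem_normalizer_iff]
    refine fun x => ⟨key c hc x, fun hx => ?_⟩
    have h1 := key c⁻¹ (inv_mem hc) _ hx
    have e : c⁻¹ * (c * x * c⁻¹) * c⁻¹⁻¹ = x := by group
    rwa [e] at h1
  have hKle : K ≤ CC v (i + 1) := fun k hk =>
    D.cent_zc_le (i + 1) (D.stab (ne_add_one i) hk.1 (hk.2 _ (D.mem_N i)))
  exact D.cent_N_of_le hKle hKn ⟨hc, h⟩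

theorem O_le_C (i : Fin 2) : o2 (centralizer (zc T : Set G)) ≤ CC v i :=
  (MinSimple.VModule.o2_le _).trans (D.cent_zc_le i)

/-- **`(NO)` for `O₂(D)` on `N_i`.** -/
theorem noD (hML : ML.Final.MLK.{u, u}) (hK : IsKProper G) : NoD T V v := by
  intro i B hB hBQ
  obtain ⟨j, hij, ej⟩ : ∃ j, i ≠ j ∧ i + 1 = j := ⟨i + 1, ne_add_one i, rfl⟩
  have hbot : normalizer ((⊥ : Subgroup G) : Set G) = ⊤ := normalizer_eq_top _
  have key := hML.grp (hK _ (D.CC_ne_top i))
    (C := CC v i) (W := NU V v i) (Y := ⊥) (T := T) (Q := o2 (centralizer (zc T : Set G))) (A := B) (w := v j)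
    { nW := D.C_le_N_N i
      nY := by rw [hbot]; exact le_top
      YW := bot_le
      WY := by rw [hbot]; exact le_top
      sq := fun x hx => by rw [← pow_two, D.N_sq i x hx]; exact one_mem _
      mem := ej ▸ D.mem_N i
      gen := by
        intro Y hzY _ hCY
        refine V_le fun p hp => ?_
        have h1 : V (i + 1) ≤ Y := by
          rw [ej]
          intro x hx
          by_cases hx1 : x = 1
          · rw [hx1]; exact one_mem _
          obtain ⟨l, hl, -, -, e⟩ := D.exists_tr hij.symm hx hx1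
          rw [← e]
          exact (mem_normalizer_iff.1 (hCY hl) _).1 hzY
        have h4 := cj_mono p h1
        rwa [cj_eq_of_mem_normalizer (hCY hp)] at h4
      TC := D.T_le_C i
      two := D.T_isPGroup
      odd := syl_not_dvd (D.syl i)
      fixT := fun t ht => by
        rw [D.cen j ht, mul_inv_cancel]
        exact one_mem _
      QC := D.O_le_C i
      Q2 := MinSimple.VModule.o2_isPGroup _
      fixQ := fun q hq => by
        have h1 := mem_centralizer_singleton_iff.1 (D.O_le_C j hq)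
        rw [h1]
        simp
      nrmQ := fun g hg h q hq => by
        have h1 : g * v j * g⁻¹ = v j := mul_inv_eq_one.1 (mem_bot.1 h)
        have h2 : g ∈ centralizer (zc T : Set G) := D.stab hij hg (by rw [h1, mul_inv_cancel]; exact one_mem _)
        exact (mem_normalizer_iff.1 (MinSimple.VModule.le_normalizer_o2 _ h2) q).1 hq
      AQ := hBQ
      Asq := fun a ha x hx => by
        have h1 : a ^ 2 = 1 := hB.2 a ha
        have e : a * (a * x * a⁻¹) * a⁻¹ * x⁻¹ = (a ^ 2) * x * (a ^ 2)⁻¹ * x⁻¹ := by simp [pow_two, mul_assoc]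
        rw [e, h1]
        simp }
    (KA := B ⊓ centralizer (NU V v i : Set G)) (CW := NU V v i ⊓ centralizer (B : Set G))
    (fun a => by
      rw [mem_inf, mem_centralizer_iff]
      refine and_congr_right fun _ => forall₂_congr fun x _ => ?_
      rw [mem_bot, mul_inv_eq_one, mul_inv_eq_iff_eq_mul]
      exact eq_comm)
    (fun x => by
      rw [mem_inf, mem_centralizer_iff]
      refine and_congr_right fun _ => forall₂_congr fun a _ => ?_
      rw [mem_bot, mul_inv_eq_one, mul_inv_eq_iff_eq_mul])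
  rwa [inf_relIndex_left, inf_relIndex_left] at key

/-- **`(NO)` for `O₂(D)` on `N_i ⟨v i⟩ / ⟨v i⟩`.** -/
theorem noQ (hML : ML.Final.MLK.{u, u}) (hK : IsKProper G) : NoQ T V v := by
  intro i B hB hBQ M hMN hMB
  obtain ⟨j, hij, ej⟩ : ∃ j, i ≠ j ∧ i + 1 = j := ⟨i + 1, ne_add_one i, rfl⟩
  set Y : Subgroup G := zpowers (v i) with hY
  set W : Subgroup G := NU V v i ⊔ Y with hW
  have hYC : Y ≤ CC v i := zpowers_le.2 (mem_centralizer_singleton_iff.2 rfl)
  have hWC : W ≤ CC v i := sup_le (D.N_le_C i i) hYC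
  have hnY : CC v i ≤ normalizer (Y : Set G) := by
    intro c hc
    rw [mem_normalizer_iff]
    have h1 : ∀ c ∈ CC v i, ∀ z ∈ Y, c * z * c⁻¹ = z := by
      intro c hc z hz
      rcases (D.mem_zp' i).1 hz with rfl | rfl
      · group
      · rw [mem_centralizer_singleton_iff.1 hc]; group
    refine fun x => ⟨fun hx => by rw [h1 c hc x hx]; exact hx, fun hx => ?_⟩
    have h2 := h1 c⁻¹ (inv_mem hc) _ hx
    have e : c⁻¹ * (c * x * c⁻¹) * c⁻¹⁻¹ = x := by group
    rw [e] at h2
    rw [h2]; exact hx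
  have hWab : W ≤ centralizer (W : Set G) := by
    rw [hW, ← D.E_eq]; exact D.E_comm i
  have hWsq : ∀ x ∈ W, x ^ 2 = 1 := by
    rw [hW, ← D.E_eq]; exact D.E_sq i
  have hBC : B ≤ CC v i := hBQ.trans (D.O_le_C i)
  have hzc : ∀ c ∈ CC v i, ∀ z ∈ Y, c * z * c⁻¹ * z⁻¹ = 1 := by
    intro c hc z hz
    rcases (D.mem_zp' i).1 hz with rfl | rfl
    · simp
    · rw [mem_centralizer_singleton_iff.1 hc]; simp
  let CW : Subgroup G :=
    { carrier := {x | x ∈ W ∧ ∀ a ∈ B, a * x * a⁻¹ * x⁻¹ ∈ Y}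
      one_mem' := ⟨one_mem _, fun a _ => by simp⟩
      mul_mem' := by
        rintro x y ⟨hx, hx'⟩ ⟨hy, hy'⟩
        refine ⟨mul_mem hx hy, fun a ha => ?_⟩
        have h1 : x * (a * y * a⁻¹ * y⁻¹) * x⁻¹ ∈ Y := (mem_normalizer_iff.1 (hnY (hWC hx)) _).1 (hy' a ha)
        have e : a * (x * y) * a⁻¹ * (x * y)⁻¹ = (a * x * a⁻¹ * x⁻¹) * (x * (a * y * a⁻¹ * y⁻¹) * x⁻¹) := by group
        rw [e]
        exact mul_mem (hx' a ha) h1
      inv_mem' := by
        rintro x ⟨hx, hx'⟩
        refine ⟨inv_mem hx, fun a ha => ?_⟩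
        have h1 : x⁻¹ * (a * x * a⁻¹ * x⁻¹)⁻¹ * x⁻¹⁻¹ ∈ Y :=
          (mem_normalizer_iff.1 (hnY (hWC (inv_mem hx))) _).1 (inv_mem (hx' a ha))
        have e : a * x⁻¹ * a⁻¹ * x⁻¹⁻¹ = x⁻¹ * (a * x * a⁻¹ * x⁻¹)⁻¹ * x⁻¹⁻¹ := by group
        rw [e]
        exact h1 }
  have key := hML.grp (hK _ (D.CC_ne_top i))
    (C := CC v i) (W := W) (Y := Y) (T := T) (Q := o2 (centralizer (zc T : Set G))) (A := B) (w := v j)
    { nW := D.C_le_N_NZ i
      nY := hnY
      YW := le_sup_right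
      WY := hWC.trans hnY
      sq := fun x hx => by rw [← pow_two, hWsq x hx]; exact one_mem _
      mem := mem_sup_left (ej ▸ D.mem_N i)
      gen := by
        intro U hzU hYU hCU
        refine sup_le (V_le fun p hp => ?_) hYU
        have h1 : V (i + 1) ≤ U := by
          rw [ej]
          intro x hx
          by_cases hx1 : x = 1
          · rw [hx1]; exact one_mem _
          obtain ⟨l, hl, -, -, e⟩ := D.exists_tr hij.symm hx hx1
          rw [← e]
          exact (mem_normalizer_iff.1 (hCU hl) _).1 hzU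
        have h4 := cj_mono p h1
        rwa [cj_eq_of_mem_normalizer (hCU hp)] at h4
      TC := D.T_le_C i
      two := D.T_isPGroup
      odd := syl_not_dvd (D.syl i)
      fixT := fun t ht => by
        rw [D.cen j ht, mul_inv_cancel]
        exact one_mem _
      QC := D.O_le_C i
      Q2 := MinSimple.VModule.o2_isPGroup _
      fixQ := fun q hq => by
        have h1 := mem_centralizer_singleton_iff.1 (D.O_le_C j hq)
        rw [h1]
        simp
      nrmQ := fun g hg h q hq =>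
        (mem_normalizer_iff.1 (MinSimple.VModule.le_normalizer_o2 _ (D.stab hij hg h)) q).1 hq
      AQ := hBQ
      Asq := fun a ha x hx => by
        have h1 : a ^ 2 = 1 := hB.2 a ha
        have e : a * (a * x * a⁻¹) * a⁻¹ * x⁻¹ = (a ^ 2) * x * (a ^ 2)⁻¹ * x⁻¹ := by simp [pow_two, mul_assoc]
        rw [e, h1]
        simp }
    (KA := B ⊓ centralizer (NU V v i : Set G)) (CW := CW)
    (fun a => by
      rw [mem_inf]
      refine and_congr_right fun ha => ⟨fun h1 x hx => ?_, fun h1 => ?_⟩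
      · -- `a` centralises `N_i`, hence `W`
        have h2 : W ≤ centralizer ({a} : Set G) := by
          refine sup_le (fun n hn => ?_) (zpowers_le.2 ?_)
          · rw [mem_centralizer_singleton_iff]; exact mem_centralizer_iff.1 h1 n hn
          · rw [mem_centralizer_singleton_iff]; exact (mem_centralizer_singleton_iff.1 (hBC ha)).symm
        have h3 := mem_centralizer_singleton_iff.1 (h2 hx)
        rw [← h3]
        simp
      · exact D.faithful i (hBC ha) fun x hx => h1 x (mem_sup_left hx))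
    (fun x => Iff.rfl)
  rw [inf_relIndex_left] at key
  have hCWW : CW ≤ W := fun x hx => hx.1
  have hYCW : Y ≤ CW := fun z hz => ⟨mem_sup_right hz, fun a ha => by rw [hzc a (hBC ha) z hz]; exact one_mem _⟩
  have hMCW : M ≤ CW := fun x hx => ⟨mem_sup_left (hMN hx), fun a ha => by
    have h1 := inv_mem (hMB x hx a ha)
    have e : (x * a * x⁻¹ * a⁻¹)⁻¹ = a * x * a⁻¹ * x⁻¹ := by group
    rwa [e] at h1⟩
  have hsup : W = NU V v i ⊔ CW := le_antisymm (sup_le le_sup_left (hYCW.trans le_sup_right))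
    (sup_le le_sup_left hCWW)
  have h1 : CW.relIndex (NU V v i) = CW.relIndex W := by
    rw [hsup, sup_comm]
    refine Av.relIndex_sup_av ?_
    refine (hCWW.trans hWab).trans ((centralizer_le ?_).trans (centralizer_le_normalizer _))
    exact (le_sup_left : NU V v i ≤ W)
  refine key.trans ?_
  rw [← h1]
  exact relIndex_le_of_le_left hMCW index_ne_zero_of_finite

end Fr

end Cfsg.Agent.Omega.TC
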