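import Cfsg.Agent.Omega.TC.ThmC
import Cfsg.Agent.Omega.TC.Centre
import Cfsg.Agent.Omega.TC.SecZero

/-!
# CARD #18791 (E): `Fr.no_trans` with its inputs LEMMA TC (`Fr.tcp`) and section 0 (`Fr.sec0`) plugged in

`D : Fr T V P v`.

* `Fr.sec0p : Sec0 T V v`;
* `Fr.thmD'`, `Fr.thmC''`, `Fr.no_trans'` : no crossing of `(g)N_i`, `N_j` at a critical distance is a transvection;
  the only input left is `hz` : `v 0 * v 1` is not conjugate to a `v j`.
-/

set_option autoImplicit false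
set_option linter.unusedSectionVars false

namespace Cfsg.Agent.Omega.TC

open Subgroup Cfsg Cfsg.Agent.ZN
open Cfsg.Agent.Omega.OM.KTwo (CC QQ WU NU EU FF)
open Cfsg.Agent.Omega.NO3L.LemP (Near Same Adj Comm vx vx_eq vx_same vx_mono vx_mk conj_comm_iff)
open scoped Pointwise

universe u

variable {G : Type u} [Group G]

namespace Fr

variable [Finite G] {T : Subgroup G} {V P : Fin 2 → Subgroup G} {v : Fin 2 → G} (D : Fr T V P v)

include D

/-- section 0 of #19487, in the form of `ThmD` -/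
theorem sec0p : Sec0 T V v := fun i _ hr _ hx hxN hxr => D.sec0 i hr hx hxN hxr

/-- THEOREM C: `d = 1`, one-type crossing at distance `2` -/
theorem no_trans_one (hz : ∀ (j : Fin 2) (g : G), g * (v 0 * v 1) * g⁻¹ ≠ v j)
    (hd : ∀ i, NU V v i ≤ QQ v (i + 1)) {j : Fin 2} {g : G} (hg : g ∈ CC v (j + 1))
    (hne : ¬ MulAut.conj g • NU V v j ≤ centralizer (NU V v j : Set G)) {r : G} (hr2 : r * r = 1)
    (hr : ∀ x ∈ MulAut.conj g • NU V v j, ∀ y ∈ NU V v j, x * y * x⁻¹ * y⁻¹ ∈ zpowers r) : False :=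
  D.thmC' D.tcp D.sec0p hz hd hg hne hr2 hr

/-- **[C] + [D]** (COROLLARY 2 of #20268, `d ≥ 2`): no critical pair at distance `n + 1 ≥ 2` has
`|[N_a, N_b]| = 2`. -/
theorem no_trans' (hz : ∀ (j : Fin 2) (g : G), g * (v 0 * v 1) * g⁻¹ ≠ v j)
    {n : ℕ} (hn : 1 ≤ n) (hC : Comm (CC v) (EU T v) (n + 1)) {i j : Fin 2} {g : G}
    (hN1 : Near (CC v) n (i, g) (j + 1, 1)) (hN2 : Near (CC v) n (i + 1, g) (j, 1))
    (hne : ¬ MulAut.conj g • NU V v i ≤ centralizer (NU V v j : Set G)) {r : G} (hr2 : r * r = 1)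
    (hr : ∀ x ∈ MulAut.conj g • NU V v i, ∀ y ∈ NU V v j, x * y * x⁻¹ * y⁻¹ ∈ zpowers r) : False :=
  D.no_trans D.tcp D.sec0p hz hn hC hN1 hN2 hne hr2 hr

end Fr

end Cfsg.Agent.Omega.TC
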