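import Cfsg.Agent.Omega.TC.Fr
import Cfsg.Agent.Omega.NO3S.EThree.FrameG

/-!
# CARD #18791 "(E) = TWO CENTRES", `q = 2`, `k = 2`: the frame `TC.Fr` from the frame `Bg` (every level)

* `OfBg.exists_sit` : `Bg S P B ZJ L W Z C 2` over `Fin 2` gives `KTwo.Sit S P T W v`, `Z i = {1, v i}`, `T = N_S(Z i)`;
* `OfBg.exists_fr` : with `uni` (the field of `TC.Fr`) and `NonLoc (C(v 0)) (C(v 1))`, literally `TC.Fr T W R v`.
-/

set_option autoImplicit false
set_option linter.unusedSectionVars false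

namespace Cfsg.Agent.Omega.TC.OfBg

open Subgroup Cfsg Cfsg.Agent.ZN.ChoiceBase
open Cfsg.Agent.ZN (jj zj bau zc zl o2)
open Cfsg.Agent.ZN.ChoiceSit (Syl exists_syl syl_conj)
open Cfsg.Agent.Omega.OM Cfsg.Agent.Omega.OM.Uni
open Cfsg.Agent.Omega.NO3S (HypJ HypN Hyp)
open Cfsg.Agent.Omega.NO3S.EThree.Frame
open Cfsg.Agent.Omega.MinPar (NonLoc)
open Cfsg.Agent.MinSimple.MinParabolic (IsMinPar)
open scoped Pointwise

universe u

variable {G : Type u} [Group G]

/-! ### Groups of order 2 -/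

theorem normalizer_eq {Z : Subgroup G} {v : G} (hZ : ∀ x, x ∈ Z ↔ x = 1 ∨ x = v) (hv : v ≠ 1) :
    normalizer (Z : Set G) = centralizer ({v} : Set G) := by
  apply le_antisymm
  · intro g hg
    have h1 : g * v * g⁻¹ ∈ Z := (mem_normalizer_iff.1 hg v).1 ((hZ v).2 (Or.inr rfl))
    rcases (hZ _).1 h1 with h2 | h2
    · exact absurd (conj_eq_one_iff.1 h2) hv
    · rw [mem_centralizer_singleton_iff]
      exact mul_inv_eq_iff_eq_mul.1 h2
  · intro g hg
    refine centralizer_le_normalizer _ (mem_centralizer_iff.2 fun x hx => ?_)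
    rcases (hZ x).1 hx with rfl | rfl
    · simp
    · exact (mem_centralizer_singleton_iff.1 hg).symm

theorem exists_gen [Finite G] {Z : Subgroup G} (h : Nat.card Z = 2) :
    ∃ v, v ≠ 1 ∧ ∀ x, x ∈ Z ↔ x = 1 ∨ x = v := by
  obtain ⟨v, hv, hv1⟩ : ∃ v ∈ Z, v ≠ 1 := by
    by_contra hcon
    push Not at hcon
    have : Z = ⊥ := (eq_bot_iff_forall _).2 hcon
    rw [this, card_bot] at h
    omega
  refine ⟨v, hv1, fun x => ⟨fun hx => ?_, ?_⟩⟩
  · by_contra hcon
    push Not at hcon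
    have h1 : 2 < Nat.card Z := by
      have h3 : ({1, v, x} : Set G) ⊆ (Z : Set G) := by
        rintro y (rfl | rfl | rfl)
        · exact one_mem Z
        · exact hv
        · exact hx
      have h4 : Set.ncard ({1, v, x} : Set G) = 3 := by
        rw [Set.ncard_eq_three]
        exact ⟨1, v, x, hv1.symm, hcon.1.symm, hcon.2.symm, rfl⟩
      have h5 := Set.ncard_le_ncard h3 (Set.toFinite _)
      have h6 : Set.ncard (Z : Set G) = Nat.card Z := rfl
      omega
    omega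
  · rintro (rfl | rfl)
    · exact one_mem Z
    · exact hv

section

variable [Finite G] {S : Sylow 2 G} {P B ZJ : Subgroup G} {L W Z C : Fin 2 → Subgroup G}
  (h : Bg S P B ZJ L W Z C 2)
include h

theorem C_le_W {i j : Fin 2} (hij : i ≠ j) : C i ≤ W j := by
  refine (h.C_le i).trans (iSup_le fun l => ?_)
  have : (l : Fin 2) = j := by
    have h1 := l.2
    have h2 : ∀ a b c : Fin 2, a ≠ b → c ≠ a → c = b := by decide
    exact h2 i j l hij h1
  rw [this]

theorem C_eq_W {i j : Fin 2} (hij : i ≠ j) : C i = W j := le_antisymm (C_le_W h hij) (h.fr.WjC i j hij)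

theorem W_inf_ZJ (i : Fin 2) {x : G} (hx : x ∈ W i) (hz : x ∈ ZJ) : x ∈ Z i :=
  (h.fr.blk i).toMd.mem_Z_iff.2 ⟨hx, fun b hb => ((h.fr.mem_ZJ x).1 hz).2 b hb⟩

/-- The elements of `ZJ`. -/
theorem mem_ZJ_iff {v : Fin 2 → G} (hv : ∀ i, ∀ x, x ∈ Z i ↔ x = 1 ∨ x = v i) {x : G} :
    x ∈ ZJ ↔ x = 1 ∨ x = v 0 ∨ x = v 1 ∨ x = v 0 * v 1 := by
  constructor
  · intro hx
    obtain ⟨w, hw, c, hc, hcz, rfl⟩ := h.fr.split_ZJ 0 hx
    have hc' : c ∈ Z 1 := W_inf_ZJ h 1 (C_le_W h (by decide) hc) hcz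
    rcases (hv 0 w).1 hw with rfl | rfl <;> rcases (hv 1 c).1 hc' with rfl | rfl <;> simp
  · have h0 : v 0 ∈ ZJ := h.fr.Z_le 0 ((hv 0 _).2 (Or.inr rfl))
    have h1 : v 1 ∈ ZJ := h.fr.Z_le 1 ((hv 1 _).2 (Or.inr rfl))
    rintro (rfl | rfl | rfl | rfl)
    · exact one_mem _
    · exact h0
    · exact h1
    · exact mul_mem h0 h1

theorem zc_le_ZJ {T : Subgroup G} (hTS : T ≤ (S : Subgroup G)) (hBT : B ≤ T) : zc T ≤ ZJ := by
  intro x hx
  obtain ⟨h1, h2, h3⟩ := mem_zc.1 hx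
  have hZB : ZJ ≤ B := h.fr.ZJV.trans h.fr.VB
  have hxB : x ∈ B := h.mem_B (hTS h1) fun z hz => (h3 z (hBT (hZB hz))).symm
  rw [← h.fr.zcB]
  exact mem_zc.2 ⟨hxB, h2, fun y hy => h3 y (hBT hy)⟩

theorem exists_sit_aux {v : Fin 2 → G} (hv1 : ∀ i, v i ≠ 1) (hv : ∀ i, ∀ x, x ∈ Z i ↔ x = 1 ∨ x = v i) :
    KTwo.Sit S P ((S : Subgroup G) ⊓ normalizer (Z 0 : Set G)) W v := by
  obtain ⟨j, s, p⟩ := h.exists_partner 0
  have hj : j = 1 := by
    have h1 := p.ne
    have h2 : ∀ a : Fin 2, 0 ≠ a → a = 1 := by decide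
    exact h2 j h1
  subst hj
  have hT1 := h.T_eq p
  set T : Subgroup G := (S : Subgroup G) ⊓ normalizer (Z 0 : Set G) with hT
  have hTi : ∀ i, T = (S : Subgroup G) ⊓ normalizer (Z i : Set G) := by
    intro i
    have h2 : ∀ a : Fin 2, a = 0 ∨ a = 1 := by decide
    rcases h2 i with rfl | rfl
    · rfl
    · exact hT1.symm
  have hN : ∀ i, normalizer (Z i : Set G) = centralizer ({v i} : Set G) := fun i => normalizer_eq (hv i) (hv1 i)
  have hvZ : ∀ i, v i ∈ Z i := fun i => (hv i _).2 (Or.inr rfl)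
  have hTS : T ≤ (S : Subgroup G) := inf_le_left
  have hBT : B ≤ T := h.bau_le_T 0
  have hZB : ZJ ≤ B := h.fr.ZJV.trans h.fr.VB
  have hTc : ∀ i, ∀ t ∈ T, t * v i * t⁻¹ = v i := by
    intro i t ht
    rw [hTi i, hN i] at ht
    have h1 := mem_centralizer_singleton_iff.1 ht.2
    rw [h1]; group
  have hss : ∀ i, s * v i * s⁻¹ ∈ Z (1 - i) := by
    intro i
    have h2 : ∀ a : Fin 2, a = 0 ∨ a = 1 := by decide
    rcases h2 i with rfl | rfl
    · have := h.cj_s_Z p
      have h3 : s * v 0 * s⁻¹ ∈ cj s (Z 0) := ⟨_, hvZ 0, rfl⟩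
      rwa [this] at h3
    · have := h.cj_s_Z' p
      have h3 : s * v 1 * s⁻¹ ∈ cj s (Z 1) := ⟨_, hvZ 1, rfl⟩
      rwa [this] at h3
  have hs0 : s * v 0 * s⁻¹ = v 1 := by
    have h3 := (hv 1 _).1 (hss 0)
    exact h3.resolve_left fun e => hv1 0 (conj_eq_one_iff.1 e)
  have hs1 : s * v 1 * s⁻¹ = v 0 := by
    have h3 := (hv 0 _).1 (hss 1)
    exact h3.resolve_left fun e => hv1 1 (conj_eq_one_iff.1 e)
  have hvc : v 0 * v 1 = v 1 * v 0 := h.fr.Vc (h.fr.ZV 0 (hvZ 0)) (h.fr.ZV 1 (hvZ 1))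
  have hv01 : v 0 ≠ v 1 := fun e => by
    have h3 : v 0 ∈ Z 0 ⊓ Z 1 := ⟨hvZ 0, e ▸ hvZ 1⟩
    rw [h.Z_disj (by decide), mem_bot] at h3
    exact hv1 0 h3
  have hzT : ∀ x, x ∈ zc T ↔ x = 1 ∨ x = v 0 ∨ x = v 1 ∨ x = v 0 * v 1 := by
    intro x
    rw [← mem_ZJ_iff h hv]
    refine ⟨fun hx => zc_le_ZJ h hTS hBT hx, fun hx => mem_zc.2 ⟨hBT (hZB hx), h.fr.Vsq (h.fr.ZJV hx), fun y hy => ?_⟩⟩
    rcases (mem_ZJ_iff h hv).1 hx with rfl | rfl | rfl | rfl
    · simp
    · exact (mul_inv_eq_iff_eq_mul.1 (hTc 0 y hy))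
    · exact (mul_inv_eq_iff_eq_mul.1 (hTc 1 y hy))
    · have h3 := mul_inv_eq_iff_eq_mul.1 (hTc 0 y hy)
      have h4 := mul_inv_eq_iff_eq_mul.1 (hTc 1 y hy)
      calc y * (v 0 * v 1) = y * v 0 * v 1 := by group
        _ = v 0 * (y * v 1) := by rw [h3]; group
        _ = v 0 * v 1 * y := by rw [h4]; group
  -- `S = T ∪ s T`
  have hST : ∀ x ∈ (S : Subgroup G), x ∉ T → s⁻¹ * x ∈ T := by
    intro x hx hxT
    refine mem_inf.2 ⟨(S : Subgroup G).mul_mem (inv_mem p.mem) hx, ?_⟩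
    obtain ⟨σ, hσ⟩ := h.perm_S hx
    have h3 : σ 0 = 1 := by
      have h2 : ∀ a : Fin 2, a ≠ 0 → a = 1 := by decide
      refine h2 _ fun e => hxT (mem_inf.2 ⟨hx, mem_normalizer_iff_cj.2 ?_⟩)
      rw [(hσ 0).2.1, e]
    rw [mem_normalizer_iff_cj, ← cj_cj, (hσ 0).2.1, h3, ← h.cj_s_Z p, cj_cj, inv_mul_cancel, cj_one]
  have hsT : s ∉ T := fun hs => by
    have h3 := mem_normalizer_iff_cj.1 hs.2
    rw [h.cj_s_Z p] at h3
    exact absurd (h.Z_inj h3) (by decide)
  refine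
    { hyp := h.hyp.toHyp
      T_eq := fun i => by rw [hTi i]; exact h.inf_normalizer i
      card_T := ?_
      le := h.fr.WV
      four := fun i => by rw [(h.fr.blk i).card, h.fr.cardZ i]
      inf := fun i j hij => h.W_disj hij
      sup := ?_
      mem := fun i => (h.fr.blk i).ZV (hvZ i)
      ne := hv1
      cen := hTc
      zT := hzT
      zS := ?_
      swap := ⟨s, p.mem, ?_, ?_⟩
      perm := fun q hq => ?_
      tr := ?_
      gen := ?_
      syl := fun i => ?_
      sylN := fun i => ?_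
      half := ?_ }
  · -- index 2
    have h3 : (T.subgroupOf (S : Subgroup G)).index = 2 := by
      rw [Subgroup.index_eq_two_iff]
      refine ⟨⟨s⁻¹, inv_mem p.mem⟩, fun x => ?_⟩
      have hx := x.2
      simp only [mem_subgroupOf, Subgroup.coe_mul]
      by_cases hxT : (x : G) ∈ T
      · refine Or.inr ⟨hxT, fun hc => hsT ?_⟩
        have h4 := mul_mem (inv_mem hc) hxT
        have e : ((x : G) * s⁻¹)⁻¹ * x = s := by group
        rwa [e] at h4
      · refine Or.inl ⟨?_, hxT⟩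
        have h4 := hST _ (inv_mem hx) fun hc => hxT (by simpa using inv_mem hc)
        have h5 : s⁻¹ * (x : G)⁻¹ = ((x : G) * s)⁻¹ := by group
        rw [h5] at h4
        have h6 : (x : G) * s ∈ T := by simpa using inv_mem h4
        have h7 : s * s ∈ T := by
          refine mem_inf.2 ⟨(S : Subgroup G).mul_mem p.mem p.mem, ?_⟩
          rw [mem_normalizer_iff_cj, ← cj_cj, h.cj_s_Z p, h.cj_s_Z' p]
        have h8 := mul_mem h6 (inv_mem h7)
        have e : (x : G) * s * (s * s)⁻¹ = x * s⁻¹ := by group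
        rwa [e] at h8
    have h4 := Subgroup.card_mul_index (T.subgroupOf (S : Subgroup G))
    rw [h3, Nat.card_congr (Subgroup.subgroupOfEquivOfLe hTS).toEquiv] at h4
    rw [← h4, mul_comm]
  · intro i j hij x hx
    obtain ⟨w, hw, c, hc, rfl⟩ := h.fr.WC i x hx
    exact mul_mem (mem_sup_left hw) (mem_sup_right (C_le_W h hij hc))
  · intro x
    constructor
    · intro hx
      have hx' := mem_zc.1 hx
      have h3 : x ∈ ZJ := zc_le_ZJ h le_rfl h.BS hx
      have h4 := hx'.2.2 s p.mem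
      rcases (mem_ZJ_iff h hv).1 h3 with rfl | rfl | rfl | rfl
      · exact Or.inl rfl
      · exfalso
        apply hv01
        rw [← hs0, h4]; group
      · exfalso
        apply hv01
        rw [← hs1, h4]; group
      · exact Or.inr rfl
    · have h01 : v 0 * v 1 ∈ zc (S : Subgroup G) := by
        have h3 : v 0 * v 1 ∈ ZJ := (mem_ZJ_iff h hv).2 (by simp)
        refine mem_zc.2 ⟨hTS (hBT (hZB h3)), h.fr.Vsq (h.fr.ZJV h3), fun y hy => ?_⟩
        have key : ∀ t ∈ T, t * (v 0 * v 1) = v 0 * v 1 * t := fun t ht =>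
          (mem_zc.1 ((hzT _).2 (Or.inr (Or.inr (Or.inr rfl))))).2.2 t ht
        by_cases hyT : y ∈ T
        · exact key y hyT
        · have h5 := key _ (hST y hy hyT)
          have h6 : s * (v 0 * v 1) = v 0 * v 1 * s := by
            calc s * (v 0 * v 1) = (s * v 0 * s⁻¹) * (s * v 1 * s⁻¹) * s := by group
              _ = v 1 * v 0 * s := by rw [hs0, hs1]
              _ = v 0 * v 1 * s := by rw [hvc]
          calc y * (v 0 * v 1) = s * (s⁻¹ * y * (v 0 * v 1)) := by group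
            _ = s * (v 0 * v 1) * (s⁻¹ * y) := by rw [h5]; group
            _ = v 0 * v 1 * y := by rw [h6]; group
      rintro (rfl | rfl)
      · exact one_mem _
      · exact h01
  · refine mem_inf.2 ⟨(S : Subgroup G).mul_mem p.mem p.mem, ?_⟩
    rw [mem_normalizer_iff_cj, ← cj_cj, h.cj_s_Z p, h.cj_s_Z' p]
  · intro i j hij
    have h2 : ∀ a b : Fin 2, a ≠ b → (a = 0 ∧ b = 1) ∨ (a = 1 ∧ b = 0) := by decide
    rcases h2 i j hij with ⟨rfl, rfl⟩ | ⟨rfl, rfl⟩
    · exact ⟨p.ij, hs0⟩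
    · exact ⟨p.ji, hs1⟩
  · obtain ⟨σ, hσ⟩ := h.perm q hq
    exact ⟨σ, fun i => (hσ i).1⟩
  · intro i j hij x hx hx1
    obtain ⟨l, hl, hlc, z, hz, e⟩ := h.tr i x hx hx1
    refine ⟨l, hl, centralizer_le (h.fr.WjC i j hij) hlc, h.fix hl hlc i, ?_⟩
    rcases (hv i z).1 hz with rfl | rfl
    · exact absurd (by rw [← e]; group) hx1
    · exact e
  · intro K hK hKi
    set X : Subgroup G := ⨆ i, P ⊓ centralizer (W i : Set G) with hX
    have hXP : X ≤ P := iSup_le fun i => inf_le_left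
    have hXn : P ≤ normalizer (X : Set G) := by
      intro q hq
      obtain ⟨σ, hσ⟩ := h.perm q hq
      apply Cfsg.Agent.ZN.ChoiceBase.mem_normalizer_of_cj_le
      change Subgroup.map _ _ ≤ _
      rw [hX, Subgroup.map_iSup]
      refine iSup_le fun i => le_trans ?_ (le_iSup _ (σ i))
      have h3 : cj q (P ⊓ centralizer (W i : Set G)) = P ⊓ centralizer (W (σ i) : Set G) := by
        rw [cj_inf, cj_centralizer, (hσ i).1, cj_eq_of_mem_normalizer (Subgroup.le_normalizer hq)]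
      exact h3.le
    rcases MinPar.IsPar.sup_eq_or_inf_le S h.hyp.star.toIsPar hXP hXn with h3 | h3
    · rw [← h3]
      exact sup_le (iSup_le fun i => hKi i) hK
    · exfalso
      obtain ⟨b, hb, w, hw, hne⟩ := (h.fr.blk 0).ne
      have hwZ : w ∉ Z 0 := fun hc => hne ((h.fr.blk 0).cZ b hb w hc)
      obtain ⟨b', hb', hbc, e⟩ := h.root 0 w hw hwZ (v 0) (hvZ 0)
      have h4 : b' ∈ X := by
        refine mem_iSup_of_mem (1 : Fin 2) (mem_inf.2 ⟨h.hyp.star.isLoc.le (h.BS hb'), ?_⟩)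
        exact centralizer_le (h.fr.WjC 0 1 (by decide)) hbc
      have h5 := h3 (mem_inf.2 ⟨h.BS hb', h4⟩)
      have h6 := h.fr.cQ h5 (h.fr.WV 0 hw)
      apply hv1 0
      rw [← e, h6]
      group
  · rw [hTi i, ← hN i]
    exact h.syl i
  · refine ⟨?_, S.isPGroup'.to_le hTS, fun R hR h2 hle => ?_⟩
    · rw [hTi i, h.inf_normalizer i]
      exact inf_le_right
    · have h4 : R ≤ normalizer (Z i : Set G) := fun x hx =>
        mem_normalizer_iff_cj.2 (h.cj_Z (h.le_norm_B h2 (hBT.trans hle) hx) (mem_normalizer_iff_cj.1 (hR hx)))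
      have h5 := h.syl i
      rw [← hTi i] at h5
      exact h5.2.2 R h4 h2 hle
  · intro i j hij
    have h3 := h.lemK (i := i) (j := j) hij.symm
    rw [hN i] at h3
    refine ⟨h3.trans inf_le_left, ?_⟩
    rw [le_centralizer_iff]
    exact h3.trans inf_le_right

/-- **The situation `KTwo.Sit` from `Bg`**, at every level. -/
theorem exists_sit : ∃ v : Fin 2 → G, (∀ i, v i ≠ 1) ∧ (∀ i, ∀ x, x ∈ Z i ↔ x = 1 ∨ x = v i) ∧
    KTwo.Sit S P ((S : Subgroup G) ⊓ normalizer (Z 0 : Set G)) W v := by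
  choose v hv1 hv using fun i => exists_gen (h.fr.cardZ i)
  exact ⟨v, hv1, hv, exists_sit_aux h hv1 hv⟩

end

/-- **`TC.Fr` from `KTwo.Sit`.** -/
theorem fr_of_sit [Finite G] {S : Sylow 2 G} {P T : Subgroup G} {U : Fin 2 → Subgroup G} {v : Fin 2 → G}
    (D : KTwo.Sit S P T U v)
    (uni : ∀ i j, i ≠ j → ∀ R : Subgroup G, IsMinPar T R → R ≤ centralizer ({v j} : Set G) →
      ¬ R ≤ centralizer ({v i} : Set G) → R ≤ normalizer (U i : Set G))
    (nonloc : NonLoc (centralizer ({v 0} : Set G)) (centralizer ({v 1} : Set G))) :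
    ∃ R : Fin 2 → Subgroup G, Fr T U R v := by
  have hother : ∀ i : Fin 2, ∃ j, i ≠ j := by decide
  have key : ∀ i : Fin 2, ∃ R : Subgroup G, IsMinPar T R ∧ (∀ j, R ≤ normalizer (U j : Set G)) ∧
      (∀ j, i ≠ j → R ≤ centralizer ({v j} : Set G)) ∧ ¬ R ≤ centralizer ({v i} : Set G) := by
    intro i
    obtain ⟨j, hij⟩ := hother i
    set X : Subgroup G := normalizer (U i : Set G) ⊓ normalizer (U j : Set G) ⊓ centralizer ({v j} : Set G) with hX
    have hTX : T ≤ X := le_inf (le_inf (D.T_le_N i) (D.T_le_N j)) (D.T_le_C j)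
    have huniq : ∀ a b c : Fin 2, a ≠ b → a ≠ c → b = c := by decide
    have hmem : ∀ x, x ∈ U i → x ∈ zc T → x = 1 ∨ x = v i := by
      intro x hx hz
      have h2 : ∀ a b : Fin 2, a ≠ b → (a = 0 ∧ b = 1) ∨ (a = 1 ∧ b = 0) := by decide
      have hj : v j ∉ U i := fun hc => D.ne j (by
        have h3 : v j ∈ U i ⊓ U j := ⟨hc, D.mem j⟩
        rwa [D.inf i j hij, mem_bot] at h3)
      rcases h2 i j hij with ⟨rfl, rfl⟩ | ⟨rfl, rfl⟩
      · rcases (D.zT x).1 hz with rfl | rfl | rfl | rfl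
        · exact Or.inl rfl
        · exact Or.inr rfl
        · exact absurd hx hj
        · refine absurd ?_ hj
          have := mul_mem (inv_mem (D.mem 0)) hx
          rwa [inv_mul_cancel_left] at this
      · rcases (D.zT x).1 hz with rfl | rfl | rfl | rfl
        · exact Or.inl rfl
        · exact absurd hx hj
        · exact Or.inr rfl
        · refine absurd ?_ hj
          have := mul_mem hx (inv_mem (D.mem 1))
          rwa [mul_inv_cancel_right] at this
    have hNT : X ⊓ normalizer (T : Set G) ≤ centralizer ({v i} : Set G) := by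
      rintro x ⟨hx, hxT⟩
      have h3 : x * v i * x⁻¹ ∈ U i := (mem_normalizer_iff.1 hx.1.1 _).1 (D.mem i)
      have h4 : v i ∈ zc T := (D.zT _).2 (by
        have h2 : ∀ a : Fin 2, a = 0 ∨ a = 1 := by decide
        rcases h2 i with rfl | rfl <;> simp)
      have h5 : x * v i * x⁻¹ ∈ zc T :=
        (mem_normalizer_iff.1 (MinSimple.VModule.normalizer_le_normalizer_zc T hxT) _).1 h4
      rcases hmem _ h3 h5 with h6 | h6
      · exact absurd (conj_eq_one_iff.1 h6) (D.ne i)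
      · rw [mem_centralizer_singleton_iff]
        exact mul_inv_eq_iff_eq_mul.1 h6
    by_contra hcon
    push Not at hcon
    have hall : X ≤ centralizer ({v i} : Set G) := by
      refine MinSimple.MinParabolic.le_of_forall hTX hNT fun R hR hRX => ?_
      refine hcon R hR (fun a => ?_) fun a ha => ?_
      · by_cases hai : i = a
        · rw [← hai]
          exact hRX.trans (inf_le_left.trans inf_le_left)
        · rw [huniq i a j hai hij]
          exact hRX.trans (inf_le_left.trans inf_le_right)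
      · rw [huniq i a j ha hij]
        exact hRX.trans inf_le_right
    obtain ⟨x, hx, hx1, hxv⟩ : ∃ x ∈ U i, x ≠ 1 ∧ x ≠ v i := by
      by_contra hc
      push Not at hc
      have h3 : (U i : Set G) ⊆ {1, v i} := by
        intro y hy
        by_cases hy1 : y = 1
        · exact Or.inl hy1
        · exact Or.inr (hc y hy hy1)
      have h4 := Set.ncard_le_ncard h3 (Set.toFinite _)
      have h5 := Set.ncard_insert_le (1 : G) {v i}
      rw [Set.ncard_singleton] at h5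
      have h6 : Set.ncard (U i : Set G) = Nat.card (U i) := rfl
      rw [D.four i] at h6
      omega
    obtain ⟨l, hlP, hlc, hlU, hl⟩ := D.tr i j hij x hx hx1
    have hlX : l ∈ X := by
      refine mem_inf.2 ⟨mem_inf.2 ⟨mem_normalizer_iff_cj.2 hlU, ?_⟩, ?_⟩
      · exact centralizer_le_normalizer _ hlc
      · rw [mem_centralizer_singleton_iff]
        exact (mem_centralizer_iff.1 hlc _ (D.mem j)).symm
    have h3 := mem_centralizer_singleton_iff.1 (hall hlX)
    apply hxv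
    rw [← hl, h3]
    group
  choose R hR hRN hRC hRm using key
  exact ⟨R,
    { char2 := D.hyp.ctx.char2
      four := D.four
      sqV := fun i x hx => by rw [pow_two]; exact D.sq (D.le i hx)
      mem := D.mem
      ne := D.ne
      zT := D.zT
      syl := D.syl
      sylN := D.sylN
      par := hR
      PC := fun i j hij => hRC i j hij
      PN := fun i j => hRN i j
      mv := hRm
      noff := fun i j g g' h1 h2 => D.lift i j g g' h1 h2
      uni := uni
      nonloc := nonloc }⟩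

/-- **`TC.Fr` from `Bg`**, at every level: the extra inputs are `uni` and the nonlocal case. -/
theorem exists_fr [Finite G] {S : Sylow 2 G} {P B ZJ : Subgroup G} {L W Z C : Fin 2 → Subgroup G}
    (h : Bg S P B ZJ L W Z C 2)
    (uni : ∀ i j, i ≠ j → ∀ R : Subgroup G, IsMinPar ((S : Subgroup G) ⊓ normalizer (Z 0 : Set G)) R →
      R ≤ normalizer (Z j : Set G) → ¬ R ≤ normalizer (Z i : Set G) → R ≤ normalizer (W i : Set G))
    (nonloc : NonLoc (normalizer (Z 0 : Set G)) (normalizer (Z 1 : Set G))) :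
    ∃ (v : Fin 2 → G) (R : Fin 2 → Subgroup G), (∀ i, ∀ x, x ∈ Z i ↔ x = 1 ∨ x = v i) ∧
      KTwo.Sit S P ((S : Subgroup G) ⊓ normalizer (Z 0 : Set G)) W v ∧
      Fr ((S : Subgroup G) ⊓ normalizer (Z 0 : Set G)) W R v := by
  obtain ⟨v, hv1, hv, D⟩ := exists_sit h
  have hN : ∀ i, normalizer (Z i : Set G) = centralizer ({v i} : Set G) := fun i => normalizer_eq (hv i) (hv1 i)
  obtain ⟨R, hR⟩ := fr_of_sit D (fun i j hij R hR h1 h2 => uni i j hij R hR (by rwa [hN j]) (by rwa [hN i]))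
    (by rw [← hN 0, ← hN 1]; exact nonloc)
  exact ⟨v, R, hv, D, hR⟩

end Cfsg.Agent.Omega.TC.OfBg
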