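import Cfsg.Agent.Omega.TC.EFrOf
import Cfsg.Agent.Omega.Node.MulC

/-!
# NO-3S, (E), `k = 2 = q`, over the general frame `MulG` (`HypL` and the case (L)): the common frame `TC.Fr`

* `exists_frG` : `TC.Fr` from `MulG .. 2`, `UniTwo`, `BlkS` and case (E);
* `EFrG K` : the end over `MulG`, `KTwo.Sit`, `Fr`; `eEndTwo_of : EFrG K → EEndTwo K`;
* `OffG` : the offenders `OffK` over `MulG`; `FrEnd` : the end over `Fr`, `OffK` alone (no `VBang`);
  `eEndTwo_of_end : OffG → FrEnd → EEndTwo K`;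
* `HUEnd` : the end over `Fr` and `hU`; `frEnd_of_hU : HUEnd → FrEnd`;
* `eOfH_two` : `EOfH K H (k = 2 ∧ q = 2)` for a frame `H` from `UniH` and `EEndTwo K`.
-/

set_option autoImplicit false
set_option linter.unusedSectionVars false

namespace Cfsg.Agent.Omega.TC.OfMulG

open Subgroup Cfsg Cfsg.Agent.ZN.ChoiceBase
open Cfsg.Agent.ZN (jj zj bau zc zl o2)
open Cfsg.Agent.ZN.ChoiceSit (Syl)
open Cfsg.Agent.Omega.OM Cfsg.Agent.Omega.OM.Uni
open Cfsg.Agent.Omega.OM.KTwo (CC NU)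
open Cfsg.Agent.Omega.MinPar (NonLoc)
open Cfsg.Agent.MinSimple.MinParabolic (IsMinPar)
open Cfsg.Agent.Omega.FFThm (NatK NatKM)
open Cfsg.Agent.Omega.FrameFF (cv)
open Cfsg.Agent.Omega.NO3S (FrP)
open Cfsg.Agent.Omega.NO3S.EThree.Frame (Bg)
open Cfsg.Agent.Omega.Frame (Cls)
open Cfsg.Agent.Omega.Node.MultiOf Cfsg.Agent.Omega.Node.MulG Cfsg.Agent.Omega.Node.MulC
open Cfsg.Agent.Omega.TC.OfMul (BlkS)
open scoped Pointwise

universe u

section sockets

variable (K : Cls.{u}) (H : FrP.{u})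

/-- **(E), `k = 2 = q`, over the common frame**, general stage. -/
def EFrG : Prop :=
  ∀ (G : Type u) [Group G] [Finite G], K G → ∀ (S : Sylow 2 G) (P K' B ZJ : Subgroup G)
    (L W Z C R : Fin 2 → Subgroup G) (v : Fin 2 → G), MulG S P K' B ZJ L W Z C 2 → NLoc (KZ B ZJ) →
      (∀ i, ∀ x, x ∈ Z i ↔ x = 1 ∨ x = v i) →
      KTwo.Sit S P ((S : Subgroup G) ⊓ normalizer (Z 0 : Set G)) W v →
      Fr ((S : Subgroup G) ⊓ normalizer (Z 0 : Set G)) W R v → IsKnownSimple' G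

/-- Offenders over a level below `P`, general stage. -/
def OffG : Prop :=
  ∀ (G : Type u) [Group G] [Finite G] (S : Sylow 2 G) (P K' B ZJ : Subgroup G)
    (L W Z C R : Fin 2 → Subgroup G) (v : Fin 2 → G), MulG S P K' B ZJ L W Z C 2 →
      KTwo.Sit S P ((S : Subgroup G) ⊓ normalizer (Z 0 : Set G)) W v →
      Fr ((S : Subgroup G) ⊓ normalizer (Z 0 : Set G)) W R v →
        ∃ K₀, OffK ((S : Subgroup G) ⊓ normalizer (Z 0 : Set G)) W K₀

/-- **The end over `Fr` and `OffK`.** -/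
def FrEnd : Prop :=
  ∀ (G : Type u) [Group G] [Finite G], IsKProper G → ∀ (T : Subgroup G) (V P : Fin 2 → Subgroup G) (v : Fin 2 → G),
    Fr T V P v → ∀ K₀ : Subgroup G, OffK T V K₀ → False

/-- **The end over `Fr` and `hU`.** -/
def HUEnd : Prop :=
  ∀ (G : Type u) [Group G] [Finite G], IsKProper G → ∀ (T : Subgroup G) (V P : Fin 2 → Subgroup G) (v : Fin 2 → G),
    Fr T V P v → (∀ (i : Fin 2) (R : Subgroup G), IsMinPar T R → R ≤ CC v i → ¬ R ≤ CC v (i + 1) →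
      R ≤ normalizer (V i : Set G)) → False

/-- **UNI+ and block generation** over a frame `H`, `k = 2 = q`. -/
def UniH : Prop :=
  ∀ (G : Type u) [Group G] [Finite G], K G → ∀ (S : Sylow 2 G) (P K' B ZJ : Subgroup G)
    (L W Z C : Fin 2 → Subgroup G), H G S P → MulG S P K' B ZJ L W Z C 2 → NLoc (KZ B ZJ) →
      ∃ L' W' Z' C' : Fin 2 → Subgroup G, Bg S P B ZJ L' W' Z' C' 2 ∧ UniTwo B ZJ L' W' ∧
        BlkS K' B ((S : Subgroup G) ⊓ normalizer (Z' 0 : Set G))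

end sockets

section

variable {G : Type u} [Group G] [Finite G] {S : Sylow 2 G} {P K' B ZJ : Subgroup G} {L W Z C : Fin 2 → Subgroup G}

/-- **`TC.Fr` over the general frame.** -/
theorem exists_frG (h : MulG S P K' B ZJ L W Z C 2) (hu : UniTwo B ZJ L W)
    (hb : BlkS K' B ((S : Subgroup G) ⊓ normalizer (Z 0 : Set G))) (hE : NLoc (KZ B ZJ)) :
    ∃ (v : Fin 2 → G) (R : Fin 2 → Subgroup G), (∀ i, ∀ x, x ∈ Z i ↔ x = 1 ∨ x = v i) ∧
      KTwo.Sit S P ((S : Subgroup G) ⊓ normalizer (Z 0 : Set G)) W v ∧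
      Fr ((S : Subgroup G) ⊓ normalizer (Z 0 : Set G)) W R v :=
  OfMul.exists_fr h.bg h.lb hu hb hE

end

variable {K : Cls.{u}} {H : FrP.{u}}

/-- **`EEndTwo K` from the end over the common frame.** -/
theorem eEndTwo_of (hE : EFrG K) : EEndTwo K := by
  intro G _ _ hG S P K' B ZJ L W Z C hM hN hu hb
  obtain ⟨v, R, hv, hD, hF⟩ := exists_frG hM hu hb hN
  exact hE G hG S P K' B ZJ L W Z C R v hM hN hv hD hF

/-- `EFrG K` from the end over `Fr`, `OffK`. -/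
theorem eFrG_of (hO : OffG.{u}) (hE : FrEnd.{u}) : EFrG K := by
  intro G _ _ _ S P K' B ZJ L W Z C R v hM _ _ hD hF
  obtain ⟨K₀, h⟩ := hO G S P K' B ZJ L W Z C R v hM hD hF
  exact (hE G hM.hyp.ctx.kproper _ W R v hF K₀ h).elim

/-- **`EEndTwo K`.** -/
theorem eEndTwo_of_end (hO : OffG.{u}) (hE : FrEnd.{u}) : EEndTwo K := eEndTwo_of (eFrG_of hO hE)

/-- `hU` is `OffK.hU`. -/
theorem frEnd_of_hU (h : HUEnd.{u}) : FrEnd.{u} := fun G _ _ hK T V P v D K₀ hO =>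
  h G hK T V P v D fun i _ hR hRi hRj => OffK.hU D hO (KTwo.ne_add_one i) hR hRi hRj

/-- the end over `HypL` -/
theorem eFr_of_G (h : EFrG K) : OfMul.EFr K := fun G _ _ hK S P K' B ZJ L W Z C R v hM hN hv hD hF =>
  h G hK S P K' B ZJ L W Z C R v hM.toG hN hv hD hF

/-- **(E), `k = 2 = q`, over a frame `H`.** -/
theorem eOfH_two (hU : UniH K H) (hE : EEndTwo K) : EOfH K H fun k q => k = 2 ∧ q = 2 := by
  rintro G _ _ hG S P K' B ZJ k L W Z C q hH - ⟨rfl, rfl⟩ hM hN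
  obtain ⟨L', W', Z', C', hbg, hu, hb⟩ := hU G hG S P K' B ZJ L W Z C hH hM hN
  exact hE G hG S P K' B ZJ L' W' Z' C' ⟨hM.hyp, hM.stg, hbg, hM.nat⟩ hN hu hb

end Cfsg.Agent.Omega.TC.OfMulG
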