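import Cfsg.Agent.Omega.TC.OfMulG
import Cfsg.Agent.Omega.TC.LevG
import Cfsg.Agent.Omega.TC.EndKLOf

/-!
# NO-3S, (E), `k = 2 = q`, over `MulG` (`HypL` and the case (L)): the end from THEOREM KL

* `offG : OffG`, `frEnd : MLK → NoInp → FrEnd`;
* `eFrG : MLK → NoInp → EFrG K`, **`eEndTwo : MLK → NoInp → EEndTwo K`**;
* `eC_two_kl : MLK → NoInp → UniC K → EC K (k = 2 ∧ q = 2)`;
* `eOfH_two_kl` : the same for a frame `H`.
-/

set_option autoImplicit false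

namespace Cfsg.Agent.Omega.TC.OfMulG

open Subgroup Cfsg
open Cfsg.Agent.Omega.OM
open Cfsg.Agent.Omega.NO3S (FrP)
open Cfsg.Agent.Omega.Frame (Cls)
open Cfsg.Agent.Omega.Node.MultiOf Cfsg.Agent.Omega.Node.MulG Cfsg.Agent.Omega.Node.MulC

universe u

variable {K : Cls.{u}} {H : FrP.{u}}

/-- the offenders over `MulG` -/
theorem offG : OffG.{u} := fun _ _ _ _ _ _ _ _ _ _ _ _ _ _ hM hD hF => exists_offKG hM hD hF

/-- the end over `Fr`, `OffK` -/
theorem frEnd (hML : ML.Final.MLK.{u, u}) (hKL : KL.Quo.NoInp.{u, u}) : FrEnd.{u} :=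
  fun _ _ _ hK _ _ _ _ D _ h => EndKL.no_frame hML hKL hK D h

/-- **The end over the common frame, general stage.** -/
theorem eFrG (hML : ML.Final.MLK.{u, u}) (hKL : KL.Quo.NoInp.{u, u}) : EFrG K := eFrG_of offG (frEnd hML hKL)

/-- **`EEndTwo K`.** -/
theorem eEndTwo (hML : ML.Final.MLK.{u, u}) (hKL : KL.Quo.NoInp.{u, u}) : EEndTwo K := eEndTwo_of (eFrG hML hKL)

/-- **(E), `k = 2 = q`, case (L).** -/
theorem eC_two_kl (hML : ML.Final.MLK.{u, u}) (hKL : KL.Quo.NoInp.{u, u}) (hU : UniC K) :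
    EC K fun k q => k = 2 ∧ q = 2 := eC_two hU (eEndTwo hML hKL)

/-- **(E), `k = 2 = q`, over a frame `H`.** -/
theorem eOfH_two_kl (hML : ML.Final.MLK.{u, u}) (hKL : KL.Quo.NoInp.{u, u}) (hU : UniH K H) :
    EOfH K H fun k q => k = 2 ∧ q = 2 := eOfH_two hU (eEndTwo hML hKL)

end Cfsg.Agent.Omega.TC.OfMulG
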