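import Cfsg.Agent.Omega.TC.Fr
import Cfsg.Agent.Omega.OM.PG.Exact
import Cfsg.Agent.Omega.ML.Final

/-!
# CARD #18791, variant (MT): the swap frame `PG.PP` over `TC.Fr`

`Sw V v s` : `s` exchanges `v 0`, `v 1` and `V 0`, `V 1`.  Points are the conjugates of `ZZ v i = ⟨v i⟩`.

* `Fr.pp` : `PG.PP (ZZ v) V`; `Fr.HH_eq`, `Fr.QQ_eq`, `Fr.NN_eq`, `Fr.XW_eq` : `N_G(⟨v i⟩) = C_i`, `Q`, `N_i`,
  `X_i = N_i W_i`;
* `Fr.XW_le`, `Fr.XW_eab`, `Fr.card_ZZ`; `Fr.xf` : `Peel.XF`;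
* `Fr.no_pp` : `(NO)` for `Q_j` on `N_i` (`i ≠ j`), from `ML.Final.MLK`, no swap; `Fr.noP` : `NoP (ZZ v)`;
* `Fr.far`, `Fr.red` : `Peel.far`, `PG.CX.red` over `Fr`.
-/

set_option autoImplicit false
set_option linter.unusedSectionVars false

namespace Cfsg.Agent.Omega.TC

open Subgroup Cfsg Cfsg.Agent.ZN Cfsg.Agent.Omega.MinPar
open Cfsg.Agent.Omega.OM.KTwo (CC QQ WU NU EU FF ne_add_one eq_add_one add_one_add_one le_normalizer_V le_V)
open Cfsg.Agent.Omega.NoFF.Basic (conj_conj mem_conj conj_le_iff conj_le_centralizer comm_symm comm_mono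
  Z_le_V V_le conj_V_mul)
open Cfsg.Agent.Omega.NOThreeL.Pair (conj_eq_of_mem conj_le_normalizer)
open Cfsg.Agent.ZN.ChoiceSit (Syl exists_syl syl_conj o2_le_syl syl_not_dvd)
open Cfsg.Agent.ZN.ChoiceBase (mem_normalizer_iff_cj cj_mono cj_eq_of_mem_normalizer cj_centralizer)
open Cfsg.Agent.Omega.NO3S.EThree.ExactA (NoP eab_iff)
open Cfsg.Agent.Omega.OM
open scoped Pointwise commutatorElement

universe u

variable {G : Type u} [Group G]

/-- `⟨v i⟩` -/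
def ZZ (v : Fin 2 → G) (i : Fin 2) : Subgroup G := zpowers (v i)

/-- `s` exchanges the two sides. -/
structure Sw (V : Fin 2 → Subgroup G) (v : Fin 2 → G) (s : G) : Prop where
  v01 : s * v 0 * s⁻¹ = v 1
  v10 : s * v 1 * s⁻¹ = v 0
  V01 : MulAut.conj s • V 0 = V 1
  V10 : MulAut.conj s • V 1 = V 0

theorem conj_ZZ {v : Fin 2 → G} {i j : Fin 2} {g : G} (h : g * v i * g⁻¹ = v j) :
    MulAut.conj g • ZZ v i = ZZ v j := by
  unfold ZZ
  rw [← h]
  exact MonoidHom.map_zpowers (MulAut.conj g).toMonoidHom (v i)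

theorem Sw.swap {V : Fin 2 → Subgroup G} {v : Fin 2 → G} {s : G} (w : Sw V v s) :
    ∃ s : G, MulAut.conj s • ZZ v 0 = ZZ v 1 ∧ MulAut.conj s • ZZ v 1 = ZZ v 0 ∧
      MulAut.conj s • V 0 = V 1 ∧ MulAut.conj s • V 1 = V 0 :=
  ⟨s, conj_ZZ w.v01, conj_ZZ w.v10, w.V01, w.V10⟩

/-- `s` moves the side `i` to the side `j` -/
theorem Sw.side {V : Fin 2 → Subgroup G} {v : Fin 2 → G} {s : G} (w : Sw V v s) {i j : Fin 2} (hij : i ≠ j) :
    s * v i * s⁻¹ = v j ∧ s * v j * s⁻¹ = v i ∧ MulAut.conj s • V i = V j ∧ MulAut.conj s • V j = V i := by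
  have h0 : i = 0 ∧ j = 1 ∨ i = 1 ∧ j = 0 := by revert hij; revert i j; decide
  rcases h0 with ⟨rfl, rfl⟩ | ⟨rfl, rfl⟩
  · exact ⟨w.v01, w.v10, w.V01, w.V10⟩
  · exact ⟨w.v10, w.v01, w.V10, w.V01⟩

namespace Fr

variable [Finite G] {T : Subgroup G} {V P : Fin 2 → Subgroup G} {v : Fin 2 → G} (D : Fr T V P v)

include D

theorem mem_ZZ {i : Fin 2} {x : G} : x ∈ ZZ v i ↔ x = 1 ∨ x = v i := by
  constructor
  · intro hx
    obtain ⟨n, rfl⟩ := mem_zpowers_iff.1 hx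
    rcases Int.even_or_odd n with ⟨k, rfl⟩ | ⟨k, rfl⟩
    · left
      rw [← two_mul, zpow_mul, zpow_ofNat, pow_two, D.v_sq, one_zpow]
    · right
      rw [zpow_add, zpow_one, zpow_mul, zpow_ofNat, pow_two, D.v_sq, one_zpow, one_mul]
  · rintro (rfl | rfl)
    · exact one_mem _
    · exact mem_zpowers _

theorem card_ZZ (i : Fin 2) : Nat.card (ZZ v i) = 2 := by
  unfold ZZ
  rw [Nat.card_zpowers]
  exact orderOf_eq_prime (D.v_sq' i) (D.ne i)

theorem ZZ_le_V (i : Fin 2) : ZZ v i ≤ V i := zpowers_le.2 (D.mem i)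

theorem HH_eq (i : Fin 2) : PG.HH (ZZ v i) = CC v i := by
  apply le_antisymm
  · intro g hg
    rw [mem_centralizer_singleton_iff]
    have h1 : g * v i * g⁻¹ ∈ ZZ v i := (mem_normalizer_iff.1 hg _).1 (mem_zpowers _)
    rcases D.mem_ZZ.1 h1 with h | h
    · exact absurd (conj_eq_one_iff.1 h) (D.ne i)
    · calc g * v i = g * v i * g⁻¹ * g := by group
        _ = v i * g := by rw [h]
  · refine le_trans ?_ (centralizer_le_normalizer _)
    intro g hg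
    rw [mem_centralizer_singleton_iff] at hg
    refine mem_centralizer_iff.2 fun x hx => ?_
    rcases D.mem_ZZ.1 hx with rfl | rfl
    · rw [one_mul, mul_one]
    · exact hg.symm

theorem QQ_eq (i : Fin 2) : PG.QQ (ZZ v i) = QQ v i := by
  unfold PG.QQ QQ
  rw [D.HH_eq]

theorem mem_CC_iff {i : Fin 2} {k : G} : k ∈ CC v i ↔ MulAut.conj k • ZZ v i = ZZ v i := by
  rw [← D.HH_eq i]
  exact mem_normalizer_iff_cj

theorem exists_tr {i j : Fin 2} (hij : i ≠ j) {x : G} (hx : x ∈ V i) (hx1 : x ≠ 1) :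
    ∃ l ∈ CC v j, l ∈ centralizer (V j : Set G) ∧ l ∈ P i ∧ l * v i * l⁻¹ = x := by
  obtain ⟨l, hl, h1, h2⟩ := D.tr hij hx hx1
  exact ⟨l, D.PC i j hij hl, h1, hl, h2⟩

/-- `conj s • N_i = N_j` -/
theorem conj_NU {s : G} (w : Sw V v s) {i j : Fin 2} (hij : i ≠ j) : MulAut.conj s • NU V v i = NU V v j := by
  have key : ∀ {s : G}, Sw V v s → ∀ {i j : Fin 2}, i ≠ j → MulAut.conj s • NU V v i ≤ NU V v j := by
    intro s w i j hij
    obtain ⟨h1, h2, h3, h4⟩ := w.side hij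
    have ei : i + 1 = j := (eq_add_one hij).symm
    have ej : j + 1 = i := (eq_add_one hij.symm).symm
    unfold NU
    rw [ei, ej]
    refine NoFF.Basic.conj_V_le fun p hp => ?_
    have e : s * p = (s * p * s⁻¹) * s := by group
    rw [e, ← conj_conj, h4]
    refine Z_le_V ?_
    rw [mem_centralizer_singleton_iff] at hp ⊢
    rw [← h1]
    calc s * p * s⁻¹ * (s * v i * s⁻¹) = s * (p * v i) * s⁻¹ := by group
      _ = s * (v i * p) * s⁻¹ := by rw [hp]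
      _ = s * v i * s⁻¹ * (s * p * s⁻¹) := by group
  apply le_antisymm (key w hij)
  have w' : Sw V v s⁻¹ := by
    refine ⟨?_, ?_, ?_, ?_⟩
    · rw [← w.v10]; group
    · rw [← w.v01]; group
    · rw [← w.V10, conj_conj, inv_mul_cancel, map_one, one_smul]
    · rw [← w.V01, conj_conj, inv_mul_cancel, map_one, one_smul]
  have h1 := key w' hij.symm
  have h2 := (conj_le_iff (g := s)).2 h1
  rwa [conj_conj, mul_inv_cancel, map_one, one_smul] at h2

/-- the neighbours of `⟨v i⟩`: `⟨v_j ^ k⟩`, `k ∈ C_i` -/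
theorem adj_iff {s : G} (w : Sw V v s) {i j : Fin 2} (hij : i ≠ j) {u : Subgroup G} :
    PG.Adj (ZZ v) (ZZ v i) u ↔ ∃ k ∈ CC v i, u = MulAut.conj k • ZZ v j := by
  have h0 : i = 0 ∧ j = 1 ∨ i = 1 ∧ j = 0 := by revert hij; revert i j; decide
  rcases h0 with ⟨rfl, rfl⟩ | ⟨rfl, rfl⟩
  · constructor
    · rintro ⟨k, h1, rfl⟩
      exact ⟨k, D.mem_CC_iff.2 h1.symm, rfl⟩
    · rintro ⟨k, h1, rfl⟩
      exact ⟨k, (D.mem_CC_iff.1 h1).symm, rfl⟩
  · constructor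
    · rintro ⟨k, h1, rfl⟩
      refine ⟨k * s, D.mem_CC_iff.2 ?_, ?_⟩
      · rw [← conj_conj, conj_ZZ w.v10]
        exact h1.symm
      · rw [← conj_conj, conj_ZZ w.v01]
    · rintro ⟨k, h1, rfl⟩
      refine ⟨k * s, ?_, ?_⟩
      · rw [← conj_conj, conj_ZZ w.v01]
        exact (D.mem_CC_iff.1 h1).symm
      · rw [← conj_conj, conj_ZZ w.v10]

theorem NN_eq {s : G} (w : Sw V v s) (i : Fin 2) : PG.NN (ZZ v) (ZZ v i) = NU V v i := by
  have hij := ne_add_one i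
  apply le_antisymm
  · refine sSup_le fun u hu => ?_
    obtain ⟨k, hk, rfl⟩ := (D.adj_iff w hij).1 hu
    exact (conj_le_iff.2 (D.ZZ_le_V (i + 1))).trans (Z_le_V hk)
  · refine V_le fun p hp => ?_
    have h1 : V (i + 1) ≤ PG.NN (ZZ v) (ZZ v i) := by
      intro x hx
      by_cases hx1 : x = 1
      · rw [hx1]; exact one_mem _
      obtain ⟨l, hl, -, -, e⟩ := D.exists_tr hij.symm hx hx1
      have h2 : PG.Adj (ZZ v) (ZZ v i) (MulAut.conj l • ZZ v (i + 1)) := (D.adj_iff w hij).2 ⟨l, hl, rfl⟩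
      refine h2.le_NN ?_
      rw [mem_conj, ← e]
      have e2 : l⁻¹ * (l * v (i + 1) * l⁻¹) * l = v (i + 1) := by group
      rw [e2]
      exact mem_zpowers _
    have h2 := conj_le_iff (g := p) |>.2 h1
    rwa [← PG.NN_conj, D.mem_CC_iff.1 hp] at h2

theorem ln_iff (i : Fin 2) {l : Subgroup G} (hi : i = 0) :
    PG.LnOn (ZZ v) V (ZZ v i) l ↔ ∃ k ∈ CC v i, l = MulAut.conj k • V i := by
  subst hi
  constructor
  · rintro ⟨k, h1, rfl⟩
    exact ⟨k, D.mem_CC_iff.2 h1.symm, rfl⟩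
  · rintro ⟨k, h1, rfl⟩
    exact ⟨k, (D.mem_CC_iff.1 h1).symm, rfl⟩

theorem XW_eq {s : G} (w : Sw V v s) : PG.Peel.XW (ZZ v) V (ZZ v 0) = NU V v 0 ⊔ WU V v 0 := by
  unfold PG.Peel.XW
  rw [D.NN_eq w]
  congr 1
  apply le_antisymm
  · refine iSup_le ?_
    rintro ⟨l, hl⟩
    obtain ⟨k, hk, rfl⟩ := (D.ln_iff 0 rfl).1 hl
    exact Z_le_V hk
  · refine V_le fun p hp => ?_
    exact le_iSup (fun l : {l : Subgroup G // PG.LnOn (ZZ v) V (ZZ v 0) l} => (l : Subgroup G))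
      ⟨_, (D.ln_iff 0 rfl).2 ⟨p, hp, rfl⟩⟩

/-- **The swap frame.** -/
theorem pp {s : G} (w : Sw V v s) : PG.PP (ZZ v) V where
  swap := w.swap
  ZU := D.ZZ_le_V 0
  sq := fun x hx => D.sqV 0 x (D.ZZ_le_V 0 hx)
  ne := fun e => D.ne 0 (by
    have h1 : v 0 ∈ ZZ v 0 := mem_zpowers _
    rwa [e, mem_bot] at h1)
  tr := by
    intro k hk
    have hx : k * v 0 * k⁻¹ ∈ V 0 := hk ⟨v 0, mem_zpowers _, rfl⟩
    obtain ⟨l, hl, hc, hP, e⟩ := D.exists_tr (i := 0) (j := 1) (by decide) hx (fun e => D.ne 0 (conj_eq_one_iff.1 e))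
    refine ⟨l, ?_, D.mem_CC_iff.1 hl, ?_, ?_⟩
    · have h1 : (k⁻¹ * l) ∈ CC v 0 := by
        rw [mem_centralizer_singleton_iff]
        calc k⁻¹ * l * v 0 = k⁻¹ * (l * v 0 * l⁻¹) * l := by group
          _ = k⁻¹ * (k * v 0 * k⁻¹) * l := by rw [e]
          _ = v 0 * (k⁻¹ * l) := by group
      have h2 := D.mem_CC_iff.1 h1
      have h3 := congrArg (fun X => MulAut.conj k • X) h2
      simp only [conj_conj, mul_inv_cancel_left] at h3
      exact h3
    · exact conj_eq_of_mem (D.PN 0 0 hP)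
    · exact conj_eq_of_mem (D.PN 0 1 hP)
  N_le_Q := by
    rw [D.NN_eq w, D.QQ_eq]
    exact D.N_le_Q 0
  Q_le_cent := by
    rw [D.NN_eq w, D.QQ_eq]
    exact D.Q_le_cent_N 0
  UQ := by
    intro x hx y hy
    rw [D.QQ_eq] at hy
    exact D.comm_VQ 0 hx (D.Q_le_T 0 hy)
  nonLoc := by
    rw [D.HH_eq, D.HH_eq]
    exact D.nonloc

theorem XW_le {s : G} (w : Sw V v s) : PG.Peel.XW (ZZ v) V (ZZ v 0) ≤ PG.QQ (ZZ v 0) := by
  rw [D.XW_eq w, D.QQ_eq]
  exact sup_le (D.N_le_Q 0) (D.W_le_Q 0)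

theorem XW_eab {s : G} (w : Sw V v s) : IsElementaryAbelian 2 (PG.Peel.XW (ZZ v) V (ZZ v 0)) := by
  rw [eab_iff, D.XW_eq w, sup_comm]
  exact ⟨D.WN_comm 0, D.WN_sq 0⟩

theorem xf {s : G} (w : Sw V v s) : PG.Peel.XF (ZZ v) (PG.Peel.XW (ZZ v) V) :=
  PG.Peel.xf (D.pp w) (D.XW_eab w) (D.XW_le w)

theorem CC_ne_top (i : Fin 2) : CC v i ≠ ⊤ := by
  intro e
  have h2 : IsPGroup 2 (ZZ v i) := D.T_isPGroup.to_le (zpowers_le.2 (D.v_mem_T i))
  have h3 : ∀ j, CC v j ≤ normalizer (ZZ v i : Set G) := fun j => by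
    rw [show normalizer (ZZ v i : Set G) = CC v i from D.HH_eq i, e]
    exact le_top
  have h4 := D.nonloc (ZZ v i) h2 (h3 0) (h3 1)
  have h5 : v i ∈ ZZ v i := mem_zpowers _
  rw [h4, mem_bot] at h5
  exact D.ne i h5

/-- **`(NO)`** for `B ≤ Q_j` on `N_i`, `i ≠ j` (no swap). -/
theorem no_pp (hML : ML.Final.MLK.{u, u}) (hK : IsKProper G) {i j : Fin 2} (hij : i ≠ j) {B : Subgroup G}
    (hB : IsElementaryAbelian 2 B) (hBQ : B ≤ QQ v j) :
    (centralizer (NU V v i : Set G)).relIndex B ≤ (centralizer (B : Set G)).relIndex (NU V v i) := by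
  have ej : i + 1 = j := (eq_add_one hij).symm
  have hbot : normalizer ((⊥ : Subgroup G) : Set G) = ⊤ := normalizer_eq_top _
  have hQT : QQ v j ≤ T := D.Q_le_T j
  have hmem : v j ∈ NU V v i := ej ▸ D.mem_N i
  have key := hML.grp (hK _ (D.CC_ne_top i))
    (C := CC v i) (W := NU V v i) (Y := ⊥) (T := T) (Q := QQ v j) (A := B) (w := v j)
    { nW := D.C_le_N_N i
      nY := by rw [hbot]; exact le_top
      YW := bot_le
      WY := by rw [hbot]; exact le_top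
      sq := fun x hx => by rw [← pow_two, D.N_sq i x hx]; exact one_mem _
      mem := hmem
      gen := by
        intro Y hzY _ hCY
        refine V_le fun p hp => ?_
        have h1 : V (i + 1) ≤ Y := by
          rw [ej]
          intro x hx
          by_cases hx1 : x = 1
          · rw [hx1]; exact one_mem _
          obtain ⟨l, hl, -, -, e⟩ := D.exists_tr hij.symm hx hx1
          rw [← e]
          exact (mem_normalizer_iff.1 (hCY hl) _).1 hzY
        have h4 := cj_mono p h1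
        rwa [cj_eq_of_mem_normalizer (hCY hp)] at h4
      TC := D.T_le_C i
      two := D.T_isPGroup
      odd := syl_not_dvd (D.syl i)
      fixT := fun t ht => by
        rw [D.cen j ht, mul_inv_cancel]
        exact one_mem _
      QC := hQT.trans (D.T_le_C i)
      Q2 := D.T_isPGroup.to_le hQT
      fixQ := fun q hq => by
        rw [D.cen j (hQT hq), mul_inv_cancel]
        exact one_mem _
      nrmQ := fun g _ hg q hq => by
        have h1 : g * v j * g⁻¹ = v j := mul_inv_eq_one.1 (mem_bot.1 hg)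
        have h2 : g ∈ CC v j := by
          rw [mem_centralizer_singleton_iff]
          calc g * v j = g * v j * g⁻¹ * g := by group
            _ = v j * g := by rw [h1]
        exact (mem_normalizer_iff.1 (MinSimple.VModule.le_normalizer_o2 _ h2) q).1 hq
      AQ := hBQ
      Asq := fun a ha x hx => by
        have h1 : a ^ 2 = 1 := hB.2 a ha
        have e : a * (a * x * a⁻¹) * a⁻¹ * x⁻¹ = (a ^ 2) * x * (a ^ 2)⁻¹ * x⁻¹ := by simp [pow_two, mul_assoc]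
        rw [e, h1]
        simp }
    (KA := B ⊓ centralizer (NU V v i : Set G)) (CW := NU V v i ⊓ centralizer (B : Set G))
    (fun a => by
      rw [mem_inf, mem_centralizer_iff]
      refine and_congr_right fun _ => forall₂_congr fun x _ => ?_
      rw [mem_bot, mul_inv_eq_one, mul_inv_eq_iff_eq_mul]
      exact eq_comm)
    (fun x => by
      rw [mem_inf, mem_centralizer_iff]
      refine and_congr_right fun _ => forall₂_congr fun a _ => ?_
      rw [mem_bot, mul_inv_eq_one, mul_inv_eq_iff_eq_mul])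
  rwa [inf_relIndex_left, inf_relIndex_left] at key

/-- **`(NO)` for the swap frame.** -/
theorem noP (hML : ML.Final.MLK.{u, u}) (hK : IsKProper G) {s : G} (w : Sw V v s) : NoP (ZZ v) := by
  rintro _ _ ⟨k, rfl, rfl⟩ B hB hBQ
  obtain ⟨B₀, rfl⟩ : ∃ B₀ : Subgroup G, B = MulAut.conj k • B₀ := ⟨MulAut.conj k⁻¹ • B, by
    rw [PG.conj_inv_conj]⟩
  have hB0 : IsElementaryAbelian 2 B₀ := by
    have h1 := PG.Peel.eab_conj hB k⁻¹
    rwa [PG.inv_conj_conj] at h1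
  have hBQ0 : B₀ ≤ QQ v 0 := by
    rw [PG.QQ_conj] at hBQ
    rw [← D.QQ_eq]
    exact conj_le_iff.1 hBQ
  have key := D.no_pp hML hK (i := 1) (j := 0) (by decide) hB0 hBQ0
  rw [PG.NN_conj, D.NN_eq w]
  have e1 : centralizer ((MulAut.conj k • NU V v 1 : Subgroup G) : Set G) =
      MulAut.conj k • centralizer (NU V v 1 : Set G) := (cj_centralizer k _).symm
  have e2 : centralizer ((MulAut.conj k • B₀ : Subgroup G) : Set G) = MulAut.conj k • centralizer (B₀ : Set G) :=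
    (cj_centralizer k _).symm
  rw [e1, e2, relIndex_pointwise_smul, relIndex_pointwise_smul]
  exact key

/-- **`Peel.far` over `Fr`.** -/
theorem far (hML : ML.Final.MLK.{u, u}) (hK : IsKProper G) {s : G} (w : Sw V v s)
    (hG : PG.Peel.ThmG (ZZ v) (PG.Peel.XW (ZZ v) V)) :
    ∃ d a b, d ≤ 1 ∧ PG.CX (ZZ v) (PG.Peel.XW (ZZ v) V) d a b := by
  obtain ⟨d, a, b, hd, h1, h2, h3⟩ := PG.Peel.far (D.pp w) (D.XW_eab w) (D.XW_le w) (D.card_ZZ 0)
    (D.noP hML hK w) hG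
  exact ⟨d, a, b, hd, h1, h2, h3⟩

/-- **The reduction** for every critical pair. -/
theorem red (hML : ML.Final.MLK.{u, u}) (hK : IsKProper G) {s : G} (w : Sw V v s)
    (hG : PG.Peel.ThmG (ZZ v) (PG.Peel.XW (ZZ v) V)) {d : ℕ} {a b : Subgroup G}
    (hc : PG.CX (ZZ v) (PG.Peel.XW (ZZ v) V) d a b) :
    a ≤ PG.NN (ZZ v) b ∧ ∃ x ∈ PG.Peel.XW (ZZ v) V a,
      ∃ y ∈ PG.NN (ZZ v) b ⊓ centralizer (PG.NN (ZZ v) a : Set G), ⁅x, y⁆ ≠ 1 ∧ ∀ g ∈ a, g = 1 ∨ g = ⁅x, y⁆ :=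
  hc.red (D.pp w) (D.xf w) (D.card_ZZ 0) (D.noP hML hK w) hG

/-- **Distance one**: `[X_0, X_1] ≠ 1` and the outcome of the reduction, if `N_0 ∩ N_1 = 1`. -/
theorem dist_one (hML : ML.Final.MLK.{u, u}) (hK : IsKProper G) {s : G} (w : Sw V v s)
    (hG : PG.Peel.ThmG (ZZ v) (PG.Peel.XW (ZZ v) V)) (hdis : NU V v 0 ⊓ NU V v 1 = ⊥) :
    PG.CX (ZZ v) (PG.Peel.XW (ZZ v) V) 0 (ZZ v 0) (ZZ v 1) :=
  PG.dist_one (D.pp w) (D.XW_eab w) (D.XW_le w) (D.card_ZZ 0) (D.noP hML hK w) hG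
    (by rw [D.NN_eq w, D.NN_eq w]; exact hdis)

end Fr

end Cfsg.Agent.Omega.TC
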