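import Cfsg.Agent.Omega.TC.Phi

/-!
# PHI' (helper76 #20816 (1), (2); CARD #18791 TWO CENTRES)

`z = v i * v j` (`i ≠ j`), `J(T) ≰ O₂(P i)`.

* `phi_z` : **PHI'**: an involution `w ∈ O₂(P i)` with `[w, O₂(P i)] ≤ ⟨z⟩` is in `V i ∪ V i v j`;
* `fix_z` : an involution `k ∈ O₂(P i)` with `[k, T] ≤ ⟨z⟩` is in `Ω₁Z(T)`;
* `le_z` : a `T`-invariant elementary abelian `K ≤ O₂(P i)` with `K ∩ Ω₁Z(T) ≤ ⟨z⟩` is `≤ ⟨z⟩`;
* `le_z_or` : a `T`-invariant `K ≤ N_i` is `≤ ⟨z⟩`, or it contains `v i` or `v j`;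
* `comm_or` : the same for `K = [N_i, N_j]`.
-/

set_option autoImplicit false
set_option linter.unusedSectionVars false

namespace Cfsg.Agent.Omega.TC.PhiZ

open Subgroup Cfsg Cfsg.Agent.ZN Cfsg.Agent.Omega.MinPar Cfsg.Agent.Omega.TC.Phi
open Cfsg.Agent.Omega.OM.KTwo (CC QQ WU NU EU ne_add_one eq_add_one)
open Cfsg.Agent.ZN.ChoiceSit (Syl syl_not_dvd)
open scoped Pointwise commutatorElement

universe u

theorem fin_two_cases {i j : Fin 2} (h : i ≠ j) : (i = 0 ∧ j = 1) ∨ (i = 1 ∧ j = 0) := by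
  revert h; revert i j; decide

variable {G : Type u} [Group G] [Finite G] {T : Subgroup G} {V P : Fin 2 → Subgroup G} {v : Fin 2 → G}
  (D : Fr T V P v)

include D

theorem z_sq {i j : Fin 2} : v i * v j * (v i * v j) = 1 := by
  have h1 : v i * v j = v j * v i := (D.comm_v j (D.v_mem_T i))
  calc v i * v j * (v i * v j) = v i * (v j * v i) * v j := by group
    _ = v i * (v i * v j) * v j := by rw [h1]
    _ = (v i * v i) * (v j * v j) := by group
    _ = 1 := by rw [D.v_sq, D.v_sq, one_mul]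

theorem mem_zp {i j : Fin 2} {x : G} (hx : x ∈ zpowers (v i * v j)) : x = 1 ∨ x = v i * v j := by
  obtain ⟨n, rfl⟩ := mem_zpowers_iff.1 hx
  rcases Int.even_or_odd' n with ⟨k, rfl | rfl⟩
  · left; rw [zpow_mul, zpow_two, z_sq D, one_zpow]
  · right; rw [zpow_add, zpow_mul, zpow_two, z_sq D, one_zpow, one_mul, zpow_one]

/-- **PHI'** -/
theorem phi_z {i j : Fin 2} (hij : i ≠ j) (hJ : ¬ jj T ≤ o2 (P i)) {w : G} (hw : w ∈ o2 (P i)) (hw2 : w * w = 1)
    (hwc : ∀ o ∈ o2 (P i), w * o * w⁻¹ * o⁻¹ ∈ zpowers (v i * v j)) : ∃ a ∈ V i, w = a ∨ w = a * v j := by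
  obtain ⟨A, hA, τ, hτ, hτo, hidx⟩ := exists_max D hJ
  obtain ⟨p, hp, hp1, hpv⟩ := D.exists_ne_v i
  obtain ⟨g, hg, -, hgp⟩ := D.tr (ne_add_one i) hp hp1
  have ho : o2 (P i) = T ⊓ centralizer (V i : Set G) := o2_P D i
  have hoT : o2 (P i) ≤ T := by rw [ho]; exact inf_le_left
  have hVo : V i ≤ o2 (P i) := by
    rw [ho]
    exact le_inf (D.V_le_T i) fun a ha => mem_centralizer_iff.2 fun b hb => D.V_comm hb ha
  have hvo : v j ∈ o2 (P i) := by
    rw [ho]
    exact ⟨D.v_mem_T j, mem_centralizer_iff.2 fun b hb => D.comm_v j (D.V_le_T i hb)⟩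
  have hcen : ∀ o ∈ o2 (P i), ∀ x ∈ V i, o * x = x * o := by
    intro o ho' x hx
    rw [ho] at ho'
    exact (mem_centralizer_iff.1 ho'.2 x hx).symm
  have hgj : g * v j * g⁻¹ = v j := by
    rw [mem_centralizer_singleton_iff.1 (D.PC i j hij hg), mul_inv_cancel_right]
  have hpj : p * v j = v j * p := D.comm_v j (D.V_le_T i hp)
  have hcomm := cor_phi (v := v i * v j) (p := p * v j) (g := g) hA hτ hoT hidx
    (le_normalizer_o2 _ (D.T_le_P i (hA.1 hτ))) (le_normalizer_o2 _ hg)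
    (by
      calc p * v j = (g * v i * g⁻¹) * (g * v j * g⁻¹) := by rw [hgp, hgj]
        _ = g * (v i * v j) * g⁻¹ := by group) (mul_mem (hVo hp) hvo)
    (fun o ho' => by
      calc o * (p * v j) = (o * p) * v j := by group
        _ = p * (o * v j) := by rw [hcen o ho' p hp]; group
        _ = p * v j * o := by rw [D.comm_v j (hoT ho')]; group)
    (by
      calc p * v j * (p * v j) = p * (v j * p) * v j := by group
        _ = (p * p) * (v j * v j) := by rw [← hpj]; group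
        _ = 1 := by rw [D.v_sq, ← pow_two, D.sqV i p hp, one_mul])
    (fun h => v_notMem D hij (by
      have e : v j = p⁻¹ * (p * v j) := by group
      rw [e, h, mul_one]; exact inv_mem hp)) ?_ hw hw2 fun o ho' => ?_
  · apply mem_V_sup D
    rw [← zc_o2 D hij hJ]
    exact mem_zc.2 ⟨hw, fun o ho => (hcomm o ho).symm, by rw [pow_two]; exact hw2⟩
  · have h1 := moves D (hA.1 hτ) hτo hp hp1 hpv
    have e : τ * (p * v j) * τ⁻¹ = (τ * p * τ⁻¹) * (τ * v j * τ⁻¹) := by group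
    rw [e, h1, D.cen j (hA.1 hτ)]
    intro h
    exact D.ne i (by simpa using h)
  · exact mem_zp D (hwc o ho')

/-- an involution `k ∈ O₂(P i)` with `[k, T] ≤ ⟨z⟩` is in `Ω₁Z(T)` -/
theorem fix_z {i j : Fin 2} (hij : i ≠ j) (hJ : ¬ jj T ≤ o2 (P i)) {k : G} (hk : k ∈ o2 (P i)) (hk2 : k * k = 1)
    (hkc : ∀ t ∈ T, t * k * t⁻¹ * k⁻¹ ∈ zpowers (v i * v j)) : k ∈ zc T := by
  have hoT : o2 (P i) ≤ T := by rw [o2_P D i]; exact inf_le_left
  obtain ⟨a, ha, h⟩ := phi_z D hij hJ hk hk2 fun o ho => by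
    have h1 := inv_mem (hkc o (hoT ho))
    have e : (o * k * o⁻¹ * k⁻¹)⁻¹ = k * o * k⁻¹ * o⁻¹ := by group
    rwa [e] at h1
  have haz : a ∈ zc T := by
    by_cases ha1 : a = 1
    · rw [ha1]; exact one_mem _
    by_cases hav : a = v i
    · rw [hav]; exact D.v_mem_zc i
    exfalso
    obtain ⟨t, ht, hta⟩ := D.exists_swap ha ha1 hav
    have h1 := hkc t ht
    have e : t * k * t⁻¹ * k⁻¹ = v i := by
      have h3 : a * v i * a⁻¹ = v i := by
        rw [D.V_comm ha (D.mem i)]; group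
      rcases h with h | h
      · rw [h, hta, h3]
      · rw [h]
        have h2 := D.cen j ht
        calc t * (a * v j) * t⁻¹ * (a * v j)⁻¹ = (t * a * t⁻¹) * (t * v j * t⁻¹) * (v j)⁻¹ * a⁻¹ := by group
          _ = a * v i * a⁻¹ := by rw [hta, h2]; group
          _ = v i := h3
    rw [e] at h1
    rcases mem_zp D h1 with h2 | h2
    · exact D.ne i h2
    · exact D.ne j (by simpa using h2)
  rcases h with h | h
  · rw [h]; exact haz
  · rw [h]; exact mul_mem haz (D.v_mem_zc j)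

theorem T_le_N_z {i j : Fin 2} : T ≤ normalizer ((zpowers (v i * v j) : Subgroup G) : Set G) := by
  have key : ∀ {s : G}, s ∈ T → ∀ x ∈ zpowers (v i * v j), s * x * s⁻¹ ∈ zpowers (v i * v j) := by
    intro s hs x hx
    obtain ⟨n, rfl⟩ := mem_zpowers_iff.1 hx
    have h0 : s * (v i * v j) = v i * v j * s := by
      calc s * (v i * v j) = (s * v i) * v j := by group
        _ = v i * (s * v j) := by rw [D.comm_v i hs]; group
        _ = v i * v j * s := by rw [D.comm_v j hs]; group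
    have h1 : Commute s (v i * v j) := h0
    rw [(h1.zpow_right n).eq, mul_inv_cancel_right]
    exact hx
  intro t ht
  rw [mem_normalizer_iff]
  intro x
  refine ⟨key ht x, fun hx => ?_⟩
  have h1 := key (T.inv_mem ht) _ hx
  have e : t⁻¹ * (t * x * t⁻¹) * t⁻¹⁻¹ = x := by group
  rwa [e] at h1

/-- a `T`-invariant elementary abelian `K ≤ O₂(P i)` with `K ∩ Ω₁Z(T) ≤ ⟨z⟩` is `≤ ⟨z⟩` -/
theorem le_z {i j : Fin 2} (hij : i ≠ j) (hJ : ¬ jj T ≤ o2 (P i)) {K : Subgroup G} (hTK : T ≤ normalizer (K : Set G))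
    (hK : K ≤ o2 (P i)) (hK2 : ∀ x ∈ K, x * x = 1) (hz : K ⊓ zc T ≤ zpowers (v i * v j)) :
    K ≤ zpowers (v i * v j) := by
  by_contra hne
  have hoT : o2 (P i) ≤ T := by rw [o2_P D i]; exact inf_le_left
  obtain ⟨k, hk, hkz, hkt⟩ := exists_fixed_mod D.T_isPGroup (hK.trans hoT) hTK (T_le_N_z D) hne
  exact hkz (hz ⟨hk, fix_z D hij hJ (hK hk) (hK2 k hk) hkt⟩)

/-- a `T`-invariant `K ≤ N_i` is `≤ ⟨z⟩`, or contains `v i` or `v j` -/
theorem le_z_or {i j : Fin 2} (hij : i ≠ j) (hJ : ¬ jj T ≤ o2 (P i)) {K : Subgroup G}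
    (hTK : T ≤ normalizer (K : Set G)) (hK : K ≤ NU V v i) : K ≤ zpowers (v i * v j) ∨ v i ∈ K ∨ v j ∈ K := by
  by_cases hi : v i ∈ K
  · exact Or.inr (Or.inl hi)
  by_cases hj : v j ∈ K
  · exact Or.inr (Or.inr hj)
  left
  refine le_z D hij hJ hTK (hK.trans (N_le_o2 D i)) (fun x hx => ?_) ?_
  · rw [← pow_two]; exact D.N_sq i x (hK hx)
  · rintro x ⟨hx, hxz⟩
    have hv : v i * v j = v j * v i := D.comm_v j (D.v_mem_T i)
    have hcases : x = 1 ∨ x = v i ∨ x = v j ∨ x = v i * v j := by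
      rcases fin_two_cases hij with ⟨h0, h1⟩ | ⟨h0, h1⟩
      · rw [h0, h1]; exact (D.zT x).1 hxz
      · rw [h0, h1] at hv ⊢
        rcases (D.zT x).1 hxz with h | h | h | h
        · exact Or.inl h
        · exact Or.inr (Or.inr (Or.inl h))
        · exact Or.inr (Or.inl h)
        · exact Or.inr (Or.inr (Or.inr (by rw [h, hv])))
    rcases hcases with h | h | h | h
    · rw [h]; exact one_mem _
    · rw [h] at hx; exact absurd hx hi
    · rw [h] at hx; exact absurd hx hj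
    · rw [h]; exact mem_zpowers _

/-- **(2)**: `K = [N_i, N_j]` is `≤ ⟨z⟩`, or contains `v i` or `v j` -/
theorem comm_or {i j : Fin 2} (hij : i ≠ j) (hJ : ¬ jj T ≤ o2 (P i)) :
    ⁅NU V v i, NU V v j⁆ ≤ zpowers (v i * v j) ∨ v i ∈ ⁅NU V v i, NU V v j⁆ ∨ v j ∈ ⁅NU V v i, NU V v j⁆ := by
  refine le_z_or D hij hJ ?_ ?_
  · -- `T` normalises the commutator
    intro t ht
    have h1 : ∀ (i : Fin 2) {s : G}, s ∈ T → (NU V v i).map (MulAut.conj s).toMonoidHom = NU V v i := by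
      intro i s hs
      exact Cfsg.Agent.Omega.NOThreeL.Pair.conj_eq_of_mem ((D.T_le_C i).trans (D.C_le_N_N i) hs)
    have key : ∀ {s : G}, s ∈ T → ∀ x ∈ ⁅NU V v i, NU V v j⁆, s * x * s⁻¹ ∈ ⁅NU V v i, NU V v j⁆ := by
      intro s hs x hx
      have h2 : s * x * s⁻¹ ∈ (⁅NU V v i, NU V v j⁆).map (MulAut.conj s).toMonoidHom := ⟨x, hx, rfl⟩
      rw [map_commutator, h1 i hs, h1 j hs] at h2
      exact h2
    rw [mem_normalizer_iff]
    intro x
    refine ⟨key ht x, fun hx => ?_⟩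
    have h2 := key (T.inv_mem ht) _ hx
    have e : t⁻¹ * (t * x * t⁻¹) * t⁻¹⁻¹ = x := by group
    rwa [e] at h2
  · rw [commutator_le]
    intro a ha b hb
    have h1 : b * a⁻¹ * b⁻¹ ∈ NU V v i :=
      (mem_normalizer_iff.1 (D.C_le_N_N i (D.N_le_C j i hb)) _).1 (inv_mem ha)
    have e : ⁅a, b⁆ = a * (b * a⁻¹ * b⁻¹) := by simp only [commutatorElement_def]; group
    rw [e]
    exact mul_mem ha h1

end Cfsg.Agent.Omega.TC.PhiZ
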