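import Cfsg.Agent.Omega.TC.Fr

/-!
# CARD #18791 "(E) = TWO CENTRES", `q = 2`: helper915 #19412, LEMMA T0

`sn B C` : the smallest subnormal subgroup of `C` containing `B` (the limit of the iterated normal closures);
`sn_eq_of_normal` : `B ≤ A ⊴ C ⟹ sn B C = sn B A`; `conj_sn`; `V_sn` : `sn B C = ⟨B ^ sn B C⟩`;
`le_o2_of_subnormal` : a 2-subgroup normal in `sn B C` lies in `O₂(C)`.

* `Fr.t0'` : **(T0')** `B` normalised by `C_i`, `B ≤ C_j`, `[B, W_j] = 1` ⟹ `X = sn B C_j` is normalised by `C_i` and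
  centralises `N_i`;
* `Fr.t0` : **LEMMA T0** `[N_i, W_j] = 1 ⟹ [N_i, N_j] = 1`;
* `Fr.t0_rad` : the radical case `v_i ∈ N_i`: `B ∩ Q_i ≤ Q_j`.
-/

set_option autoImplicit false
set_option linter.unusedSectionVars false

namespace Cfsg.Agent.Omega.TC

open Subgroup Cfsg Cfsg.Agent.ZN Cfsg.Agent.Omega.MinPar
open Cfsg.Agent.Omega.OM.KTwo (CC QQ WU NU EU FF ne_add_one eq_add_one add_one_add_one le_normalizer_V le_V)
open Cfsg.Agent.Omega.NoFF.Basic (conj_conj mem_conj conj_le_iff conj_le_centralizer comm_symm comm_mono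
  Z_le_V V_le conj_V_mul)
open Cfsg.Agent.Omega.NOThreeL.Pair (conj_eq_of_mem)
open Cfsg.Agent.MinSimple.VModule (mem_zc zc_le le_normalizer_o2 le_o2 o2_le o2_isPGroup)
open scoped Pointwise

universe u

variable {G : Type u} [Group G]

section sn

/-- iterated normal closures -/
def sS (B C : Subgroup G) : ℕ → Subgroup G
  | 0 => C
  | k + 1 => NoFF.Basic.V B (sS B C k)

theorem le_sS {B C : Subgroup G} (h : B ≤ C) : ∀ k, B ≤ sS B C k
  | 0 => h
  | _ + 1 => le_V _ _

theorem V_mono {B C C' : Subgroup G} (h : C ≤ C') : NoFF.Basic.V B C ≤ NoFF.Basic.V B C' :=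
  V_le fun _ hc => Z_le_V (h hc)

theorem V_le_self {B C : Subgroup G} (h : B ≤ C) : NoFF.Basic.V B C ≤ C :=
  V_le fun c hc => by
    have h1 := conj_le_iff (g := c).2 h
    rwa [NoFF.Basic.conj_self hc] at h1

theorem sS_succ_le {B C : Subgroup G} (h : B ≤ C) (k : ℕ) : sS B C (k + 1) ≤ sS B C k :=
  V_le_self (le_sS h k)

theorem sS_anti {B C : Subgroup G} (h : B ≤ C) {k l : ℕ} (hkl : k ≤ l) : sS B C l ≤ sS B C k := by
  induction hkl with
  | refl => exact le_rfl
  | step _ ih => exact (sS_succ_le h _).trans ih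

theorem sS_mono {B C C' : Subgroup G} (h : C ≤ C') : ∀ k, sS B C k ≤ sS B C' k
  | 0 => h
  | k + 1 => V_mono (sS_mono h k)

theorem sS_le_of_normal {B A C : Subgroup G} (hBA : B ≤ A) (hn : C ≤ normalizer (A : Set G)) :
    ∀ k, sS B C (k + 1) ≤ sS B A k
  | 0 => V_le fun c hc => by
      have h1 := conj_eq_of_mem (hn hc)
      rw [show sS B A 0 = A from rfl, ← h1]
      exact conj_le_iff.2 hBA
  | k + 1 => V_mono (sS_le_of_normal hBA hn k)

theorem conj_V (g : G) (B C : Subgroup G) :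
    MulAut.conj g • NoFF.Basic.V B C = NoFF.Basic.V (MulAut.conj g • B) (MulAut.conj g • C) := by
  have key : ∀ (g : G) (B C : Subgroup G),
      NoFF.Basic.V (MulAut.conj g • B) (MulAut.conj g • C) ≤ MulAut.conj g • NoFF.Basic.V B C := by
    intro g B C
    refine V_le fun c hc => ?_
    rw [mem_conj] at hc
    have h1 := conj_le_iff (g := g).2 (Z_le_V (Z := B) hc)
    rw [conj_conj] at h1 ⊢
    have e : g * (g⁻¹ * c * g) = c * g := by group
    rwa [e] at h1
  refine le_antisymm ?_ (key g B C)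
  have h1 := key g⁻¹ (MulAut.conj g • B) (MulAut.conj g • C)
  rw [conj_conj, conj_conj, inv_mul_cancel, map_one, one_smul, one_smul] at h1
  have h2 := conj_le_iff (g := g).2 h1
  rwa [conj_conj, mul_inv_cancel, map_one, one_smul] at h2

theorem conj_sS (g : G) (B C : Subgroup G) :
    ∀ k, MulAut.conj g • sS B C k = sS (MulAut.conj g • B) (MulAut.conj g • C) k
  | 0 => rfl
  | k + 1 => by
    rw [show sS B C (k + 1) = NoFF.Basic.V B (sS B C k) from rfl, conj_V, conj_sS g B C k]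
    rfl

/-- the smallest subnormal subgroup of `C` containing `B` -/
def sn (B C : Subgroup G) : Subgroup G := ⨅ k, sS B C k

theorem le_sn {B C : Subgroup G} (h : B ≤ C) : B ≤ sn B C := le_iInf (le_sS h)

theorem sn_le_sS (B C : Subgroup G) (k : ℕ) : sn B C ≤ sS B C k := iInf_le _ k

theorem sn_le (B C : Subgroup G) : sn B C ≤ C := sn_le_sS B C 0

theorem sn_eq_of_normal {B A C : Subgroup G} (hBA : B ≤ A) (hAC : A ≤ C) (hn : C ≤ normalizer (A : Set G)) :
    sn B C = sn B A :=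
  le_antisymm (le_iInf fun k => (sn_le_sS B C (k + 1)).trans (sS_le_of_normal hBA hn k))
    (le_iInf fun k => (sn_le_sS B A k).trans (sS_mono hAC k))

theorem conj_sn (g : G) (B C : Subgroup G) :
    MulAut.conj g • sn B C = sn (MulAut.conj g • B) (MulAut.conj g • C) := by
  apply le_antisymm
  · refine le_iInf fun k => ?_
    rw [← conj_sS]
    exact conj_le_iff.2 (sn_le_sS B C k)
  · have h1 : MulAut.conj g⁻¹ • sn (MulAut.conj g • B) (MulAut.conj g • C) ≤ sn B C := by
      refine le_iInf fun k => ?_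
      have h2 := conj_le_iff (g := g⁻¹).2 (sn_le_sS (MulAut.conj g • B) (MulAut.conj g • C) k)
      rw [← conj_sS, conj_conj, inv_mul_cancel, map_one, one_smul] at h2
      exact h2
    have h2 := conj_le_iff (g := g).2 h1
    rwa [conj_conj, mul_inv_cancel, map_one, one_smul] at h2

variable [Finite G]

/-- the chain becomes stationary -/
theorem exists_sn {B C : Subgroup G} (h : B ≤ C) : ∃ k, sn B C = sS B C k := by
  obtain ⟨k, hk⟩ : ∃ k, ∀ l, Nat.card (sS B C k) ≤ Nat.card (sS B C l) := by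
    classical
    have hne : (Set.range fun k => Nat.card (sS B C k)).Nonempty := Set.range_nonempty _
    obtain ⟨k, hk⟩ := WellFounded.min_mem (wellFounded_lt (α := ℕ)) _ hne
    refine ⟨k, fun l => ?_⟩
    have := WellFounded.not_lt_min (wellFounded_lt (α := ℕ)) (Set.range fun k => Nat.card (sS B C k)) ⟨l, rfl⟩
    simp only at hk
    rw [hk]
    exact not_lt.1 this
  refine ⟨k, le_antisymm (sn_le_sS B C k) (le_iInf fun l => ?_)⟩
  rcases le_total k l with hkl | hlk
  · have h1 := sS_anti h hkl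
    exact (Subgroup.eq_of_le_of_card_ge h1 (hk l)).ge
  · exact sS_anti h hlk

theorem V_sn {B C : Subgroup G} (h : B ≤ C) : NoFF.Basic.V B (sn B C) = sn B C := by
  apply le_antisymm (V_le_self (le_sn h))
  obtain ⟨k, hk⟩ := exists_sn h
  calc sn B C ≤ sS B C (k + 1) := sn_le_sS B C (k + 1)
    _ = NoFF.Basic.V B (sn B C) := by rw [hk]; rfl

theorem o2_le_o2_of_normal {A C : Subgroup G} (hAC : A ≤ C) (hn : C ≤ normalizer (A : Set G)) : o2 A ≤ o2 C := by
  refine le_o2 ((o2_le A).trans hAC) (o2_isPGroup A) ?_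
  exact hn.trans (Cfsg.Agent.Omega.normalizer_le_normalizer_o2' A)

/-- a normal 2-subgroup of `sn B C` lies in `O₂(C)` -/
theorem le_o2_of_subnormal {B C X : Subgroup G} (h : B ≤ C) (hX : X ≤ sn B C) (hX2 : IsPGroup 2 X)
    (hXn : sn B C ≤ normalizer (X : Set G)) : X ≤ o2 C := by
  obtain ⟨k, hk⟩ := exists_sn h
  have h1 : X ≤ o2 (sS B C k) := by
    rw [← hk]
    exact le_o2 hX hX2 hXn
  have h2 : ∀ k, o2 (sS B C k) ≤ o2 C := by
    intro k
    induction k with
    | zero => exact le_rfl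
    | succ k ih =>
      refine le_trans (o2_le_o2_of_normal (sS_succ_le h k) ?_) ih
      exact le_normalizer_V _ _
  exact h1.trans (h2 k)

end sn

namespace Fr

variable [Finite G] {T : Subgroup G} {V P : Fin 2 → Subgroup G} {v : Fin 2 → G} (D : Fr T V P v)

include D

/-- **(T0')** of #19412. -/
theorem t0' {i j : Fin 2} (hij : i ≠ j) {B : Subgroup G} (hn : CC v i ≤ normalizer (B : Set G))
    (hBC : B ≤ CC v j) (hBW : B ≤ centralizer (WU V v j : Set G)) :
    CC v i ≤ normalizer (sn B (CC v j) : Set G) ∧ sn B (CC v j) ≤ centralizer (NU V v i : Set G) := by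
  have hj := eq_add_one hij
  -- `M_j = ⟨B ^ C_j⟩` centralises `W_j`
  set M : Subgroup G := NoFF.Basic.V B (CC v j) with hM
  have hMC : M ≤ CC v j := V_le_self hBC
  have hMn : CC v j ≤ normalizer (M : Set G) := le_normalizer_V _ _
  have hMW : M ≤ centralizer (WU V v j : Set G) := V_le fun c hc => by
    have h1 := conj_le_centralizer (g := c) hBW
    rwa [conj_eq_of_mem (D.C_le_N_W j hc)] at h1
  have hMV : M ≤ centralizer (V j : Set G) := hMW.trans (centralizer_le (D.V_le_W j))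
  have hBM : B ≤ M := le_V _ _
  have hX : sn B (CC v j) = sn B M := sn_eq_of_normal hBM hMC hMn
  have hP : P j ≤ normalizer (sn B (CC v j) : Set G) := by
    intro x hx
    have hxC : x ∈ CC v i := D.PC j i hij.symm hx
    have hxB : MulAut.conj x • B = B := conj_eq_of_mem (hn hxC)
    have hxV : MulAut.conj x • V j = V j := conj_eq_of_mem (D.PN j j hx)
    set M' : Subgroup G := MulAut.conj x • M with hM'
    have hM'V : M' ≤ centralizer (V j : Set G) := by
      have h1 := conj_le_centralizer (g := x) hMV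
      rwa [hxV] at h1
    have hVC : centralizer (V j : Set G) ≤ CC v j :=
      centralizer_le (Set.singleton_subset_iff.2 (D.mem j))
    have hVC' : centralizer (V j : Set G) ≤ MulAut.conj x • CC v j := by
      intro c hc
      rw [mem_conj]
      rw [mem_centralizer_singleton_iff]
      have h1 : x * v j * x⁻¹ ∈ V j := (mem_normalizer_iff.1 (D.PN j j hx) _).1 (D.mem j)
      have h2 : (x * v j * x⁻¹) * c = c * (x * v j * x⁻¹) := mem_centralizer_iff.1 hc _ h1
      calc x⁻¹ * c * x * v j = x⁻¹ * (c * (x * v j * x⁻¹)) * x := by group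
        _ = x⁻¹ * ((x * v j * x⁻¹) * c) * x := by rw [h2]
        _ = v j * (x⁻¹ * c * x) := by group
    have hM'n : MulAut.conj x • CC v j ≤ normalizer (M' : Set G) := by
      have h1 : MulAut.conj x • CC v j ≤ MulAut.conj x • normalizer (M : Set G) := conj_le_iff.2 hMn
      exact h1.trans (Cfsg.Agent.Omega.NoFF.Main.normalizer_conj _ _).ge
    have hBM' : B ≤ M' := by
      rw [← hxB]
      exact conj_le_iff.2 hBM
    have hMM' : M ⊔ M' ≤ normalizer (M : Set G) :=
      sup_le le_normalizer ((hM'V.trans hVC).trans hMn)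
    have hM'M : M ⊔ M' ≤ normalizer (M' : Set G) :=
      sup_le ((hMV.trans hVC').trans hM'n) le_normalizer
    have e1 : sn B (M ⊔ M') = sn B M := sn_eq_of_normal hBM le_sup_left hMM'
    have e2 : sn B (M ⊔ M') = sn B M' := sn_eq_of_normal hBM' le_sup_right hM'M
    have e3 : MulAut.conj x • sn B (CC v j) = sn B (CC v j) := by
      rw [hX, conj_sn, hxB, ← hM', ← e2, e1]
    exact ChoiceBase.mem_normalizer_iff_cj.2 e3
  have hDn : centralizer (zc T : Set G) ≤ normalizer (sn B (CC v j) : Set G) := by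
    intro d hd
    have h1 : MulAut.conj d • B = B := conj_eq_of_mem (hn (D.cent_zc_le i hd))
    have h2 : MulAut.conj d • CC v j = CC v j := D.conj_CC (D.cent_zc_le j hd)
    have e3 : MulAut.conj d • sn B (CC v j) = sn B (CC v j) := by rw [conj_sn, h1, h2]
    exact ChoiceBase.mem_normalizer_iff_cj.2 e3
  have hC : CC v i ≤ normalizer (sn B (CC v j) : Set G) := (D.gen hij.symm).trans (sup_le hP hDn)
  refine ⟨hC, ?_⟩
  -- `v j` is central in `X`
  refine comm_symm (V_le fun c hc => ?_)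
  rw [← hj]
  intro w hw
  rw [mem_conj] at hw
  by_cases hw1 : w = 1
  · rw [hw1]; exact one_mem _
  have hw1' : c⁻¹ * w * c ≠ 1 := by
    intro h'
    apply hw1
    have h3 := congrArg (fun t => c * t * c⁻¹) h'
    simpa [mul_assoc] using h3
  obtain ⟨l, hl, -, hlw⟩ := D.tr hij.symm hw hw1'
  have hlC : l ∈ CC v i := D.PC j i hij.symm hl
  have h0 : v j ∈ centralizer (sn B (CC v j) : Set G) := by
    rw [mem_centralizer_iff]
    intro y hy
    exact mem_centralizer_singleton_iff.1 (sn_le _ _ hy)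
  have h1 : (c * l) * v j * (c * l)⁻¹ ∈ centralizer (sn B (CC v j) : Set G) := by
    rw [mem_centralizer_iff]
    intro y hy
    have h2 : (c * l)⁻¹ * y * (c * l)⁻¹⁻¹ ∈ sn B (CC v j) :=
      (mem_normalizer_iff.1 (hC (inv_mem (mul_mem hc hlC))) y).1 hy
    have h3 := mem_centralizer_iff.1 h0 _ h2
    calc y * (c * l * v j * (c * l)⁻¹) = (c * l) * (((c * l)⁻¹ * y * (c * l)⁻¹⁻¹) * v j) * (c * l)⁻¹ := by group
      _ = (c * l) * (v j * ((c * l)⁻¹ * y * (c * l)⁻¹⁻¹)) * (c * l)⁻¹ := by rw [h3]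
      _ = (c * l * v j * (c * l)⁻¹) * y := by group
  have e : (c * l) * v j * (c * l)⁻¹ = c * (l * v j * l⁻¹) * c⁻¹ := by group
  rw [e, hlw] at h1
  have e2 : c * (c⁻¹ * w * c) * c⁻¹ = w := by group
  rwa [e2] at h1

/-- **LEMMA T0** (#19412): `[N_i, W_j] = 1` implies `[N_i, N_j] = 1`, even `N_i ≤ Q_j`. -/
theorem t0_le {i j : Fin 2} (hij : i ≠ j) (h : NU V v i ≤ centralizer (WU V v j : Set G)) : NU V v i ≤ QQ v j := by
  have hj := eq_add_one hij
  obtain ⟨hn, hc⟩ := D.t0' hij (D.C_le_N_N i) (D.N_le_C i j) h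
  have hX : NU V v i ≤ sn (NU V v i) (CC v j) := le_sn (D.N_le_C i j)
  have e : sn (NU V v i) (CC v j) = NU V v i := by
    apply le_antisymm _ hX
    rw [← V_sn (D.N_le_C i j)]
    refine V_le fun c hc' => ?_
    have h1 : c ∈ normalizer (NU V v i : Set G) := centralizer_le_normalizer _ (hc hc')
    rw [conj_eq_of_mem h1]
  refine le_o2_of_subnormal (D.N_le_C i j) (by rw [e]) (D.T_isPGroup.to_le (D.N_le_T i)) ?_
  rw [e]
  exact le_normalizer

/-- **LEMMA T0** (#19412): `[N_i, W_j] = 1` implies `[N_i, N_j] = 1`. -/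
theorem t0 {i j : Fin 2} (hij : i ≠ j) (h : NU V v i ≤ centralizer (WU V v j : Set G)) :
    NU V v i ≤ centralizer (NU V v j : Set G) := (D.t0_le hij h).trans (D.Q_le_cent_N j)

/-- LEMMA T0, contrapositive: `d = 1` implies `[N_i, W_j] ≠ 1`. -/
theorem not_NW {i j : Fin 2} (hij : i ≠ j) (h : ¬ NU V v 0 ≤ centralizer (NU V v 1 : Set G)) :
    ¬ NU V v i ≤ centralizer (WU V v j : Set G) := by
  intro h1
  apply h
  have h2 := D.t0 hij h1
  rcases Fin.exists_fin_two.1 ⟨i, rfl⟩ with hi | hi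
  · have hj : j = 1 := by rw [eq_add_one hij, hi]; rfl
    rw [hi, hj] at h2
    exact h2
  · have hj : j = 0 := by rw [eq_add_one hij, hi]; rfl
    rw [hi, hj] at h2
    exact comm_symm h2

/-- (T0'), radical case `v_i ∈ N_i`: `B ∩ Q_i ≤ Q_j`. -/
theorem t0_rad {i j : Fin 2} (hij : i ≠ j) (hr : v i ∈ NU V v i) {B : Subgroup G}
    (hn : CC v i ≤ normalizer (B : Set G)) (hBC : B ≤ CC v j)
    (hBW : B ≤ centralizer (WU V v j : Set G)) : B ⊓ QQ v i ≤ QQ v j := by
  obtain ⟨hC, hc⟩ := D.t0' hij hn hBC hBW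
  have hXC : sn B (CC v j) ≤ CC v i := by
    intro x hx
    rw [mem_centralizer_singleton_iff]
    exact (mem_centralizer_iff.1 (hc hx) _ hr).symm
  have h1 : sn B (CC v j) ⊓ QQ v i ≤ o2 (CC v j) := by
    refine le_o2_of_subnormal hBC inf_le_left (D.T_isPGroup.to_le (inf_le_right.trans (D.Q_le_T i))) ?_
    intro x hx
    have ha : x ∈ normalizer (sn B (CC v j) : Set G) := le_normalizer hx
    have hb : x ∈ normalizer (QQ v i : Set G) := le_normalizer_o2 _ (hXC hx)
    rw [mem_normalizer_iff] at ha hb ⊢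
    intro y
    exact ⟨fun hy => ⟨(ha y).1 hy.1, (hb y).1 hy.2⟩, fun hy => ⟨(ha y).2 hy.1, (hb y).2 hy.2⟩⟩
  exact (inf_le_inf_right _ (le_sn hBC)).trans h1

/-- the same with `X = sn B C_j`. -/
theorem t0_rad_sn {i j : Fin 2} (hij : i ≠ j) (hr : v i ∈ NU V v i) {B : Subgroup G}
    (hn : CC v i ≤ normalizer (B : Set G)) (hBC : B ≤ CC v j)
    (hBW : B ≤ centralizer (WU V v j : Set G)) : sn B (CC v j) ≤ CC v i ∧ sn B (CC v j) ⊓ QQ v i ≤ QQ v j := by
  obtain ⟨hC, hc⟩ := D.t0' hij hn hBC hBW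
  have hXC : sn B (CC v j) ≤ CC v i := by
    intro x hx
    rw [mem_centralizer_singleton_iff]
    exact (mem_centralizer_iff.1 (hc hx) _ hr).symm
  refine ⟨hXC, ?_⟩
  refine le_o2_of_subnormal hBC inf_le_left (D.T_isPGroup.to_le (inf_le_right.trans (D.Q_le_T i))) ?_
  intro x hx
  have ha : x ∈ normalizer (sn B (CC v j) : Set G) := le_normalizer hx
  have hb : x ∈ normalizer (QQ v i : Set G) := le_normalizer_o2 _ (hXC hx)
  rw [mem_normalizer_iff] at ha hb ⊢
  intro y
  exact ⟨fun hy => ⟨(ha y).1 hy.1, (hb y).1 hy.2⟩, fun hy => ⟨(ha y).2 hy.1, (hb y).2 hy.2⟩⟩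

end Fr

end Cfsg.Agent.Omega.TC
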