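import Cfsg.Agent.Omega.TC.LemZ
import Cfsg.Agent.Omega.TC.TZero

/-!
# Ranks: `AA(O₂(D))` is exact (609 R6 #20647 (1); helper788 #21952 (0), (1); helper254 #21690 (1))

`O = o2 (centralizer (zc T)) = O₂(D)`. No swap, no hypothesis on `J(T)`.
* `thompson`, `swap_mem` : Thompson's replacement count, abstract;
* `Fr.ex_AA` : every `A ∈ AA(O)` is exact on `N_i`;
* `Fr.sharp_mem` : `C_A(N_i) N_i ∈ AA(O)`, `Fr.sharp_mem_Q` : `∈ AA(Q_i)`; `Fr.mm_Q` : `r(Q_i) = r(O)`; `Fr.AA_Q_le` : `AA(Q_i) ⊆ AA(O)`;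
* `Fr.exZ_AA`, `Fr.sharpZ_mem` : the same for `Z_i = ZV V v i = ⟨v (i+1) ^ C_G(V i)⟩`;
* `Fr.CZ_ex` : `C_A(Z_i)` is exact on `N_i` (or centralises it), `Fr.CZ_le_o2` : `C_O(Z_i) ∩ N(V i) ∩ C_i ≤ O₂(N_{C_i}(V i))`;
* `Fr.CZ_dich` : if `C_A(Z_i)` centralises `N_i`, then `C_A(Z_i) Z_i = C_A(N_i) N_i`.
-/

set_option autoImplicit false
set_option linter.unusedSectionVars false
set_option maxHeartbeats 400000

namespace Cfsg.Agent.Omega.TC.Ranks

open Subgroup Cfsg Cfsg.Agent.ZN Cfsg.Agent.Omega.MinPar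
open Cfsg.Agent.Omega.OM.KTwo (CC QQ WU NU EU ne_add_one eq_add_one add_one_add_one le_normalizer_V le_V)
open Cfsg.Agent.Omega.NoFF.Basic (conj_conj mem_conj conj_le_iff comm_symm comm_mono Z_le_V V_le)
open Cfsg.Agent.ZN.ChoiceSit (Syl syl_conj syl_not_dvd)
open Cfsg.Agent.ZN.ChoiceBase (AA mm mm_eq mem_AA_iff card_le_mm mm_mono)
open Cfsg.Agent.PLocal.ElemAbSup (card_sup_mul_card_inf isElementaryAbelian_sup)
open Cfsg.Agent.PLocal.ThompsonJ (isElementaryAbelian_iff)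
open Cfsg.Agent.Omega.OM.PG.Int (Ex)
open Cfsg.Agent.Omega.TC.LemZ (ZV card_eq ZV_le v_mem_ZV NH_eq cent_V_le norm_cent norm_inf N_V_le)
open scoped Pointwise commutatorElement

universe u

variable {G : Type u} [Group G]

/-! ### abstract part -/

theorem ea_of {U : Subgroup G} (h2 : ∀ x ∈ U, x ^ 2 = 1) : IsElementaryAbelian 2 U := by
  rw [isElementaryAbelian_iff]
  refine ⟨fun x hx y hy => ?_, h2⟩
  have h3 := h2 _ (mul_mem hx hy)
  have h4 := h2 x hx
  have h5 := h2 y hy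
  rw [pow_two] at h3 h4 h5
  calc x * y = x * (x * y * (x * y)) * y := by rw [h3, mul_one]
    _ = (x * x) * (y * x) * (y * y) := by group
    _ = y * x := by rw [h4, h5, one_mul, mul_one]

theorem sq_of {A : Subgroup G} (h : IsElementaryAbelian 2 A) : ∀ x ∈ A, x ^ 2 = 1 :=
  ((isElementaryAbelian_iff).1 h).2

theorem comm_of {A : Subgroup G} (h : IsElementaryAbelian 2 A) : A ≤ centralizer (A : Set G) := by
  intro x hx
  rw [mem_centralizer_iff]
  intro y hy
  exact ((isElementaryAbelian_iff).1 h).1 y hy x hx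

theorem ea_mono {A B : Subgroup G} (h : IsElementaryAbelian 2 A) (hB : B ≤ A) : IsElementaryAbelian 2 B :=
  ea_of fun x hx => sq_of h x (hB hx)

section

variable [Finite G] {O A U : Subgroup G}

/-- `C_U(A) ≤ A` for `A ∈ AA(O)` -/
theorem inf_cent_le (hA : A ∈ AA O) (hU2 : ∀ x ∈ U, x ^ 2 = 1) (hUO : U ≤ O) :
    U ⊓ centralizer (A : Set G) ≤ A := by
  have h1 : IsElementaryAbelian 2 (A ⊔ (U ⊓ centralizer (A : Set G)) : Subgroup G) :=
    isElementaryAbelian_sup hA.1 (ea_of fun x hx => hU2 x hx.1) inf_le_right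
  have h2 := hA.2.2 _ h1 (sup_le hA.2.1 (inf_le_left.trans hUO))
  have h3 : A = A ⊔ (U ⊓ centralizer (A : Set G)) := Subgroup.eq_of_le_of_card_ge le_sup_left h2
  calc U ⊓ centralizer (A : Set G) ≤ A ⊔ (U ⊓ centralizer (A : Set G)) := le_sup_right
    _ = A := h3.symm

theorem inf_eq (hA : A ∈ AA O) (hU2 : ∀ x ∈ U, x ^ 2 = 1) (hUO : U ≤ O) :
    A ⊓ centralizer (U : Set G) ⊓ U = U ⊓ centralizer (A : Set G) := by
  have hUc : U ≤ centralizer (U : Set G) := comm_of (ea_of hU2)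
  have hAc : A ≤ centralizer (A : Set G) := comm_of hA.1
  apply le_antisymm
  · exact le_inf inf_le_right ((inf_le_left.trans inf_le_left).trans hAc)
  · exact le_inf (le_inf (inf_cent_le hA hU2 hUO) (inf_le_left.trans hUc)) inf_le_left

theorem sharp_ea (hA : A ∈ AA O) (hU2 : ∀ x ∈ U, x ^ 2 = 1) :
    IsElementaryAbelian 2 (A ⊓ centralizer (U : Set G) ⊔ U : Subgroup G) :=
  isElementaryAbelian_sup (ea_mono hA.1 inf_le_left) (ea_of hU2) (comm_symm inf_le_right)

theorem sharp_card (hA : A ∈ AA O) (hU2 : ∀ x ∈ U, x ^ 2 = 1) (hUO : U ≤ O) :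
    Nat.card (A ⊓ centralizer (U : Set G) ⊔ U : Subgroup G) =
      Nat.card (A ⊓ centralizer (U : Set G) : Subgroup G) * (centralizer (A : Set G)).relIndex U := by
  have h1 := card_sup_mul_card_inf (A := A ⊓ centralizer (U : Set G)) (B := U) (comm_symm inf_le_right)
  rw [inf_eq hA hU2 hUO, card_eq U (centralizer (A : Set G))] at h1
  have hpos : 0 < Nat.card (U ⊓ centralizer (A : Set G) : Subgroup G) := Nat.card_pos
  apply Nat.eq_of_mul_eq_mul_right hpos
  rw [h1]; ring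

/-- Thompson: `|U : C_U(A)| ≤ |A : C_A(U)|` -/
theorem thompson (hA : A ∈ AA O) (hU2 : ∀ x ∈ U, x ^ 2 = 1) (hUO : U ≤ O) :
    (centralizer (A : Set G)).relIndex U ≤ (centralizer (U : Set G)).relIndex A := by
  have h1 := hA.2.2 _ (sharp_ea hA hU2) (sup_le (inf_le_left.trans hA.2.1) hUO)
  rw [sharp_card hA hU2 hUO, card_eq A (centralizer (U : Set G))] at h1
  have hpos : 0 < Nat.card (A ⊓ centralizer (U : Set G) : Subgroup G) := Nat.card_pos
  exact Nat.le_of_mul_le_mul_left h1 hpos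

/-- exactness on `U` ⟹ `C_A(U) U ∈ AA(O)` -/
theorem swap_mem (hA : A ∈ AA O) (hU2 : ∀ x ∈ U, x ^ 2 = 1) (hUO : U ≤ O)
    (hno : (centralizer (U : Set G)).relIndex A ≤ (centralizer (A : Set G)).relIndex U) :
    A ⊓ centralizer (U : Set G) ⊔ U ∈ AA O := by
  refine ⟨sharp_ea hA hU2, sup_le (inf_le_left.trans hA.2.1) hUO, fun B hB hBO => ?_⟩
  refine (hA.2.2 B hB hBO).trans ?_
  rw [sharp_card hA hU2 hUO, card_eq A (centralizer (U : Set G))]
  exact Nat.mul_le_mul_left _ hno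

end

end Cfsg.Agent.Omega.TC.Ranks

namespace Cfsg.Agent.Omega.TC.Fr

open Subgroup Cfsg Cfsg.Agent.ZN Cfsg.Agent.Omega.MinPar
open Cfsg.Agent.Omega.OM.KTwo (CC QQ WU NU EU ne_add_one eq_add_one add_one_add_one le_normalizer_V le_V)
open Cfsg.Agent.Omega.NoFF.Basic (conj_conj mem_conj conj_le_iff comm_symm comm_mono Z_le_V V_le)
open Cfsg.Agent.ZN.ChoiceSit (Syl syl_conj syl_not_dvd)
open Cfsg.Agent.ZN.ChoiceBase (AA mm mm_eq mem_AA_iff card_le_mm mm_mono)
open Cfsg.Agent.PLocal.ElemAbSup (card_sup_mul_card_inf isElementaryAbelian_sup)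
open Cfsg.Agent.PLocal.ThompsonJ (isElementaryAbelian_iff)
open Cfsg.Agent.Omega.OM.PG.Int (Ex)
open Cfsg.Agent.Omega.TC.LemZ (ZV card_eq ZV_le v_mem_ZV NH_eq cent_V_le norm_cent norm_inf N_V_le)
open Cfsg.Agent.Omega.TC.Ranks
open scoped Pointwise commutatorElement

universe u

variable {G : Type u} [Group G]

variable [Finite G] {T : Subgroup G} {V P : Fin 2 → Subgroup G} {v : Fin 2 → G} (D : Fr T V P v)

include D

/-- **R6 (1)**: `A ∈ AA(O₂(D))` is exact on `N_i` -/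
theorem ex_AA (hML : ML.Final.MLK.{u, u}) {i : Fin 2} (hK : IsKGroup (CC v i)) {A : Subgroup G}
    (hA : A ∈ AA (o2 (centralizer (zc T : Set G)))) : Ex A (NU V v i) :=
  le_antisymm (D.no_N hML hK hA.2.1 (sq_of hA.1)) (thompson hA (D.N_sq i) (D.N_le_oD i))

/-- `C_A(N_i) N_i ∈ AA(O₂(D))` -/
theorem sharp_mem (hML : ML.Final.MLK.{u, u}) {i : Fin 2} (hK : IsKGroup (CC v i)) {A : Subgroup G}
    (hA : A ∈ AA (o2 (centralizer (zc T : Set G)))) :
    A ⊓ centralizer (NU V v i : Set G) ⊔ NU V v i ∈ AA (o2 (centralizer (zc T : Set G))) :=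
  swap_mem hA (D.N_sq i) (D.N_le_oD i) (D.no_N hML hK hA.2.1 (sq_of hA.1))

theorem inf_cent_N_le_Q (i : Fin 2) {A : Subgroup G} (hA : A ≤ o2 (centralizer (zc T : Set G))) :
    A ⊓ centralizer (NU V v i : Set G) ≤ QQ v i := (inf_le_inf_right _ hA).trans (D.f3 i)

theorem sharp_le_Q (i : Fin 2) {A : Subgroup G} (hA : A ≤ o2 (centralizer (zc T : Set G))) :
    A ⊓ centralizer (NU V v i : Set G) ⊔ NU V v i ≤ QQ v i :=
  sup_le (D.inf_cent_N_le_Q i hA) (D.N_le_Q i)

/-- `r(Q_i) = r(O₂(D))` -/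
theorem mm_Q (hML : ML.Final.MLK.{u, u}) {i : Fin 2} (hK : IsKGroup (CC v i)) :
    mm (QQ v i) = mm (o2 (centralizer (zc T : Set G))) := by
  refine le_antisymm (mm_mono (D.Q_le_o2D i)) ?_
  obtain ⟨A, hA⟩ := ChoiceBase.AA_nonempty (o2 (centralizer (zc T : Set G)))
  have h := D.sharp_mem hML hK hA
  rw [mm_eq h]
  exact card_le_mm h.1 (D.sharp_le_Q i hA.2.1)

/-- `AA(Q_i) ⊆ AA(O₂(D))` -/
theorem AA_Q_le (hML : ML.Final.MLK.{u, u}) {i : Fin 2} (hK : IsKGroup (CC v i)) {A : Subgroup G}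
    (hA : A ∈ AA (QQ v i)) : A ∈ AA (o2 (centralizer (zc T : Set G))) := by
  rw [mem_AA_iff] at hA ⊢
  exact ⟨hA.1, hA.2.1.trans (D.Q_le_o2D i), (D.mm_Q hML hK) ▸ hA.2.2⟩

/-- a member of `AA(O₂(D))` inside `Q_i` is a member of `AA(Q_i)` -/
theorem AA_Q_of (i : Fin 2) {A : Subgroup G}
    (hA : A ∈ AA (o2 (centralizer (zc T : Set G)))) (hQ : A ≤ QQ v i) : A ∈ AA (QQ v i) :=
  ⟨hA.1, hQ, fun B hB hBQ => hA.2.2 B hB (hBQ.trans (D.Q_le_o2D i))⟩

/-- `C_A(N_i) N_i ∈ AA(Q_i)` -/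
theorem sharp_mem_Q (hML : ML.Final.MLK.{u, u}) {i : Fin 2} (hK : IsKGroup (CC v i)) {A : Subgroup G}
    (hA : A ∈ AA (o2 (centralizer (zc T : Set G)))) :
    A ⊓ centralizer (NU V v i : Set G) ⊔ NU V v i ∈ AA (QQ v i) :=
  D.AA_Q_of i (D.sharp_mem hML hK hA) (D.sharp_le_Q i hA.2.1)

/-- a member of `AA(O₂(D))` is in `Q_i` iff it centralises `N_i` -/
theorem le_Q_iff (i : Fin 2) {A : Subgroup G} (hA : A ≤ o2 (centralizer (zc T : Set G))) :
    A ≤ QQ v i ↔ A ≤ centralizer (NU V v i : Set G) :=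
  ⟨fun h => h.trans (D.Q_le_cent_N i), fun h => (le_inf hA h).trans (D.f3 i)⟩

/-! ### `Z_i` -/

/-- `H = C_G(V i) T` -/
theorem VT_le (i : Fin 2) : centralizer (V i : Set G) ⊔ T ≤ CC v i := sup_le (cent_V_le D i) (D.T_le_C i)

theorem ZV_sq (i : Fin 2) : ∀ x ∈ ZV V v i, x ^ 2 = 1 := fun x hx => D.N_sq i x (ZV_le D i hx)

theorem ZV_le_oD (i : Fin 2) : ZV V v i ≤ o2 (centralizer (zc T : Set G)) := (ZV_le D i).trans (D.N_le_oD i)

theorem noZ (hML : ML.Final.MLK.{u, u}) {i : Fin 2} (hK : IsKGroup (CC v i)) {A : Subgroup G}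
    (hA : A ≤ o2 (centralizer (zc T : Set G))) (hA2 : ∀ a ∈ A, a ^ 2 = 1) :
    (centralizer (ZV V v i : Set G)).relIndex A ≤ (centralizer (A : Set G)).relIndex (ZV V v i) := by
  have h := D.no_H hML (A := A) hK (le_sup_right : T ≤ centralizer (V i : Set G) ⊔ T) (D.VT_le i) hA
    ((hA.trans D.o2D_le_T).trans le_sup_right) hA2
  rwa [NH_eq D i] at h

/-- `A ∈ AA(O₂(D))` is exact on `Z_i` -/
theorem exZ_AA (hML : ML.Final.MLK.{u, u}) {i : Fin 2} (hK : IsKGroup (CC v i)) {A : Subgroup G}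
    (hA : A ∈ AA (o2 (centralizer (zc T : Set G)))) : Ex A (ZV V v i) :=
  le_antisymm (D.noZ hML hK hA.2.1 (sq_of hA.1)) (thompson hA (D.ZV_sq i) (D.ZV_le_oD i))

/-- `C_A(Z_i) Z_i ∈ AA(O₂(D))` -/
theorem sharpZ_mem (hML : ML.Final.MLK.{u, u}) {i : Fin 2} (hK : IsKGroup (CC v i)) {A : Subgroup G}
    (hA : A ∈ AA (o2 (centralizer (zc T : Set G)))) :
    A ⊓ centralizer (ZV V v i : Set G) ⊔ ZV V v i ∈ AA (o2 (centralizer (zc T : Set G))) :=
  swap_mem hA (D.ZV_sq i) (D.ZV_le_oD i) (D.noZ hML hK hA.2.1 (sq_of hA.1))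

/-- **`C_A(Z_i)` is exact on `N_i`** (or centralises it) if `A ≤ O₂(D)` is exact on `N_i`. -/
theorem CZ_ex (hML : ML.Final.MLK.{u, u}) {i : Fin 2} (hK : IsKGroup (CC v i)) {A : Subgroup G}
    (hA : A ≤ o2 (centralizer (zc T : Set G))) (hA2 : ∀ a ∈ A, a ^ 2 = 1) (hEx : Ex A (NU V v i)) :
    Ex (A ⊓ centralizer (ZV V v i : Set G)) (NU V v i) := by
  set N := NU V v i with hN
  set Z := ZV V v i with hZ
  set B : Subgroup G := A ⊓ centralizer (Z : Set G) with hB
  have hZN : Z ≤ N := ZV_le D i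
  have hNc : N ≤ centralizer (N : Set G) := D.N_comm i
  refine le_antisymm (D.no_N hML hK (inf_le_left.trans hA) fun a ha => hA2 a ha.1) ?_
  -- `|N : C_N(B)| ≤ |N : Z C_N(A)|`
  have h0 : (centralizer (Z : Set G)).relIndex A ≤ (centralizer (A : Set G)).relIndex Z := D.noZ hML hK hA hA2
  have c1 : Nat.card A = Nat.card B * (centralizer (Z : Set G)).relIndex A := card_eq A _
  have c2 : Nat.card A = Nat.card (A ⊓ centralizer (N : Set G) : Subgroup G) * (centralizer (N : Set G)).relIndex A :=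
    card_eq A _
  have hBN : B ⊓ centralizer (N : Set G) = A ⊓ centralizer (N : Set G) := by
    apply le_antisymm
    · exact inf_le_inf_right _ inf_le_left
    · exact le_inf (le_inf inf_le_left (inf_le_right.trans (centralizer_le hZN))) inf_le_right
  have c3 : Nat.card B = Nat.card (A ⊓ centralizer (N : Set G) : Subgroup G) * (centralizer (N : Set G)).relIndex B := by
    rw [← hBN]; exact card_eq B _
  have c4 : Nat.card N = Nat.card (N ⊓ centralizer (A : Set G) : Subgroup G) * (centralizer (A : Set G)).relIndex N :=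
    card_eq N _
  have c5 : Nat.card N = Nat.card (N ⊓ centralizer (B : Set G) : Subgroup G) * (centralizer (B : Set G)).relIndex N :=
    card_eq N _
  -- `Z C_N(A) ≤ C_N(B)`
  have hYZ : N ⊓ centralizer (A : Set G) ≤ centralizer (Z : Set G) := (inf_le_left.trans hNc).trans (centralizer_le hZN)
  have c6 : Nat.card (Z ⊔ (N ⊓ centralizer (A : Set G)) : Subgroup G) =
      (centralizer (A : Set G)).relIndex Z * Nat.card (N ⊓ centralizer (A : Set G) : Subgroup G) := by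
    have h4 := card_sup_mul_card_inf hYZ
    have h5 : Z ⊓ (N ⊓ centralizer (A : Set G)) = Z ⊓ centralizer (A : Set G) := by
      rw [← inf_assoc, inf_eq_left.2 hZN]
    rw [h5] at h4
    have h6 : Nat.card Z = Nat.card (Z ⊓ centralizer (A : Set G) : Subgroup G) * (centralizer (A : Set G)).relIndex Z :=
      card_eq Z _
    have hpos : 0 < Nat.card (Z ⊓ centralizer (A : Set G) : Subgroup G) := Nat.card_pos
    apply Nat.eq_of_mul_eq_mul_right hpos
    rw [h4, h6]; ring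
  have hle : Z ⊔ (N ⊓ centralizer (A : Set G)) ≤ N ⊓ centralizer (B : Set G) := by
    refine sup_le (le_inf hZN (comm_symm inf_le_right)) (le_inf inf_le_left ?_)
    exact inf_le_right.trans (centralizer_le inf_le_left)
  have c7 : (centralizer (A : Set G)).relIndex Z * Nat.card (N ⊓ centralizer (A : Set G) : Subgroup G) ≤
      Nat.card (N ⊓ centralizer (B : Set G) : Subgroup G) := by
    rw [← c6]; exact Subgroup.card_le_of_le hle
  have hex : (centralizer (N : Set G)).relIndex A = (centralizer (A : Set G)).relIndex N := hEx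
  generalize (centralizer (Z : Set G)).relIndex A = a at *
  generalize (centralizer (A : Set G)).relIndex Z = b at *
  generalize hr : (centralizer (N : Set G)).relIndex A = r at *
  generalize hs : (centralizer (N : Set G)).relIndex B = s at *
  generalize ht : (centralizer (B : Set G)).relIndex N = t at *
  generalize (centralizer (A : Set G)).relIndex N = r' at *
  subst hex
  have hx : 0 < Nat.card (A ⊓ centralizer (N : Set G) : Subgroup G) := Nat.card_pos
  have hy : 0 < Nat.card (N ⊓ centralizer (A : Set G) : Subgroup G) := Nat.card_pos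
  have hc : 0 < Nat.card (N ⊓ centralizer (B : Set G) : Subgroup G) := Nat.card_pos
  generalize Nat.card (A ⊓ centralizer (N : Set G) : Subgroup G) = x at *
  generalize Nat.card (N ⊓ centralizer (A : Set G) : Subgroup G) = y at *
  generalize Nat.card (N ⊓ centralizer (B : Set G) : Subgroup G) = c at *
  have hra : r = s * a := by
    apply Nat.eq_of_mul_eq_mul_left hx
    rw [← c2, c1, c3]; ring
  have e1 : y * (s * a) = c * t := by rw [← hra, ← c4, c5]
  -- `c t = y s a ≤ y s b ≤ s c`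
  have e2 : c * t ≤ c * s := by
    calc c * t = y * (s * a) := e1.symm
      _ = (a * y) * s := by ring
      _ ≤ (b * y) * s := Nat.mul_le_mul_right _ (Nat.mul_le_mul_right _ h0)
      _ ≤ c * s := Nat.mul_le_mul_right _ c7
  exact Nat.le_of_mul_le_mul_left e2 hc

theorem CZ_ex_AA (hML : ML.Final.MLK.{u, u}) {i : Fin 2} (hK : IsKGroup (CC v i)) {A : Subgroup G}
    (hA : A ∈ AA (o2 (centralizer (zc T : Set G)))) :
    Ex (A ⊓ centralizer (ZV V v i : Set G)) (NU V v i) :=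
  D.CZ_ex hML hK hA.2.1 (sq_of hA.1) (D.ex_AA hML hK hA)

/-- `C_O(Z_i) ∩ N_{C_i}(V i) ≤ O₂(N_{C_i}(V i))` -/
theorem CZ_le_o2 (i : Fin 2) {A : Subgroup G} (hA : A ≤ o2 (centralizer (zc T : Set G))) :
    A ⊓ centralizer (ZV V v i : Set G) ≤ o2 (normalizer (V i : Set G) ⊓ CC v i) := by
  set H : Subgroup G := normalizer (V i : Set G) ⊓ CC v i with hH
  set O : Subgroup G := o2 (centralizer (zc T : Set G)) with hO
  set K : Subgroup G := H ⊓ centralizer (ZV V v i : Set G) with hKd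
  have hHC : H ≤ CC v i := inf_le_right
  have hHN : H ≤ normalizer (ZV V v i : Set G) := inf_le_left.trans (N_V_le D i)
  have hKn : H ≤ normalizer (K : Set G) := norm_inf le_normalizer (norm_cent hHN)
  have hKD : K ≤ centralizer (zc T : Set G) := by
    intro g hg
    refine (D.mem_D_iff (ne_add_one i)).2 ⟨hHC hg.1, ?_⟩
    exact centralizer_le (Set.singleton_subset_iff.2 (v_mem_ZV D i)) hg.2
  have hTH : T ≤ H := le_inf (D.T_le_N i) (D.T_le_C i)
  have hOK : O ⊓ K ≤ o2 K := by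
    refine ZN.le_o2 inf_le_right (D.T_isPGroup.to_le (inf_le_left.trans D.o2D_le_T)) ?_
    exact norm_inf (hKD.trans (le_normalizer_o2 _)) le_normalizer
  have h1 : A ⊓ centralizer (ZV V v i : Set G) ≤ O ⊓ K :=
    le_inf (inf_le_left.trans hA) (le_inf ((inf_le_left.trans (hA.trans D.o2D_le_T)).trans hTH) inf_le_right)
  exact (h1.trans hOK).trans (TC.o2_le_o2_of_normal inf_le_left hKn)

/-- if `C_A(Z_i)` centralises `N_i` then `C_A(Z_i) Z_i = C_A(N_i) N_i` (`A ∈ AA(O₂(D))`) -/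
theorem sharp_eq (hML : ML.Final.MLK.{u, u}) {i : Fin 2} (hK : IsKGroup (CC v i)) {A : Subgroup G}
    (hA : A ∈ AA (o2 (centralizer (zc T : Set G))))
    (h : A ⊓ centralizer (ZV V v i : Set G) ≤ centralizer (NU V v i : Set G)) :
    A ⊓ centralizer (ZV V v i : Set G) ⊔ ZV V v i = A ⊓ centralizer (NU V v i : Set G) ⊔ NU V v i := by
  have h1 : A ⊓ centralizer (ZV V v i : Set G) ⊔ ZV V v i ≤ A ⊓ centralizer (NU V v i : Set G) ⊔ NU V v i :=
    sup_le_sup (le_inf inf_le_left h) (ZV_le D i)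
  refine Subgroup.eq_of_le_of_card_ge h1 ?_
  rw [← mm_eq (D.sharp_mem hML hK hA), ← mm_eq (D.sharpZ_mem hML hK hA)]

theorem cent_eq {i : Fin 2} {A : Subgroup G}
    (h : A ⊓ centralizer (ZV V v i : Set G) ≤ centralizer (NU V v i : Set G)) :
    A ⊓ centralizer (ZV V v i : Set G) = A ⊓ centralizer (NU V v i : Set G) :=
  le_antisymm (le_inf inf_le_left h) (le_inf inf_le_left (inf_le_right.trans (centralizer_le (ZV_le D i))))

end Cfsg.Agent.Omega.TC.Fr
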