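import Cfsg.Agent.Omega.TC.TZero

/-!
# CARD #18791 "(E) = TWO CENTRES", `q = 2`: helper830 #20100 (1), LEMMA SUB

`X := sn B C_j` = the smallest subnormal subgroup of `C_j` containing `B`.

* `Fr.sub'` : `B` normalised by `C_i`, `B ≤ C_j`, `[sn B C_j, V_j] = 1` ⟹ `sn B C_j` is normalised by `C_i` and
  centralises `N_i`;
* `Fr.sub` : **LEMMA SUB** `[sn N_i C_j, V_j] = 1 ⟹ [N_i, N_j] = 1`, even `N_i ≤ Q_j`;
* `Fr.sub_V` : the same with `⟨N_i ^ C_j⟩`.
-/

set_option autoImplicit false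
set_option linter.unusedSectionVars false

namespace Cfsg.Agent.Omega.TC

open Subgroup Cfsg Cfsg.Agent.ZN Cfsg.Agent.Omega.MinPar
open Cfsg.Agent.Omega.OM.KTwo (CC QQ WU NU EU FF ne_add_one eq_add_one add_one_add_one le_normalizer_V le_V)
open Cfsg.Agent.Omega.NoFF.Basic (conj_conj mem_conj conj_le_iff conj_le_centralizer comm_symm comm_mono
  Z_le_V V_le conj_V_mul)
open Cfsg.Agent.Omega.NOThreeL.Pair (conj_eq_of_mem)
open Cfsg.Agent.MinSimple.VModule (mem_zc zc_le le_normalizer_o2 le_o2 o2_le o2_isPGroup)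
open scoped Pointwise

universe u

variable {G : Type u} [Group G]

/-- `sn B (sn B C) = sn B C` -/
theorem sn_sn [Finite G] {B C : Subgroup G} (h : B ≤ C) : sn B (sn B C) = sn B C := by
  refine le_antisymm (sn_le _ _) (le_iInf fun k => ?_)
  induction k with
  | zero => exact le_rfl
  | succ k ih =>
    calc sn B C = NoFF.Basic.V B (sn B C) := (V_sn h).symm
      _ ≤ NoFF.Basic.V B (sS B (sn B C) k) := V_mono ih
      _ = sS B (sn B C) (k + 1) := rfl

theorem sn_mono {B C C' : Subgroup G} (h : C ≤ C') : sn B C ≤ sn B C' :=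
  le_iInf fun k => (sn_le_sS B C k).trans (sS_mono h k)

namespace Fr

variable [Finite G] {T : Subgroup G} {V P : Fin 2 → Subgroup G} {v : Fin 2 → G} (D : Fr T V P v)

include D

/-- `B` normalised by `C_i`, `B ≤ C_j`, `[sn B C_j, V_j] = 1`: then `C_i` normalises `sn B C_j`. -/
theorem sub' {i j : Fin 2} (hij : i ≠ j) {B : Subgroup G} (hn : CC v i ≤ normalizer (B : Set G))
    (hBC : B ≤ CC v j) (hV : sn B (CC v j) ≤ centralizer (V j : Set G)) :
    CC v i ≤ normalizer (sn B (CC v j) : Set G) ∧ sn B (CC v j) ≤ centralizer (NU V v i : Set G) := by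
  have hj := eq_add_one hij
  have hP : P j ≤ normalizer (sn B (CC v j) : Set G) := by
    intro x hx
    have hxC : x ∈ CC v i := D.PC j i hij.symm hx
    have hxB : MulAut.conj x • B = B := conj_eq_of_mem (hn hxC)
    have hVC' : centralizer (V j : Set G) ≤ MulAut.conj x • CC v j := by
      intro c hc
      rw [mem_conj]
      rw [mem_centralizer_singleton_iff]
      have h1 : x * v j * x⁻¹ ∈ V j := (mem_normalizer_iff.1 (D.PN j j hx) _).1 (D.mem j)
      have h2 : (x * v j * x⁻¹) * c = c * (x * v j * x⁻¹) := mem_centralizer_iff.1 hc _ h1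
      calc x⁻¹ * c * x * v j = x⁻¹ * (c * (x * v j * x⁻¹)) * x := by group
        _ = x⁻¹ * ((x * v j * x⁻¹) * c) * x := by rw [h2]
        _ = v j * (x⁻¹ * c * x) := by group
    have h1 : sn B (CC v j) ≤ MulAut.conj x • sn B (CC v j) := by
      rw [conj_sn, hxB, ← sn_sn hBC]
      exact sn_mono (hV.trans hVC')
    have h2 : sn B (CC v j) = MulAut.conj x • sn B (CC v j) := by
      refine Subgroup.eq_of_le_of_card_ge h1 (le_of_eq ?_)
      exact (Nat.card_congr (Subgroup.equivSMul (MulAut.conj x) (sn B (CC v j))).toEquiv).symm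
    exact ChoiceBase.mem_normalizer_iff_cj.2 h2.symm
  have hDn : centralizer (zc T : Set G) ≤ normalizer (sn B (CC v j) : Set G) := by
    intro d hd
    have h1 : MulAut.conj d • B = B := conj_eq_of_mem (hn (D.cent_zc_le i hd))
    have h2 : MulAut.conj d • CC v j = CC v j := D.conj_CC (D.cent_zc_le j hd)
    have e3 : MulAut.conj d • sn B (CC v j) = sn B (CC v j) := by rw [conj_sn, h1, h2]
    exact ChoiceBase.mem_normalizer_iff_cj.2 e3
  have hC : CC v i ≤ normalizer (sn B (CC v j) : Set G) := (D.gen hij.symm).trans (sup_le hP hDn)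
  refine ⟨hC, ?_⟩
  -- `v j` is central in `X`
  have h0 := D.cent_N_of_le (i := i) (X := sn B (CC v j)) (by rw [← hj]; exact sn_le _ _) hC
  exact h0

/-- **LEMMA SUB** (#20100 (1)): `[sn N_i C_j, V_j] = 1` implies `N_i ≤ Q_j`. -/
theorem sub_le {i j : Fin 2} (hij : i ≠ j) (hV : sn (NU V v i) (CC v j) ≤ centralizer (V j : Set G)) :
    NU V v i ≤ QQ v j := by
  obtain ⟨hn, hc⟩ := D.sub' hij (D.C_le_N_N i) (D.N_le_C i j) hV
  have hX : NU V v i ≤ sn (NU V v i) (CC v j) := le_sn (D.N_le_C i j)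
  refine le_o2_of_subnormal (D.N_le_C i j) hX (D.T_isPGroup.to_le (D.N_le_T i)) ?_
  exact hc.trans (centralizer_le_normalizer _)

/-- **LEMMA SUB** (#20100 (1)): `[N_i, N_j] ≠ 1` implies `[sn N_i C_j, V_j] ≠ 1`. -/
theorem sub {i j : Fin 2} (hij : i ≠ j) (h : ¬ NU V v i ≤ centralizer (NU V v j : Set G)) :
    ¬ sn (NU V v i) (CC v j) ≤ centralizer (V j : Set G) := fun h1 =>
  h ((D.sub_le hij h1).trans (D.Q_le_cent_N j))

/-- LEMMA SUB for the normal closure `M_j = ⟨N_i ^ C_j⟩`: `[M_j, V_j] ≠ 1`. -/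
theorem sub_V {i j : Fin 2} (hij : i ≠ j) (h : ¬ NU V v i ≤ centralizer (NU V v j : Set G)) :
    ¬ NoFF.Basic.V (NU V v i) (CC v j) ≤ centralizer (V j : Set G) := fun h1 =>
  D.sub hij h ((sn_le_sS _ _ 1).trans h1)

/-- the symmetric form of `[N_0, N_1] ≠ 1` -/
theorem not_comm {i j : Fin 2} (hij : i ≠ j) (h : ¬ NU V v 0 ≤ centralizer (NU V v 1 : Set G)) :
    ¬ NU V v i ≤ centralizer (NU V v j : Set G) := by
  intro h2
  apply h
  rcases Fin.exists_fin_two.1 ⟨i, rfl⟩ with hi | hi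
  · have hj : j = 1 := by rw [eq_add_one hij, hi]; rfl
    rw [hi, hj] at h2
    exact h2
  · have hj : j = 0 := by rw [eq_add_one hij, hi]; rfl
    rw [hi, hj] at h2
    exact comm_symm h2

end Fr

end Cfsg.Agent.Omega.TC
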