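import Cfsg.Agent.Omega.TC.ThmD

/-!
# CARD #18791, [C] (helper918 #19487, section 2): `d = 2`, `[N_a, N_b] = ⟨u⟩`

* `Fr.rep2` : a critical pair at distance 2 is `(N_j^g, N_j)` with `g ∈ C_(j+1)`;
* `Fr.c22` : (2.2) `[W_(j+1), N_j] = 1`;
* `Fr.c23` : (2.3) `[W_j, N_(j+1)] = 1`;
* `Fr.thmC` : **THEOREM C**;
* `Fr.no_trans` : **COROLLARY 2 of #20268 for `d ≥ 2`**.
-/

set_option autoImplicit false
set_option linter.unusedSectionVars false

namespace Cfsg.Agent.Omega.TC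

open Subgroup Cfsg Cfsg.Agent.ZN Cfsg.Agent.Omega.MinPar
open Cfsg.Agent.Omega.OM.KTwo (CC QQ WU NU EU FF ne_add_one eq_add_one add_one_add_one le_normalizer_V le_V
  le_o2_of_commutator)
open Cfsg.Agent.Omega.NoFF.Basic (conj_conj mem_conj conj_le_iff conj_le_centralizer comm_symm comm_mono
  Z_le_V V_le conj_V_mul)
open Cfsg.Agent.Omega.NOThreeL.Pair (conj_eq_of_mem)
open Cfsg.Agent.Omega.NO3L.LemP (Near Same Adj Comm vx vx_eq vx_same vx_mono vx_mk conj_comm_iff)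
open Cfsg.Agent.ZN.ChoiceSit (Syl exists_syl syl_conj o2_le_syl)
open Cfsg.Agent.MinSimple.VModule (mem_zc zc_le normalizer_le_normalizer_zc le_normalizer_o2 le_o2 o2_le
  o2_isPGroup)
open scoped Pointwise

universe u

variable {G : Type u} [Group G]

theorem kp_inv {x y : G} {Z : Subgroup G} (h : x * y * x⁻¹ * y⁻¹ ∈ Z) : y * x * y⁻¹ * x⁻¹ ∈ Z := by
  have := inv_mem h
  have e : (x * y * x⁻¹ * y⁻¹)⁻¹ = y * x * y⁻¹ * x⁻¹ := by group
  rwa [e] at this

theorem kp_conj_mem {g x y : G} {Z : Subgroup G} (h : g⁻¹ * x * g * (g⁻¹ * y * g) * (g⁻¹ * x * g)⁻¹ *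
    (g⁻¹ * y * g)⁻¹ ∈ Z) : x * y * x⁻¹ * y⁻¹ ∈ MulAut.conj g • Z := by
  rw [mem_conj]
  have e : g⁻¹ * (x * y * x⁻¹ * y⁻¹) * g =
    g⁻¹ * x * g * (g⁻¹ * y * g) * (g⁻¹ * x * g)⁻¹ * (g⁻¹ * y * g)⁻¹ := by group
  rwa [e]

namespace Fr

variable [Finite G] {T : Subgroup G} {V P : Fin 2 → Subgroup G} {v : Fin 2 → G} (D : Fr T V P v)

include D

theorem conj_zpv {i : Fin 2} {c : G} (hc : c ∈ CC v i) : MulAut.conj c • zpowers (v i) = zpowers (v i) :=
  conj_eq_of_mem (D.C_le_N_Z i hc)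

/-- `[N_j, X] ≤ ⟨v_(j+1)⟩`, `X ≤ N_j^c ≤ Q_(j+1)` : section 0 for a transvection with centre `v_(j+1)` -/
theorem sec_v (hsec : Sec0 T V v) {j : Fin 2} {x : G} (hx : x ∈ CC v j) (hxc : x ∉ centralizer (NU V v j : Set G))
    (h : ∀ n ∈ NU V v j, n * x * n⁻¹ * x⁻¹ ∈ zpowers (v (j + 1))) :
    v j ∉ NU V v j ∧ (NU V v j = HU V T j ∨ SpF T V v j (v (j + 1))) := by
  rcases hsec j _ (Or.inl rfl) x hx hxc h with h1 | h1
  · exact ⟨h1.2, Or.inl h1.1⟩
  · exact ⟨h1.2 rfl, Or.inr h1.1⟩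

theorem W_cent_H (j : Fin 2) : WU V v (j + 1) ≤ centralizer (HU V T j : Set G) :=
  (D.W_comm (j + 1)).trans (centralizer_le (D.H_le_W j))

/-- (2.2): `[W_(j+1), N_j] = 1` -/
theorem c22 {j : Fin 2} (hd : NU V v j ≤ QQ v (j + 1)) (S : SpF T V v j (v (j + 1))) (hvj : v j ∉ NU V v j) :
    WU V v (j + 1) ≤ centralizer (NU V v j : Set G) := by
  have hQC : QQ v (j + 1) ≤ CC v j := (D.Q_le_T _).trans (D.T_le_C j)
  -- `[N_j, W_(j+1)] ≤ ⟨v_(j+1)⟩`
  have hNW : ∀ w ∈ WU V v (j + 1), ∀ n ∈ NU V v j, n * w * n⁻¹ * w⁻¹ ∈ zpowers (v (j + 1)) := fun w hw n hn =>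
    S.cenH w (D.W_le_C (j + 1) j hw) (D.W_cent_H j hw) n hn
  -- the points of `N_j`
  have hpt : ∀ n ∈ NU V v j, n ≠ 1 → ∃ c ∈ CC v j, n = c * v (j + 1) * c⁻¹ := by
    intro n hn hn1
    have h1 : n ∉ zpowers (v j) := by
      intro h
      rcases D.mem_zpv h with h | h
      · exact hn1 h
      · exact hvj (h ▸ hn)
    obtain ⟨c, hc, h2 | h2⟩ := S.pts n hn h1
    · exact ⟨c, hc, h2⟩
    · exfalso
      apply hvj
      have h3 : c * v (j + 1) * c⁻¹ ∈ NU V v j := (mem_normalizer_iff.1 (D.C_le_N_N j hc) _).1 (D.mem_N j)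
      have h4 := mul_mem (inv_mem h3) hn
      rwa [h2, inv_mul_cancel_left] at h4
  refine V_le fun c hc => ?_
  suffices hsuff : MulAut.conj c • HU V T j ≤ centralizer (NU V v j : Set G) from
    (conj_le_iff.2 (D.V_le_H j)).trans hsuff
  by_contra hcon
  obtain ⟨e, he, hec⟩ := SetLike.not_le_iff_exists.1 hcon
  -- `N' = N_j^c ≤ Q_(j+1)`
  have hN' : MulAut.conj c • NU V v j ≤ QQ v (j + 1) := by
    rw [← D.conj_QQ hc]
    exact conj_le_iff.2 hd
  have heW : e ∈ WU V v (j + 1) := by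
    have h1 := conj_le_iff (g := c) |>.2 (D.H_le_W j)
    rw [conj_eq_of_mem (D.C_le_N_W (j + 1) hc)] at h1
    exact h1 he
  have heN : e ∈ MulAut.conj c • NU V v j := conj_le_iff.2 (D.H_le_N j) he
  by_cases hA : ∀ x ∈ MulAut.conj c • NU V v j, ∀ n ∈ NU V v j, n * x * n⁻¹ * x⁻¹ ∈ zpowers (v (j + 1))
  · -- `N_j` centralises `HU^c`
    apply hec
    rw [mem_centralizer_iff]
    intro y hy
    have hy1 : c⁻¹ * y * c ∈ CC v j := by
      have h1 := hd hy
      rw [← D.conj_QQ hc, mem_conj] at h1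
      exact hQC h1
    have hy2 := S.Hcen _ hy1 fun n hn => ?_
    · rw [mem_conj] at he
      have h1 := mem_centralizer_iff.1 hy2 _ he
      have h2 := congrArg (fun t => c * t * c⁻¹) h1
      have e1 : c * (c⁻¹ * e * c * (c⁻¹ * y * c)) * c⁻¹ = e * y := by group
      have e2 : c * (c⁻¹ * y * c * (c⁻¹ * e * c)) * c⁻¹ = y * e := by group
      simp only [e1, e2] at h2
      exact h2.symm
    · have h1 : c * n * c⁻¹ ∈ MulAut.conj c • NU V v j := by
        rw [mem_conj]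
        have e : c⁻¹ * (c * n * c⁻¹) * c = n := by group
        rwa [e]
      have h2 := kp_inv (hA _ h1 y hy)
      have h3 : MulAut.conj c • zpowers (v (j + 1)) = zpowers (v (j + 1)) := D.conj_zpv hc
      rw [← h3, mem_conj] at h2
      have e : c⁻¹ * (c * n * c⁻¹ * y * (c * n * c⁻¹)⁻¹ * y⁻¹) * c = n * (c⁻¹ * y * c) * n⁻¹ * (c⁻¹ * y * c)⁻¹ := by
        group
      rwa [e] at h2
  · push Not at hA
    obtain ⟨x, hx, n, hn, hρ⟩ := hA
    -- `ρ = [n, x] ∈ N_j ∩ N'`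
    set ρ := n * x * n⁻¹ * x⁻¹ with hρdef
    have hρN : ρ ∈ NU V v j := by
      have h1 : x * n⁻¹ * x⁻¹ ∈ NU V v j :=
        (mem_normalizer_iff.1 (D.C_le_N_N j (hQC (hN' hx))) _).1 (inv_mem hn)
      have e : ρ = n * (x * n⁻¹ * x⁻¹) := by rw [hρdef]; group
      rw [e]
      exact mul_mem hn h1
    have hρN' : ρ ∈ MulAut.conj c • NU V v j := by
      have h1 : c⁻¹ * n * c ∈ CC v j := by
        have h1 := hd hn
        rw [← D.conj_QQ hc, mem_conj] at h1
        exact hQC h1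
      have h2 := hx
      rw [mem_conj] at h2 ⊢
      have h3 := (mem_normalizer_iff.1 (D.C_le_N_N j h1) _).1 h2
      have e : c⁻¹ * ρ * c = c⁻¹ * n * c * (c⁻¹ * x * c) * (c⁻¹ * n * c)⁻¹ * (c⁻¹ * x * c)⁻¹ := by
        rw [hρdef]; group
      rw [e]
      exact mul_mem h3 (inv_mem h2)
    have hρ1 : ρ ≠ 1 := fun h => hρ (by rw [h]; exact one_mem _)
    obtain ⟨c₁, hc₁, hρc⟩ := hpt ρ hρN hρ1
    obtain ⟨c₂, hc₂, hρc'⟩ := hpt (c⁻¹ * ρ * c) (by rwa [mem_conj] at hρN') (by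
      intro h
      apply hρ1
      have : ρ = c * (c⁻¹ * ρ * c) * c⁻¹ := by group
      rw [this, h]; group)
    -- `N' ≤ Q_ρ = Q_(j+1)^c₁`
    have hQ1 : MulAut.conj c • NU V v j ≤ MulAut.conj c₁ • QQ v (j + 1) := by
      have h1 : MulAut.conj (c * c₂) • NU V v j = MulAut.conj c • NU V v j := by
        rw [← conj_conj, conj_eq_of_mem (D.C_le_N_N j hc₂)]
      have h2 : MulAut.conj (c₁⁻¹ * (c * c₂)) • QQ v (j + 1) = QQ v (j + 1) := by
        apply conj_Q
        have e : c₁⁻¹ * (c * c₂) * v (j + 1) * (c₁⁻¹ * (c * c₂))⁻¹ =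
          c₁⁻¹ * (c * (c₂ * v (j + 1) * c₂⁻¹) * c⁻¹) * c₁ := by group
        rw [e, ← hρc']
        have e2 : c₁⁻¹ * (c * (c⁻¹ * ρ * c) * c⁻¹) * c₁ = c₁⁻¹ * ρ * c₁ := by group
        rw [e2, hρc]; group
      rw [← h1]
      refine (conj_le_iff.2 hd).trans ?_
      have h3 := congrArg (fun A => MulAut.conj c₁ • A) h2
      simp only [conj_conj, mul_inv_cancel_left] at h3
      exact h3.le
    -- `e` centralises `HU^c₁`
    have hρz : MulAut.conj c₁ • zpowers (v (j + 1)) = zpowers ρ := by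
      rw [hρc]
      ext y
      rw [mem_conj, mem_zpowers_iff, mem_zpowers_iff]
      constructor
      · rintro ⟨k, hk⟩
        exact ⟨k, by rw [conj_zpow, hk]; group⟩
      · rintro ⟨k, hk⟩
        exact ⟨k, by rw [← hk, conj_zpow]; group⟩
    have hρρ : ρ * ρ = 1 := by
      have := D.N_sq j ρ hρN
      rwa [pow_two] at this
    have he1 : ∀ m ∈ MulAut.conj c₁ • HU V T j, m * e = e * m := by
      intro m hm
      have h1 : m * e * m⁻¹ * e⁻¹ ∈ zpowers ρ := by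
        rw [← hρz]
        refine kp_conj_mem (D.comm_W_Q (j + 1) _ (D.H_le_W j ?_) _ ?_)
        · rwa [mem_conj] at hm
        · have := hQ1 heN
          rwa [mem_conj] at this
      have h2 : m * e * m⁻¹ * e⁻¹ ∈ zpowers (v (j + 1)) := by
        refine hNW e heW m ?_
        have h3 := conj_le_iff (g := c₁) |>.2 (D.H_le_N j)
        rw [conj_eq_of_mem (D.C_le_N_N j hc₁)] at h3
        exact h3 hm
      rcases D.mem_zpv h2 with h3 | h3
      · exact comm_of_kp h3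
      · exfalso
        rcases mem_zp_of_sq hρρ h1 with h4 | h4
        · rw [h3] at h4
          exact D.ne _ h4
        · apply hρ
          rw [← h4, h3]
          exact mem_zpowers _
    have he0 : ∀ m ∈ HU V T j, m * e = e * m := fun m hm => mem_centralizer_iff.1 (D.W_cent_H j heW) m hm
    by_cases heq : MulAut.conj c₁ • HU V T j = HU V T j
    · -- `c₁ ∈ D`
      have h1 := D.cent_zc_le (j + 1) (S.inj c₁ hc₁ heq)
      apply hρ
      rw [hρc, D.conj_v _ h1]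
      exact mem_zpowers _
    · apply hec
      obtain ⟨m₀, hm₀, hm₀'⟩ : ∃ m₀ ∈ MulAut.conj c₁ • HU V T j, m₀ ∉ HU V T j := by
        by_contra hcon2
        push Not at hcon2
        apply heq
        refine Subgroup.eq_of_le_of_card_ge hcon2 ?_
        exact (Nat.card_congr (Subgroup.equivSMul (MulAut.conj c₁) (HU V T j)).toEquiv).le
      have hm₀N : m₀ ∈ NU V v j := by
        have h3 := conj_le_iff (g := c₁) |>.2 (D.H_le_N j)
        rw [conj_eq_of_mem (D.C_le_N_N j hc₁)] at h3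
        exact h3 hm₀
      rw [mem_centralizer_iff]
      intro y hy
      by_cases hyH : y ∈ HU V T j
      · exact he0 y hyH
      · have h1 := he0 _ (mul_mem_of_idx S.idx hy hm₀N hyH hm₀')
        have h2 := he1 m₀ hm₀
        calc y * e = y * (e * m₀) * m₀⁻¹ := by group
          _ = y * m₀ * e * m₀⁻¹ := by rw [← h2]; group
          _ = e * (y * m₀) * m₀⁻¹ := by rw [h1]
          _ = e * y := by group

/-- (2.3): `[W_j, N_(j+1)] = 1` -/
theorem c23 (hsec : Sec0 T V v) {j : Fin 2} (hd : NU V v (j + 1) ≤ QQ v j) (hWQ : WU V v (j + 1) ≤ QQ v j) :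
    WU V v j ≤ centralizer (NU V v (j + 1) : Set G) := by
  by_contra hcon
  obtain ⟨w, hw, hwc⟩ := SetLike.not_le_iff_exists.1 hcon
  have hvv : v (j + 1 + 1) = v j := by rw [add_one_add_one]
  have hcomm : ∀ x ∈ WU V v j, ∀ n ∈ NU V v (j + 1), n * x * n⁻¹ * x⁻¹ ∈ zpowers (v j) := fun x hx n hn =>
    kp_inv (D.comm_W_Q j x hx n (hd hn))
  obtain ⟨h1, h2⟩ := D.sec_v hsec (j := j + 1) (D.W_le_C j (j + 1) hw) hwc (fun n hn => by
    rw [hvv]; exact hcomm w hw n hn)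
  rcases h2 with h2 | S
  · apply hwc
    rw [h2]
    have h3 := D.W_cent_H (j + 1)
    rw [add_one_add_one] at h3
    exact h3 hw
  · rw [hvv] at S
    set R := NoFF.Basic.V (WU V v j) (CC v (j + 1)) with hR
    have hRC : R ≤ CC v (j + 1) := by
      refine V_le fun c hc => ?_
      rw [← NoFF.Basic.conj_self hc]
      exact conj_le_iff.2 (D.W_le_C j (j + 1))
    refine D.lemX (i := j + 1) (R := R) hRC (le_normalizer_V _ _) (fun h => hcon ((le_V _ _).trans h)) ?_ S.fixT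
      (D.fixR S (D.W_le_C j (j + 1)) hcon (fun n hn x hx => hcomm x hx n hn) ?_)
    · intro r hr' u hu
      have h1 := comm_V (B := NU V v (j + 1)) (Q := WU V v (j + 1)) (D.W_le_C j (j + 1)) (D.C_le_N_N (j + 1))
        (D.C_le_N_W (j + 1)) (fun x hx y hy => by
          have h4 := D.comm_W_Q j x hx y (hWQ hy)
          have h5 : zpowers (v j) ≤ NU V v (j + 1) := by
            rw [zpowers_le, ← hvv]
            exact D.mem_N (j + 1)
          exact h5 h4) r hr' u⁻¹ (inv_mem (D.V_le_W (j + 1) hu))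
      have e : u⁻¹ * r * u * r⁻¹ = (r * u⁻¹ * r⁻¹ * u⁻¹⁻¹)⁻¹ := by group
      rw [e]
      exact D.N_le_E (j + 1) (inv_mem h1)
    · intro h
      rcases D.mem_zpv h with h | h
      · exact D.ne _ h
      · exact D.v_ne_v (ne_add_one j) h.symm

/-- **THEOREM C**, `(N_j^g, N_j)`, `g ∈ C_(j+1)` -/
theorem thmC' (htc : TCp T V v) (hsec : Sec0 T V v) (hz : ∀ (j : Fin 2) (g : G), g * (v 0 * v 1) * g⁻¹ ≠ v j)
    (hd : ∀ i, NU V v i ≤ QQ v (i + 1)) {j : Fin 2} {g : G} (hg : g ∈ CC v (j + 1))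
    (hne : ¬ MulAut.conj g • NU V v j ≤ centralizer (NU V v j : Set G)) {r : G} (hr2 : r * r = 1)
    (hr : ∀ x ∈ MulAut.conj g • NU V v j, ∀ y ∈ NU V v j, x * y * x⁻¹ * y⁻¹ ∈ zpowers r) : False := by
  have hQg : MulAut.conj g • QQ v (j + 1) = QQ v (j + 1) := D.conj_QQ hg
  have hQT : ∀ l k, QQ v l ≤ CC v k := fun l k => (D.Q_le_T l).trans (D.T_le_C k)
  have hQ1 : MulAut.conj g • NU V v j ≤ QQ v (j + 1) := by
    rw [← hQg]
    exact conj_le_iff.2 (hd j)
  have hQ2 : NU V v j ≤ MulAut.conj g • QQ v (j + 1) := by rw [hQg]; exact hd j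
  have hb := D.tc_b htc hr2 hQ1 hr hne
  have ha := D.tc_a htc hr2 hQ2 hr hne
  have hgv : g * v (j + 1) * g⁻¹ = v (j + 1) := D.conj_v _ hg
  -- the centre is `v (j+1)`
  have hrv : r = v (j + 1) := by
    rcases hb with hb | ⟨-, hb⟩
    · exact hb
    · exfalso
      rcases ha with ha | ⟨-, ha⟩
      · rw [ha, hgv] at hb
        exact D.ne j (by simpa using hb.symm)
      · -- `g` fixes `v j`
        apply hne
        have h1 : g * v j * g⁻¹ = v j := by
          have h2 : g * (v (j + 1) * v j) * g⁻¹ = v (j + 1) * (g * v j * g⁻¹) := by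
            calc g * (v (j + 1) * v j) * g⁻¹ = (g * v (j + 1) * g⁻¹) * (g * v j * g⁻¹) := by group
              _ = v (j + 1) * (g * v j * g⁻¹) := by rw [hgv]
          rw [h2, hb] at ha
          exact (mul_left_cancel ha).symm
        have h3 : g ∈ CC v j := by
          rw [CC, mem_centralizer_singleton_iff]
          calc g * v j = g * v j * g⁻¹ * g := by group
            _ = v j * g := by rw [h1]
        rw [conj_eq_of_mem (D.C_le_N_N j h3)]
        exact D.N_comm j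
  subst hrv
  -- section 0
  obtain ⟨x, hx, hxc⟩ := SetLike.not_le_iff_exists.1 hne
  obtain ⟨hvj, hS⟩ := D.sec_v hsec (j := j) (hQT _ _ (hQ1 hx)) hxc fun n hn => kp_inv (hr x hx n hn)
  rcases hS with hS | S
  · -- (gl)
    have h1 : NU V v j ≤ WU V v (j + 1) := by rw [hS]; exact D.H_le_W j
    apply hne
    have h2 := conj_le_iff (g := g) |>.2 h1
    rw [conj_eq_of_mem (D.C_le_N_W (j + 1) hg)] at h2
    exact comm_mono (D.W_comm (j + 1)) h2 h1
  · have hW1 : WU V v (j + 1) ≤ QQ v j :=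
      (le_inf ((D.W_le_Q (j + 1)).trans (D.Q_le_o2D (j + 1))) (D.c22 (hd j) S hvj)).trans (D.f3 j)
    have hd' : NU V v (j + 1) ≤ QQ v j := by
      have := hd (j + 1)
      rwa [add_one_add_one] at this
    have hW2 : WU V v j ≤ QQ v (j + 1) :=
      (le_inf ((D.W_le_Q j).trans (D.Q_le_o2D j)) (D.c23 hsec hd' hW1)).trans (D.f3 (j + 1))
    refine D.fin hQ1 (hQ2.trans (conj_le_iff.2 (hQT _ _))) ?_ hne S S hgv (D.mem_N j) ?_ hr ?_
    · rw [← hQg] at hW2
      exact hW2.trans (conj_le_iff.2 (hQT _ _))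
    · intro h
      rcases D.mem_zpv h with h | h
      · exact D.ne j h
      · exact D.v_ne_v (ne_add_one j) h
    · intro h
      rw [mem_conj] at h
      have h3 : g⁻¹ * v j * g ∉ zpowers (v j) := by
        intro h3
        rcases D.mem_zpv h3 with h4 | h4
        · apply D.ne j
          have : v j = g * (g⁻¹ * v j * g) * g⁻¹ := by group
          rw [this, h4]; group
        · apply hvj
          rwa [h4] at h
      obtain ⟨c, hc, h4 | h4⟩ := S.pts _ h h3
      · have h5 : g * c * v (j + 1) * (g * c)⁻¹ = v j := by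
          have e : g * c * v (j + 1) * (g * c)⁻¹ = g * (c * v (j + 1) * c⁻¹) * g⁻¹ := by group
          rw [e, ← h4]; group
        have h7 : MulAut.conj (g * c) • QQ v (j + 1) = QQ v j := conj_Q h5
        apply hne
        have h8 : MulAut.conj g • NU V v j = MulAut.conj (g * c) • NU V v j := by
          rw [← conj_conj, conj_eq_of_mem (D.C_le_N_N j hc)]
        rw [h8]
        exact ((conj_le_iff.2 (hd j)).trans h7.le).trans (D.Q_le_cent_N j)
      · apply hz j (g * c)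
        rw [D.v_mul_v j]
        have e : g * c * (v (j + 1) * v j) * (g * c)⁻¹ = g * (c * v (j + 1) * c⁻¹ * (c * v j * c⁻¹)) * g⁻¹ := by group
        rw [e, D.conj_v j hc, ← h4]; group

/-- a critical pair at distance `2` -/
theorem rep2 (hC : Comm (CC v) (EU T v) 2) {i j : Fin 2} {g : G} (hN1 : Near (CC v) 1 (i, g) (j + 1, 1))
    (hne : ¬ MulAut.conj g • NU V v i ≤ centralizer (NU V v j : Set G)) :
    i = j ∧ ∃ g' ∈ CC v (j + 1), MulAut.conj g' • NU V v j = MulAut.conj g • NU V v i := by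
  obtain ⟨e, he, x, hx, hx'⟩ := hN1
  obtain ⟨he1, he2⟩ := he
  have he1' : i = e.1 := he1
  have he2' : g⁻¹ * e.2 ∈ CC v i := he2
  have hx2 : x ∈ CC v (j + 1) := by simpa using hx'
  have h1 : g⁻¹ * x ∈ CC v i := by
    rw [← he1'] at hx
    have := mul_mem he2' hx
    have e3 : g⁻¹ * e.2 * (e.2⁻¹ * x) = g⁻¹ * x := by group
    rwa [e3] at this
  have h2 : MulAut.conj x • NU V v i = MulAut.conj g • NU V v i := conj_congr (D.C_le_N_N i) h1
  have hij : i = j := by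
    by_contra hij
    have hi : i = j + 1 := eq_add_one (Ne.symm hij)
    apply hne
    rw [← h2, hi, conj_eq_of_mem (D.C_le_N_N (j + 1) hx2)]
    have h3 := D.comm_N (i := j + 1) (j := j) (x := 1) (y := 1) hC le_rfl (near_adj _ _ _)
    rwa [map_one, one_smul, one_smul] at h3
  refine ⟨hij, x, hx2, ?_⟩
  rw [← h2, hij]

/-- **THEOREM C**: a critical pair at distance `2` does not have `|[N_a, N_b]| = 2`. -/
theorem thmC (htc : TCp T V v) (hsec : Sec0 T V v) (hz : ∀ (j : Fin 2) (g : G), g * (v 0 * v 1) * g⁻¹ ≠ v j)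
    (hC : Comm (CC v) (EU T v) 2) {i j : Fin 2} {g : G} (hN1 : Near (CC v) 1 (i, g) (j + 1, 1))
    (hne : ¬ MulAut.conj g • NU V v i ≤ centralizer (NU V v j : Set G)) {r : G} (hr2 : r * r = 1)
    (hr : ∀ x ∈ MulAut.conj g • NU V v i, ∀ y ∈ NU V v j, x * y * x⁻¹ * y⁻¹ ∈ zpowers r) : False := by
  obtain ⟨rfl, g', hg', h1⟩ := D.rep2 hC hN1 hne
  rw [← h1] at hne hr
  refine D.thmC' htc hsec hz (fun k => ?_) hg' hne hr2 hr
  have h2 := D.data.le_R hC 1 (by norm_num) (k, 1) (k + 1, 1) (near_adj _ _ _)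
  rw [vx_mk, vx_mk, map_one, one_smul, one_smul] at h2
  exact (D.N_le_E k).trans h2

/-- **[C] + [D]** (COROLLARY 2 of #20268, `d ≥ 2`): no critical pair at distance `n + 1 ≥ 2` has
`|[N_a, N_b]| = 2`. -/
theorem no_trans (htc : TCp T V v) (hsec : Sec0 T V v) (hz : ∀ (j : Fin 2) (g : G), g * (v 0 * v 1) * g⁻¹ ≠ v j)
    {n : ℕ} (hn : 1 ≤ n) (hC : Comm (CC v) (EU T v) (n + 1)) {i j : Fin 2} {g : G}
    (hN1 : Near (CC v) n (i, g) (j + 1, 1)) (hN2 : Near (CC v) n (i + 1, g) (j, 1))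
    (hne : ¬ MulAut.conj g • NU V v i ≤ centralizer (NU V v j : Set G)) {r : G} (hr2 : r * r = 1)
    (hr : ∀ x ∈ MulAut.conj g • NU V v i, ∀ y ∈ NU V v j, x * y * x⁻¹ * y⁻¹ ∈ zpowers r) : False := by
  rcases Nat.lt_or_ge n 2 with h | h
  · have h1 : n = 1 := by omega
    subst h1
    exact D.thmC htc hsec hz hC hN1 hne hr2 hr
  · exact D.thmD htc hsec hz h hC hN1 hN2 hne hr2 hr

end Fr

end Cfsg.Agent.Omega.TC
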