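import Cfsg.Agent.Omega.TC.TransDef

/-!
# LEMMA TC, part 1 (bb OMEGA #20268 (0), (1), (2), helper791)

Let `b` be the centre of a transvection of `X` in a normal 2-subgroup of `C_X(v)`.

* `(0)` : `N` is generated by the orbit `b^X`; the relation `Lk X b` is an `X`-invariant equivalence relation on
  `b^X`, its classes ("components") are the components of the graph `Adj X`, and `C_X(v)` is transitive on them
  (`exists_stab`); a component meets a coset of `I` at most once (`inj`);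
* `(1)` `clique` : if some `Φ_u` has more than one nonzero element, every component is a clique;
* `(2)` `one_v` : if not, `f(v) = f(b)` for all `f ∈ Φ_u`, `u` in the component of `b`.
-/

set_option autoImplicit false
set_option linter.unusedSectionVars false
set_option linter.unusedVariables false

namespace Cfsg.Agent.Omega.TC.Trans

open MulAction

variable {X : Type*} [Group X] {N : Type*} [AddCommGroup N] [DistribMulAction X N] [Module (ZMod 2) N]

/-! ### transvections -/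

theorem z2 (c : ZMod 2) : c = 0 ∨ c = 1 := by
  revert c; decide

theorem z2_ne {c : ZMod 2} : c ≠ 1 ↔ c = 0 := by
  revert c; decide

theorem z2_ne' {c : ZMod 2} : c ≠ 0 ↔ c = 1 := by
  revert c; decide

theorem z2_add (c : ZMod 2) : c + c = 0 := by
  revert c; decide

theorem addself (n : N) : n + n = 0 := ZModModule.add_self n

theorem add_cancel' (n m : N) : n + (n + m) = m := by rw [← add_assoc, addself, zero_add]

theorem eq_of_add {n m : N} (h : n + m = 0) : n = m := by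
  have := add_cancel' n m
  rw [h, add_zero] at this
  exact this

theorem smul_z (x : X) (c : ZMod 2) (n : N) : x • (c • n) = c • (x • n) := by
  rcases z2 c with rfl | rfl
  · rw [zero_smul, zero_smul, smul_zero]
  · rw [one_smul, one_smul]

/-- `f ∘ x⁻¹` -/
def cjf (x : X) (f : N →+ ZMod 2) : N →+ ZMod 2 := f.comp (DistribSMul.toAddMonoidHom N x⁻¹)

theorem cjf_apply (x : X) (f : N →+ ZMod 2) (n : N) : cjf x f n = f (x⁻¹ • n) := rfl

theorem cjf_smul (x : X) (f : N →+ ZMod 2) (n : N) : cjf x f (x • n) = f n := by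
  rw [cjf_apply, inv_smul_smul]

theorem cjf_inj (x : X) : Function.Injective (cjf x : (N →+ ZMod 2) → (N →+ ZMod 2)) := by
  intro f g h
  ext n
  rw [← cjf_smul x f n, h, cjf_smul]

theorem cjf_cjf (x : X) (f : N →+ ZMod 2) : cjf x (cjf x⁻¹ f) = f := by
  ext n
  rw [cjf_apply, cjf_apply, inv_inv, smul_inv_smul]

namespace IsTv

theorem phi {x : X} {f : N →+ ZMod 2} {u : N} (h : IsTv x f u) : f ∈ Phi X u := ⟨x, h⟩

theorem zero {x : X} {f : N →+ ZMod 2} {u : N} (h : IsTv x f u) (hu : u ≠ 0) : f u = 0 := by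
  by_contra hc
  have h1 := h u
  rw [z2_ne'.mp hc, one_smul, addself, smul_eq_zero_iff_eq] at h1
  exact hu h1

theorem conj {x : X} {f : N →+ ZMod 2} {u : N} (h : IsTv x f u) (y : X) :
    IsTv (y * x * y⁻¹) (cjf y f) (y • u) := by
  intro n
  rw [mul_smul, mul_smul, h, smul_add, smul_inv_smul, smul_z, cjf_apply]

theorem mul {x y : X} {f g : N →+ ZMod 2} {u : N} (hx : IsTv x f u) (hy : IsTv y g u) (hu : f u = 0) :
    IsTv (x * y) (f + g) u := by
  intro n
  have h1 : f (g n • u) = 0 := by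
    rcases z2 (g n) with e | e
    · rw [e, zero_smul, map_zero]
    · rw [e, one_smul, hu]
  rw [mul_smul, hy, hx, map_add, h1, add_zero, AddMonoidHom.add_apply, add_smul, add_assoc,
    add_comm (g n • u)]

theorem inv_smul' {x : X} {f : N →+ ZMod 2} {u : N} (h : IsTv x f u) (hu : f u = 0) (n : N) :
    x⁻¹ • n = n + f n • u := by
  rw [inv_smul_eq_iff, smul_add, h, smul_z, h u, hu, zero_smul, add_zero, add_assoc, addself, add_zero]

end IsTv

theorem phi_zero {u : N} {f : N →+ ZMod 2} (hf : f ∈ Phi X u) (hu : u ≠ 0) : f u = 0 := by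
  obtain ⟨x, hx⟩ := hf
  exact hx.zero hu

theorem zero_phi (u : N) : (0 : N →+ ZMod 2) ∈ Phi X u :=
  ⟨1, fun n => by rw [one_smul, AddMonoidHom.zero_apply, zero_smul, add_zero]⟩

theorem add_phi {u : N} {f g : N →+ ZMod 2} (hf : f ∈ Phi X u) (hg : g ∈ Phi X u) (hu : u ≠ 0) :
    f + g ∈ Phi X u := by
  obtain ⟨x, hx⟩ := hf
  obtain ⟨y, hy⟩ := hg
  exact ⟨x * y, hx.mul hy (hx.zero hu)⟩

theorem cjf_phi {u : N} {f : N →+ ZMod 2} (x : X) (hf : f ∈ Phi X u) : cjf x f ∈ Phi X (x • u) := by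
  obtain ⟨y, hy⟩ := hf
  exact ⟨_, hy.conj x⟩

theorem smul_phi {u : N} {f : N →+ ZMod 2} (x : X) (hf : f ∈ Phi X u) :
    ∃ g ∈ Phi X (x • u), ∀ n, g (x • n) = f n :=
  ⟨cjf x f, cjf_phi x hf, cjf_smul x f⟩

theorem phi_smul_eq (x : X) (u : N) : Phi X (x • u) = cjf x '' Phi X u := by
  ext f
  constructor
  · intro hf
    refine ⟨cjf x⁻¹ f, ?_, cjf_cjf x f⟩
    have := cjf_phi x⁻¹ hf
    rwa [inv_smul_smul] at this
  · rintro ⟨g, hg, rfl⟩
    exact cjf_phi x hg

/-- `(a)` : `f ∈ Φ_v`, `f(u) = 0`, `g ∈ Φ_u`, `g(v) = 1` imply `f ∈ Φ_u` -/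
theorem step {u p : N} {f g : N →+ ZMod 2} (hu : u ≠ 0) (hp : p ≠ 0) (hf : f ∈ Phi X p) (hfu : f u = 0)
    (hg : g ∈ Phi X u) (hgp : g p = 1) : f ∈ Phi X u := by
  obtain ⟨x, hx⟩ := hf
  obtain ⟨y, hy⟩ := hg
  have h1 := hy.conj x
  have h2 : x • u = u := by rw [hx, hfu, zero_smul, add_zero]
  have h3 : cjf x g = g + f := by
    ext n
    rw [cjf_apply, hx.inv_smul' (hx.zero hp), map_add, AddMonoidHom.add_apply]
    congr 1
    rcases z2 (f n) with e | e
    · rw [e, zero_smul, map_zero]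
    · rw [e, one_smul, hgp]
  rw [h2, h3] at h1
  have h4 := h1.mul hy (by rw [AddMonoidHom.add_apply, hy.zero hu, hfu, add_zero])
  have h5 : g + f + g = f := by
    ext n
    simp only [AddMonoidHom.add_apply]
    rw [add_comm (g n) (f n), add_assoc, z2_add, add_zero]
  rw [h5] at h4
  exact ⟨_, h4⟩

theorem adj_smul {u p : N} (x : X) (h : Adj X u p) : Adj X (x • u) (x • p) := by
  obtain ⟨f, hf, e⟩ := h
  exact ⟨cjf x f, cjf_phi x hf, by rw [cjf_smul, e]⟩

theorem adj_smul_iff {u p : N} (x : X) : Adj X (x • u) (x • p) ↔ Adj X u p := by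
  refine ⟨fun h => ?_, adj_smul x⟩
  have := adj_smul x⁻¹ h
  rwa [inv_smul_smul, inv_smul_smul] at this

theorem orb_smul {b u : N} (x : X) (h : u ∈ orbit X b) : x • u ∈ orbit X b := by
  obtain ⟨y, rfl⟩ := h
  exact ⟨x * y, mul_smul x y b⟩

theorem lk_smul {b u p : N} (x : X) (h : Lk X b u p) : Lk X b (x • u) (x • p) := by
  rcases h with rfl | h | ⟨q, hq, h1, h2⟩
  · exact Or.inl rfl
  · exact Or.inr (Or.inl (adj_smul x h))
  · exact Or.inr (Or.inr ⟨x • q, orb_smul x hq, adj_smul x h1, adj_smul x h2⟩)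

theorem eqm_smul {b n m : N} (x : X) (h : Eqm X b n m) : Eqm X b (x • n) (x • m) := by
  intro u hu f hf
  have h1 := h (x⁻¹ • u) (orb_smul _ hu) _ (cjf_phi x⁻¹ hf)
  rwa [cjf_apply, cjf_apply, inv_inv] at h1

theorem Eqm.symm {b n m : N} (h : Eqm X b n m) : Eqm X b m n := fun u hu f hf => (h u hu f hf).symm

theorem Eqm.trans {b n m l : N} (h : Eqm X b n m) (h' : Eqm X b m l) : Eqm X b n l :=
  fun u hu f hf => (h u hu f hf).trans (h' u hu f hf)

theorem Eqm.add {b n m n' m' : N} (h : Eqm X b n m) (h' : Eqm X b n' m') : Eqm X b (n + n') (m + m') :=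
  fun u hu f hf => by rw [map_add, map_add, h u hu f hf, h' u hu f hf]

variable (X) in
/-- all `Φ_u`, `u ∈ b^X`, have at most one nonzero element -/
def One (b : N) : Prop :=
  ∀ u ∈ orbit X b, ∀ f ∈ Phi X u, ∀ g ∈ Phi X u, f ≠ 0 → g ≠ 0 → f = g

namespace Sit

variable {T : Sylow 2 X} {K : Subgroup X} {v w r b : N} {t : X} {f₀ : N →+ ZMod 2}
variable (h : Sit T K v w r b t f₀)

include h

theorem ne_zero {u : N} (hu : u ∈ orbit X b) : u ≠ 0 := by
  obtain ⟨x, rfl⟩ := hu
  intro e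
  exact h.b_ne ((smul_eq_zero_iff_eq x).mp e)

theorem b_mem : b ∈ orbit X b := mem_orbit_self b

theorem exists_phi {u : N} (hu : u ∈ orbit X b) : ∃ f ∈ Phi X u, f ≠ 0 := by
  obtain ⟨x, rfl⟩ := hu
  refine ⟨cjf x f₀, cjf_phi x h.t_tv.phi, fun e => h.f_ne ?_⟩
  ext n
  rw [← cjf_smul x f₀ n, e]
  rfl

theorem t_mem_RR : t ∈ RR X b := Subgroup.subset_closure ⟨b, mem_orbit_self b, f₀, h.t_tv⟩

theorem t_ne : t ≠ 1 := by
  rintro rfl
  apply h.f_ne
  ext n
  by_contra hc
  have h1 := h.t_tv n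
  rw [one_smul, z2_ne'.mp hc, one_smul] at h1
  exact h.b_ne (left_eq_add.mp h1)

omit h in
theorem RR_normal : (RR X b).Normal := by
  constructor
  intro n hn g
  have h1 : (RR X b) ≤ (RR X b).comap (MulAut.conj g).toMonoidHom := by
    conv_lhs => rw [RR]
    rw [Subgroup.closure_le]
    rintro x ⟨u, hu, f, hx⟩
    exact Subgroup.subset_closure ⟨g • u, orb_smul g hu, cjf g f, hx.conj g⟩
  exact h1 hn

theorem RR_ne : RR X b ≠ ⊥ := fun e => h.t_ne (by have := h.t_mem_RR; rwa [e, Subgroup.mem_bot] at this)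

theorem exists_mul (x : X) : ∃ y ∈ RR X b, ∃ z ∈ stabilizer X v, y * z = x := by
  have := RR_normal (X := X) (b := b)
  have h1 : x ∈ RR X b ⊔ stabilizer X v := by
    rw [h.L0 _ RR_normal h.RR_ne]; exact Subgroup.mem_top x
  exact Subgroup.mem_sup_of_normal_left.mp h1

omit h in
/-- `[N, R]` lies in every additive subgroup which contains `b^X` -/
theorem RR_sub {B : AddSubgroup N} (hB : ∀ u ∈ orbit X b, u ∈ B) {x : X} (hx : x ∈ RR X b) (n : N) :
    x • n + n ∈ B := by
  induction hx using Subgroup.closure_induction generalizing n with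
  | mem x hx =>
    obtain ⟨u, hu, f, e⟩ := hx
    rw [e, add_right_comm, addself, zero_add]
    rcases z2 (f n) with e | e
    · rw [e, zero_smul]; exact B.zero_mem
    · rw [e, one_smul]; exact hB u hu
  | one => rw [one_smul, addself]; exact B.zero_mem
  | mul x y _ _ hx hy =>
    have h1 := B.add_mem (hx (y • n)) (hy n)
    have h2 : x • y • n + y • n + (y • n + n) = (x * y) • n + n := by
      rw [mul_smul, add_assoc, ← add_assoc (y • n), addself, zero_add]
    rwa [h2] at h1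
  | inv x _ hx =>
    have h1 := hx (x⁻¹ • n)
    rw [smul_inv_smul, add_comm] at h1
    exact h1

theorem gen_b : AddSubgroup.closure (orbit X b) = (⊤ : AddSubgroup N) := by
  set B := AddSubgroup.closure (orbit X b) with hB
  have hsub : ∀ u ∈ orbit X b, u ∈ B := fun u hu => AddSubgroup.subset_closure hu
  have h1 : ∀ x : X, x • v + v ∈ B := by
    intro x
    obtain ⟨y, hy, z, hz, rfl⟩ := h.exists_mul x
    rw [mul_smul, mem_stabilizer_iff.mp hz]
    exact RR_sub hsub hy v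
  have hv : v ∈ B := by
    obtain ⟨x, hx⟩ := h.v_w
    obtain ⟨y, hy⟩ := h.v_vw
    have h2 := h1 x
    have h3 := h1 y
    rw [hx] at h2
    rw [hy] at h3
    have h4 := B.add_mem h2 h3
    have h5 : w + v + (v + w + v) = v := by
      have : w + v + (v + w + v) = (w + w) + (v + v) + v := by abel
      rw [this, addself, addself, zero_add, zero_add]
    rwa [h5] at h4
  rw [eq_top_iff, ← h.gen, AddSubgroup.closure_le]
  rintro _ ⟨x, rfl⟩
  have h2 := B.add_mem (h1 x) hv
  rwa [add_assoc, addself, add_zero] at h2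

theorem ext_b {f g : N →+ ZMod 2} (e : ∀ u ∈ orbit X b, f u = g u) : f = g := by
  ext n
  have h1 : n ∈ AddSubgroup.closure (orbit X b) := by rw [h.gen_b]; trivial
  induction h1 using AddSubgroup.closure_induction with
  | mem u hu => exact e u hu
  | zero => rw [map_zero, map_zero]
  | add x y _ _ hx hy => rw [map_add, map_add, hx, hy]
  | neg x _ hx => rw [map_neg, map_neg, hx]

theorem v_not : ¬ Eqm X b v 0 := by
  intro he
  have h1 : RR X b ≤ stabilizer X v := by
    rw [RR, Subgroup.closure_le]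
    rintro x ⟨u, hu, f, hx⟩
    have h2 := he u hu f hx.phi
    rw [map_zero] at h2
    rw [SetLike.mem_coe, mem_stabilizer_iff, hx, h2, zero_smul, add_zero]
  have h2 := h.L0 _ RR_normal h.RR_ne
  rw [sup_eq_right.mpr h1] at h2
  have h3 : ∀ x : X, x • v = v := fun x => by
    have : x ∈ stabilizer X v := by rw [h2]; exact Subgroup.mem_top x
    exact mem_stabilizer_iff.mp this
  obtain ⟨x, hx⟩ := h.v_w
  obtain ⟨y, hy⟩ := h.v_vw
  rw [h3] at hx hy
  rw [← hx, addself] at hy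
  exact h.v_ne hy

theorem b_not : ¬ Eqm X b b 0 := by
  intro he
  apply h.f_ne
  apply h.ext_b
  rintro _ ⟨x, rfl⟩
  have h1 := eqm_smul x he b (mem_orbit_self b) f₀ h.t_tv.phi
  rw [smul_zero, map_zero] at h1
  rw [AddMonoidHom.zero_apply]
  exact h1

theorem eqm_r : Eqm X b r 0 := by
  intro u hu f hf
  obtain ⟨x, hx⟩ := hf
  have h1 := hx r
  rw [h.r_fix, left_eq_add] at h1
  rw [map_zero]
  by_contra hc
  rw [z2_ne'.mp hc, one_smul] at h1
  exact h.ne_zero hu h1

theorem fixT' {n : N} (hn : ∀ x ∈ (T : Subgroup X), x • n = n) (hI : ¬ Eqm X b n 0) : n = v ∨ n = v + r := by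
  rcases h.fixT n hn with rfl | e | rfl | e
  · exact absurd (fun u _ f _ => rfl) hI
  · exact Or.inl e
  · exact absurd h.eqm_r hI
  · exact Or.inr e

/-- `(G)` -/
theorem eq_of {u p : N} (hu : u ∈ orbit X b) (hp : p ∈ orbit X b) (he : Eqm X b u p) {f : N →+ ZMod 2}
    (hfu : f ∈ Phi X u) (hfp : f ∈ Phi X p) (hf : f ≠ 0) : u = p := by
  let Z : Subgroup X :=
    { carrier := {g | (∀ n, Eqm X b (g • n) n) ∧ ∀ n, Eqm X b n 0 → g • n = n}
      mul_mem' := by
        rintro g g' ⟨h1, h2⟩ ⟨h1', h2'⟩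
        refine ⟨fun n => ?_, fun n hn => ?_⟩
        · rw [mul_smul]; exact (h1 _).trans (h1' n)
        · rw [mul_smul, h2' n hn, h2 n hn]
      one_mem' := ⟨fun n => by rw [one_smul]; exact fun _ _ _ _ => rfl, fun n _ => one_smul X n⟩
      inv_mem' := by
        rintro g ⟨h1, h2⟩
        refine ⟨fun n => ?_, fun n hn => ?_⟩
        · have := (h1 (g⁻¹ • n)).symm
          rwa [smul_inv_smul] at this
        · rw [inv_smul_eq_iff, h2 n hn] }
  have hZn : Z.Normal := by
    constructor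
    rintro z ⟨h1, h2⟩ g
    refine ⟨fun n => ?_, fun n hn => ?_⟩
    · have h3 := eqm_smul g (h1 (g⁻¹ • n))
      rwa [smul_inv_smul, ← mul_smul, ← mul_smul] at h3
    · have h3 := h2 (g⁻¹ • n) (by have := eqm_smul g⁻¹ hn; rwa [smul_zero] at this)
      rw [mul_smul, mul_smul, h3, smul_inv_smul]
  have hZ2 : IsPGroup 2 Z := by
    intro z
    refine ⟨1, Subtype.ext ?_⟩
    obtain ⟨h1, h2⟩ := z.2
    have : ((z : X) * (z : X)) = 1 := by
      apply h.faith
      intro n
      have h3 : Eqm X b ((z : X) • n + n) 0 := by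
        intro q hq g hg
        rw [map_add, h1 n q hq g hg, z2_add, map_zero]
      have h4 := h2 _ h3
      rw [smul_add, ← mul_smul] at h4
      have h5 : ((z : X) * z) • n = (z : X) • n + n + (z : X) • n := by
        rw [← h4, add_assoc, addself, add_zero]
      rw [h5, add_comm, add_cancel']
    simpa [pow_two] using this
  have hZ := h.o2 Z hZn hZ2
  obtain ⟨x, hx⟩ := hfu
  obtain ⟨y, hy⟩ := hfp
  have hxy : ∀ n, (x * y) • n = n + f n • (u + p) := by
    intro n
    rw [mul_smul, hy, hx, map_add]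
    have h1 : f (f n • p) = 0 := by
      rcases z2 (f n) with e | e
      · rw [e, zero_smul, map_zero]
      · rw [e, one_smul, hy.zero (h.ne_zero hp)]
    rw [h1, add_zero, smul_add, add_assoc, add_comm (f n • p)]
  have hmem : x * y ∈ Z := by
    refine ⟨fun n => ?_, fun n hn => ?_⟩
    · intro q hq g hg
      rw [hxy, map_add]
      have h1 : g (f n • (u + p)) = 0 := by
        rcases z2 (f n) with e | e
        · rw [e, zero_smul, map_zero]
        · rw [e, one_smul, map_add, he q hq g hg, z2_add]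
      rw [h1, add_zero]
    · have h1 := hn u hu f hx.phi
      rw [map_zero] at h1
      rw [hxy, h1, zero_smul, add_zero]
  rw [hZ, Subgroup.mem_bot] at hmem
  obtain ⟨n, hn⟩ : ∃ n, f n ≠ 0 := by
    by_contra hc
    push Not at hc
    exact hf (by ext n; exact hc n)
  have h1 := hxy n
  rw [hmem, one_smul, z2_ne'.mp hn, one_smul, left_eq_add] at h1
  exact eq_of_add h1

theorem k_one {d : X} {f : N →+ ZMod 2} {u : N} (hd : d ∈ stabilizer X v) (hu : u ≠ 0) (hdu : IsTv d f u)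
    (hfb : f b = 1) (hfu : f₀ u = 1) : False := by
  have htb : t • b = b := by rw [h.t_tv, h.t_tv.zero h.b_ne, zero_smul, add_zero]
  have htu : t • u = u + b := by rw [h.t_tv, hfu, one_smul]
  have hdb : d • b = b + u := by rw [hdu, hfb, one_smul]
  have hdu' : d • u = u := by rw [hdu, hdu.zero hu, zero_smul, add_zero]
  have hdi : d⁻¹ • b = b + u := by rw [inv_smul_eq_iff, smul_add, hdb, hdu', add_assoc, addself, add_zero]
  have hdiu : d⁻¹ • u = u := by rw [inv_smul_eq_iff, hdu']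
  obtain ⟨g, hg⟩ : ∃ g, g = t * (d * t * d⁻¹) := ⟨_, rfl⟩
  have hgK : g ∈ K := hg ▸ K.mul_mem h.t_mem ((Subgroup.mem_normalizer_iff.mp (h.K_nrm hd) t).mp h.t_mem)
  have h1 : g • b = b + u := by
    rw [hg, mul_smul, mul_smul, mul_smul, hdi, smul_add, htb, htu, add_comm u b, add_cancel', hdu', htu,
      add_comm]
  have h2 : g • u = b := by
    rw [hg, mul_smul, mul_smul, mul_smul, hdiu, htu, smul_add, hdb, hdu', add_comm b u, add_cancel', htb]
  have h3 : g ^ 3 • b = b := by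
    have : g ^ 3 = g * (g * g) := by rw [pow_succ', pow_two]
    rw [this, mul_smul, mul_smul, h1, smul_add, h1, h2, add_right_comm, addself, zero_add, h2]
  obtain ⟨k, hk⟩ := h.K_two ⟨g, hgK⟩
  have hk' : g ^ 2 ^ k = 1 := by
    have := congrArg Subtype.val hk
    simpa using this
  have hcop : (3 : ℕ).Coprime (orderOf g) := by
    have h4 : orderOf g ∣ 2 ^ k := orderOf_dvd_of_pow_eq_one hk'
    exact Nat.Coprime.coprime_dvd_right h4 (Nat.Coprime.pow_right _ (by norm_num))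
  obtain ⟨m, hm⟩ := exists_pow_eq_self_of_coprime hcop
  have h5 : g ∈ stabilizer X b := by
    rw [← hm]
    exact Subgroup.pow_mem _ (mem_stabilizer_iff.mpr h3) m
  rw [mem_stabilizer_iff, h1, add_eq_left] at h5
  exact hu h5

theorem zero_of {u p : N} {f : N →+ ZMod 2} (hn : ¬ Lk X b u p) (hf : f ∈ Phi X u) : f p = 0 :=
  z2_ne.mp fun e => hn (Or.inr (Or.inl ⟨f, hf, e⟩))

theorem add_mem' {u p : N} {f : N →+ ZMod 2} (hp : p ∈ orbit X b) (hf : f ∈ Phi X u) (e : f p = 1) :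
    u + p ∈ orbit X b := by
  obtain ⟨x, hx⟩ := hf
  have h1 := hx p
  rw [e, one_smul] at h1
  rw [add_comm, ← h1]
  exact orb_smul x hp

theorem add_mem {u p : N} {f : N →+ ZMod 2} (hu : u ∈ orbit X b) (hp : p ∈ orbit X b) (hf : f ∈ Phi X u)
    (e : f p = 1) : u + p ∈ orbit X b ∧ Lk X b u (u + p) :=
  ⟨h.add_mem' hp hf e, Or.inr (Or.inl ⟨f, hf, by rw [map_add, phi_zero hf (h.ne_zero hu), zero_add, e]⟩)⟩

omit h in
theorem lk_refl (u : N) : Lk X b u u := Or.inl rfl

variable [Finite N]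

theorem ncard_phi {u p : N} (hu : u ∈ orbit X b) (hp : p ∈ orbit X b) :
    (Phi X u).ncard = (Phi X p).ncard := by
  obtain ⟨x, rfl⟩ := hu
  obtain ⟨y, rfl⟩ := hp
  rw [phi_smul_eq, phi_smul_eq, Set.ncard_image_of_injective _ (cjf_inj x),
    Set.ncard_image_of_injective _ (cjf_inj y)]

theorem adj_symm {u p : N} (hu : u ∈ orbit X b) (hp : p ∈ orbit X b) (ha : Adj X u p) : Adj X p u := by
  by_contra hc
  obtain ⟨g, hg, e⟩ := ha
  have hsub : Phi X p ⊆ Phi X u := by
    intro f hf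
    exact step (h.ne_zero hu) (h.ne_zero hp) hf (z2_ne.mp fun e => hc ⟨f, hf, e⟩) hg e
  have hfin : Finite (N →+ ZMod 2) := DFunLike.finite _
  have heq : Phi X p = Phi X u :=
    Set.eq_of_subset_of_ncard_le hsub (h.ncard_phi hu hp).le (Set.toFinite _)
  have h1 : g ∈ Phi X p := by rw [heq]; exact hg
  rw [phi_zero h1 (h.ne_zero hp)] at e
  exact zero_ne_one e

theorem lk_symm {u p : N} (hu : u ∈ orbit X b) (hp : p ∈ orbit X b) (hl : Lk X b u p) : Lk X b p u := by
  rcases hl with rfl | hl | ⟨q, hq, h1, h2⟩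
  · exact Or.inl rfl
  · exact Or.inr (Or.inl (h.adj_symm hu hp hl))
  · exact Or.inr (Or.inr ⟨q, hq, h.adj_symm hq hp h2, h.adj_symm hu hq h1⟩)

/-! ### `(1)` : more than one functional -/

/-- two elements with a common neighbour which are not joined agree on `Φ_y` for every common neighbour `y` -/
theorem agree {u x y : N} (hu : u ∈ orbit X b) (hx : x ∈ orbit X b) (hy : y ∈ orbit X b) (huy : Adj X u y)
    (hxy : Adj X x y) (hn : ¬ Adj X u x) {f : N →+ ZMod 2} (hf : f ∈ Phi X y) : f u = f x := by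
  have hn' : ¬ Adj X x u := fun e => hn (h.adj_symm hx hu e)
  obtain ⟨g, hg, eg⟩ := huy
  obtain ⟨g', hg', eg'⟩ := hxy
  rcases z2 (f u) with e | e
  · rw [e]
    by_contra hc
    exact hn ⟨f, step (h.ne_zero hu) (h.ne_zero hy) hf e hg eg, z2_ne'.mp fun e => hc e.symm⟩
  · rw [e]
    by_contra hc
    exact hn' ⟨f, step (h.ne_zero hx) (h.ne_zero hy) hf (z2_ne.mp fun e => hc e.symm) hg' eg', e⟩

theorem phi_sub {u x y : N} (hu : u ∈ orbit X b) (hx : x ∈ orbit X b) (hy : y ∈ orbit X b) {ψ : N →+ ZMod 2}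
    (hψu : ψ ∈ Phi X u) (hψx : ψ ∈ Phi X x) (e : ψ y = 1) (hn : ¬ Adj X u x) : Phi X u ⊆ Phi X x := by
  have huy : Adj X u y := ⟨ψ, hψu, e⟩
  have hxy : Adj X x y := ⟨ψ, hψx, e⟩
  obtain ⟨g, hg, eg⟩ := h.adj_symm hu hy huy
  have key : ∀ f ∈ Phi X u, f y = 0 → f ∈ Phi X x := by
    intro f hf h0
    have h1 : f ∈ Phi X y := step (h.ne_zero hy) (h.ne_zero hu) hf h0 hg eg
    have h2 := h.agree hu hx hy huy hxy hn h1
    rw [phi_zero hf (h.ne_zero hu)] at h2
    exact step (h.ne_zero hx) (h.ne_zero hy) h1 h2.symm hψx e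
  intro f hf
  rcases z2 (f y) with h0 | h0
  · exact key f hf h0
  · have h1 := key (f + ψ) (add_phi hf hψu (h.ne_zero hu)) (by
      rw [AddMonoidHom.add_apply, h0, e, z2_add])
    have h2 := add_phi h1 hψx (h.ne_zero hx)
    have h3 : f + ψ + ψ = f := by
      ext n
      simp only [AddMonoidHom.add_apply]
      rw [add_assoc, z2_add, add_zero]
    rwa [h3] at h2

theorem exists_psi (hk : ¬ One X b) {u : N} (hu : u ∈ orbit X b) (n : N) :
    ∃ ψ ∈ Phi X u, ψ ≠ 0 ∧ ψ n = 0 := by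
  rw [One] at hk
  push Not at hk
  obtain ⟨p, hp, f, hf, g, hg, hf0, hg0, hfg⟩ := hk
  obtain ⟨x, rfl⟩ : ∃ x : X, x • p = u := by
    obtain ⟨y, rfl⟩ := hp
    obtain ⟨z, rfl⟩ := hu
    exact ⟨z * y⁻¹, by rw [mul_smul]; simp only []; rw [inv_smul_smul]⟩
  have hne : ∀ g : N →+ ZMod 2, g ≠ 0 → cjf x g ≠ 0 := by
    intro g hg e
    apply hg
    ext n
    rw [← cjf_smul x g n, e]
    rfl
  rcases z2 (cjf x f n) with e | e
  · exact ⟨_, cjf_phi x hf, hne f hf0, e⟩
  · rcases z2 (cjf x g n) with e' | e'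
    · exact ⟨_, cjf_phi x hg, hne g hg0, e'⟩
    · refine ⟨cjf x (f + g), cjf_phi x (add_phi hf hg (h.ne_zero hp)), hne _ fun e => hfg ?_, ?_⟩
      · ext m
        have := DFunLike.congr_fun e m
        rw [AddMonoidHom.add_apply, AddMonoidHom.zero_apply] at this
        rcases z2 (f m) with h1 | h1 <;> rcases z2 (g m) with h2 | h2 <;> rw [h1, h2] at this ⊢
        · exact absurd this (by decide)
        · exact absurd this (by decide)
      · have : cjf x (f + g) n = cjf x f n + cjf x g n := rfl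
        rw [this, e, e', z2_add]

theorem clique' (hk : ¬ One X b) {u x y : N} (hu : u ∈ orbit X b) (hx : x ∈ orbit X b) (hy : y ∈ orbit X b)
    (huy : Adj X u y) (hyx : Adj X y x) : u = x ∨ Adj X u x := by
  by_cases hn : Adj X u x
  · exact Or.inr hn
  left
  have hn' : ¬ Adj X x u := fun e => hn (h.adj_symm hx hu e)
  have hxy := h.adj_symm hy hx hyx
  obtain ⟨ψ, hψ, hψ0, e⟩ := h.exists_psi hk hy u
  have e' : ψ x = 0 := by rw [← h.agree hu hx hy huy hxy hn hψ, e]
  have hψu : ψ ∈ Phi X u := by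
    obtain ⟨g, hg, eg⟩ := huy
    exact step (h.ne_zero hu) (h.ne_zero hy) hψ e hg eg
  have hψx : ψ ∈ Phi X x := by
    obtain ⟨g, hg, eg⟩ := hxy
    exact step (h.ne_zero hx) (h.ne_zero hy) hψ e' hg eg
  obtain ⟨z, hz, ez⟩ : ∃ z ∈ orbit X b, ψ z = 1 := by
    by_contra hc
    push Not at hc
    exact hψ0 (h.ext_b fun z hz => by rw [AddMonoidHom.zero_apply]; exact z2_ne.mp (hc z hz))
  have hΦ : Phi X u = Phi X x :=
    Set.Subset.antisymm (h.phi_sub hu hx hz hψu hψx ez hn) (h.phi_sub hx hu hz hψx hψu ez hn')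
  refine h.eq_of hu hx (fun y' hy' f hf => ?_) hψu hψx hψ0
  by_cases ha : Adj X u y'
  · have ha' : Adj X x y' := by
      obtain ⟨g, hg, eg⟩ := ha
      exact ⟨g, by rw [← hΦ]; exact hg, eg⟩
    exact h.agree hu hx hy' ha ha' hn hf
  · have ha' : ¬ Adj X x y' := by
      rintro ⟨g, hg, eg⟩
      exact ha ⟨g, by rw [hΦ]; exact hg, eg⟩
    have h1 : f u = 0 := z2_ne.mp fun e => ha (h.adj_symm hy' hu ⟨f, hf, e⟩)
    have h2 : f x = 0 := z2_ne.mp fun e => ha' (h.adj_symm hy' hx ⟨f, hf, e⟩)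
    rw [h1, h2]

theorem clique (hk : ¬ One X b) {u p : N} (hu : u ∈ orbit X b) (hp : p ∈ orbit X b) (hl : Lk X b u p) :
    u = p ∨ Adj X u p := by
  rcases hl with rfl | hl | ⟨q, hq, h1, h2⟩
  · exact Or.inl rfl
  · exact Or.inr hl
  · exact h.clique' hk hu hp hq h1 h2

/-! ### `(2)` : one functional -/

theorem one_symm (hk : One X b) {u p : N} (hu : u ∈ orbit X b) (hp : p ∈ orbit X b) {f g : N →+ ZMod 2}
    (hf : f ∈ Phi X u) (hg : g ∈ Phi X p) (hf0 : f ≠ 0) (hg0 : g ≠ 0) : f p = g u := by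
  have key : ∀ {u p : N} {f g : N →+ ZMod 2}, u ∈ orbit X b → p ∈ orbit X b → f ∈ Phi X u → g ∈ Phi X p →
      g ≠ 0 → f p = 1 → g u = 1 := by
    intro u p f g hu hp hf hg hg0 e
    obtain ⟨g', hg', e'⟩ := h.adj_symm hu hp ⟨f, hf, e⟩
    have : g' ≠ 0 := by rintro rfl; exact absurd e' (by simp)
    rw [hk p hp g hg g' hg' hg0 this, e']
  rcases z2 (f p) with e | e
  · rcases z2 (g u) with e' | e'
    · rw [e, e']
    · rw [key hp hu hg hf hf0 e', e']
  · rw [e, key hu hp hf hg hg0 e]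

theorem one_add (hk : One X b) {u p : N} (hu : u ∈ orbit X b) (hp : p ∈ orbit X b) (hup : u + p ∈ orbit X b)
    {f g k : N →+ ZMod 2} (hf : f ∈ Phi X u) (hg : g ∈ Phi X p) (hk' : k ∈ Phi X (u + p)) (hf0 : f ≠ 0)
    (hg0 : g ≠ 0) (hk0 : k ≠ 0) : k = f + g := by
  apply h.ext_b
  intro y hy
  obtain ⟨m, hm, hm0⟩ := h.exists_phi hy
  rw [AddMonoidHom.add_apply, h.one_symm hk hup hy hk' hm hk0 hm0, h.one_symm hk hu hy hf hm hf0 hm0,
    h.one_symm hk hp hy hg hm hg0 hm0, map_add]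

theorem one_three (hk : One X b) {a c d e : N} (ha : a ∈ orbit X b) (hc : c ∈ orbit X b) (hd : d ∈ orbit X b)
    (he : e ∈ orbit X b) (h1 : Adj X a c) (h2 : Adj X c d) (h3 : Adj X d e) : Lk X b a e := by
  by_cases h4 : Adj X a d
  · exact Or.inr (Or.inr ⟨d, hd, h4, h3⟩)
  by_cases h5 : Adj X c e
  · exact Or.inr (Or.inr ⟨c, hc, h1, h5⟩)
  have h5' : ¬ Adj X e c := fun x => h5 (h.adj_symm he hc x)
  have h3' := h.adj_symm hd he h3
  have hcd : c + d ∈ orbit X b := by
    obtain ⟨f, hf, ef⟩ := h2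
    exact h.add_mem' hd hf ef
  refine Or.inr (Or.inr ⟨c + d, hcd, ?_, ?_⟩)
  · obtain ⟨f, hf, ef⟩ := h1
    refine ⟨f, hf, ?_⟩
    rw [map_add, ef, z2_ne.mp fun e => h4 ⟨f, hf, e⟩, add_zero]
  · apply h.adj_symm he hcd
    obtain ⟨f, hf, ef⟩ := h3'
    refine ⟨f, hf, ?_⟩
    rw [map_add, ef, z2_ne.mp fun e => h5' ⟨f, hf, e⟩, zero_add]

/-! ### components -/

theorem lk_adj {a d e : N} (ha : a ∈ orbit X b) (hd : d ∈ orbit X b) (he : e ∈ orbit X b) (hl : Lk X b a d)
    (hde : Adj X d e) : Lk X b a e := by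
  rcases hl with rfl | hl | ⟨q, hq, h1, h2⟩
  · exact Or.inr (Or.inl hde)
  · exact Or.inr (Or.inr ⟨d, hd, hl, hde⟩)
  · by_cases hk : One X b
    · exact h.one_three hk ha hq hd he h1 h2 hde
    · rcases h.clique' hk ha hd hq h1 h2 with rfl | h3
      · exact Or.inr (Or.inl hde)
      · exact Or.inr (Or.inr ⟨d, hd, h3, hde⟩)

theorem lk_trans {u p q : N} (hu : u ∈ orbit X b) (hp : p ∈ orbit X b) (hq : q ∈ orbit X b)
    (h1 : Lk X b u p) (h2 : Lk X b p q) : Lk X b u q := by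
  rcases h2 with rfl | h2 | ⟨m, hm, h3, h4⟩
  · exact h1
  · exact h.lk_adj hu hp hq h1 h2
  · exact h.lk_adj hu hm hq (h.lk_adj hu hp hm h1 h3) h4

theorem inj {u p : N} (hu : u ∈ orbit X b) (hp : p ∈ orbit X b) (hl : Lk X b u p) (he : Eqm X b u p) :
    u = p := by
  by_cases hk : One X b
  · obtain ⟨f, hf, hf0⟩ := h.exists_phi hu
    obtain ⟨g, hg, hg0⟩ := h.exists_phi hp
    have hfg : f = g := by
      apply h.ext_b
      intro y hy
      obtain ⟨m, hm, hm0⟩ := h.exists_phi hy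
      rw [h.one_symm hk hu hy hf hm hf0 hm0, h.one_symm hk hp hy hg hm hg0 hm0, he y hy m hm]
    rw [← hfg] at hg
    exact h.eq_of hu hp he hf hg hf0
  · rcases h.clique hk hu hp hl with rfl | ⟨f, hf, e⟩
    · rfl
    · have h1 := he u hu f hf
      rw [e, phi_zero hf (h.ne_zero hu)] at h1
      exact absurd h1 zero_ne_one

/-- `R` fixes every component -/
theorem RR_lk {x : X} (hx : x ∈ RR X b) {q : N} (hq : q ∈ orbit X b) : Lk X b q (x • q) := by
  induction hx using Subgroup.closure_induction generalizing q with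
  | mem x hx =>
    obtain ⟨u, hu, f, e⟩ := hx
    rw [e]
    rcases z2 (f q) with h0 | h0
    · rw [h0, zero_smul, add_zero]; exact Or.inl rfl
    · rw [h0, one_smul]
      exact Or.inr (Or.inr ⟨u, hu, h.adj_symm hu hq ⟨f, e.phi, h0⟩,
        ⟨f, e.phi, by rw [map_add, h0, e.zero (h.ne_zero hu), add_zero]⟩⟩)
  | one => rw [one_smul]; exact Or.inl rfl
  | mul x y _ _ hx hy =>
    rw [mul_smul]
    exact h.lk_trans hq (orb_smul y hq) (orb_smul x (orb_smul y hq)) (hy hq) (hx (orb_smul y hq))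
  | inv x _ hx =>
    have h1 := hx (orb_smul x⁻¹ hq)
    rw [smul_inv_smul] at h1
    exact h.lk_symm (orb_smul x⁻¹ hq) hq h1

/-- `C_X(v)` is transitive on the components -/
theorem exists_stab {u p : N} (hu : u ∈ orbit X b) (hp : p ∈ orbit X b) :
    ∃ d ∈ stabilizer X v, Lk X b (d • u) p := by
  obtain ⟨x, rfl⟩ : ∃ x : X, x • u = p := by
    obtain ⟨y, rfl⟩ := hp
    obtain ⟨z, rfl⟩ := hu
    exact ⟨y * z⁻¹, by rw [mul_smul]; simp only []; rw [inv_smul_smul]⟩
  obtain ⟨y, hy, z, hz, rfl⟩ := h.exists_mul x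
  refine ⟨z, hz, ?_⟩
  rw [mul_smul]
  exact h.RR_lk hy (orb_smul z hu)

/-! ### `(2)` : the component of `v` -/

/-- `(*)` -/
theorem one_star (hk : One X b) {u : N} (hu : u ∈ orbit X b) {f : N →+ ZMod 2} (hf : f ∈ Phi X u)
    (e : f b = 1) : f v = 1 := by
  by_contra hc
  have hf0 : f ≠ 0 := by rintro rfl; exact absurd e (by simp)
  obtain ⟨d, hd⟩ := hf
  have h1 : d ∈ stabilizer X v := by
    rw [mem_stabilizer_iff, hd, z2_ne.mp hc, zero_smul, add_zero]
  exact h.k_one h1 (h.ne_zero hu) hd e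
    (by rw [h.one_symm hk (mem_orbit_self b) hu h.t_tv.phi hd.phi h.f_ne hf0, e])

/-- `(i)` -/
theorem one_i (hk : One X b) {u p : N} (hu : u ∈ orbit X b) (hp : p ∈ orbit X b) {f g : N →+ ZMod 2}
    (hf : f ∈ Phi X u) (hg : g ∈ Phi X p) (e1 : f b = 1) (e2 : g b = 0) (e3 : g v = 1) : f p = 0 := by
  by_contra hc
  have hf0 : f ≠ 0 := by rintro rfl; exact absurd e1 (by simp)
  have hg0 : g ≠ 0 := by rintro rfl; exact absurd e3 (by simp)
  have hup := h.add_mem' hp hf (z2_ne'.mp hc)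
  obtain ⟨k, hk', hk0⟩ := h.exists_phi hup
  have h1 := h.one_add hk hu hp hup hf hg hk' hf0 hg0 hk0
  have h2 := h.one_star hk hup hk' (by rw [h1, AddMonoidHom.add_apply, e1, e2, add_zero])
  rw [h1, AddMonoidHom.add_apply, h.one_star hk hu hf e1, e3, z2_add] at h2
  exact zero_ne_one h2

/-- a neighbour of `b` -/
theorem exists_adj_b : ∃ u ∈ orbit X b, ∃ f ∈ Phi X u, f b = 1 := by
  by_contra hc
  push Not at hc
  exact h.b_not fun u hu f hf => by rw [map_zero]; exact z2_ne.mp (hc u hu f hf)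

/-- `(ii)` -/
theorem one_v (hk : One X b) {u : N} (hu : u ∈ orbit X b) (hl : Lk X b b u) {f : N →+ ZMod 2}
    (hf : f ∈ Phi X u) : f v = f b := by
  rcases z2 (f b) with e | e
  swap
  · rw [e, h.one_star hk hu hf e]
  rw [e]
  by_contra hc
  have hv : f v = 1 := z2_ne'.mp hc
  have hf0 : f ≠ 0 := by rintro rfl; exact absurd hv (by simp)
  have hb := mem_orbit_self (M := X) b
  obtain ⟨p, hp, g, hg, eg⟩ := h.exists_adj_b
  have hg0 : g ≠ 0 := by rintro rfl; exact absurd eg (by simp)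
  have hpu : g u = 0 := h.one_i hk hp hu hg hf eg e hv
  have hlp : Lk X b p u := h.lk_trans hp hb hu (Or.inr (Or.inl ⟨g, hg, eg⟩)) hl
  rcases hlp with rfl | ⟨g', hg', e'⟩ | ⟨q, hq, h1, h2⟩
  · have := hk p hp f hf g hg hf0 hg0
    rw [this, eg] at e
    exact one_ne_zero e
  · have h3 : g' ≠ 0 := by rintro rfl; exact absurd e' (by simp)
    rw [hk p hp g' hg' g hg h3 hg0, hpu] at e'
    exact zero_ne_one e'
  · obtain ⟨m, hm, hm0⟩ := h.exists_phi hq
    have hgq : g q = 1 := by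
      obtain ⟨g', hg', e'⟩ := h1
      have h3 : g' ≠ 0 := by rintro rfl; exact absurd e' (by simp)
      rw [hk p hp g hg g' hg' hg0 h3, e']
    have hmu : m u = 1 := by
      obtain ⟨m', hm', e'⟩ := h2
      have h3 : m' ≠ 0 := by rintro rfl; exact absurd e' (by simp)
      rw [hk q hq m hm m' hm' hm0 h3, e']
    have hmp : m p = 1 := by rw [← h.one_symm hk hp hq hg hm hg0 hm0, hgq]
    have hmb : m b = 0 := by
      by_contra hc
      have := h.one_i hk hq hu hm hf (z2_ne'.mp hc) e hv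
      rw [hmu] at this
      exact one_ne_zero this
    have hmv : m v = 0 := by
      by_contra hc
      have := h.one_i hk hp hq hg hm eg hmb (z2_ne'.mp hc)
      rw [hgq] at this
      exact one_ne_zero this
    have hpq := h.add_mem' hq hg hgq
    obtain ⟨k, hk', hk0⟩ := h.exists_phi hpq
    have h3 := h.one_add hk hp hq hpq hg hm hk' hg0 hm0 hk0
    have h4 := h.one_i hk hpq hu hk' hf (by rw [h3, AddMonoidHom.add_apply, eg, hmb, add_zero]) e hv
    rw [h3, AddMonoidHom.add_apply, hpu, hmu, zero_add] at h4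
    exact one_ne_zero h4

end Sit

end Cfsg.Agent.Omega.TC.Trans
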