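import Cfsg.Agent.Omega.TC.TransTwo

/-!
# LEMMA TC (bb OMEGA #20268, helper791): a non-faithful action

* `o2_triv` : `O₂(X) = 1` follows from the other hypotheses;
* `trans_act` : LEMMA TC for a group `C` acting on `M`, not necessarily faithfully.
-/

set_option autoImplicit false
set_option linter.unusedSectionVars false

namespace Cfsg.Agent.Omega.TC.Trans

open Subgroup MulAction

/-- `O₂(X) = 1` follows from the rest -/
theorem o2_triv {X : Type*} [Group X] [Finite X] {N : Type*} [AddCommGroup N] [DistribMulAction X N]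
    [FaithfulSMul X N] (T : Sylow 2 X) {v : N} (hv : ∀ t ∈ (T : Subgroup X), t • v = v)
    (hgen : AddSubgroup.closure (MulAction.orbit X v) = ⊤) (K : Subgroup X) (hK : K.Normal)
    (hK2 : IsPGroup 2 K) : K = ⊥ := by
  have h1 : K ≤ (T : Subgroup X) := by
    have h2 : IsPGroup 2 (K ⊔ (T : Subgroup X) : Subgroup X) := IsPGroup.to_sup_of_normal_left hK2 T.isPGroup'
    have h3 := T.is_maximal' h2 le_sup_right
    rw [← h3]
    exact le_sup_left
  rw [eq_bot_iff]
  intro k hk
  rw [mem_bot]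
  refine FaithfulSMul.eq_of_smul_eq_smul (α := N) fun n => ?_
  rw [one_smul]
  have hn : n ∈ AddSubgroup.closure (MulAction.orbit X v) := hgen ▸ AddSubgroup.mem_top n
  induction hn using AddSubgroup.closure_induction with
  | mem q hq =>
    obtain ⟨x, rfl⟩ := hq
    have h2 := hv _ (h1 (hK.conj_mem k hk x⁻¹))
    rw [inv_inv] at h2
    change k • x • v = x • v
    rw [← inv_smul_eq_iff, ← mul_smul, ← mul_smul]
    exact h2
  | zero => rw [smul_zero]
  | add n m _ _ hn hm => rw [smul_add, hn, hm]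
  | neg n _ hn => rw [smul_neg, hn]

/-- **LEMMA TC** for an action which need not be faithful. -/
theorem trans_act {C : Type*} [Group C] [Finite C] {M : Type*} [AddCommGroup M] [Finite M]
    [DistribMulAction C M]
    (h2 : ∀ n : M, n + n = 0)
    (T : Sylow 2 C) {v w r : M}
    (hr : ∀ x : C, x • r = r)
    (hT : ∀ n : M, (∀ t ∈ (T : Subgroup C), t • n = n) → n = 0 ∨ n = v ∨ n = r ∨ n = v + r)
    (hv : ∀ t ∈ (T : Subgroup C), t • v = v)
    (hv0 : v ≠ 0) (hVT : ∀ t ∈ (T : Subgroup C), t • w = w ∨ t • w = v + w)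
    (hw : ∃ x : C, x • v = w) (hvw : ∃ x : C, x • v = v + w)
    (hgen : AddSubgroup.closure (MulAction.orbit C v) = ⊤)
    (L0 : ∀ R : Subgroup C, R.Normal → (¬ ∀ x ∈ R, ∀ n : M, x • n = n) →
      ∀ c : C, ∃ x ∈ R, ∃ d ∈ MulAction.stabilizer C v, c = x * d)
    {K : Subgroup C} {t : C} (hK : IsPGroup 2 (K : Subgroup C))
    (hKn : K ≤ MulAction.stabilizer C v ∧ MulAction.stabilizer C v ≤ Subgroup.normalizer (K : Set C))
    (ht : t ∈ K) (ht1 : ¬ ∀ n : M, t • n = n)
    {b : M} (htb : ∀ n : M, t • n = n ∨ t • n = n + b) : b = v ∨ b = v + r := by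
  classical
  let φ : C →* Equiv.Perm M := MulAction.toPermHom C M
  let X := φ.range
  let π : C →* X := φ.rangeRestrict
  have hπ : Function.Surjective π := φ.rangeRestrict_surjective
  have hsm : ∀ (c : C) (n : M), π c • n = c • n := fun c n => rfl
  have hfa : FaithfulSMul X M := inferInstance
  letI inst : DistribMulAction X M :=
    { (inferInstance : MulAction X M) with
      smul_zero := fun x => by
        obtain ⟨c, rfl⟩ := hπ x
        rw [hsm, smul_zero]
      smul_add := fun x n m => by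
        obtain ⟨c, rfl⟩ := hπ x
        rw [hsm, hsm, hsm, smul_add] }
  have hsm' : ∀ (c : C) (n : M), π c • n = c • n := fun c n => rfl
  have hfa' : FaithfulSMul X M := hfa
  let T' : Sylow 2 X := T.mapSurjective hπ
  have hT' : ∀ x : X, x ∈ (T' : Subgroup X) → ∃ c ∈ (T : Subgroup C), π c = x := by
    intro x hx
    rw [Sylow.coe_mapSurjective] at hx
    exact hx
  have hT'' : ∀ c ∈ (T : Subgroup C), π c ∈ (T' : Subgroup X) := by
    intro c hc
    rw [Sylow.coe_mapSurjective]
    exact mem_map_of_mem _ hc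
  have horb : MulAction.orbit X v = MulAction.orbit C v := by
    ext n
    constructor
    · rintro ⟨x, rfl⟩
      obtain ⟨c, rfl⟩ := hπ x
      exact ⟨c, rfl⟩
    · rintro ⟨c, rfl⟩
      exact ⟨π c, rfl⟩
  have hgen' : AddSubgroup.closure (MulAction.orbit X v) = ⊤ := by rw [horb, hgen]
  have hv' : ∀ t ∈ (T' : Subgroup X), t • v = v := by
    intro x hx
    obtain ⟨c, hc, rfl⟩ := hT' x hx
    exact hv c hc
  have hstab : ∀ c : C, π c ∈ MulAction.stabilizer X v ↔ c ∈ MulAction.stabilizer C v := fun c => Iff.rfl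
  refine trans_centre (X := X) (N := M) h2 (o2_triv T' hv' hgen') T' (v := v) (w := w) (r := r) ?_ ?_ hv' hv0 ?_
    ?_ ?_ hgen' ?_ (K := K.map π) (t := π t) (hK.map π) ⟨?_, ?_⟩ (mem_map_of_mem _ ht) ?_ (b := b) ?_
  · intro x
    obtain ⟨c, rfl⟩ := hπ x
    exact hr c
  · intro n hn
    exact hT n fun c hc => hn (π c) (hT'' c hc)
  · intro x hx
    obtain ⟨c, hc, rfl⟩ := hT' x hx
    exact hVT c hc
  · obtain ⟨c, hc⟩ := hw
    exact ⟨π c, hc⟩
  · obtain ⟨c, hc⟩ := hvw
    exact ⟨π c, hc⟩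
  · intro R hR hR1
    have h3 : ¬ ∀ x ∈ R.comap π, ∀ n : M, x • n = n := by
      intro h4
      apply hR1
      rw [eq_bot_iff]
      intro x hx
      obtain ⟨c, rfl⟩ := hπ x
      rw [mem_bot]
      refine hfa'.eq_of_smul_eq_smul fun n => ?_
      rw [one_smul]
      exact h4 c hx n
    rw [eq_top_iff]
    intro x _
    obtain ⟨c, rfl⟩ := hπ x
    obtain ⟨y, hy, d, hd, rfl⟩ := L0 (R.comap π) (hR.comap π) h3 c
    rw [map_mul]
    exact mul_mem_sup hy ((hstab d).2 hd)
  · rintro _ ⟨k, hk, rfl⟩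
    exact (hstab k).2 (hKn.1 hk)
  · intro x hx
    obtain ⟨c, rfl⟩ := hπ x
    have h3 := hKn.2 ((hstab c).1 hx)
    refine mem_normalizer_iff.2 fun y => ?_
    constructor
    · rintro ⟨k, hk, rfl⟩
      exact ⟨c * k * c⁻¹, (mem_normalizer_iff.1 h3 k).1 hk, by rw [map_mul, map_mul, map_inv]⟩
    · rintro ⟨k, hk, hky⟩
      refine ⟨c⁻¹ * k * c, ?_, ?_⟩
      · have := (mem_normalizer_iff.1 (inv_mem h3) k).1 hk
        rwa [inv_inv] at this
      · rw [map_mul, map_mul, map_inv, hky]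
        group
  · intro h3
    apply ht1
    intro n
    rw [← hsm' t n, h3, one_smul]
  · exact htb

end Cfsg.Agent.Omega.TC.Trans
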