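import Mathlib

/-!
# LEMMA TC (bb OMEGA #20268, helper791): definitions

`X` is a finite group acting on the elementary abelian 2-group `N` (written additively, an `𝔽₂`-space).

* `IsTv x f u` : `x` is the transvection `n ↦ n + f(n) u`;
* `Phi X u` : the set of all `f` such that `n ↦ n + f(n) u` is induced by an element of `X`;
* `Adj X u p` : some `f ∈ Phi X u` has `f p = 1`;
* `Lk X b u p` : `u = p`, or `u - p`, or `u`, `p` have a common neighbour in the orbit `b^X`
  (`u`, `p` lie in the same component `Θ`);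
* `Eqm X b n m` : `n` and `m` are equal modulo `I = C_N(R)`;
* `RR X b` : the group `R` generated by all transvections with centre in `b^X`;
* `RT X b u` : the group `R_Θ`, `u ∈ Θ`;
* `Sit` : the situation of LEMMA TC.
-/

set_option autoImplicit false

namespace Cfsg.Agent.Omega.TC.Trans

variable {N : Type*} [AddCommGroup N] [Module (ZMod 2) N]

/-- `x` is the transvection `n ↦ n + f(n) u` -/
def IsTv {X : Type*} [Group X] [DistribMulAction X N] (x : X) (f : N →+ ZMod 2) (u : N) : Prop :=
  ∀ n : N, x • n = n + f n • u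

variable (X : Type*) [Group X] [DistribMulAction X N]

/-- the functionals `f` such that `1 + f ⊗ u` is induced by an element of `X` -/
def Phi (u : N) : Set (N →+ ZMod 2) := {f | ∃ x : X, IsTv x f u}

/-- `u - p` -/
def Adj (u p : N) : Prop := ∃ f ∈ Phi X u, f p = 1

/-- `u` and `p` lie in the same component -/
def Lk (b u p : N) : Prop :=
  u = p ∨ Adj X u p ∨ ∃ q ∈ MulAction.orbit X b, Adj X u q ∧ Adj X q p

/-- equality modulo `I` -/
def Eqm (b n m : N) : Prop := ∀ u ∈ MulAction.orbit X b, ∀ f ∈ Phi X u, f n = f m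

/-- the group generated by all transvections with centre in `b^X` -/
def RR (b : N) : Subgroup X := Subgroup.closure {x | ∃ u ∈ MulAction.orbit X b, ∃ f, IsTv x f u}

/-- the group generated by all transvections with centre in the component of `u` -/
def RT (b u : N) : Subgroup X :=
  Subgroup.closure {x | ∃ p ∈ MulAction.orbit X b, Lk X b u p ∧ ∃ f, IsTv x f p}

variable {X}

/-- the situation of LEMMA TC; `r = v₂` if `v₂ ∈ N`, `r = 0` if not; `K = O₂(C_X(v))` or any normal 2-subgroup
of `C_X(v)` -/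
structure Sit (T : Sylow 2 X) (K : Subgroup X) (v w r b : N) (t : X) (f₀ : N →+ ZMod 2) : Prop where
  faith : ∀ x : X, (∀ n : N, x • n = n) → x = 1
  o2 : ∀ R : Subgroup X, R.Normal → IsPGroup 2 R → R = ⊥
  r_fix : ∀ x : X, x • r = r
  fixT : ∀ n : N, (∀ x ∈ (T : Subgroup X), x • n = n) → n = 0 ∨ n = v ∨ n = r ∨ n = v + r
  T_v : ∀ x ∈ (T : Subgroup X), x • v = v
  v_ne : v ≠ 0
  T_w : ∀ x ∈ (T : Subgroup X), x • w = w ∨ x • w = v + w
  v_w : ∃ x : X, x • v = w
  v_vw : ∃ x : X, x • v = v + w
  gen : AddSubgroup.closure (MulAction.orbit X v) = ⊤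
  L0 : ∀ R : Subgroup X, R.Normal → R ≠ ⊥ → R ⊔ MulAction.stabilizer X v = ⊤
  K_two : IsPGroup 2 K
  K_le : K ≤ MulAction.stabilizer X v
  K_nrm : MulAction.stabilizer X v ≤ Subgroup.normalizer (K : Set X)
  t_mem : t ∈ K
  t_tv : IsTv t f₀ b
  f_ne : f₀ ≠ 0
  b_ne : b ≠ 0

end Cfsg.Agent.Omega.TC.Trans
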