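import Cfsg.Agent.Omega.TC.Trans

/-!
# LEMMA TC (bb OMEGA #20268, helper791), PART 2: (3), (4), (5)

* `Sit.comp_v` : the component of `v` in `Θ_b` is `b`;
* `Sit.comp` : every conjugate of `v` has a component in every `Θ`;
* `Sit.one_comp` : there is only one component;
* `trans_centre` : a transvection of `X` in a normal 2-subgroup of `C_X(v)` has centre `v` or `v + r`.
-/

set_option autoImplicit false
set_option linter.unusedSectionVars false

namespace Cfsg.Agent.Omega.TC.Trans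

section aux

variable {N : Type*} [AddCommGroup N] [Module (ZMod 2) N]

theorem n_add (n : N) : n + n = 0 := by
  have h : ((1 : ZMod 2) + 1) • n = n + n := by rw [add_smul, one_smul]
  have h1 : (1 : ZMod 2) + 1 = 0 := by decide
  rw [← h, h1, zero_smul]

theorem n_neg (n : N) : -n = n := by
  rw [neg_eq_iff_add_eq_zero, n_add]

theorem add_cancel (n m : N) : n + (n + m) = m := by
  rw [← add_assoc, n_add, zero_add]

theorem eq_of_add_eq_zero' {n m : N} (h : n + m = 0) : n = m := by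
  have := add_cancel n m
  rw [h, add_zero] at this
  exact this

/-- `N ∩ T` is a Sylow 2-subgroup of the normal subgroup `N`. -/
theorem not_dvd_inf {G : Type*} [Group G] [Finite G] {H T N : Subgroup G} (hTH : T ≤ H)
    (hTS : ¬ 2 ∣ T.relIndex H) (hNH : N ≤ H) (hN : H ≤ Subgroup.normalizer (N : Set G)) :
    ¬ 2 ∣ (N ⊓ T).relIndex N := by
  have hn : (N.subgroupOf H).Normal := Subgroup.normal_subgroupOf_of_le_normalizer hN
  have h1 : N.relIndex (N ⊔ T) = N.relIndex T := by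
    have h := Subgroup.relIndex_sup_left (K := N.subgroupOf H) (H := T.subgroupOf H)
    rw [← Subgroup.subgroupOf_sup hNH hTH, Subgroup.relIndex_subgroupOf (sup_le hNH hTH),
      Subgroup.relIndex_subgroupOf hTH] at h
    exact h
  have h2 := Subgroup.relIndex_mul_relIndex (N ⊓ T) N (N ⊔ T) inf_le_left le_sup_left
  have h3 := Subgroup.relIndex_mul_relIndex (N ⊓ T) T (N ⊔ T) inf_le_right le_sup_right
  have h4 : (N ⊓ T).relIndex T = N.relIndex T := Subgroup.inf_relIndex_right N T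
  rw [h1] at h2
  rw [h4, ← h2, mul_comm] at h3
  have h5 : T.relIndex (N ⊔ T) = (N ⊓ T).relIndex N :=
    Nat.eq_of_mul_eq_mul_right (Nat.pos_of_ne_zero (Subgroup.index_ne_zero_of_finite
      (H := N.subgroupOf T))) h3
  intro h
  have h6 := Subgroup.relIndex_mul_relIndex T (N ⊔ T) H le_sup_right (sup_le hNH hTH)
  exact hTS (h6 ▸ (h5 ▸ h : 2 ∣ T.relIndex (N ⊔ T)).mul_right _)

/-- an involution of `N(C) \ C` -/
theorem dvd_of_inv {G : Type*} [Group G] [Finite G] {C D : Subgroup G}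
    (hN : D ≤ Subgroup.normalizer (C : Set G)) {g : G} (hgD : g ∈ D) (hgC : g ∉ C)
    (hgg : g * g = 1) : 2 ∣ C.relIndex D := by
  have hn : (C.subgroupOf D).Normal := Subgroup.normal_subgroupOf_of_le_normalizer hN
  have h1 : orderOf (QuotientGroup.mk ⟨g, hgD⟩ : D ⧸ C.subgroupOf D) = 2 := by
    refine orderOf_eq_prime ?_ ?_
    · rw [← QuotientGroup.mk_pow]
      have : (⟨g, hgD⟩ : D) ^ 2 = 1 := by
        rw [pow_two]
        exact Subtype.ext hgg
      rw [this, QuotientGroup.mk_one]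
    · intro hc
      rw [QuotientGroup.eq_one_iff, Subgroup.mem_subgroupOf] at hc
      exact hgC hc
  have h2 := orderOf_dvd_natCard (QuotientGroup.mk ⟨g, hgD⟩ : D ⧸ C.subgroupOf D)
  rw [h1] at h2
  exact h2

end aux

variable {N : Type*} [AddCommGroup N] [Module (ZMod 2) N]
variable {X : Type*} [Group X] [DistribMulAction X N]

/-- products of transvections with the same centre -/
theorem phi_add {u : N} {f g : N →+ ZMod 2} (hf : f ∈ Phi X u) (hg : g ∈ Phi X u) (h0 : f u = 0) :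
    f + g ∈ Phi X u := by
  obtain ⟨x, hx⟩ := hf
  obtain ⟨y, hy⟩ := hg
  refine ⟨x * y, fun n => ?_⟩
  rw [mul_smul, hy n, hx, map_add]
  have h1 : f (g n • u) = 0 := by
    rcases z2 (g n) with h | h
    · rw [h, zero_smul, map_zero]
    · rw [h, one_smul, h0]
  rw [h1, add_zero, AddMonoidHom.add_apply, add_smul]
  abel

variable [Finite X] [Finite N] {T : Sylow 2 X} {K : Subgroup X} {v w r b : N} {t : X} {f₀ : N →+ ZMod 2}

local notation "BB" => MulAction.orbit X b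

namespace Sit

variable (h : Sit T K v w r b t f₀)

include h

theorem f₀_mem : f₀ ∈ Phi X b := ⟨t, h.t_tv⟩

theorem t_stab : t • v = v := h.K_le h.t_mem

theorem f₀_v : f₀ v = 0 := by
  have h1 := h.t_tv v
  rw [h.t_stab] at h1
  rcases z2 (f₀ v) with h2 | h2
  · exact h2
  · rw [h2, one_smul] at h1
    exact absurd (left_eq_add.1 h1) h.b_ne

theorem f₀_b : f₀ b = 0 := phi_zero h.f₀_mem h.b_ne

/-- some element of `Θ_b` is moved by `t` -/
theorem exists_f₀ : ∃ y ∈ BB, Lk X b b y ∧ f₀ y = 1 := by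
  by_contra hc
  push Not at hc
  apply h.f_ne
  have h1 : ∀ y ∈ BB, f₀ y = 0 := by
    intro y hy
    by_cases hl : Lk X b b y
    · exact (z2 _).resolve_right (hc y hy hl)
    · exact h.zero_of hl h.f₀_mem
  have h2 : AddSubgroup.closure (BB) ≤ f₀.ker := (AddSubgroup.closure_le _).2 h1
  rw [h.gen_b, top_le_iff] at h2
  ext n
  have : n ∈ f₀.ker := h2 ▸ AddSubgroup.mem_top n
  exact this

/-- if `k ≥ 2` then every vector has a component in every `Θ` -/
theorem exists_comp (ho : ¬ One X b) {u : N} (hu : u ∈ BB) (n : N) :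
    ∃ e : N, (e = 0 ∨ (e ∈ BB ∧ Lk X b u e)) ∧
      ∀ p ∈ BB, Lk X b u p → ∀ f ∈ Phi X p, f n = f e := by
  have hn : n ∈ AddSubgroup.closure (BB) := h.gen_b ▸ AddSubgroup.mem_top n
  induction hn using AddSubgroup.closure_induction with
  | mem q hq =>
    by_cases hl : Lk X b u q
    · exact ⟨q, Or.inr ⟨hq, hl⟩, fun p _ _ f _ => rfl⟩
    · refine ⟨0, Or.inl rfl, fun p hp hup f hf => ?_⟩
      rw [map_zero]
      exact h.zero_of (fun hc => hl (h.lk_trans hu hp hq hup hc)) hf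
  | zero => exact ⟨0, Or.inl rfl, fun p hp hup f hf => rfl⟩
  | add n m _ _ hn hm =>
    obtain ⟨e, he, hfe⟩ := hn
    obtain ⟨e', he', hfe'⟩ := hm
    rcases he with rfl | ⟨he, hle⟩
    · refine ⟨e', he', fun p hp hup f hf => ?_⟩
      rw [map_add, hfe p hp hup f hf, hfe' p hp hup f hf, map_zero, zero_add]
    rcases he' with rfl | ⟨he', hle'⟩
    · refine ⟨e, Or.inr ⟨he, hle⟩, fun p hp hup f hf => ?_⟩
      rw [map_add, hfe p hp hup f hf, hfe' p hp hup f hf, map_zero, add_zero]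
    have hll : Lk X b e e' := h.lk_trans he hu he' (h.lk_symm hu he hle) hle'
    refine ⟨e + e', ?_, fun p hp hup f hf => ?_⟩
    · rcases h.clique ho he he' hll with rfl | ⟨f, hf, hf1⟩
      · left
        exact n_add e
      · right
        have h1 := h.add_mem he he' hf hf1
        exact ⟨h1.1, h.lk_trans hu he h1.1 hle h1.2⟩
    · rw [map_add, hfe p hp hup f hf, hfe' p hp hup f hf, map_add]
  | neg n _ hn =>
    obtain ⟨e, he, hfe⟩ := hn
    refine ⟨e, he, fun p hp hup f hf => ?_⟩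
    rw [n_neg, hfe p hp hup f hf]

/-- the component of `v` in `Θ_b` is nonzero -/
theorem v_ne_zero : ∃ p ∈ BB, Lk X b b p ∧ ∃ f ∈ Phi X p, f v ≠ 0 := by
  by_contra hc
  push Not at hc
  apply h.v_not
  intro u hu f hf
  rw [map_zero]
  obtain ⟨d, hd, hl⟩ := h.exists_stab h.b_mem hu
  obtain ⟨g, hg, hgf⟩ := smul_phi d⁻¹ hf
  have h1 : Lk X b b (d⁻¹ • u) := by
    have := lk_smul d⁻¹ hl
    rwa [inv_smul_smul] at this
  have h2 := hc (d⁻¹ • u) (by
    obtain ⟨x, rfl⟩ := hu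
    exact ⟨d⁻¹ * x, mul_smul _ _ _⟩) h1 g hg
  rw [← hgf v, ← h2]
  congr 1
  have h3 : d • v = v := hd
  exact inv_smul_eq_iff.2 h3.symm

/-- **(3)/(S2)**: the component of `v` in `Θ_b` is `b`. -/
theorem comp_v {u : N} (hu : u ∈ BB) (hl : Lk X b b u) {f : N →+ ZMod 2} (hf : f ∈ Phi X u) :
    f v = f b := by
  by_cases ho : One X b
  · exact h.one_v ho hu hl hf
  obtain ⟨m, hm, hfm⟩ := h.exists_comp ho h.b_mem v
  rw [hfm u hu hl f hf]
  suffices hmb : m = b by rw [hmb]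
  obtain ⟨p, hp, hlp, g, hg, hgv⟩ := h.v_ne_zero
  rcases hm with rfl | ⟨hm, hlm⟩
  · exact absurd (by rw [hfm p hp hlp g hg, map_zero]) hgv
  by_contra hmb
  -- `f₀ m = 0`
  have h0 : f₀ m = 0 := by
    rw [← hfm b h.b_mem (lk_refl b) f₀ h.f₀_mem]
    exact h.f₀_v
  obtain ⟨y, hy, hly, hy1⟩ := h.exists_f₀
  have hyb : y ≠ b := by
    rintro rfl
    rw [h.f₀_b] at hy1
    exact absurd hy1 (by decide)
  -- `b + m ∈ Θ`
  have hbm : b + m ∈ BB ∧ Lk X b b (b + m) := by
    rcases h.clique ho h.b_mem hm hlm with h1 | ⟨f, hf, hf1⟩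
    · exact absurd h1.symm hmb
    · exact h.add_mem h.b_mem hm hf hf1
  have hlyb : Lk X b y b := h.lk_symm h.b_mem hy hly
  obtain ⟨h₁, hh₁, hh₁b⟩ := (h.clique ho hy h.b_mem hlyb).resolve_left hyb
  have hybm : y ≠ b + m := by
    intro hc
    rw [hc, map_add, h.f₀_b, h0] at hy1
    exact absurd hy1 (by decide)
  obtain ⟨h₂, hh₂, hh₂b⟩ := (h.clique ho hy hbm.1
    (h.lk_trans hy h.b_mem hbm.1 hlyb hbm.2)).resolve_left hybm
  have hy0 : y ≠ 0 := h.ne_zero hy
  -- a functional in `Φ_y` with `b ↦ 1`, `m ↦ 0`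
  have key : ∃ g ∈ Phi X y, g b = 1 ∧ g m = 0 := by
    rcases z2 (h₁ m) with h1 | h1
    · exact ⟨h₁, hh₁, hh₁b, h1⟩
    rw [map_add] at hh₂b
    rcases z2 (h₂ m) with h3 | h3
    · rw [h3, add_zero] at hh₂b
      exact ⟨h₂, hh₂, hh₂b, h3⟩
    · have h4 : h₂ b = 0 := by
        rcases z2 (h₂ b) with h5 | h5
        · exact h5
        · rw [h3, h5] at hh₂b
          exact absurd hh₂b (by decide)
      refine ⟨h₁ + h₂, phi_add hh₁ hh₂ (phi_zero hh₁ hy0), ?_, ?_⟩
      · rw [AddMonoidHom.add_apply, hh₁b, h4, add_zero]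
      · rw [AddMonoidHom.add_apply, h1, h3]
        decide
  obtain ⟨g', hg', hgb, hgm⟩ := key
  have hg'' := hg'
  obtain ⟨d, hd⟩ := hg''
  refine h.k_one (d := d) ?_ hy0 hd hgb hy1
  rw [MulAction.mem_stabilizer_iff, hd v, hfm y hy hly g' hg', hgm, zero_smul, add_zero]

theorem smul_mem {u : N} (x : X) (hu : u ∈ BB) : x • u ∈ BB := by
  obtain ⟨y, rfl⟩ := hu
  exact ⟨x * y, mul_smul _ _ _⟩

/-- **(3)**: every conjugate of `v` has a component in every `Θ`. -/
theorem comp (x : X) {u : N} (hu : u ∈ BB) :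
    ∃ e ∈ BB, Lk X b u e ∧ ∀ p ∈ BB, Lk X b u p → ∀ f ∈ Phi X p, f (x • v) = f e := by
  obtain ⟨d, hd, hl⟩ := h.exists_stab h.b_mem (h.smul_mem x⁻¹ hu)
  have hdv : d • v = v := hd
  have hl1 : Lk X b ((x * d) • b) u := by
    have := lk_smul x hl
    rwa [smul_inv_smul, ← mul_smul] at this
  have he : (x * d) • b ∈ BB := h.smul_mem (x * d) h.b_mem
  refine ⟨(x * d) • b, he, h.lk_symm he hu hl1, fun p hp hup f hf => ?_⟩
  obtain ⟨g, hg, hgf⟩ := smul_phi (x * d)⁻¹ hf
  have h2 : Lk X b b ((x * d)⁻¹ • p) := by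
    have := lk_smul (x * d)⁻¹ (h.lk_trans he hu hp hl1 hup)
    rwa [inv_smul_smul] at this
  have h3 := h.comp_v (h.smul_mem (x * d)⁻¹ hp) h2 hg
  rw [← hgf (x • v), ← hgf ((x * d) • b), inv_smul_smul, ← h3]
  congr 1
  rw [inv_smul_eq_iff, mul_smul, hdv]

/-- `b` is nonzero modulo `I` -/
theorem not_eqm {u : N} (hu : u ∈ BB) : ¬ Eqm X b u 0 := by
  obtain ⟨x, rfl⟩ := hu
  intro hc
  -- then `b ∈ I`
  have hb : Eqm X b b 0 := by
    have := eqm_smul x⁻¹ hc
    simpa only [inv_smul_smul, smul_zero] using this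
  obtain ⟨p, hp, hlp, g, hg, hgv⟩ := h.v_ne_zero
  apply hgv
  rw [h.comp_v hp hlp hg, hb p hp g hg, map_zero]

/-- **(5)** -/
theorem end_of (hall : ∀ u ∈ BB, Lk X b b u) : b = v ∨ b = v + r := by
  refine h.fixT' (fun x _ => ?_) (h.not_eqm h.b_mem)
  have hx := h.smul_mem x h.b_mem
  refine (h.inj h.b_mem hx (hall _ hx) fun u hu f hf => ?_).symm
  obtain ⟨g, hg, hgf⟩ := smul_phi x⁻¹ hf
  have h1 := hgf (x • b)
  rw [inv_smul_smul] at h1
  have h2 : x⁻¹ • v = v := inv_smul_eq_iff.2 (h.T_v x ‹_›).symm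
  rw [← h1, ← h.comp_v (h.smul_mem x⁻¹ hu) (hall _ (h.smul_mem x⁻¹ hu)) hg,
    ← h.comp_v hu (hall u hu) hf, ← hgf v, h2]

/-! ### (4): there is one component -/

/-- `R_Θ` fixes the vectors which are killed by all functionals of `Θ` -/
theorem rt_fix {c : X} (hc : c ∈ RT X b b) {k : N}
    (hk : ∀ p ∈ BB, Lk X b b p → ∀ f ∈ Phi X p, f k = 0) : c • k = k := by
  have : RT X b b ≤ MulAction.stabilizer X k := by
    refine (Subgroup.closure_le _).2 ?_
    rintro x ⟨p, hp, hlp, f, hf⟩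
    change x • k = k
    rw [hf k, hk p hp hlp f ⟨x, hf⟩, zero_smul, add_zero]
  exact this hc

theorem fix_of {c : X} (hc : c ∈ RT X b b) {n e : N} (hn : c • n = n)
    (hk : ∀ p ∈ BB, Lk X b b p → ∀ f ∈ Phi X p, f n = f e) : c • e = e := by
  have h1 : c • (n + e) = n + e := by
    refine h.rt_fix hc fun p hp hl f hf => ?_
    rw [map_add, hk p hp hl f hf]
    exact z2_add _
  rw [smul_add, hn] at h1
  exact add_left_cancel h1

theorem rt_sub {c : X} (hc : c ∈ RT X b b) (n : N) :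
    ∃ m ∈ AddSubgroup.closure {p : N | p ∈ BB ∧ Lk X b b p}, c • n = n + m := by
  unfold RT at hc
  induction hc using Subgroup.closure_induction generalizing n with
  | mem x hx =>
    obtain ⟨p, hp, hlp, f, hf⟩ := hx
    refine ⟨f n • p, ?_, hf n⟩
    rcases z2 (f n) with h1 | h1
    · rw [h1, zero_smul]
      exact zero_mem _
    · rw [h1, one_smul]
      exact AddSubgroup.subset_closure ⟨hp, hlp⟩
  | one => exact ⟨0, zero_mem _, by rw [one_smul, add_zero]⟩
  | mul x y _ _ hx hy =>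
    obtain ⟨m, hm, hm'⟩ := hy n
    obtain ⟨m', hm₁, hm₂⟩ := hx (y • n)
    refine ⟨m + m', AddSubgroup.add_mem _ hm hm₁, ?_⟩
    rw [mul_smul, hm₂, hm', add_assoc]
  | inv x _ hx =>
    obtain ⟨m, hm, hm'⟩ := hx (x⁻¹ • n)
    refine ⟨m, hm, ?_⟩
    rw [smul_inv_smul] at hm'
    rw [hm', add_assoc, n_add, add_zero, ← hm']

theorem sub_zero {m : N} (hm : m ∈ AddSubgroup.closure {p : N | p ∈ BB ∧ Lk X b b p}) {p : N}
    (hp : p ∈ BB) (hl : ¬ Lk X b b p) {f : N →+ ZMod 2} (hf : f ∈ Phi X p) : f m = 0 := by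
  have h1 : AddSubgroup.closure {p : N | p ∈ BB ∧ Lk X b b p} ≤ f.ker := by
    refine (AddSubgroup.closure_le _).2 ?_
    rintro q ⟨hq, hlq⟩
    exact h.zero_of (fun hc => hl (h.lk_trans h.b_mem hq hp hlq (h.lk_symm hp hq hc))) hf
  exact h1 hm

/-- **(4a)** -/
theorem fix_w {u : N} (hu : u ∈ BB) (hnl : ¬ Lk X b b u) {x : X} (hx : x ∈ (T : Subgroup X))
    (hR : x ∈ RT X b b) : x • w = w := by
  rcases h.T_w x hx with h1 | h1
  · exact h1
  exfalso
  obtain ⟨m, hm, hm'⟩ := h.rt_sub hR w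
  rw [h1, add_comm v w] at hm'
  obtain rfl : v = m := add_left_cancel hm'
  obtain ⟨e, he, hle, hfe⟩ := h.comp 1 hu
  refine h.not_eqm he fun p hp f hf => ?_
  rw [map_zero]
  by_cases hl : Lk X b u p
  · rw [← hfe p hp hl f hf, one_smul]
    exact h.sub_zero hm hp
      (fun hc => hnl (h.lk_trans h.b_mem hp hu hc (h.lk_symm hu hp hl))) hf
  · exact h.zero_of
      (fun hc => hl (h.lk_trans hu he hp hle (h.lk_symm hp he hc))) hf

/-- generators of `R_Θ` -/
theorem mem_rt {p : N} (hp : p ∈ BB) (hl : Lk X b b p) {f : N →+ ZMod 2} {x : X} (hx : IsTv x f p) :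
    x ∈ RT X b b :=
  Subgroup.subset_closure ⟨p, hp, hl, f, hx⟩

theorem rt_le_rr : RT X b b ≤ RR X b :=
  Subgroup.closure_mono fun _ ⟨p, hp, _, f, hf⟩ => ⟨p, hp, f, hf⟩

/-- `R` is normal in `X` -/
theorem rr_normal : (RR X b).Normal := by
  refine ⟨fun x hx g => ?_⟩
  unfold RR at hx
  induction hx using Subgroup.closure_induction with
  | mem x hx =>
    obtain ⟨p, hp, f, hf⟩ := hx
    obtain ⟨f', hf', hff⟩ := smul_phi g ⟨x, hf⟩
    refine Subgroup.subset_closure ⟨g • p, h.smul_mem g hp, f', fun n => ?_⟩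
    rw [mul_smul, mul_smul, hf, smul_add, smul_inv_smul]
    congr 1
    have h1 := hff (g⁻¹ • n)
    rw [smul_inv_smul] at h1
    rw [h1]
    rcases z2 (f (g⁻¹ • n)) with h2 | h2
    · rw [h2, zero_smul, smul_zero, zero_smul]
    · rw [h2, one_smul, one_smul]
  | one => simpa using one_mem _
  | mul x y _ _ hx hy =>
    have : g * (x * y) * g⁻¹ = (g * x * g⁻¹) * (g * y * g⁻¹) := by group
    rw [this]
    exact mul_mem hx hy
  | inv x _ hx =>
    have : g * x⁻¹ * g⁻¹ = (g * x * g⁻¹)⁻¹ := by group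
    rw [this]
    exact inv_mem hx

/-- the generators of `R` outside `R_Θ` centralise `R_Θ` -/
theorem comm_rt {u : N} (hu : u ∈ BB) (hnl : ¬ Lk X b b u) {f : N →+ ZMod 2} {x : X}
    (hx : IsTv x f u) {y : X} (hy : y ∈ RT X b b) : x * y = y * x := by
  unfold RT at hy
  induction hy using Subgroup.closure_induction with
  | mem y hy =>
    obtain ⟨p, hp, hlp, g, hg⟩ := hy
    have h1 : f p = 0 :=
      h.zero_of (fun hc => hnl (h.lk_trans h.b_mem hp hu hlp (h.lk_symm hu hp hc))) ⟨x, hx⟩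
    have h2 : g u = 0 :=
      h.zero_of (fun hc => hnl (h.lk_trans h.b_mem hp hu hlp hc)) ⟨y, hg⟩
    have h3 : (y * x)⁻¹ * (x * y) = 1 := by
      refine h.faith _ fun n => ?_
      rw [mul_smul, inv_smul_eq_iff, mul_smul, mul_smul, hg n, hx, hx n, hg]
      have e1 : f (g n • p) = 0 := by
        rcases z2 (g n) with h | h
        · rw [h, zero_smul, map_zero]
        · rw [h, one_smul, h1]
      have e2 : g (f n • u) = 0 := by
        rcases z2 (f n) with h | h
        · rw [h, zero_smul, map_zero]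
        · rw [h, one_smul, h2]
      rw [map_add, map_add, e1, e2, add_zero, add_zero]
      abel
    exact (inv_mul_eq_one.1 h3).symm
  | one => rw [mul_one, one_mul]
  | mul y z _ _ hy hz => rw [← mul_assoc, hy, mul_assoc, hz, mul_assoc]
  | inv y _ hy =>
    rw [mul_inv_eq_iff_eq_mul, mul_assoc, hy, inv_mul_cancel_left]

theorem rr_le_normalizer : RR X b ≤ Subgroup.normalizer (RT X b b : Set X) := by
  refine (Subgroup.closure_le _).2 ?_
  rintro x ⟨u, hu, f, hf⟩
  by_cases hl : Lk X b b u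
  · exact Subgroup.le_normalizer (h.mem_rt hu hl hf)
  · refine Subgroup.mem_normalizer_iff.2 fun y => ⟨fun hy => ?_, fun hy => ?_⟩
    · rw [h.comm_rt hu hl hf hy, mul_inv_cancel_right]
      exact hy
    · have h1 := h.comm_rt hu hl hf hy
      have h2 : x * (x * y * x⁻¹) * x⁻¹ = x * y * x⁻¹ := by
        rw [h1, mul_inv_cancel_right]
      have h3 : x * y * x⁻¹ = y := by
        have := congrArg (fun z => x⁻¹ * z * x) h2
        simpa [mul_assoc] using this
      rwa [h3] at hy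

/-- `T ∩ R_Θ` is a Sylow 2-subgroup of `R_Θ` -/
theorem odd_rt : ¬ 2 ∣ (RT X b b ⊓ (T : Subgroup X)).relIndex (RT X b b) := by
  have hT : ¬ 2 ∣ (T : Subgroup X).relIndex ⊤ := by
    rw [Subgroup.relIndex_top_right]
    exact T.not_dvd_index
  have hn := h.rr_normal
  have h1 : ¬ 2 ∣ (RR X b ⊓ (T : Subgroup X)).relIndex (RR X b) := by
    refine not_dvd_inf le_top hT le_top ?_
    rw [Subgroup.normalizer_eq_top_iff.2 hn]
  have h2 := not_dvd_inf (H := RR X b) (T := RR X b ⊓ (T : Subgroup X)) inf_le_left h1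
    h.rt_le_rr h.rr_le_normalizer
  have h3 : RT X b b ⊓ (RR X b ⊓ (T : Subgroup X)) = RT X b b ⊓ (T : Subgroup X) := by
    rw [← inf_assoc, inf_eq_left.2 h.rt_le_rr]
  rwa [h3] at h2

/-- an involution `g` of `R_Θ` which normalises the centraliser `C` of `v` and `w` in `R_Θ` lies in `C` -/
theorem no_swap (hTw : ∀ x ∈ (T : Subgroup X), x ∈ RT X b b → x • w = w) {g : X}
    (hg : g ∈ RT X b b) (hgg : g * g = 1)
    (h1 : ∀ c ∈ RT X b b, c • v = v → c • w = w → c • (g • v) = g • v ∧ c • (g • w) = g • w) :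
    g • v = v ∧ g • w = w := by
  by_contra hc
  set C : Subgroup X := RT X b b ⊓ (MulAction.stabilizer X v ⊓ MulAction.stabilizer X w) with hC
  have hCR : C ≤ RT X b b := inf_le_left
  have hgC : g ∉ C := fun hgC => hc ⟨hgC.2.1, hgC.2.2⟩
  have hg1 : g⁻¹ = g := inv_eq_of_mul_eq_one_left hgg
  have hcj : ∀ c ∈ C, g * c * g⁻¹ ∈ C := by
    intro c hcC
    have h2 := h1 c hcC.1 hcC.2.1 hcC.2.2
    refine ⟨Subgroup.mul_mem _ (Subgroup.mul_mem _ hg hcC.1) (Subgroup.inv_mem _ hg), ?_, ?_⟩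
    · change (g * c * g⁻¹) • v = v
      rw [hg1, mul_smul, mul_smul, h2.1, ← mul_smul, hgg, one_smul]
    · change (g * c * g⁻¹) • w = w
      rw [hg1, mul_smul, mul_smul, h2.2, ← mul_smul, hgg, one_smul]
  have hgN : g ∈ Subgroup.normalizer (C : Set X) := by
    refine Subgroup.mem_normalizer_iff.2 fun y => ⟨hcj y, fun hy => ?_⟩
    have h2 := hcj _ hy
    have h3 : g * (g * y * g⁻¹) * g⁻¹ = (g * g) * y * (g * g)⁻¹ := by group
    rw [h3, hgg] at h2
    simpa using h2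
  set D : Subgroup X := RT X b b ⊓ Subgroup.normalizer (C : Set X) with hD
  have hCD : C ≤ D := le_inf hCR Subgroup.le_normalizer
  have h2 : 2 ∣ C.relIndex D := dvd_of_inv inf_le_right ⟨hg, hgN⟩ hgC hgg
  have hSC : RT X b b ⊓ (T : Subgroup X) ≤ C := by
    rintro x ⟨hxR, hxT⟩
    exact ⟨hxR, h.T_v x hxT, hTw x hxT hxR⟩
  apply h.odd_rt
  have h3 := Subgroup.relIndex_mul_relIndex _ C D hSC hCD
  have h4 := Subgroup.relIndex_mul_relIndex _ D (RT X b b) (hSC.trans hCD) inf_le_left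
  rw [← h4, ← h3]
  exact Dvd.dvd.mul_right (Dvd.dvd.mul_left h2 _) _

/-- transvections are involutions -/
theorem tv_sq {x : X} {f : N →+ ZMod 2} {u : N} (hx : IsTv x f u) (h0 : f u = 0) : x * x = 1 := by
  refine h.faith _ fun n => ?_
  rw [mul_smul, hx n, hx, map_add]
  have h1 : f (f n • u) = 0 := by
    rcases z2 (f n) with h | h
    · rw [h, zero_smul, map_zero]
    · rw [h, one_smul, h0]
  rw [h1, add_zero, add_assoc, n_add, add_zero]

/-- `K ≤ T` -/
theorem k_le_T : K ≤ (T : Subgroup X) := by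
  have h1 : (T : Subgroup X) ≤ Subgroup.normalizer (K : Set X) :=
    (show (T : Subgroup X) ≤ MulAction.stabilizer X v from fun x hx => h.T_v x hx).trans h.K_nrm
  have h2 : IsPGroup 2 (K ⊔ (T : Subgroup X) : Subgroup X) :=
    h.K_two.to_sup_of_normal_left' T.isPGroup' h1
  have h3 := T.is_maximal' h2 le_sup_right
  rw [← h3]
  exact le_sup_left

/-- the involution of (4), `k = 1` -/
theorem swap_false (ho : One X b) (hTw : ∀ x ∈ (T : Subgroup X), x ∈ RT X b b → x • w = w)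
    {u : N} (hu : u ∈ BB) (hlu : Lk X b b u) (hu1 : f₀ u = 1) {φ : N →+ ZMod 2} (hφ : φ ∈ Phi X u)
    (hφ0 : φ ≠ 0) {w' y z : N} (hy : y ∈ BB) (hly : Lk X b b y) (hz : z ∈ BB) (hlz : Lk X b b z)
    (hfy : ∀ p ∈ BB, Lk X b b p → ∀ f ∈ Phi X p, f w' = f y)
    (hfz : ∀ p ∈ BB, Lk X b b p → ∀ f ∈ Phi X p, f z = f b + f y)
    (hy0 : f₀ y = 0) (hz0 : f₀ z = 0) (hφy : φ y = 0) (hφz : φ z = 1) (hbz : b ≠ z)
    (hw : w' = w ∨ w' = v + w) : False := by
  have hfb : ∀ p ∈ BB, Lk X b b p → ∀ f ∈ Phi X p, f v = f b :=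
    fun p hp hl f hf => h.comp_v hp hl hf
  have hu0 : u ≠ 0 := h.ne_zero hu
  have hφu : φ u = 0 := phi_zero hφ hu0
  have hφb : φ b = 1 := by
    rw [h.one_symm ho hu h.b_mem hφ h.f₀_mem hφ0 h.f_ne, hu1]
  obtain ⟨huz, hluz⟩ := h.add_mem hu hz hφ hφz
  obtain ⟨hp, hlp⟩ := h.add_mem h.b_mem huz h.f₀_mem (by rw [map_add, hu1, hz0, add_zero])
  obtain ⟨ψ, hψ, hψ0⟩ := h.exists_phi hp
  have hpne : b + (u + z) ≠ 0 := h.ne_zero hp
  have hψp : ψ (b + (u + z)) = 0 := phi_zero hψ hpne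
  have hψb : ψ b = 1 := by
    rw [h.one_symm ho hp h.b_mem hψ h.f₀_mem hψ0 h.f_ne, map_add, map_add, hu1, hz0, h.f₀_b]
    decide
  have hφp : φ (b + (u + z)) = 0 := by
    rw [map_add, map_add, hφb, hφu, hφz]
    decide
  have hψu : ψ u = 0 := by
    rw [h.one_symm ho hp hu hψ hφ hψ0 hφ0, hφp]
  have hψy : ψ y = 0 := by
    obtain ⟨η, hη, hη0⟩ := h.exists_phi hy
    have h1 : η b = 0 := by rw [h.one_symm ho hy h.b_mem hη h.f₀_mem hη0 h.f_ne, hy0]
    have h2 : η u = 0 := by rw [h.one_symm ho hy hu hη hφ hη0 hφ0, hφy]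
    have h3 : η z = 0 := by rw [hfz y hy hly η hη, h1, phi_zero hη (h.ne_zero hy), add_zero]
    rw [h.one_symm ho hp hy hψ hη hψ0 hη0, map_add, map_add, h1, h2, h3, add_zero, add_zero]
  have hψv : ψ v = 1 := (hfb _ hp hlp ψ hψ).trans hψb
  have hψw : ψ w' = 0 := (hfy _ hp hlp ψ hψ).trans hψy
  have hφv : φ v = 1 := (hfb u hu hlu φ hφ).trans hφb
  have hφw : φ w' = 0 := (hfy u hu hlu φ hφ).trans hφy
  obtain ⟨x₁, hx₁⟩ := hφ
  obtain ⟨x₂, hx₂⟩ := hψ
  have hg : ∀ n : N, (x₁ * x₂) • n = n + ψ n • (b + (u + z)) + φ n • u := by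
    intro n
    rw [mul_smul, hx₂ n, hx₁, map_add]
    have h1 : φ (ψ n • (b + (u + z))) = 0 := by
      rcases z2 (ψ n) with h | h
      · rw [h, zero_smul, map_zero]
      · rw [h, one_smul, hφp]
    rw [h1, add_zero]
  have hgg : (x₁ * x₂) * (x₁ * x₂) = 1 := by
    have h1 := h.tv_sq hx₁ hφu
    have h2 := h.tv_sq hx₂ hψp
    have h3 : x₁ * x₂ = x₂ * x₁ := by
      have h4 : (x₂ * x₁)⁻¹ * (x₁ * x₂) = 1 := by
        refine h.faith _ fun n => ?_
        rw [mul_smul, inv_smul_eq_iff, hg n, mul_smul, hx₁ n, hx₂, map_add]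
        have h1 : ψ (φ n • u) = 0 := by
          rcases z2 (φ n) with h | h
          · rw [h, zero_smul, map_zero]
          · rw [h, one_smul, hψu]
        rw [h1, add_zero]
        abel
      exact (inv_mul_eq_one.1 h4).symm
    calc (x₁ * x₂) * (x₁ * x₂) = (x₁ * x₂) * (x₂ * x₁) := by rw [← h3]
      _ = x₁ * (x₂ * x₂) * x₁ := by group
      _ = 1 := by rw [h2, mul_one, h1]
  have hgv : (x₁ * x₂) • v = v + b + z := by
    rw [hg v, hψv, hφv, one_smul, one_smul]
    have h1 := n_add u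
    calc v + (b + (u + z)) + u = v + b + z + (u + u) := by abel
      _ = v + b + z := by rw [h1, add_zero]
  have hgw : (x₁ * x₂) • w' = w' := by
    rw [hg w', hψw, hφw, zero_smul, zero_smul, add_zero, add_zero]
  have hgR : x₁ * x₂ ∈ RT X b b :=
    Subgroup.mul_mem _ (h.mem_rt hu hlu hx₁) (h.mem_rt hp hlp hx₂)
  have h1 := h.no_swap hTw hgR hgg (fun c hcR hcv hcw => by
    have hcw' : c • w' = w' := by
      rcases hw with rfl | rfl
      · exact hcw
      · rw [smul_add, hcv, hcw]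
    have hcb : c • b = b := h.fix_of hcR hcv hfb
    have hcz : c • z = z := by
      refine h.fix_of hcR (n := v + w') (by rw [smul_add, hcv, hcw']) fun p hp hl f hf => ?_
      rw [map_add, hfb p hp hl f hf, hfy p hp hl f hf, hfz p hp hl f hf]
    have hcg : c • ((x₁ * x₂) • v) = (x₁ * x₂) • v := by
      rw [hgv, smul_add, smul_add, hcv, hcb, hcz]
    refine ⟨hcg, ?_⟩
    rcases hw with rfl | rfl
    · rw [hgw, hcw]
    · have h2 : w = v + (v + w) := (add_cancel v w).symm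
      have h3 : (x₁ * x₂) • w = (x₁ * x₂) • v + (v + w) := by
        conv_lhs => rw [h2]
        rw [smul_add, hgw]
      rw [h3, smul_add, hcg, hcw'])
  have h2 := h1.1
  rw [hgv, add_assoc] at h2
  exact hbz (eq_of_add_eq_zero' (left_eq_add.1 h2.symm))

/-- **(4)** -/
theorem one_comp (u : N) (hu : u ∈ BB) : Lk X b b u := by
  by_contra hnl
  have hTw : ∀ x ∈ (T : Subgroup X), x ∈ RT X b b → x • w = w :=
    fun x hx hR => h.fix_w hu hnl hx hR
  -- the components `y` of `w` and `z` of `v + w`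
  obtain ⟨xw, hxw⟩ := h.v_w
  obtain ⟨xz, hxz⟩ := h.v_vw
  obtain ⟨y, hy, hly, hfy⟩ := h.comp xw h.b_mem
  obtain ⟨z, hz, hlz, hfz⟩ := h.comp xz h.b_mem
  rw [hxw] at hfy
  rw [hxz] at hfz
  have hfb : ∀ p ∈ BB, Lk X b b p → ∀ f ∈ Phi X p, f v = f b :=
    fun p hp hl f hf => h.comp_v hp hl hf
  have hsum : ∀ p ∈ BB, Lk X b b p → ∀ f ∈ Phi X p, f z = f b + f y := by
    intro p hp hl f hf
    rw [← hfz p hp hl f hf, map_add, hfb p hp hl f hf, hfy p hp hl f hf]
  -- an element of `Θ_b` is not in `I`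
  have hne : ∀ e ∈ BB, Lk X b b e → ¬ ∀ p ∈ BB, Lk X b b p → ∀ f ∈ Phi X p, f e = 0 := by
    intro e he hle hc
    refine h.not_eqm he fun p hp f hf => ?_
    rw [map_zero]
    by_cases hl : Lk X b b p
    · exact hc p hp hl f hf
    · exact h.zero_of
        (fun hc => hl (h.lk_trans h.b_mem he hp hle (h.lk_symm hp he hc))) hf
  have hby : b ≠ y := by
    intro hc
    apply hne z hz hlz
    intro p hp hl f hf
    rw [hsum p hp hl f hf, ← hc]
    exact z2_add _
  have hbz : b ≠ z := by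
    intro hc
    apply hne y hy hly
    intro p hp hl f hf
    have h1 := hsum p hp hl f hf
    rw [← hc] at h1
    exact left_eq_add.1 h1
  by_cases ho : One X b
  · have ht : t ∈ (T : Subgroup X) := h.k_le_T h.t_mem
    have htR : t ∈ RT X b b := h.mem_rt h.b_mem (lk_refl b) h.t_tv
    have hf₀w : f₀ w = 0 := by
      have h1 := hTw t ht htR
      rw [h.t_tv w] at h1
      rcases z2 (f₀ w) with h2 | h2
      · exact h2
      · rw [h2, one_smul] at h1
        exact absurd (left_eq_add.1 h1.symm) h.b_ne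
    have hf₀y : f₀ y = 0 := (hfy b h.b_mem (lk_refl b) f₀ h.f₀_mem).symm.trans hf₀w
    have hf₀z : f₀ z = 0 := by
      rw [hsum b h.b_mem (lk_refl b) f₀ h.f₀_mem, h.f₀_b, hf₀y, add_zero]
    obtain ⟨q, hq, hlq, hq1⟩ := h.exists_f₀
    obtain ⟨φ, hφ, hφ0⟩ := h.exists_phi hq
    have hφb : φ b = 1 := by
      rw [h.one_symm ho hq h.b_mem hφ h.f₀_mem hφ0 h.f_ne, hq1]
    have hφz := hsum q hq hlq φ hφ
    rw [hφb] at hφz
    rcases z2 (φ y) with hφy | hφy
    · rw [hφy, add_zero] at hφz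
      exact h.swap_false ho hTw hq hlq hq1 hφ hφ0 hy hly hz hlz hfy hsum hf₀y hf₀z hφy hφz hbz
        (Or.inl rfl)
    · rw [hφy] at hφz
      refine h.swap_false ho hTw hq hlq hq1 hφ hφ0 hz hlz hy hly hfz ?_ hf₀z hf₀y
        (hφz.trans (by decide)) hφy hby (Or.inr rfl)
      intro p hp hl f hf
      rw [hsum p hp hl f hf, ← add_assoc, z2_add, zero_add]
  · obtain ⟨f, hf, hfy1⟩ := (h.clique ho h.b_mem hy hly).resolve_left hby
    obtain ⟨g, hg⟩ := hf
    have hfb0 : f b = 0 := phi_zero ⟨g, hg⟩ h.b_ne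
    have hfv : f v = 0 := (hfb b h.b_mem (lk_refl b) f ⟨g, hg⟩).trans hfb0
    have hfw : f w = 1 := (hfy b h.b_mem (lk_refl b) f ⟨g, hg⟩).trans hfy1
    have hgv : g • v = v := by rw [hg v, hfv, zero_smul, add_zero]
    have hgw : g • w = w + b := by rw [hg w, hfw, one_smul]
    have h1 := h.no_swap hTw (h.mem_rt h.b_mem (lk_refl b) hg) (h.tv_sq hg hfb0)
      (fun c hcR hcv hcw => by
        refine ⟨by rw [hgv, hcv], ?_⟩
        rw [hgw, smul_add, hcw, h.fix_of hcR hcv hfb])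
    rw [hgw] at h1
    exact h.b_ne (left_eq_add.1 h1.2.symm)

end Sit

/-- **LEMMA TC.** -/
theorem trans_centre {X : Type*} [Group X] [Finite X] {N : Type*} [AddCommGroup N] [Finite N]
    [DistribMulAction X N] [FaithfulSMul X N]
    (h2 : ∀ n : N, n + n = 0)
    (hO : ∀ K : Subgroup X, K.Normal → IsPGroup 2 K → K = ⊥)
    (T : Sylow 2 X) {v w r : N}
    (hr : ∀ x : X, x • r = r)
    (hT : ∀ n : N, (∀ t ∈ (T : Subgroup X), t • n = n) → n = 0 ∨ n = v ∨ n = r ∨ n = v + r)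
    (hv : ∀ t ∈ (T : Subgroup X), t • v = v)
    (hv0 : v ≠ 0) (hVT : ∀ t ∈ (T : Subgroup X), t • w = w ∨ t • w = v + w)
    (hw : ∃ x : X, x • v = w) (hvw : ∃ x : X, x • v = v + w)
    (hgen : AddSubgroup.closure (MulAction.orbit X v) = ⊤)
    (L0 : ∀ R : Subgroup X, R.Normal → R ≠ ⊥ → R ⊔ MulAction.stabilizer X v = ⊤)
    {K : Subgroup X} {t : X} (hK : IsPGroup 2 (K : Subgroup X))
    (hKn : K ≤ MulAction.stabilizer X v ∧ MulAction.stabilizer X v ≤ Subgroup.normalizer (K : Set X))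
    (ht : t ∈ K) (ht1 : t ≠ 1)
    {b : N} (htb : ∀ n : N, t • n = n ∨ t • n = n + b) : b = v ∨ b = v + r := by
  classical
  letI : Module (ZMod 2) N := AddCommGroup.zmodModule (n := 2) (fun n => by rw [two_nsmul, h2])
  have hb : b ≠ 0 := by
    rintro rfl
    apply ht1
    refine FaithfulSMul.eq_of_smul_eq_smul (α := N) fun n => ?_
    rw [one_smul]
    rcases htb n with h | h
    · exact h
    · rw [h, add_zero]
  have hbn : ∀ n : N, n + b ≠ n := fun n hc => hb (left_eq_add.1 hc.symm)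
  let φ : N → ZMod 2 := fun n => if t • n = n then 0 else 1
  have hφ : ∀ n, t • n = n + φ n • b := by
    intro n
    by_cases hn : t • n = n
    · simp only [φ, if_pos hn, zero_smul, add_zero, hn]
    · simp only [φ, if_neg hn, one_smul, (htb n).resolve_left hn]
  have huniq : ∀ (n : N) (a : ZMod 2), t • n = n + a • b → φ n = a := by
    intro n a ha
    rcases z2 a with rfl | rfl
    · rw [zero_smul, add_zero] at ha
      simp only [φ, if_pos ha]
    · rw [one_smul] at ha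
      have : t • n ≠ n := by rw [ha]; exact hbn n
      simp only [φ, if_neg this]
  let f₀ : N →+ ZMod 2 := AddMonoidHom.mk' φ (fun n m => huniq _ _ (by
    rw [smul_add, hφ n, hφ m, add_smul]
    abel))
  have hf₀ : IsTv t f₀ b := hφ
  have hf0 : f₀ ≠ 0 := by
    intro hc
    apply ht1
    refine FaithfulSMul.eq_of_smul_eq_smul (α := N) fun n => ?_
    rw [one_smul, hf₀ n, hc, AddMonoidHom.zero_apply, zero_smul, add_zero]
  have h : Sit T K v w r b t f₀ :=
    { faith := fun x hx => FaithfulSMul.eq_of_smul_eq_smul (α := N) fun n => by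
        rw [one_smul, hx n]
      o2 := hO
      r_fix := hr
      fixT := hT
      T_v := hv
      v_ne := hv0
      T_w := hVT
      v_w := hw
      v_vw := hvw
      gen := hgen
      L0 := L0
      K_two := hK
      K_le := hKn.1
      K_nrm := hKn.2
      t_mem := ht
      t_tv := hf₀
      f_ne := hf0
      b_ne := hb }
  exact h.end_of h.one_comp

end Cfsg.Agent.Omega.TC.Trans
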