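import Cfsg.Agent.Omega.TC.LevU
import Cfsg.Agent.Omega.TC.ThmI
import Cfsg.Agent.Omega.NoFF.LinesPlug

/-!
# CARD #18791, box R: `V^!(T) ≤ Ω₁(Z(T))` from (RC'), level-free (#23475)

`D : Fr T V P v`, `B := V^!(T)`, `R` a `T`-minimal subgroup of `C(v j)` which moves `v i` and does not normalise `B`:

* `Sd T V v i R a` : `a ∈ T` moves `V i`, centralises `B`, and acts on `W := V^!(O₂(R)) ≥ B V_i` as a transvection with
  centre `v i`;
* `exists_sd` : such an `a` exists;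
* `Sd.two` : `x ∈ C_R(V i)`, `b ∈ B`, `b^x = b n`, `n ∈ V i` implies `n ∈ ⟨v i⟩`;
* `Sd.exists_fix` : `b` or `b v_i` is centralised by all conjugates of `a` under `R`;
* **`vbang_of_rc`** : both `i`: `V^!(T) ≤ Ω₁(Z(T))`.
-/

set_option autoImplicit false
set_option linter.unusedSectionVars false

namespace Cfsg.Agent.Omega.TC.VBangRC

open Subgroup Cfsg Cfsg.Agent.ZN
open Cfsg.Agent.Omega.MinPar
open Cfsg.Agent.Omega.OM.KTwo (CC QQ WU NU EU FF ne_add_one eq_add_one add_one_add_one le_normalizer_V le_V)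
open Cfsg.Agent.ZN.ChoiceSit (Syl o2_le_syl syl_not_dvd exists_syl syl_conj)
open Cfsg.Agent.ZN.ChoiceBase (cj mem_cj cj_mono)
open Cfsg.Agent.MinSimple.VModule (mem_zc zc_le normalizer_le_normalizer_zc le_normalizer_o2 le_o2 o2_le
  o2_isPGroup zc_le_centralizer le_centralizer_zc)
open Cfsg.Agent.Omega.FFThm (OffM ElemM)
open Cfsg.Agent.Omega.NO1.BestOff (Best exists_best)
open Cfsg.Agent.Omega.NO3b.Bang
open Cfsg.Agent.MinSimple.MinParabolic (IsMinPar)
open Cfsg.Agent.Omega.TC.ThmI (rel_le_two two_le_rel)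
open Phi
open scoped Pointwise

universe u

variable {G : Type u} [Group G]

theorem card_eq_rel [Finite G] (H K : Subgroup G) : Nat.card H = K.relIndex H * Nat.card ↥(H ⊓ K) := by
  have e := relIndex_inf_mul_relIndex (⊥ : Subgroup G) K H
  rw [relIndex_bot_left, bot_inf_eq, relIndex_bot_left, mul_comm, inf_comm] at e
  exact e.symm

/-- the transvection `a` -/
structure Sd [Finite G] (T : Subgroup G) (V : Fin 2 → Subgroup G) (v : Fin 2 → G) (i : Fin 2) (R : Subgroup G) (a : G) :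
    Prop where
  aT : a ∈ T
  aV : a ∉ centralizer (V i : Set G)
  cB : ∀ b ∈ bang T, a * b = b * a
  tv : ∀ w ∈ bang (T ⊓ centralizer (V i : Set G)), a * w * a⁻¹ = w ∨ a * w * a⁻¹ = w * v i

section

variable [Finite G] {T : Subgroup G} {V P : Fin 2 → Subgroup G} {v : Fin 2 → G} (D : Fr T V P v)

include D

/-- `V^!(T)` centralises `V i`. -/
theorem bang_le_cent (i : Fin 2) : bang T ≤ centralizer (V i : Set G) := by
  by_contra hne
  have hn := nn_bang T
  have hcV : V i ≤ centralizer (V i : Set G) := fun x hx => mem_centralizer_iff.2 fun y hy => D.V_comm hy hx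
  have hne' : ¬ V i ≤ centralizer (bang T : Set G) := fun h => hne (cent_symm h)
  refine hn.nff (V i) (D.V_le_T i) ⟨offM_of_abel hcV (D.sqV i), hne', ?_⟩
  have h1 : (centralizer (V i : Set G)).relIndex (bang T) ≤ 2 := by
    refine rel_le_two fun x hx y hy hxK hyK => ?_
    have hx' : x ∉ o2 (P i) := by rw [o2_P D i]; exact fun h => hxK h.2
    have hy' : y ∉ o2 (P i) := by rw [o2_P D i]; exact fun h => hyK h.2
    have h2 := mul_mem_o2 D (hn.le hx) hx' (hn.le hy) hy'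
    rw [o2_P D i] at h2
    exact h2.2
  have h2 := card_eq_rel (bang T) (centralizer (V i : Set G))
  obtain ⟨x, hx, hxB⟩ := SetLike.not_le_iff_exists.1 hne'
  have h3 := two_le_rel hx hxB
  have h4 := card_eq_rel (V i) (centralizer (bang T : Set G))
  have h5 := D.four i
  rw [h5] at h4
  rw [h5, h2]
  have h6 : Nat.card ↥(V i ⊓ centralizer (bang T : Set G)) ≤ 2 := by nlinarith
  calc (centralizer (V i : Set G)).relIndex (bang T) * Nat.card ↥(bang T ⊓ centralizer (V i : Set G)) *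
        Nat.card ↥(V i ⊓ centralizer (bang T : Set G))
      ≤ 2 * Nat.card ↥(bang T ⊓ centralizer (V i : Set G)) * 2 :=
        Nat.mul_le_mul (Nat.mul_le_mul_right _ h1) h6
    _ = 4 * Nat.card ↥(bang T ⊓ centralizer (V i : Set G)) := by ring

/-- **the transvection exists** -/
theorem exists_sd {i j : Fin 2} (hij : i ≠ j) {R : Subgroup G} (hR : IsMinPar T R) (hRj : R ≤ CC v j)
    (hRi : ¬ R ≤ CC v i) (hRB : ¬ R ≤ normalizer (bang T : Set G)) : ∃ a, Sd T V v i R a := by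
  have hQ : o2 R = T ⊓ centralizer (V i : Set G) := o2_eq D hij hR hRj hRi
  set Q : Subgroup G := T ⊓ centralizer (V i : Set G) with hQd
  have hRQ : R ≤ normalizer (Q : Set G) := by rw [← hQ]; exact MinSimple.VModule.le_normalizer_o2 R
  have hn := nn_bang T
  have hBQ : bang T ≤ Q := le_inf hn.le (bang_le_cent D i)
  have hQT : Q ≤ T := inf_le_left
  set W := bang Q with hW
  have hnW : NN Q W := nn_bang Q
  have hBW : bang T ≤ W := (hn.mono hBQ hQT).le_bang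
  have hcV : V i ≤ centralizer (V i : Set G) := fun x hx => mem_centralizer_iff.2 fun y hy => D.V_comm hy hx
  have hVQ : V i ≤ Q := le_inf (D.V_le_T i) hcV
  have hVW : V i ≤ W := (NN.of_le_centralizer hVQ inf_le_right (D.sqV i)).le_bang
  have hRW : R ≤ normalizer (W : Set G) := hRQ.trans (normalizer_le_bang Q)
  -- `W` is not in `NN(T)`
  obtain ⟨A', hA'T, hA'⟩ : ∃ A' : Subgroup G, A' ≤ T ∧ OffM W A' := by
    by_contra hcon
    push Not at hcon
    have h1 : NN T W := ⟨hnW.le.trans hQT, hR.le.trans hRW, hnW.comm, hnW.sq, hcon⟩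
    have h2 : W = bang T := le_antisymm h1.le_bang hBW
    exact hRB (h2 ▸ hRW)
  obtain ⟨A, hAA', hb, hne⟩ := exists_best hA'
  have hAT : A ≤ T := hAA'.trans hA'T
  have hAB : A ≤ centralizer (bang T : Set G) := hn.best hAT hBW hb
  have hAQ : ¬ A ≤ centralizer (V i : Set G) := fun h => hne (hnW.best (le_inf hAT h) le_rfl hb)
  -- `A₀ = A ⊓ C(V i)`
  set A₀ : Subgroup G := A ⊓ centralizer (V i : Set G) with hA₀
  have hA₀A : A₀ ≤ A := inf_le_left
  have c1 : Nat.card A ≤ 2 * Nat.card A₀ := by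
    have h1 : (centralizer (V i : Set G)).relIndex A ≤ 2 := by
      refine rel_le_two fun x hx y hy hxK hyK => ?_
      have hx' : x ∉ o2 (P i) := by rw [o2_P D i]; exact fun h => hxK h.2
      have hy' : y ∉ o2 (P i) := by rw [o2_P D i]; exact fun h => hyK h.2
      have h2 := mul_mem_o2 D (hAT hx) hx' (hAT hy) hy'
      rw [o2_P D i] at h2
      exact h2.2
    rw [card_eq_rel A (centralizer (V i : Set G))]
    exact Nat.mul_le_mul_right _ h1
  have c2 : 2 * Nat.card ↥(W ⊓ centralizer (A : Set G)) ≤ Nat.card ↥(W ⊓ centralizer (A₀ : Set G)) := by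
    have hle : W ⊓ centralizer (A : Set G) ≤ W ⊓ centralizer (A₀ : Set G) :=
      inf_le_inf_left _ (centralizer_le hA₀A)
    obtain ⟨x, hx, hxA⟩ := SetLike.not_le_iff_exists.1 (fun h => hAQ (cent_symm h) : ¬ V i ≤ centralizer (A : Set G))
    have hxx : x ∈ W ⊓ centralizer (A₀ : Set G) := by
      refine ⟨hVW hx, mem_centralizer_iff.2 fun a ha => ?_⟩
      exact (mem_centralizer_iff.1 ha.2 x hx).symm
    have h1 := two_le_rel hxx (K := W ⊓ centralizer (A : Set G)) fun h => hxA h.2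
    rw [card_eq_rel (W ⊓ centralizer (A₀ : Set G)) (W ⊓ centralizer (A : Set G)), inf_eq_right.2 hle]
    exact Nat.mul_le_mul_right _ h1
  have hb0 : Best W A₀ := by
    refine { toElemM := NO1.BestOff.ElemM.mono hb.toElemM hA₀A, max := fun Y hY hYc => ?_ }
    have h1 := hb.max Y (hY.trans hA₀A) ((le_inf (le_inf inf_le_left (inf_le_right.trans (centralizer_le hVW)))
      inf_le_right).trans hYc)
    refine h1.trans ?_
    calc Nat.card A * Nat.card ↥(W ⊓ centralizer (A : Set G))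
        ≤ 2 * Nat.card A₀ * Nat.card ↥(W ⊓ centralizer (A : Set G)) := Nat.mul_le_mul_right _ c1
      _ = Nat.card A₀ * (2 * Nat.card ↥(W ⊓ centralizer (A : Set G))) := by ring
      _ ≤ Nat.card A₀ * Nat.card ↥(W ⊓ centralizer (A₀ : Set G)) := Nat.mul_le_mul_left _ c2
  have hA₀W : A₀ ≤ centralizer (W : Set G) := hnW.best (le_inf (hA₀A.trans hAT) inf_le_right) le_rfl hb0
  have c3 : Nat.card W ≤ 2 * Nat.card ↥(W ⊓ centralizer (A : Set G)) := by
    have h1 := hb.max A₀ hA₀A (le_inf inf_le_left (inf_le_right.trans (centralizer_le hVW)))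
    rw [inf_eq_left.2 (cent_symm hA₀W)] at h1
    have h2 : Nat.card A₀ * Nat.card W ≤ Nat.card A₀ * (2 * Nat.card ↥(W ⊓ centralizer (A : Set G))) := by
      calc Nat.card A₀ * Nat.card W ≤ Nat.card A * Nat.card ↥(W ⊓ centralizer (A : Set G)) := h1
        _ ≤ 2 * Nat.card A₀ * Nat.card ↥(W ⊓ centralizer (A : Set G)) := Nat.mul_le_mul_right _ c1
        _ = Nat.card A₀ * (2 * Nat.card ↥(W ⊓ centralizer (A : Set G))) := by ring
    exact Nat.le_of_mul_le_mul_left h2 Nat.card_pos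
  obtain ⟨a, haA, haV⟩ := SetLike.not_le_iff_exists.1 hAQ
  obtain ⟨x, hx, hxA⟩ := SetLike.not_le_iff_exists.1 (fun h => hAQ (cent_symm h) : ¬ V i ≤ centralizer (A : Set G))
  refine ⟨a, hAT haA, haV, fun b hb' => (mem_centralizer_iff.1 (hAB haA) b hb').symm, fun w hw => ?_⟩
  have hi2 : (centralizer (A : Set G)).relIndex W = 2 := by
    have h1 := two_le_rel (hVW hx) hxA
    have h2 := card_eq_rel W (centralizer (A : Set G))
    have h3 : 0 < Nat.card ↥(W ⊓ centralizer (A : Set G)) := Nat.card_pos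
    have h4 : (centralizer (A : Set G)).relIndex W ≤ 2 := by
      rw [h2] at c3
      exact Nat.le_of_mul_le_mul_right c3 h3
    omega
  by_cases hwA : w ∈ centralizer (A : Set G)
  · left
    have h1 := mem_centralizer_iff.1 hwA a haA
    rw [h1]; group
  · have h1 : x * w ∈ centralizer (A : Set G) := by
      have h2 : ((centralizer (A : Set G)).subgroupOf W).index = 2 := hi2
      have h3 := mul_mem_iff_of_index_two h2 (a := ⟨x, hVW hx⟩) (b := ⟨w, hw⟩)
      rw [mem_subgroupOf, mem_subgroupOf, mem_subgroupOf] at h3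
      exact h3.2 ⟨fun h => absurd h hxA, fun h => absurd h hwA⟩
    have h2 := mem_centralizer_iff.1 h1 a haA
    have h2' : a * (x * w) * a⁻¹ = x * w := by rw [h2]; group
    have h3 : a * x⁻¹ * a⁻¹ ∈ V i := (mem_normalizer_iff.1 (D.T_le_N i (hAT haA)) _).1 (inv_mem hx)
    have h4 : a * w * a⁻¹ = a * x⁻¹ * a⁻¹ * x * w := by
      calc a * w * a⁻¹ = (a * x⁻¹ * a⁻¹) * (a * (x * w) * a⁻¹) := by group
        _ = a * x⁻¹ * a⁻¹ * x * w := by rw [h2']; group
    have h5 : x * a * x⁻¹ * a⁻¹ ∈ zpowers (v i) := D.comm_VQ i hx (hAT haA)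
    have h6 : a * x⁻¹ * a⁻¹ * x = x * a * x⁻¹ * a⁻¹ := by
      calc a * x⁻¹ * a⁻¹ * x = x * (a * x⁻¹ * a⁻¹) := D.V_comm h3 hx
        _ = x * a * x⁻¹ * a⁻¹ := by group
    rw [h4, h6]
    have h7 : ∀ y ∈ V i, y * w = w * y := fun y hy => mem_centralizer_iff.1 (hnW.comm hw) y (hVW hy)
    rcases mem_zpow_cases D i h5 with h8 | h8
    · left; rw [h8, one_mul]
    · right; rw [h8]; exact h7 _ (D.mem i)

namespace Sd

variable {i j : Fin 2} {R : Subgroup G} {a : G}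

theorem N_V {i j : Fin 2} (hij : i ≠ j) {R : Subgroup G} (hR : IsMinPar T R) (hRj : R ≤ CC v j)
    (hRi : ¬ R ≤ CC v i) : R ≤ normalizer (V i : Set G) := D.uni i j hij R hR hRj hRi

theorem N_Q {i j : Fin 2} (hij : i ≠ j) {R : Subgroup G} (hR : IsMinPar T R) (hRj : R ≤ CC v j)
    (hRi : ¬ R ≤ CC v i) : R ≤ normalizer ((T ⊓ centralizer (V i : Set G) : Subgroup G) : Set G) := by
  rw [← o2_eq D hij hR hRj hRi]; exact MinSimple.VModule.le_normalizer_o2 R

/-- conjugates of `a` are transvections -/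
theorem tv' (hij : i ≠ j) (hR : IsMinPar T R) (hRj : R ≤ CC v j) (hRi : ¬ R ≤ CC v i) (h : Sd T V v i R a) {r : G}
    (hr : r ∈ R) {w : G} (hw : w ∈ bang (T ⊓ centralizer (V i : Set G))) :
    (r * a * r⁻¹) * w * (r * a * r⁻¹)⁻¹ = w ∨ (r * a * r⁻¹) * w * (r * a * r⁻¹)⁻¹ = w * (r * v i * r⁻¹) := by
  have hRW : R ≤ normalizer (bang (T ⊓ centralizer (V i : Set G)) : Set G) :=
    (N_Q D hij hR hRj hRi).trans (normalizer_le_bang _)
  have h1 : r⁻¹ * w * r ∈ bang (T ⊓ centralizer (V i : Set G)) := by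
    have := (mem_normalizer_iff.1 (hRW (inv_mem hr)) w).1 hw
    rwa [inv_inv] at this
  have e : (r * a * r⁻¹) * w * (r * a * r⁻¹)⁻¹ = r * (a * (r⁻¹ * w * r) * a⁻¹) * r⁻¹ := by group
  rw [e]
  rcases h.tv _ h1 with h2 | h2
  · left; rw [h2]; group
  · right; rw [h2]; group

theorem bang_le_W (i : Fin 2) : bang T ≤ bang (T ⊓ centralizer (V i : Set G)) :=
  ((nn_bang T).mono (le_inf (nn_bang T).le (bang_le_cent D i)) inf_le_left).le_bang

theorem V_le_W' (i : Fin 2) : V i ≤ bang (T ⊓ centralizer (V i : Set G)) := by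
  have hcV : V i ≤ centralizer (V i : Set G) := fun x hx => mem_centralizer_iff.2 fun y hy => D.V_comm hy hx
  exact (NN.of_le_centralizer (le_inf (D.V_le_T i) hcV) inf_le_right (D.sqV i)).le_bang

/-- `a^r` moves the elements of `V i` outside `⟨v i^r⟩` -/
theorem mvV (hij : i ≠ j) (hR : IsMinPar T R) (hRj : R ≤ CC v j) (hRi : ¬ R ≤ CC v i) (h : Sd T V v i R a) {r : G}
    (hr : r ∈ R) {x : G} (hx : x ∈ V i) (hx1 : x ≠ 1) (hxv : x ≠ r * v i * r⁻¹) :
    (r * a * r⁻¹) * x * (r * a * r⁻¹)⁻¹ = x * (r * v i * r⁻¹) := by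
  have hRN := N_V D hij hR hRj hRi
  have h1 : r⁻¹ * x * r ∈ V i := by
    have := (mem_normalizer_iff.1 (hRN (inv_mem hr)) x).1 hx
    rwa [inv_inv] at this
  have hao : a ∉ o2 (P i) := by rw [o2_P D i]; exact fun h2 => h.aV h2.2
  have h2 := moves D h.aT hao h1 (fun h3 => hx1 (by
    have e : x = r * (r⁻¹ * x * r) * r⁻¹ := by group
    rw [e, h3]; group)) (fun h3 => hxv (by rw [← h3]; group))
  have e : (r * a * r⁻¹) * x * (r * a * r⁻¹)⁻¹ = r * (a * (r⁻¹ * x * r) * a⁻¹) * r⁻¹ := by group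
  rw [e, h2]; group

theorem fixV (h : Sd T V v i R a) (r : G) : (r * a * r⁻¹) * (r * v i * r⁻¹) * (r * a * r⁻¹)⁻¹ = r * v i * r⁻¹ := by
  have h1 := D.cen i h.aT
  calc (r * a * r⁻¹) * (r * v i * r⁻¹) * (r * a * r⁻¹)⁻¹ = r * (a * v i * a⁻¹) * r⁻¹ := by group
    _ = r * v i * r⁻¹ := by rw [h1]

/-- the same centre: the same action on `V i` -/
theorem same (hij : i ≠ j) (hR : IsMinPar T R) (hRj : R ≤ CC v j) (hRi : ¬ R ≤ CC v i) (h : Sd T V v i R a) {r s : G}
    (hr : r ∈ R) (hs : s ∈ R) (e : r * v i * r⁻¹ = s * v i * s⁻¹) :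
    (s * a * s⁻¹)⁻¹ * (r * a * r⁻¹) ∈ centralizer (V i : Set G) := by
  have key : ∀ x ∈ V i, (r * a * r⁻¹) * x * (r * a * r⁻¹)⁻¹ = (s * a * s⁻¹) * x * (s * a * s⁻¹)⁻¹ := by
    intro x hx
    by_cases hx1 : x = 1
    · rw [hx1]; group
    by_cases hxv : x = r * v i * r⁻¹
    · have h1 := fixV D h r
      have h2 := fixV D h s
      rw [← e] at h2
      rw [hxv, h1, h2]
    · rw [mvV D hij hR hRj hRi h hr hx hx1 hxv, mvV D hij hR hRj hRi h hs hx hx1 (by rw [← e]; exact hxv), e]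
  refine mem_centralizer_iff.2 fun x hx => ?_
  have h1 := key x hx
  calc x * ((s * a * s⁻¹)⁻¹ * (r * a * r⁻¹))
      = (s * a * s⁻¹)⁻¹ * ((s * a * s⁻¹) * x * (s * a * s⁻¹)⁻¹) * (r * a * r⁻¹) := by group
    _ = (s * a * s⁻¹)⁻¹ * ((r * a * r⁻¹) * x * (r * a * r⁻¹)⁻¹) * (r * a * r⁻¹) := by rw [h1]
    _ = (s * a * s⁻¹)⁻¹ * (r * a * r⁻¹) * x := by group

/-- an odd power of `x ∈ C_R(V i)` lies in `O₂(R)` -/
theorem exists_odd (hij : i ≠ j) (hR : IsMinPar T R) (hRj : R ≤ CC v j) (hRi : ¬ R ≤ CC v i) {x : G} (hx : x ∈ R)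
    (hxV : x ∈ centralizer (V i : Set G)) : ∃ m : ℕ, Odd m ∧ x ^ m ∈ T ⊓ centralizer (V i : Set G) := by
  have hf : Fact (Nat.Prime 2) := ⟨Nat.prime_two⟩
  have hRN := N_V D hij hR hRj hRi
  have hsyl : Syl T R := ⟨hR.le, D.T_isPGroup, fun Q hQ hQ2 hTQ => (D.syl j).2.2 Q (hQ.trans hRj) hQ2 hTQ⟩
  obtain ⟨c, m, hm, hord⟩ := Nat.exists_eq_two_pow_mul_odd (orderOf_pos x).ne'
  refine ⟨m, hm, ?_⟩
  have h2 : IsPGroup 2 (zpowers (x ^ m)) := by
    refine IsPGroup.of_card (n := c) ?_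
    rw [Nat.card_zpowers, orderOf_pow, hord, Nat.gcd_eq_right (Dvd.intro_left _ rfl),
      Nat.mul_div_cancel _ (Nat.pos_of_ne_zero (by rintro rfl; simp at hm))]
  obtain ⟨T', hT', hle⟩ := exists_syl (X := R) h2 (by rw [zpowers_le]; exact pow_mem hx m)
  obtain ⟨r, hr, e⟩ := syl_conj hT' hsyl
  have h3 : r * x ^ m * r⁻¹ ∈ T := by
    rw [← e, mem_cj]
    have e2 : r⁻¹ * (r * x ^ m * r⁻¹) * r = x ^ m := by group
    rw [e2]
    exact hle (mem_zpowers _)
  have h4 : r * x ^ m * r⁻¹ ∈ centralizer (V i : Set G) := by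
    refine mem_centralizer_iff.2 fun y hy => ?_
    have h5 : r⁻¹ * y * r ∈ V i := by
      have := (mem_normalizer_iff.1 (hRN (inv_mem hr)) y).1 hy
      rwa [inv_inv] at this
    have h6 := mem_centralizer_iff.1 (pow_mem hxV m) _ h5
    calc y * (r * x ^ m * r⁻¹) = r * (r⁻¹ * y * r * x ^ m) * r⁻¹ := by group
      _ = r * (x ^ m * (r⁻¹ * y * r)) * r⁻¹ := by rw [h6]
      _ = r * x ^ m * r⁻¹ * y := by group
  have h7 := (mem_normalizer_iff''.1 (N_Q D hij hR hRj hRi hr) _).1 (⟨h3, h4⟩ : r * x ^ m * r⁻¹ ∈ T ⊓ centralizer (V i : Set G))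
  have e2 : r⁻¹ * (r * x ^ m * r⁻¹) * r = x ^ m := by group
  rwa [e2] at h7

/-- `b^x = b n` -/
theorem two (hij : i ≠ j) (hR : IsMinPar T R) (hRj : R ≤ CC v j) (hRi : ¬ R ≤ CC v i) (h : Sd T V v i R a) {x b n : G}
    (hx : x ∈ R) (hxV : x ∈ centralizer (V i : Set G)) (hb : b ∈ bang T) (hn : n ∈ V i)
    (e : x * b * x⁻¹ = b * n) : n = 1 ∨ n = v i := by
  obtain ⟨m, hm, hmQ⟩ := exists_odd D hij hR hRj hRi hx hxV
  have hxn : x * n = n * x := (mem_centralizer_iff.1 hxV n hn).symm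
  have hpow : ∀ k : ℕ, x ^ k * b * (x ^ k)⁻¹ = b * n ^ k := by
    intro k
    induction k with
    | zero => simp
    | succ k ih =>
      have h1 : Commute x (n ^ k) := (show Commute x n from hxn).pow_right k
      calc x ^ (k + 1) * b * (x ^ (k + 1))⁻¹ = x * (x ^ k * b * (x ^ k)⁻¹) * x⁻¹ := by rw [pow_succ']; group
        _ = x * b * (n ^ k * x⁻¹) := by rw [ih]; group
        _ = (x * b * x⁻¹) * n ^ k := by rw [← h1.inv_left.eq]; group
        _ = b * n ^ (k + 1) := by rw [e, pow_succ']; group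
  obtain ⟨k, rfl⟩ := hm
  have h1 := hpow (2 * k + 1)
  have hnn : n ^ (2 * k + 1) = n := by rw [pow_succ, pow_mul, D.sqV i n hn, one_pow, one_mul]
  rw [hnn] at h1
  have h2 : x ^ (2 * k + 1) * b * (x ^ (2 * k + 1))⁻¹ ∈ bang T :=
    (mem_normalizer_iff.1 ((nn_bang T).norm hmQ.1) b).1 hb
  rw [h1] at h2
  have h3 : n ∈ bang T := by
    have := mul_mem (inv_mem hb) h2
    rwa [inv_mul_cancel_left] at this
  have h4 := h.cB n h3
  by_contra hcon
  push Not at hcon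
  have hao : a ∉ o2 (P i) := by rw [o2_P D i]; exact fun h2 => h.aV h2.2
  have h5 := moves D h.aT hao hn hcon.1 hcon.2
  rw [h4, mul_inv_cancel_right] at h5
  exact D.ne i (by simpa using h5.symm)

/-- **`b` or `b v_i` is centralised by all conjugates of `a`** -/
theorem exists_fix (hij : i ≠ j) (hR : IsMinPar T R) (hRj : R ≤ CC v j) (hRi : ¬ R ≤ CC v i) (h : Sd T V v i R a) {b : G}
    (hb : b ∈ bang T) : ∃ e, (e = 1 ∨ e = v i) ∧ ∀ r ∈ R, (r * a * r⁻¹) * (b * e) * (r * a * r⁻¹)⁻¹ = b * e := by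
  have hRN := N_V D hij hR hRj hRi
  have hvB : v i ∈ bang T := zc_le_bang T (D.v_mem_zc i)
  have hTW := bang_le_W D i
  -- a second conjugate
  obtain ⟨s, hs, hsv⟩ : ∃ s ∈ R, s * v i * s⁻¹ ≠ v i := by
    by_contra hcon
    push Not at hcon
    apply hRi
    intro r hr
    rw [mem_centralizer_singleton_iff]
    calc r * v i = r * v i * r⁻¹ * r := by group
      _ = v i * r := by rw [hcon r hr]
  set w := s * v i * s⁻¹ with hw
  have hwV : w ∈ V i := (mem_normalizer_iff.1 (hRN hs) _).1 (D.mem i)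
  have hw1 : w ≠ 1 := fun h1 => D.ne i (conj_eq_one_iff.1 h1)
  set a' := s * a * s⁻¹ with ha'
  have haR : a ∈ R := hR.le h.aT
  have ha'R : a' ∈ R := mul_mem (mul_mem hs haR) (inv_mem hs)
  have m1 : a' * v i * a'⁻¹ = v i * w := mvV D hij hR hRj hRi h hs (D.mem i) (D.ne i) (Ne.symm hsv)
  have m2 : a * w * a⁻¹ = w * v i := by
    have h1 := mvV D hij hR hRj hRi h (one_mem R) hwV hw1 (by simpa using hsv)
    simpa using h1
  have hcomm : ∀ x ∈ bang T, x * w = w * x := fun x hx =>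
    mem_centralizer_iff.1 (bang_le_cent D i hx) w hwV |>.symm
  -- `b e` is fixed by `a` and `a'`
  obtain ⟨e, he, hfix⟩ : ∃ e, (e = 1 ∨ e = v i) ∧ a' * (b * e) * a'⁻¹ = b * e := by
    rcases tv' D hij hR hRj hRi h hs (hTW hb) with h1 | h1
    · exact ⟨1, Or.inl rfl, by rw [mul_one]; exact h1⟩
    · refine ⟨v i, Or.inr rfl, ?_⟩
      have h2 : w * w = 1 := by rw [← pow_two]; exact D.sqV i w hwV
      calc a' * (b * v i) * a'⁻¹ = (a' * b * a'⁻¹) * (a' * v i * a'⁻¹) := by group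
        _ = b * w * (v i * w) := by rw [h1, m1]
        _ = b * (w * (v i * w)) := by group
        _ = b * (w * (w * v i)) := by rw [hcomm _ hvB]
        _ = b * v i := by rw [← mul_assoc w w, h2, one_mul]
  refine ⟨e, he, ?_⟩
  have heB : e ∈ bang T := by
    rcases he with rfl | rfl
    · exact one_mem _
    · exact hvB
  set b' := b * e with hb'
  have hb'B : b' ∈ bang T := mul_mem hb heB
  have f1 : a * b' * a⁻¹ = b' := by rw [h.cB b' hb'B]; group
  -- a conjugate with centre `w` fixes `b'`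
  have k1 : ∀ r ∈ R, r * v i * r⁻¹ = w → (r * a * r⁻¹) * b' * (r * a * r⁻¹)⁻¹ = b' := by
    intro r hr hrw
    rcases tv' D hij hR hRj hRi h hr (hTW hb'B) with h1 | h1
    · exact h1
    · exfalso
      have h2 := same D hij hR hRj hRi h hr hs hrw
      have h3 : (a'⁻¹ * (r * a * r⁻¹)) * b' * (a'⁻¹ * (r * a * r⁻¹))⁻¹ = b' * w := by
        have h4 : a'⁻¹ * b' * a' = b' := by
          calc a'⁻¹ * b' * a' = a'⁻¹ * (a' * b' * a'⁻¹) * a' := by rw [hfix]
            _ = b' := by group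
        have h5 : a'⁻¹ * w * a' = w := by
          have h6 := fixV D h s
          rw [← hw, ← ha'] at h6
          calc a'⁻¹ * w * a' = a'⁻¹ * (a' * w * a'⁻¹) * a' := by rw [h6]
            _ = w := by group
        calc (a'⁻¹ * (r * a * r⁻¹)) * b' * (a'⁻¹ * (r * a * r⁻¹))⁻¹
            = a'⁻¹ * ((r * a * r⁻¹) * b' * (r * a * r⁻¹)⁻¹) * a' := by group
          _ = (a'⁻¹ * b' * a') * (a'⁻¹ * w * a') := by rw [h1, hrw]; group
          _ = b' * w := by rw [h4, h5]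
      rcases two D hij hR hRj hRi h (mul_mem (inv_mem ha'R) (mul_mem (mul_mem hr haR) (inv_mem hr))) h2 hb'B hwV h3 with h6 | h6
      · exact hw1 h6
      · exact hsv h6
  -- conjugation by an element which fixes `b'`
  have k2 : ∀ g ∈ R, g * b' * g⁻¹ = b' → ∀ r ∈ R, g * (r * v i * r⁻¹) * g⁻¹ = w →
      (r * a * r⁻¹) * b' * (r * a * r⁻¹)⁻¹ = b' := by
    intro g hg hgb r hr hgw
    have h1 := k1 (g * r) (mul_mem hg hr) (by rw [← hgw]; group)
    have h2 : g⁻¹ * b' * g = b' := by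
      calc g⁻¹ * b' * g = g⁻¹ * (g * b' * g⁻¹) * g := by rw [hgb]
        _ = b' := by group
    calc (r * a * r⁻¹) * b' * (r * a * r⁻¹)⁻¹
        = (r * a * r⁻¹) * (g⁻¹ * b' * g) * (r * a * r⁻¹)⁻¹ := by rw [h2]
      _ = g⁻¹ * ((g * r * a * (g * r)⁻¹) * b' * (g * r * a * (g * r)⁻¹)⁻¹) * g := by group
      _ = g⁻¹ * b' * g := by rw [h1]
      _ = b' := h2
  intro r hr
  have hrV : r * v i * r⁻¹ ∈ V i := (mem_normalizer_iff.1 (hRN hr) _).1 (D.mem i)
  have hr1 : r * v i * r⁻¹ ≠ 1 := fun h1 => D.ne i (conj_eq_one_iff.1 h1)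
  have m3 : a * (v i * w) * a⁻¹ = w := by
    have h1 := D.cen i h.aT
    calc a * (v i * w) * a⁻¹ = (a * v i * a⁻¹) * (a * w * a⁻¹) := by group
      _ = v i * (w * v i) := by rw [h1, m2]
      _ = v i * (v i * w) := by rw [hcomm _ hvB]
      _ = w := by rw [← mul_assoc, D.v_sq, one_mul]
  rcases D.eq_of_V (D.mem i) (D.ne i) hwV hw1 (Ne.symm hsv) hrV hr1 with h1 | h1 | h1
  · refine k2 (a * a') (mul_mem haR ha'R) ?_ r hr ?_
    · calc a * a' * b' * (a * a')⁻¹ = a * (a' * b' * a'⁻¹) * a⁻¹ := by group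
        _ = b' := by rw [hfix, f1]
    · rw [h1]
      calc a * a' * v i * (a * a')⁻¹ = a * (a' * v i * a'⁻¹) * a⁻¹ := by group
        _ = w := by rw [m1, m3]
  · exact k1 r hr h1
  · exact k2 a haR f1 r hr (by rw [h1]; exact m3)

end Sd

/-- **`V^!(T) ≤ Ω₁(Z(T))`** -/
theorem vbang_of_rc (h : ∀ i : Fin 2, ∃ R : Subgroup G, IsMinPar T R ∧ R ≤ CC v (i + 1) ∧ ¬ R ≤ CC v i ∧
    ¬ R ≤ normalizer (bang T : Set G)) : VBang T := by
  choose R hR hRj hRi hRB using h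
  choose a ha using fun i => exists_sd D (ne_add_one i) (hR i) (hRj i) (hRi i) (hRB i)
  set X : Fin 2 → Set G := fun i => {x | ∃ r ∈ R i, x = r * a i * r⁻¹} with hX
  have haR : ∀ i, a i ∈ R i := fun i => (hR i).le (ha i).aT
  have hXC : ∀ i, ∀ x ∈ X i, x * v (i + 1) = v (i + 1) * x := by
    rintro i _ ⟨r, hr, rfl⟩
    exact mem_centralizer_singleton_iff.1 (hRj i (mul_mem (mul_mem hr (haR i)) (inv_mem hr)))
  have hn := nn_bang T
  have h2 : ∀ i : Fin 2, i = 0 ∨ i = 1 := by decide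
  -- `B'`
  set B' : Subgroup G := bang T ⊓ (centralizer (X 0) ⊓ centralizer (X 1)) with hB'
  have hTX : ∀ i, ∀ t ∈ T, ∀ b ∈ centralizer (X i), t * b * t⁻¹ ∈ centralizer (X i) := by
    intro i t ht b hb
    refine mem_centralizer_iff.2 ?_
    rintro _ ⟨r, hr, rfl⟩
    have h1 := mem_centralizer_iff.1 hb _ ⟨t⁻¹ * r, mul_mem (inv_mem ((hR i).le ht)) hr, rfl⟩
    calc r * a i * r⁻¹ * (t * b * t⁻¹) = t * (t⁻¹ * r * a i * (t⁻¹ * r)⁻¹ * b) * t⁻¹ := by group
      _ = t * (b * (t⁻¹ * r * a i * (t⁻¹ * r)⁻¹)) * t⁻¹ := by rw [h1]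
      _ = t * b * t⁻¹ * (r * a i * r⁻¹) := by group
  have hTB : ∀ t ∈ T, ∀ b ∈ B', t * b * t⁻¹ ∈ B' := by
    intro t ht b hb
    exact ⟨(mem_normalizer_iff.1 (hn.norm ht) b).1 hb.1, hTX 0 t ht b hb.2.1, hTX 1 t ht b hb.2.2⟩
  have hTN : T ≤ normalizer (B' : Set G) := by
    intro t ht
    rw [mem_normalizer_iff]
    intro b
    refine ⟨hTB t ht b, fun hb => ?_⟩
    have h1 := hTB t⁻¹ (inv_mem ht) _ hb
    have e : t⁻¹ * (t * b * t⁻¹) * t⁻¹⁻¹ = b := by group
    rwa [e] at h1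
  -- every `v i`, and `v 0 * v 1`, is moved by a conjugate of `a i`
  have hmv : ∀ i, ∃ x ∈ X i, x * v i ≠ v i * x := by
    intro i
    obtain ⟨s, hs, hsv⟩ : ∃ s ∈ R i, s * v i * s⁻¹ ≠ v i := by
      by_contra hcon
      push Not at hcon
      apply hRi i
      intro r hr
      rw [mem_centralizer_singleton_iff]
      calc r * v i = r * v i * r⁻¹ * r := by group
        _ = v i * r := by rw [hcon r hr]
    refine ⟨s * a i * s⁻¹, ⟨s, hs, rfl⟩, fun h3 => ?_⟩
    have h4 := Sd.mvV D (ne_add_one i) (hR i) (hRj i) (hRi i) (ha i) hs (D.mem i) (D.ne i) (Ne.symm hsv)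
    rw [h3, mul_inv_cancel_right] at h4
    exact D.ne i (conj_eq_one_iff.1 (mul_eq_left.1 h4.symm))
  have hB1 : B' = ⊥ := by
    by_contra hne
    obtain ⟨z, hz, hz1, hzc⟩ := NoFF.LinesPlug.exists_fixed D.T_isPGroup (inf_le_left.trans hn.le) hTN hne
    have hzT : z ∈ zc T := ZN.mem_zc.2 ⟨hn.le hz.1, hzc, hn.sq z hz.1⟩
    obtain ⟨x, hx, hxv⟩ := hmv 0
    obtain ⟨y, hy, hyv⟩ := hmv 1
    have h3 := mem_centralizer_iff.1 hz.2.1 x hx
    have h4 := mem_centralizer_iff.1 hz.2.2 y hy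
    rcases (D.zT z).1 hzT with h5 | h5 | h5 | h5
    · exact hz1 h5
    · exact hxv (by rw [← h5]; exact h3)
    · exact hyv (by rw [← h5]; exact h4)
    · have h6 : x * v 1 = v 1 * x := hXC 0 x hx
      apply hxv
      rw [h5] at h3
      have h7 : x * v 0 * v 1 = v 0 * x * v 1 := by
        calc x * v 0 * v 1 = x * (v 0 * v 1) := by group
          _ = v 0 * (v 1 * x) := by rw [h3]; group
          _ = v 0 * x * v 1 := by rw [← h6]; group
      exact mul_right_cancel h7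
  intro b hb
  obtain ⟨e₀, he₀, h3⟩ := Sd.exists_fix D (ne_add_one 0) (hR 0) (hRj 0) (hRi 0) (ha 0) hb
  obtain ⟨e₁, he₁, h4⟩ := Sd.exists_fix D (ne_add_one 1) (hR 1) (hRj 1) (hRi 1) (ha 1) hb
  have z0 : e₀ ∈ zc T := by
    rcases he₀ with rfl | rfl
    · exact one_mem _
    · exact D.v_mem_zc 0
  have z1 : e₁ ∈ zc T := by
    rcases he₁ with rfl | rfl
    · exact one_mem _
    · exact D.v_mem_zc 1
  have c0 : ∀ x ∈ X 0, x * (b * e₀) = b * e₀ * x := by
    rintro _ ⟨r, hr, rfl⟩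
    exact mul_inv_eq_iff_eq_mul.1 (h3 r hr)
  have c1 : ∀ x ∈ X 1, x * (b * e₁) = b * e₁ * x := by
    rintro _ ⟨r, hr, rfl⟩
    exact mul_inv_eq_iff_eq_mul.1 (h4 r hr)
  have c2 : ∀ x ∈ X 0, x * e₁ = e₁ * x := by
    intro x hx
    rcases he₁ with h5 | h5
    · rw [h5, mul_one, one_mul]
    · rw [h5]; exact hXC 0 x hx
  have c3 : ∀ x ∈ X 1, x * e₀ = e₀ * x := by
    intro x hx
    rcases he₀ with h5 | h5
    · rw [h5, mul_one, one_mul]
    · rw [h5]; exact hXC 1 x hx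
  have hee : e₀ * e₁ = e₁ * e₀ := (ZN.mem_zc.1 z1).2.1 e₀ (ZN.zc_le _ z0)
  have h5 : b * e₀ * e₁ ∈ B' := by
    refine ⟨mul_mem (mul_mem hb (zc_le_bang T z0)) (zc_le_bang T z1), mem_centralizer_iff.2 fun x hx => ?_,
      mem_centralizer_iff.2 fun x hx => ?_⟩
    · calc x * (b * e₀ * e₁) = x * (b * e₀) * e₁ := by group
        _ = b * e₀ * (x * e₁) := by rw [c0 x hx]; group
        _ = b * e₀ * e₁ * x := by rw [c2 x hx]; group
    · calc x * (b * e₀ * e₁) = x * (b * e₁) * e₀ := by rw [mul_assoc b, hee]; group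
        _ = b * e₁ * (x * e₀) := by rw [c1 x hx]; group
        _ = b * (e₁ * e₀) * x := by rw [c3 x hx]; group
        _ = b * e₀ * e₁ * x := by rw [← hee]; group
  rw [hB1, mem_bot] at h5
  have h6 : b = (e₀ * e₁)⁻¹ := by
    rw [eq_inv_iff_mul_eq_one, ← h5]; group
  rw [h6]
  exact inv_mem (mul_mem z0 z1)

end

end Cfsg.Agent.Omega.TC.VBangRC
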