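import Cfsg.Agent.Omega.NOThree.NoOver
import Cfsg.Agent.ZN.ChoiceBase

/-!
# THEOREM WD (CARD #18791, item (h); #20661): the dichotomy for exact families, (NO) for elementary abelian groups only

`X` acts faithfully on the elementary abelian 2-group `U`; `pt` the points, `adj` collinearity (lines
`{1, p, q, p q}`), `W p` the subgroup generated by the lines on `p`, `A p ≤ O₂(C_X(p))` an equivariant family of exact
quadratic elementary abelian groups which centralise `W p` and are generated by atoms.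

* `Sit` : the situation;
* `Sit.main` : **some line `{1, p, q, p q}` has `q ∈ [U, A_p]`, or an atom of some `A_p` consists of transvections with
  centre `p`**.

No lattice of non-abelian groups, no D8 trick.
-/

set_option autoImplicit false

namespace Cfsg.Agent.Omega.TC.WD

open Subgroup Cfsg Cfsg.Agent.ZN Cfsg.Agent.ClassTwoFusion.Quad
open Cfsg.Agent.Omega.NOThree.NoOver (card_mul_le)
open Cfsg.Agent.ZN.ChoiceBase (cj mem_cj cj_mono cj_one cj_cj cj_inv_cj cj_cj_inv cj_le_iff card_cj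
  mem_normalizer_iff_cj mem_normalizer_of_cj_le cj_normalizer)
open Cfsg.Agent.MinSimple.VModule (o2_isPGroup o2_le le_o2 le_normalizer_o2)

variable {X : Type*} [Group X] {U : Type*} [Group U] [MulDistribMulAction X U]

/-! ### 2-groups acting on `K / Y` -/

theorem exists_fixed_mod [Finite U] {P : Subgroup X} (hP : IsPGroup 2 P) (two : ∀ m : U, m * m = 1)
    {K Y : Subgroup U} (hX : ∀ g ∈ P, ∀ m ∈ K, g • m ∈ K) (hY : ∀ g ∈ P, ∀ m ∈ Y, g • m ∈ Y)
    (hne : ∃ m ∈ K, m ∉ Y) : ∃ m ∈ K, m ∉ Y ∧ ∀ g ∈ P, (g • m) * m⁻¹ ∈ Y := by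
  classical
  have : Fact (Nat.Prime 2) := ⟨Nat.prime_two⟩
  have hcomm : ∀ a b : U, a * b = b * a := by
    intro a b
    have hi : ∀ u : U, u⁻¹ = u := fun u => (eq_inv_of_mul_eq_one_left (two u)).symm
    have h2 : a * b = (a * b)⁻¹ := eq_inv_of_mul_eq_one_left (two (a * b))
    rw [mul_inv_rev, hi, hi] at h2
    exact h2
  have hnor : (Y.subgroupOf K).Normal := ⟨fun n hn g => by
    rw [mem_subgroupOf] at hn ⊢
    have : ((g * n * g⁻¹ : K) : U) = n := by
      push_cast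
      rw [hcomm (g : U) n, mul_inv_cancel_right]
    rw [this]
    exact hn⟩
  let Q := K ⧸ Y.subgroupOf K
  let f : P → K →* K := fun g =>
    { toFun := fun m => ⟨(g : X) • (m : U), hX g g.2 m m.2⟩
      map_one' := Subtype.ext (smul_one _)
      map_mul' := fun a b => Subtype.ext (smul_mul' _ _ _) }
  let iA : MulAction P Q :=
    { smul := fun g => QuotientGroup.map (Y.subgroupOf K) (Y.subgroupOf K) (f g) (fun m hm => by
        rw [mem_comap, mem_subgroupOf]
        exact hY g g.2 _ (mem_subgroupOf.mp hm))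
      one_smul := fun q => by
        induction q using QuotientGroup.induction_on with
        | H z =>
          change QuotientGroup.mk (f 1 z) = QuotientGroup.mk z
          congr 1
          exact Subtype.ext (one_smul X (z : U))
      mul_smul := fun g g' q => by
        induction q using QuotientGroup.induction_on with
        | H z =>
          change QuotientGroup.mk (f (g * g') z) = QuotientGroup.mk (f g (f g' z))
          congr 1
          exact Subtype.ext (mul_smul (g : X) (g' : X) (z : U)) }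
  have hsm : ∀ (g : P) (z : K), g • (QuotientGroup.mk z : Q) = QuotientGroup.mk (f g z) := fun _ _ => rfl
  have hfix := hP.card_modEq_card_fixedPoints (α := Q)
  obtain ⟨m, hm, hmY⟩ := hne
  have hcard : 2 ∣ Nat.card Q := by
    have h2 : orderOf (QuotientGroup.mk (⟨m, hm⟩ : K) : Q) = 2 := by
      refine orderOf_eq_prime ?_ ?_
      · rw [pow_two, ← QuotientGroup.mk_mul]
        have : (⟨m, hm⟩ : K) * ⟨m, hm⟩ = 1 := Subtype.ext (two m)
        rw [this]; rfl
      · intro h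
        rw [QuotientGroup.eq_one_iff, mem_subgroupOf] at h
        exact hmY h
    rw [← h2]
    exact orderOf_dvd_natCard _
  have h1 : (1 : Q) ∈ MulAction.fixedPoints P Q := by
    intro g
    have : (1 : Q) = QuotientGroup.mk 1 := rfl
    rw [this, hsm, map_one]
  have h2 : 2 ∣ Nat.card (MulAction.fixedPoints P Q) := by
    have := (Nat.modEq_zero_iff_dvd.2 hcard).symm.trans hfix
    exact Nat.modEq_zero_iff_dvd.1 this.symm
  have : Nontrivial (MulAction.fixedPoints P Q) := by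
    rw [← Finite.one_lt_card_iff_nontrivial]
    have h3 : 0 < Nat.card (MulAction.fixedPoints P Q) := by
      have : Nonempty (MulAction.fixedPoints P Q) := ⟨⟨1, h1⟩⟩
      exact Nat.card_pos
    exact lt_of_lt_of_le one_lt_two (Nat.le_of_dvd h3 h2)
  obtain ⟨⟨q, hq⟩, hq1⟩ := exists_ne (⟨1, h1⟩ : MulAction.fixedPoints P Q)
  induction q using QuotientGroup.induction_on with
  | H z =>
    refine ⟨z, z.2, fun hz => hq1 (Subtype.ext ?_), fun g hg => ?_⟩
    · change (QuotientGroup.mk z : Q) = 1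
      rw [QuotientGroup.eq_one_iff, mem_subgroupOf]
      exact hz
    · have h3 := hq ⟨g, hg⟩
      rw [hsm] at h3
      have h4 : (QuotientGroup.mk (f ⟨g, hg⟩ z * z⁻¹) : Q) = 1 := by
        rw [QuotientGroup.mk_mul, h3, ← QuotientGroup.mk_mul, mul_inv_cancel, QuotientGroup.mk_one]
      rw [QuotientGroup.eq_one_iff, mem_subgroupOf] at h4
      exact h4

/-! ### Definitions -/

/-- `[U, B]` -/
def br (B : Subgroup X) : Subgroup U := closure {z | ∃ b ∈ B, ∃ u : U, z = b • u * u⁻¹}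

variable (U) in
/-- `|B| |C_U(B)| = |U|` -/
def Ex (B : Subgroup X) : Prop := Nat.card B * Nat.card (cv U (B : Set X)) = Nat.card U

variable (U) in
/-- minimal exact subgroups -/
structure Atom (B : Subgroup X) : Prop where
  ne : B ≠ ⊥
  ex : Ex U B
  min : ∀ C < B, Ex U C → C = ⊥

theorem mem_br {B : Subgroup X} {b : X} (hb : b ∈ B) (u : U) : b • u * u⁻¹ ∈ br (U := U) B :=
  subset_closure ⟨b, hb, u, rfl⟩

theorem smul_br {B : Subgroup X} (g : X) {z : U} (hz : z ∈ br (U := U) B) : g • z ∈ br (U := U) (cj g B) := by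
  unfold br at hz
  induction hz using closure_induction with
  | mem z hz =>
    obtain ⟨b, hb, u, rfl⟩ := hz
    have h1 : g * b * g⁻¹ ∈ cj g B := by
      rw [mem_cj]
      have : g⁻¹ * (g * b * g⁻¹) * g = b := by group
      rwa [this]
    have h2 := mem_br (U := U) h1 (g • u)
    have h3 : (g * b * g⁻¹) • g • u = g • b • u := by
      rw [← mul_smul, ← mul_smul]
      congr 1
      group
    rw [h3] at h2
    rw [smul_mul', smul_inv']
    exact h2
  | one => rw [smul_one]; exact one_mem _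
  | mul x y _ _ hx hy => rw [smul_mul']; exact mul_mem hx hy
  | inv x _ hx => rw [smul_inv']; exact inv_mem hx

theorem br_le {B : Subgroup X} {Y : Subgroup U} (h : ∀ b ∈ B, ∀ u : U, b • u * u⁻¹ ∈ Y) : br B ≤ Y := by
  unfold br
  rw [closure_le]
  rintro _ ⟨b, hb, u, rfl⟩
  exact h b hb u

/-- the common part of the situation (nothing about fixed points of 2-groups) -/
structure Core (X : Type*) [Group X] {U : Type*} [Group U] [MulDistribMulAction X U] (pt : Set U)
    (adj : U → U → Prop) (W : U → Subgroup U) (A : U → Subgroup X) : Prop where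
  sq : ∀ u : U, u * u = 1
  faith : ∀ g : X, (∀ u : U, g • u = u) → g = 1
  pt_ne : ∀ p ∈ pt, p ≠ 1
  trans : ∀ p ∈ pt, ∀ q ∈ pt, ∃ g : X, g • p = q
  adj_pt : ∀ p q, adj p q → p ∈ pt ∧ q ∈ pt
  adj_symm : ∀ p q, adj p q → adj q p
  adj_smul : ∀ (g : X) (p q : U), adj p q → adj (g • p) (g • q)
  adj_mul : ∀ p q, adj p q → adj p (p * q)
  W_eq : ∀ p ∈ pt, W p = closure ({p} ∪ {q | adj p q})
  A_smul : ∀ (g : X), ∀ p ∈ pt, A (g • p) = cj g (A p)
  A_le : ∀ p ∈ pt, A p ≤ o2 (MulAction.stabilizer X p)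
  A_sq : ∀ p ∈ pt, ∀ a ∈ A p, a * a = 1
  A_ex : ∀ p ∈ pt, Ex U (A p)
  A_quad : ∀ p ∈ pt, ∀ a ∈ A p, ∀ b ∈ A p, ∀ u : U, b • (a • u * u⁻¹) = a • u * u⁻¹
  A_W : ∀ p ∈ pt, ∀ a ∈ A p, ∀ w ∈ W p, a • w = w
  A_ne : ∀ p ∈ pt, A p ≠ ⊥
  atm : ∀ p ∈ pt, ∀ w : U, (∀ B ≤ A p, Atom U B → ∀ b ∈ B, b • w = w) → ∀ a ∈ A p, a • w = w
  no1 : ∀ p ∈ pt, ∀ B ≤ o2 (MulAction.stabilizer X p), (∀ b ∈ B, b * b = 1) →
    Nat.card B * Nat.card (cv U (B : Set X)) ≤ Nat.card U
  no2 : ∀ p q, adj p q → ∀ B ≤ o2 (MulAction.stabilizer X q), B ≤ MulAction.stabilizer X p →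
    (∀ b ∈ B, b * b = 1) → ∀ K ≤ B, (∀ b ∈ B, (∀ w ∈ W p, b • w = w ∨ b • w = w * p) → b ∈ K) →
    ∀ C : Subgroup U, C ≤ W p → (∀ w ∈ C, ∀ b ∈ B, b • w = w) →
    Nat.card B * Nat.card C ≤ Nat.card K * Nat.card (W p)
  conn : ∀ Δ : Set U, Δ ⊆ pt → Δ.Nonempty → (∀ p ∈ Δ, ∀ q, adj p q → q ∈ Δ) → pt ⊆ Δ
  span : closure pt = (⊤ : Subgroup U)
  pt_nonempty : pt.Nonempty

/-- **The situation.** -/
structure Sit (X : Type*) [Group X] {U : Type*} [Group U] [MulDistribMulAction X U] (pt : Set U)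
    (adj : U → U → Prop) (W : U → Subgroup U) (A : U → Subgroup X) : Prop extends Core X pt adj W A where
  Wq : ∀ q ∈ pt, ∀ τ ∈ o2 (MulAction.stabilizer X q), ∀ w ∈ W q, τ • w = w ∨ τ • w = w * q
  mv : ∀ p q, adj p q → ∃ τ ∈ o2 (MulAction.stabilizer X q), τ • p = p * q
  fixS : ∀ p ∈ pt, ∃ S : Subgroup X, IsPGroup 2 S ∧ S ≤ MulAction.stabilizer X p ∧
    ∀ u : U, (∀ s ∈ S, s • u = u) → u = 1 ∨ u = p
  fixL : ∀ p q, adj p q → ∃ S : Subgroup X, IsPGroup 2 S ∧ S ≤ MulAction.stabilizer X p ∧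
    S ≤ MulAction.stabilizer X q ∧ (∀ τ ∈ o2 (MulAction.stabilizer X q), ∀ s ∈ S, τ * s * τ⁻¹ ∈ S) ∧
    ∀ u : U, (∀ s ∈ S, s • u = u) → u = 1 ∨ u = p ∨ u = q ∨ u = p * q

namespace Core

variable {pt : Set U} {adj : U → U → Prop} {W : U → Subgroup U} {A : U → Subgroup X} (h : Core X pt adj W A)
include h

theorem inv_eq (u : U) : u⁻¹ = u := (eq_inv_of_mul_eq_one_left (h.sq u)).symm

theorem comm (u v : U) : u * v = v * u := by
  have h1 := h.sq (u * v)
  have h2 : u * v = (u * v)⁻¹ := eq_inv_of_mul_eq_one_left h1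
  rw [mul_inv_rev, h.inv_eq, h.inv_eq] at h2
  exact h2

theorem pt_smul (g : X) {p : U} (hp : ∃ q, adj p q) : g • p ∈ pt := by
  obtain ⟨q, hq⟩ := hp
  exact (h.adj_pt _ _ (h.adj_smul g p q hq)).1

theorem adj_ne {p q : U} (hpq : adj p q) : p ≠ q := by
  rintro rfl
  have h1 := (h.adj_pt _ _ (h.adj_mul _ _ hpq)).2
  exact h.pt_ne _ h1 (h.sq p)

theorem mem_W_self {p : U} (hp : p ∈ pt) : p ∈ W p := by
  rw [h.W_eq p hp]
  exact subset_closure (Or.inl rfl)

theorem mem_W {p q : U} (hpq : adj p q) : q ∈ W p := by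
  rw [h.W_eq p (h.adj_pt _ _ hpq).1]
  exact subset_closure (Or.inr hpq)

/-- `W` is equivariant -/
theorem smul_W (g : X) {p : U} (hp : p ∈ pt) (hgp : g • p ∈ pt) {w : U} (hw : w ∈ W p) : g • w ∈ W (g • p) := by
  rw [h.W_eq p hp] at hw
  induction hw using closure_induction with
  | mem z hz =>
    rcases hz with hz | hz
    · rw [Set.mem_singleton_iff] at hz
      rw [hz]
      exact h.mem_W_self hgp
    · exact h.mem_W (h.adj_smul g p z hz)
  | one => rw [smul_one]; exact one_mem _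
  | mul x y _ _ hx hy => rw [smul_mul']; exact mul_mem hx hy
  | inv x _ hx => rw [smul_inv']; exact inv_mem hx

theorem smul_W' {g : X} {p : U} (hp : p ∈ pt) (hg : g • p = p) {w : U} (hw : w ∈ W p) : g • w ∈ W p := by
  have h1 := h.smul_W g hp (by rwa [hg]) hw
  rwa [hg] at h1

/-- stabilisers normalise `A p` -/
theorem conj_A {g : X} {p : U} (hp : p ∈ pt) (hg : g • p = p) {a : X} (ha : a ∈ A p) : g * a * g⁻¹ ∈ A p := by
  have h1 := h.A_smul g p hp
  rw [hg] at h1
  rw [h1, mem_cj]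
  have : g⁻¹ * (g * a * g⁻¹) * g = a := by group
  rwa [this]

theorem conj_A' (g : X) {p : U} (hp : p ∈ pt) {a : X} (ha : a ∈ A p) : g * a * g⁻¹ ∈ A (g • p) := by
  rw [h.A_smul g p hp, mem_cj]
  have : g⁻¹ * (g * a * g⁻¹) * g = a := by group
  rwa [this]

/-- `R(p) = [U, A_p]` is equivariant -/
theorem smul_R (g : X) {p : U} (hp : p ∈ pt) {z : U} (hz : z ∈ br (U := U) (A p)) :
    g • z ∈ br (U := U) (A (g • p)) := by
  rw [h.A_smul g p hp]
  exact smul_br g hz

theorem smul_R' {g : X} {p : U} (hp : p ∈ pt) (hg : g • p = p) {z : U} (hz : z ∈ br (U := U) (A p)) :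
    g • z ∈ br (U := U) (A p) := by
  have h1 := h.smul_R g hp hz
  rwa [hg] at h1

theorem A_stab {p : U} (hp : p ∈ pt) {a : X} (ha : a ∈ A p) : a • p = p :=
  h.A_W p hp a ha p (h.mem_W_self hp)

/-- `A_p` centralises `R(p)` -/
theorem A_R {p : U} (hp : p ∈ pt) {b : X} (hb : b ∈ A p) {z : U} (hz : z ∈ br (U := U) (A p)) : b • z = z := by
  have h1 : br (U := U) (A p) ≤ cv U ({b} : Set X) :=
    br_le fun a ha u => mem_cv_singleton.2 (h.A_quad p hp a ha b hb u)
  exact mem_cv_singleton.1 (h1 hz)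

theorem br_ne [Finite U] {p : U} (hp : p ∈ pt) : ∃ z ∈ br (U := U) (A p), z ≠ 1 := by
  obtain ⟨a, ha1⟩ := Subgroup.ne_bot_iff_exists_ne_one.1 (h.A_ne p hp)
  by_contra hcon
  push Not at hcon
  apply ha1
  apply Subtype.ext
  refine h.faith _ fun u => ?_
  have h1 := hcon _ (mem_br a.2 u)
  rwa [mul_inv_eq_one] at h1

omit h in
/-- counting: `B` acts on `W` with commutators in `{1, p}` -/
theorem pairing [Finite X] [Finite U] (sq : ∀ u : U, u * u = 1) {Y : Subgroup U} {p : U} :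
    ∀ (n : ℕ) (B K : Subgroup X), Nat.card B = n → (∀ b ∈ B, b * b = 1) →
      (∀ b ∈ B, ∀ w ∈ Y, b • w = w ∨ b • w = w * p) → (∀ b ∈ B, b • p = p) → K ≤ B →
      (∀ b ∈ B, b ∈ K ↔ ∀ w ∈ Y, b • w = w) → ∀ C : Subgroup U, (∀ w, w ∈ C ↔ w ∈ Y ∧ ∀ b ∈ B, b • w = w) →
      Nat.card B * Nat.card C ≤ Nat.card K * Nat.card Y := by
  intro n
  induction n using Nat.strong_induction_on with
  | _ n ih =>
    intro B K hn hB hBW hBp hKB hK C hC
    by_cases hall : ∀ b ∈ B, ∀ w ∈ Y, b • w = w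
    · have h1 : K = B := le_antisymm hKB fun b hb => (hK b hb).2 (hall b hb)
      have h2 : C ≤ Y := fun w hw => ((hC w).1 hw).1
      rw [h1]
      exact Nat.mul_le_mul_left _ (card_le_of_le h2)
    push Not at hall
    obtain ⟨b₀, hb₀, w₀, hw₀, hne⟩ := hall
    have hb₀w : b₀ • w₀ = w₀ * p := (hBW b₀ hb₀ w₀ hw₀).resolve_left hne
    let B' : Subgroup X := B ⊓ MulAction.stabilizer X w₀
    have hlt : B' < B := by
      refine lt_of_le_of_ne inf_le_left fun h1 => hne ?_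
      rw [← h1] at hb₀
      exact MulAction.mem_stabilizer_iff.1 hb₀.2
    let C' : Subgroup U := Y ⊓ cv U (B' : Set X)
    have hcard : Nat.card B' < n := by
      rw [← hn]
      exact Set.ncard_lt_ncard (s := (B' : Set X)) (t := (B : Set X)) (SetLike.coe_ssubset_coe.2 hlt) (Set.toFinite _)
    have key := ih (Nat.card B') hcard B' K rfl (fun b hb => hB b hb.1) (fun b hb => hBW b hb.1)
      (fun b hb => hBp b hb.1) (fun b hb => ⟨hKB hb, MulAction.mem_stabilizer_iff.2 ((hK b (hKB hb)).1 hb w₀ hw₀)⟩)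
      (fun b hb => hK b hb.1) C' (fun w => Iff.rfl)
    -- `|B| ≤ 2 |B'|`
    have h2 : Nat.card B ≤ 2 * Nat.card B' := by
      have hx : ∀ b ∈ B, b ∈ B' ∨ b₀ * b ∈ B' := by
        intro b hb
        rcases hBW b hb w₀ hw₀ with h1 | h1
        · exact Or.inl ⟨hb, MulAction.mem_stabilizer_iff.2 h1⟩
        · right
          refine ⟨mul_mem hb₀ hb, MulAction.mem_stabilizer_iff.2 ?_⟩
          rw [mul_smul, h1, smul_mul', hb₀w, hBp b₀ hb₀, mul_assoc, sq, mul_one]
      have h3 : (B : Set X) ⊆ (B' : Set X) ∪ (fun x => b₀⁻¹ * x) '' (B' : Set X) := by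
        intro b hb
        rcases hx b hb with h1 | h1
        · exact Or.inl h1
        · exact Or.inr ⟨_, h1, by simp⟩
      have h4 := Set.ncard_le_ncard h3 (Set.toFinite _)
      have h5 := Set.ncard_union_le (B' : Set X) ((fun x => b₀⁻¹ * x) '' (B' : Set X))
      have h6 : ((fun x => b₀⁻¹ * x) '' (B' : Set X)).ncard ≤ (B' : Set X).ncard := Set.ncard_image_le (Set.toFinite _)
      have h7 : Nat.card B = (B : Set X).ncard := rfl
      have h8 : Nat.card B' = (B' : Set X).ncard := rfl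
      omega
    -- `2 |C| ≤ |C'|`
    have h3 : 2 * Nat.card C ≤ Nat.card C' := by
      have hle : C ≤ C' := fun w hw => ⟨((hC w).1 hw).1, fun b hb => ((hC w).1 hw).2 b hb.1⟩
      have hne' : C ≠ C' := by
        intro h1
        have h4 : w₀ ∈ C' := ⟨hw₀, fun b hb => MulAction.mem_stabilizer_iff.1 hb.2⟩
        rw [← h1] at h4
        exact hne (((hC w₀).1 h4).2 b₀ hb₀)
      have h4 : Nat.card C ∣ Nat.card C' := card_dvd_of_le hle
      obtain ⟨k, hk⟩ := h4
      have h5 : k ≠ 1 := by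
        rintro rfl
        rw [mul_one] at hk
        exact hne' (eq_of_le_of_card_ge hle hk.le)
      have h6 : 0 < Nat.card C' := Nat.card_pos
      have h7 : k ≠ 0 := by
        rintro rfl
        rw [mul_zero] at hk
        omega
      rw [hk, mul_comm]
      exact Nat.mul_le_mul_left _ (by omega)
    calc Nat.card B * Nat.card C ≤ 2 * Nat.card B' * Nat.card C := Nat.mul_le_mul_right _ h2
      _ = Nat.card B' * (2 * Nat.card C) := by ring
      _ ≤ Nat.card B' * Nat.card C' := Nat.mul_le_mul_left _ h3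
      _ ≤ _ := key

omit h in
open scoped Pointwise in
/-- **equality for atoms** -/
theorem atom_eq [Finite X] [Finite U] {B K : Subgroup X} (hB : Atom U B) (hKB : K ≤ B) {Y C : Subgroup U}
    (hK : ∀ b ∈ K, ∀ w ∈ Y, b • w = w) (hne : K ≠ B) (hC : ∀ w, w ∈ C ↔ w ∈ Y ∧ ∀ b ∈ B, b • w = w)
    (hno : Nat.card K * Nat.card (cv U (K : Set X)) ≤ Nat.card U)
    (hle : Nat.card B * Nat.card C ≤ Nat.card K * Nat.card Y) : Y ⊔ cv U (B : Set X) = ⊤ := by
  have hex : Nat.card B * Nat.card (cv U (B : Set X)) = Nat.card U := hB.ex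
  have hYK : Y ≤ cv U (K : Set X) := fun w hw b hb => hK b hb w hw
  have hCe : C = Y ⊓ cv U (B : Set X) := by
    ext w
    rw [hC]
    rfl
  have h1 := card_mul_le Y (cv U (B : Set X)) (cv U (K : Set X)) hYK (cv_anti (SetLike.coe_subset_coe.2 hKB))
  rw [← hCe] at h1
  have hBp : 0 < Nat.card B := Nat.card_pos
  have hCp : 0 < Nat.card C := Nat.card_pos
  have hYp : 0 < Nat.card Y := Nat.card_pos
  have hUp : 0 < Nat.card U := Nat.card_pos
  -- `f(K) = |U|`
  have h2 : Nat.card U ≤ Nat.card K * Nat.card (cv U (K : Set X)) := by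
    have h3 : (Nat.card Y * Nat.card C) * Nat.card U ≤
        (Nat.card Y * Nat.card C) * (Nat.card K * Nat.card (cv U (K : Set X))) := by
      calc (Nat.card Y * Nat.card C) * Nat.card U
          = (Nat.card B * Nat.card C) * (Nat.card Y * Nat.card (cv U (B : Set X))) := by rw [← hex]; ring
        _ ≤ (Nat.card K * Nat.card Y) * (Nat.card C * Nat.card (cv U (K : Set X))) := Nat.mul_le_mul hle h1
        _ = _ := by ring
    exact Nat.le_of_mul_le_mul_left h3 (Nat.mul_pos hYp hCp)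
  have hK1 : K = ⊥ := hB.min K (lt_of_le_of_ne hKB hne) (le_antisymm hno h2)
  rw [hK1, card_bot, one_mul] at hle
  have h3 := Cfsg.Agent.Lib.ProductSet.card_mul_card_inf Y (cv U (B : Set X))
  rw [← hCe] at h3
  have h4 : ((Y : Set U) * (cv U (B : Set X) : Set U)) ⊆ ((Y ⊔ cv U (B : Set X) : Subgroup U) : Set U) := by
    rintro _ ⟨x, hx, y, hy, rfl⟩
    exact mul_mem (mem_sup_left hx) (mem_sup_right hy)
  have h5 : Nat.card ((Y : Set U) * (cv U (B : Set X) : Set U) : Set U) ≤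
      Nat.card (Y ⊔ cv U (B : Set X) : Subgroup U) := Nat.card_mono (Set.toFinite _) h4
  have h6 : Nat.card U ≤ Nat.card (Y ⊔ cv U (B : Set X) : Subgroup U) := by
    have h7 : Nat.card C * Nat.card U ≤ Nat.card C * Nat.card (Y ⊔ cv U (B : Set X) : Subgroup U) := by
      calc Nat.card C * Nat.card U = (Nat.card B * Nat.card C) * Nat.card (cv U (B : Set X)) := by rw [← hex]; ring
        _ ≤ Nat.card Y * Nat.card (cv U (B : Set X)) := Nat.mul_le_mul_right _ hle
        _ = Nat.card C * Nat.card ((Y : Set U) * (cv U (B : Set X) : Set U) : Set U) := by rw [← h3, mul_comm]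
        _ ≤ _ := Nat.mul_le_mul_left _ h5
    exact Nat.le_of_mul_le_mul_left h7 hCp
  exact Subgroup.eq_top_of_card_eq _ (le_antisymm (card_le_card_group _) h6)

/-- consequence: `[U, B] ≤ [Y, B]` for `U = Y C_U(B)` -/
theorem comm_le {B : Subgroup X} {Y : Subgroup U} (htop : Y ⊔ cv U (B : Set X) = ⊤)
    {b : X} (hb : b ∈ B) (u : U) : ∃ y ∈ Y, b • u * u⁻¹ = b • y * y⁻¹ := by
  have hu : u ∈ Y ⊔ cv U (B : Set X) := by rw [htop]; exact mem_top u
  have hnor : Y.Normal := ⟨fun n hn g => by rw [h.comm g n, mul_inv_cancel_right]; exact hn⟩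
  obtain ⟨y, hy, c, hc, rfl⟩ := mem_sup_of_normal_left.1 hu
  refine ⟨y, hy, ?_⟩
  rw [smul_mul', hc b hb, mul_inv_rev, ← mul_assoc, mul_inv_cancel_right]

/-- a 2-group `N ≤ O₂(C_v)` which centralises `W(p)`, `v ∈ W(p)`, is in `O₂(C_p)` -/
theorem le_o2_of [Finite X] {p v : U} (hp : p ∈ pt) (hv : v ∈ W p) {N : Subgroup X}
    (hN : N ≤ o2 (MulAction.stabilizer X v)) (hNW : ∀ n ∈ N, ∀ w ∈ W p, n • w = w) :
    N ≤ o2 (MulAction.stabilizer X p) := by
  let Cw : Subgroup X :=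
    { carrier := {x | ∀ w ∈ W p, x • w = w}
      one_mem' := fun w _ => one_smul X w
      mul_mem' := fun {x y} hx hy w hw => by rw [mul_smul, hy w hw, hx w hw]
      inv_mem' := fun {x} hx w hw => by rw [inv_smul_eq_iff, hx w hw] }
  have h0 : Cw ≤ MulAction.stabilizer X v := fun x hx => MulAction.mem_stabilizer_iff.2 (hx v hv)
  have h1 : N ≤ o2 (MulAction.stabilizer X v) ⊓ Cw := fun n hn => ⟨hN hn, fun w hw => hNW n hn w hw⟩
  have h3 : o2 (MulAction.stabilizer X v) ⊓ Cw ≤ o2 Cw := by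
    refine le_o2 inf_le_right ((o2_isPGroup _).to_le inf_le_left) ?_
    intro x hx
    have h2 := le_normalizer_o2 (MulAction.stabilizer X v) (h0 hx)
    rw [mem_normalizer_iff] at h2 ⊢
    intro y
    rw [mem_inf, mem_inf, ← h2 y]
    refine and_congr_right fun _ => ⟨fun hy => mul_mem (mul_mem hx hy) (inv_mem hx), fun hy => ?_⟩
    have : y = x⁻¹ * (x * y * x⁻¹) * x := by group
    rw [this]
    exact mul_mem (mul_mem (inv_mem hx) hy) hx
  have h4 : Cw ≤ MulAction.stabilizer X p := fun x hx => MulAction.mem_stabilizer_iff.2 (hx p (h.mem_W_self hp))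
  have h5 : MulAction.stabilizer X p ≤ normalizer (Cw : Set X) := by
    intro x hx
    rw [MulAction.mem_stabilizer_iff] at hx
    apply mem_normalizer_of_cj_le
    intro y hy w hw
    rw [mem_cj] at hy
    have hx' : x⁻¹ • p = p := by rw [inv_smul_eq_iff, hx]
    have h6 := hy (x⁻¹ • w) (h.smul_W' hp hx' hw)
    rw [← mul_smul] at h6
    have h8 : x⁻¹ * y * x * x⁻¹ = x⁻¹ * y := by group
    rw [h8, mul_smul, smul_left_cancel_iff] at h6
    exact h6
  refine h1.trans (h3.trans (le_o2 ((o2_le _).trans h4) (o2_isPGroup _) ?_))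
  intro x hx
  rw [mem_normalizer_iff_cj]
  have h6 := h5 hx
  rw [mem_normalizer_iff_cj] at h6
  have h7 : cj x (o2 Cw) ≤ o2 (cj x Cw) := by
    refine le_o2 (cj_mono x (o2_le _)) ((o2_isPGroup _).map _) ?_
    rw [← cj_normalizer]
    exact cj_mono x (le_normalizer_o2 _)
  rw [h6] at h7
  exact eq_of_le_of_card_ge h7 (card_cj x _).ge

/-! ### `A_p` centralises `W(q)` for collinear `p`, `q` -/

variable (hS : ∀ p ∈ pt, p ∈ br (U := U) (A p))
  (hI : ∀ p q, adj p q → ∀ u ∈ br (U := U) (A p), u ∈ br (U := U) (A q) → u = 1)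
  (hJ : ∀ p w w', adj w p → adj w' p → A w = A w' → w = w')
  (hC : ∀ p q, adj p q → ∀ a ∈ A p, ∀ w ∈ W q, a • w = w)
include hI

theorem A_inf {p q : U} (hpq : adj p q) {a : X} (ha : a ∈ A p) (ha' : a ∈ A q) : a = 1 := by
  refine h.faith a fun u => ?_
  have h1 := hI p q hpq _ (mem_br ha u) (mem_br ha' u)
  rwa [mul_inv_eq_one] at h1

/-- `A_p` centralises `R(q)` -/
theorem A_R' {p q : U} (hpq : adj p q) {a : X} (ha : a ∈ A p) {z : U} (hz : z ∈ br (U := U) (A q)) :
    a • z = z := by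
  obtain ⟨hp, hq⟩ := h.adj_pt _ _ hpq
  have haq : a • q = q := h.A_W p hp a ha q (h.mem_W hpq)
  have h1 : a • z * z⁻¹ ∈ br (U := U) (A q) := mul_mem (h.smul_R' hq haq hz) (inv_mem hz)
  have h2 := hI p q hpq _ (mem_br ha z) h1
  rwa [mul_inv_eq_one] at h2

include hS hC

/-- **(2)** no element of any `A_x` fixes `p` and maps `w` to `w p` (`w` collinear with `p`) -/
theorem two [Finite X] [Finite U] {x p w : U} (hx : x ∈ pt) (hwp : adj w p) {a : X} (ha : a ∈ A x) (hap : a • p = p)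
    (haw : a • w = w * p) : False := by
  obtain ⟨hw, hp⟩ := h.adj_pt _ _ hwp
  have hww' : adj w (w * p) := h.adj_mul _ _ hwp
  have hw' : w * p ∈ pt := (h.adj_pt _ _ hww').2
  have hw'p : adj (w * p) p := by
    have h1 := h.adj_smul a w p hwp
    rwa [haw, hap] at h1
  -- `a r ∈ R(w p)` for `r ∈ R(w)`
  have hR : ∀ r ∈ br (U := U) (A w), a • r ∈ br (U := U) (A (w * p)) := by
    intro r hr
    have h1 := h.smul_R a hw hr
    rwa [haw] at h1
  -- the map `r ↦ [r, a]`
  let φ : br (U := U) (A w) → br (U := U) (A x) := fun r => ⟨a • (r : U) * (r : U)⁻¹, mem_br ha _⟩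
  have hφ : Function.Injective φ := by
    intro r s hrs
    have h1 : a • (r : U) * (r : U)⁻¹ = a • (s : U) * (s : U)⁻¹ := congrArg Subtype.val hrs
    have h2 : a • ((r : U) * (s : U)⁻¹) = (r : U) * (s : U)⁻¹ := by
      rw [smul_mul', smul_inv']
      rw [mul_inv_eq_iff_eq_mul] at h1
      rw [h1, h.comm (a • (s : U) * (s : U)⁻¹) r, mul_assoc, h.comm (a • (s : U)) (s : U)⁻¹, mul_assoc,
        mul_inv_cancel, mul_one]
    have h3 : (r : U) * (s : U)⁻¹ ∈ br (U := U) (A w) := mul_mem r.2 (inv_mem s.2)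
    have h4 := hI _ _ hww' _ h3 (by
      have h5 := hR _ h3
      rwa [h2] at h5)
    exact Subtype.ext (mul_inv_eq_one.1 h4)
  -- equal orders
  obtain ⟨g, hg⟩ := h.trans w hw x hx
  have hcardR : Nat.card (br (U := U) (A x)) = Nat.card (br (U := U) (A w)) := by
    have hA : A x = cj g (A w) := by rw [← hg]; exact h.A_smul g w hw
    rw [hA]
    refine Nat.card_congr ⟨fun z => ⟨g⁻¹ • (z : U), ?_⟩, fun z => ⟨g • (z : U), smul_br g z.2⟩, ?_, ?_⟩
    · have h1 := smul_br g⁻¹ z.2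
      rwa [cj_inv_cj] at h1
    · intro z; exact Subtype.ext (smul_inv_smul _ _)
    · intro z; exact Subtype.ext (inv_smul_smul _ _)
  have hφs : Function.Surjective φ := by
    have : Function.Bijective φ := (Nat.bijective_iff_injective_and_card φ).2 ⟨hφ, hcardR.symm⟩
    exact this.2
  obtain ⟨r, hr⟩ := hφs ⟨x, hS x hx⟩
  have hxr : a • (r : U) * (r : U)⁻¹ = x := congrArg Subtype.val hr
  -- `A_w` fixes `x`
  have hfix : ∀ b ∈ A w, b • x = x := by
    intro b hb
    rw [← hxr, smul_mul', smul_inv', h.A_R' hI hww' hb (hR _ r.2), h.A_R hw hb r.2]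
  -- `ψ b = b (b⁻¹)^a`
  have hψm : ∀ b ∈ A w, b * (a * b⁻¹ * a⁻¹) ∈ A x := by
    intro b hb
    have h1 : b * a * b⁻¹ ∈ A x := h.conj_A hx (hfix b hb) ha
    have h2 : b * (a * b⁻¹ * a⁻¹) = (b * a * b⁻¹) * a⁻¹ := by group
    rw [h2]
    exact mul_mem h1 (inv_mem ha)
  have hcj : ∀ b ∈ A w, a * b * a⁻¹ ∈ A (w * p) := by
    intro b hb
    have h1 := h.conj_A' a hw hb
    rwa [haw] at h1
  let ψ : A w → A x := fun b => ⟨(b : X) * (a * (b : X)⁻¹ * a⁻¹), hψm b b.2⟩
  have hψ : Function.Injective ψ := by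
    intro b c hbc
    have h1 : (b : X) * (a * (b : X)⁻¹ * a⁻¹) = (c : X) * (a * (c : X)⁻¹ * a⁻¹) := congrArg Subtype.val hbc
    have h2 : (c : X)⁻¹ * b = a * ((c : X)⁻¹ * b) * a⁻¹ := by
      have h3 : (c : X)⁻¹ * ((b : X) * (a * (b : X)⁻¹ * a⁻¹)) * (a * b * a⁻¹) = (c : X)⁻¹ * b := by group
      rw [h1] at h3
      exact h3.symm.trans (by group)
    have h4 : (c : X)⁻¹ * b ∈ A w := mul_mem (inv_mem c.2) b.2
    have h5 := h.A_inf hI hww' h4 (by
      rw [h2]
      exact hcj _ h4)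
    exact Subtype.ext (inv_mul_eq_one.1 h5).symm
  have hcardA : Nat.card (A w) = Nat.card (A x) := by
    rw [← hg, h.A_smul g w hw, card_cj]
  have hψs : Function.Surjective ψ := ((Nat.bijective_iff_injective_and_card ψ).2 ⟨hψ, hcardA⟩).2
  obtain ⟨b, hb⟩ := hψs ⟨a, ha⟩
  have hab : (b : X) * (a * (b : X)⁻¹ * a⁻¹) = a := congrArg Subtype.val hb
  have h1 : a • w = w := by
    rw [← hab, mul_smul]
    have hwW : w ∈ W p := h.mem_W (h.adj_symm _ _ hwp)
    rw [hC (w * p) p hw'p _ (hcj _ (inv_mem b.2)) w hwW]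
    exact hC w p hwp _ b.2 w hwW
  rw [haw, mul_eq_left] at h1
  exact h.pt_ne p hp h1

include hJ
omit hS hI in
/-- **(3)** `g ∈ C_p`, `[U, g] ≤ W(p)` implies `[W(p), g] = 1` -/
theorem three [Finite X] [Finite U] {p : U} (hp : p ∈ pt) {g : X} (hgp : g • p = p)
    (hgW : ∀ u : U, g • u * u⁻¹ ∈ W p) {w : U} (hw : w ∈ W p) : g • w = w := by
  have key : ∀ w, adj p w → g • w = w := by
    intro w hpw
    have hwp := h.adj_symm _ _ hpw
    obtain ⟨hww, -⟩ := h.adj_pt _ _ hwp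
    have hgw : adj (g • w) p := by
      have h1 := h.adj_smul g w p hwp
      rwa [hgp] at h1
    have hgww := (h.adj_pt _ _ hgw).1
    let c : Subgroup U := cv U (A w : Set X)
    have hWc : W p ≤ c := fun v hv a ha => hC w p hwp a ha v hv
    have hgc : ∀ v, g • v ∈ c ↔ v ∈ c := by
      intro v
      have h1 : g • v = (g • v * v⁻¹) * v := by rw [inv_mul_cancel_right]
      rw [h1]
      exact mul_mem_cancel_left (hWc (hgW v))
    have hgc' : ∀ v ∈ c, g⁻¹ • v ∈ c := by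
      intro v hv
      rw [← hgc, smul_inv_smul]
      exact hv
    -- the group `Hom(U/c, c)`
    let H : Subgroup X :=
      { carrier := {x | (∀ v ∈ c, x • v = v) ∧ ∀ u : U, x • u * u⁻¹ ∈ c}
        one_mem' := ⟨fun v _ => one_smul X v, fun u => by rw [one_smul, mul_inv_cancel]; exact one_mem _⟩
        mul_mem' := fun {x y} hx hy => ⟨fun v hv => by rw [mul_smul, hy.1 v hv, hx.1 v hv], fun u => by
          have h1 : (x * y) • u * u⁻¹ = (x • (y • u) * (y • u)⁻¹) * (y • u * u⁻¹) := by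
            rw [mul_smul, mul_assoc, inv_mul_cancel_left]
          rw [h1]
          exact mul_mem (hx.2 _) (hy.2 u)⟩
        inv_mem' := fun {x} hx => ⟨fun v hv => by rw [inv_smul_eq_iff, hx.1 v hv], fun u => by
          have h1 := hx.2 (x⁻¹ • u)
          rw [smul_inv_smul] at h1
          have h2 : x⁻¹ • u * u⁻¹ = (u * (x⁻¹ • u)⁻¹)⁻¹ := by rw [mul_inv_rev, inv_inv]
          rw [h2]
          exact inv_mem h1⟩ }
    have hHsq : ∀ x ∈ H, x * x = 1 := by
      intro x hx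
      refine h.faith _ fun u => ?_
      have h1 : x • u = (x • u * u⁻¹) * u := by rw [inv_mul_cancel_right]
      rw [mul_smul, h1, smul_mul', hx.1 _ (hx.2 u)]
      nth_rewrite 2 [h1]
      rw [← mul_assoc, h.sq, one_mul]
    have hA1 : A w ≤ H := by
      intro a ha
      exact ⟨fun v hv => hv a ha, fun u b hb => h.A_quad w hww a ha b hb u⟩
    have hA2 : cj g (A w) ≤ H := by
      intro x hx
      rw [mem_cj] at hx
      obtain ⟨h1, h2⟩ := hA1 hx
      have h3 : ∀ v : U, x • v = g • ((g⁻¹ * x * g) • (g⁻¹ • v)) := by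
        intro v
        rw [smul_smul, smul_smul]
        congr 1
        group
      refine ⟨fun v hv => ?_, fun u => ?_⟩
      · rw [h3, h1 _ (hgc' v hv), smul_inv_smul]
      · have h4 : x • u * u⁻¹ = g • ((g⁻¹ * x * g) • (g⁻¹ • u) * (g⁻¹ • u)⁻¹) := by
          rw [smul_mul', ← h3, smul_inv', smul_inv_smul]
        rw [h4, hgc]
        exact h2 _
    let E : Subgroup X := A w ⊔ cj g (A w)
    have hEH : E ≤ H := sup_le hA1 hA2
    have hEQ : E ≤ o2 (MulAction.stabilizer X p) := by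
      have hq : ∀ v, adj v p → A v ≤ o2 (MulAction.stabilizer X p) := by
        intro v hvp
        exact h.le_o2_of hp (h.mem_W (h.adj_symm _ _ hvp)) (h.A_le v (h.adj_pt _ _ hvp).1) fun a ha w hw => hC v p hvp a ha w hw
      refine sup_le (hq w hwp) ?_
      rw [← h.A_smul g w hww]
      exact hq _ hgw
    have hcvE : c ≤ cv U (E : Set X) := fun v hv x hx => (hEH hx).1 v hv
    have h1 := h.no1 p hp E hEQ (fun x hx => hHsq x (hEH hx))
    have h2 : Nat.card (A w) * Nat.card c = Nat.card U := h.A_ex w hww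
    have h3 : Nat.card E ≤ Nat.card (A w) := by
      have h4 : Nat.card E * Nat.card c ≤ Nat.card (A w) * Nat.card c := by
        rw [h2]
        exact (Nat.mul_le_mul_left _ (card_le_of_le hcvE)).trans h1
      exact Nat.le_of_mul_le_mul_right h4 Nat.card_pos
    have h4 : A w = E := eq_of_le_of_card_ge le_sup_left h3
    have h5 : cj g (A w) ≤ A w := by
      rw [h4]
      exact le_sup_right.trans_eq' (by rw [← h4])
    have h6 : A (g • w) = A w := by
      rw [h.A_smul g w hww]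
      exact eq_of_le_of_card_ge h5 (card_cj g _).ge
    exact hJ p _ _ hgw hwp h6
  rw [h.W_eq p hp] at hw
  induction hw using closure_induction with
  | mem z hz =>
    rcases hz with hz | hz
    · rw [Set.mem_singleton_iff] at hz
      rw [hz]
      exact hgp
    · exact key z hz
  | one => exact smul_one g
  | mul x y _ _ hx hy => rw [smul_mul', hx, hy]
  | inv x _ hx => rw [smul_inv', hx]

/-! ### (4) the induction on the distance -/

/-- **(4)** `A_x ≤ O₂(C_q)` fixes `p`, collinear with `q`: then `A_x` centralises `W(p)` -/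
theorem four [Finite X] [Finite U] {x p q : U} (hx : x ∈ pt) (hpq : adj p q)
    (hAq : A x ≤ o2 (MulAction.stabilizer X q)) (hAp : ∀ a ∈ A x, a • p = p) :
    ∀ a ∈ A x, ∀ w ∈ W p, a • w = w := by
  obtain ⟨hp, hq⟩ := h.adj_pt _ _ hpq
  intro a ha w hw
  refine h.atm x hx w ?_ a ha
  intro B hBA hB
  by_contra hcon
  push Not at hcon
  obtain ⟨b₀, hb₀, hne⟩ := hcon
  let K : Subgroup X :=
    { carrier := {b | b ∈ B ∧ ∀ w ∈ W p, b • w = w}
      one_mem' := ⟨one_mem _, fun w _ => one_smul X w⟩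
      mul_mem' := fun {a b} ha hb => ⟨mul_mem ha.1 hb.1, fun w hw => by rw [mul_smul, hb.2 w hw, ha.2 w hw]⟩
      inv_mem' := fun {a} ha => ⟨inv_mem ha.1, fun w hw => by rw [inv_smul_eq_iff, ha.2 w hw]⟩ }
  have hKB : K ≤ B := fun b hb => hb.1
  let C : Subgroup U := W p ⊓ cv U (B : Set X)
  have hBsq : ∀ b ∈ B, b * b = 1 := fun b hb => h.A_sq x hx b (hBA hb)
  have hle : Nat.card B * Nat.card C ≤ Nat.card K * Nat.card (W p) := by
    refine h.no2 p q hpq B (hBA.trans hAq) (fun b hb => MulAction.mem_stabilizer_iff.2 (hAp b (hBA hb))) hBsq K hKB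
      ?_ C inf_le_left fun w hw b hb => hw.2 b hb
    intro b hb hbw
    refine ⟨hb, ?_⟩
    have key : ∀ v, adj p v → b • v = v := by
      intro v hv
      rcases hbw v (h.mem_W hv) with h1 | h1
      · exact h1
      · exact (h.two hS hI hC hx (h.adj_symm _ _ hv) (hBA hb) (hAp b (hBA hb)) h1).elim
    intro v hv
    rw [h.W_eq p hp] at hv
    induction hv using closure_induction with
    | mem z hz =>
      rcases hz with hz | hz
      · rw [Set.mem_singleton_iff] at hz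
        rw [hz]
        exact hAp b (hBA hb)
      · exact key z hz
    | one => exact smul_one b
    | mul x y _ _ hx hy => rw [smul_mul', hx, hy]
    | inv x _ hx => rw [smul_inv', hx]
  have htop := atom_eq (U := U) hB hKB (Y := W p) (C := C) (fun b hb => hb.2) (by
      intro h1
      rw [← h1] at hb₀
      exact hne (hb₀.2 w hw)) (fun w => Iff.rfl)
    (h.no1 x hx K ((hKB.trans hBA).trans (h.A_le x hx)) fun b hb => hBsq b (hKB hb)) hle
  refine hne (h.three hJ hC hp (hAp b₀ (hBA hb₀)) (fun u => ?_) hw)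
  obtain ⟨y, hy, he⟩ := h.comm_le htop hb₀ u
  rw [he]
  exact mul_mem (h.smul_W' hp (hAp b₀ (hBA hb₀)) hy) (inv_mem hy)

theorem false_of [Finite X] [Finite U] : False := by
  obtain ⟨x, hx⟩ := h.pt_nonempty
  let Δ : Set U := {u | u ∈ pt ∧ A x ≤ o2 (MulAction.stabilizer X u) ∧ ∀ a ∈ A x, ∀ w ∈ W u, a • w = w}
  have h1 : pt ⊆ Δ := by
    refine h.conn Δ (fun u hu => hu.1) ⟨x, hx, h.A_le x hx, h.A_W x hx⟩ ?_
    rintro v ⟨hv, hv1, hv2⟩ u hvu
    obtain ⟨-, hu⟩ := h.adj_pt _ _ hvu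
    have huv := h.adj_symm _ _ hvu
    have h2 : ∀ a ∈ A x, a • u = u := fun a ha => hv2 a ha u (h.mem_W hvu)
    have h3 := h.four hS hI hJ hC hx huv hv1 h2
    exact ⟨hu, h.le_o2_of hu (h.mem_W huv) hv1 h3, h3⟩
  refine h.A_ne x hx ((Subgroup.eq_bot_iff_forall _).2 fun a ha => h.faith a fun u => ?_)
  have h2 : closure pt ≤ cv U ({a} : Set X) := by
    rw [closure_le]
    intro p hp
    exact mem_cv_singleton.2 ((h1 hp).2.2 a ha p (h.mem_W_self hp))
  rw [h.span] at h2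
  exact mem_cv_singleton.1 (h2 (mem_top u))

end Core

namespace Sit

variable {pt : Set U} {adj : U → U → Prop} {W : U → Subgroup U} {A : U → Subgroup X} (h : Sit X pt adj W A)
include h

/-- `p ∈ R(p)` -/
theorem self_mem_R [Finite U] {p : U} (hp : p ∈ pt) : p ∈ br (U := U) (A p) := by
  obtain ⟨S, hS2, hSp, hfix⟩ := h.fixS p hp
  obtain ⟨z, hz, hz1⟩ := h.br_ne hp
  obtain ⟨m, hm, hm1, hmf⟩ := exists_fixed_mod hS2 h.sq (K := br (U := U) (A p)) (Y := ⊥)
    (fun g hg m hm => h.smul_R' hp (MulAction.mem_stabilizer_iff.1 (hSp hg)) hm)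
    (fun g _ m hm => by rw [mem_bot] at hm ⊢; rw [hm, smul_one])
    ⟨z, hz, fun h1 => hz1 (mem_bot.1 h1)⟩
  rcases hfix m (fun s hs => by
    have := hmf s hs
    rwa [mem_bot, mul_inv_eq_one] at this) with h1 | h1
  · exact absurd (mem_bot.2 h1) hm1
  · rw [h1] at hm
    exact hm

/-- **the waist lemma** (W) -/
theorem waist [Finite U] {p q : U} (hpq : adj p q) {b : Subgroup U} (hb : b ≤ W q)
    (hinv : ∀ g : X, g • p = p → g • q = q → ∀ u ∈ b, g • u ∈ b) (hq : q ∉ b) (hpq' : p * q ∉ b) :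
    ∀ u ∈ b, u = 1 ∨ u = p := by
  intro u₀ hu₀
  by_contra hcon
  push Not at hcon
  obtain ⟨S, hS2, hSp, hSq, hnorm, hfix⟩ := h.fixL p q hpq
  obtain ⟨hpp, hqp⟩ := h.adj_pt _ _ hpq
  have hSpp : ∀ s ∈ S, s • p = p := fun s hs => MulAction.mem_stabilizer_iff.1 (hSp hs)
  have hSqq : ∀ s ∈ S, s • q = q := fun s hs => MulAction.mem_stabilizer_iff.1 (hSq hs)
  -- `p ∈ b`
  have hpb : p ∈ b := by
    obtain ⟨m, hm, hm1, hmf⟩ := exists_fixed_mod hS2 h.sq (K := b) (Y := ⊥)
      (fun g hg m hm => hinv g (hSpp g hg) (hSqq g hg) m hm)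
      (fun g _ m hm => by rw [mem_bot] at hm ⊢; rw [hm, smul_one])
      ⟨u₀, hu₀, fun h1 => hcon.1 (mem_bot.1 h1)⟩
    rcases hfix m (fun s hs => by
      have := hmf s hs
      rwa [mem_bot, mul_inv_eq_one] at this) with h1 | h1 | h1 | h1
    · exact absurd (mem_bot.2 h1) hm1
    · rwa [← h1]
    · exact absurd (h1 ▸ hm) hq
    · exact absurd (h1 ▸ hm) hpq'
  -- a vector fixed modulo `p`
  have hzp : ∀ z : U, z ∈ zpowers p ↔ z = 1 ∨ z = p := by
    intro z
    constructor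
    · rw [mem_zpowers_iff]
      rintro ⟨k, rfl⟩
      have h2 : p ^ (2 : ℤ) = 1 := by
        have := h.sq p
        rwa [← pow_two, ← zpow_natCast] at this
      rcases Int.even_or_odd' k with ⟨m, hm | hm⟩
      · left; rw [hm, zpow_mul, h2, one_zpow]
      · right; rw [hm, zpow_add, zpow_mul, h2, one_zpow, one_mul, zpow_one]
    · rintro (rfl | rfl)
      · exact one_mem _
      · exact mem_zpowers _
  obtain ⟨u, hu, hu1, huf⟩ := exists_fixed_mod hS2 h.sq (K := b) (Y := zpowers p)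
    (fun g hg m hm => hinv g (hSpp g hg) (hSqq g hg) m hm)
    (fun g hg m hm => by
      rw [hzp] at hm ⊢
      rcases hm with rfl | rfl
      · left; rw [smul_one]
      · right; exact hSpp g hg)
    ⟨u₀, hu₀, fun h1 => by
      rcases (hzp _).1 h1 with h1 | h1
      · exact hcon.1 h1
      · exact hcon.2 h1⟩
  have hu2 : ∀ s ∈ S, s • u = u ∨ s • u = u * p := by
    intro s hs
    rcases (hzp _).1 (huf s hs) with h1 | h1
    · left; rwa [mul_inv_eq_one] at h1
    · right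
      rw [mul_inv_eq_iff_eq_mul] at h1
      rw [h1, h.comm]
  have hnf : ¬ ∀ s ∈ S, s • u = u := by
    intro hall
    rcases hfix u hall with h1 | h1 | h1 | h1
    · exact hu1 ((hzp _).2 (Or.inl h1))
    · exact hu1 ((hzp _).2 (Or.inr h1))
    · exact hq (h1 ▸ hu)
    · exact hpq' (h1 ▸ hu)
  push Not at hnf
  obtain ⟨s, hs, hsu⟩ := hnf
  have hsu' : s • u = u * p := (hu2 s hs).resolve_left hsu
  obtain ⟨τ, hτ, hτp⟩ := h.mv p q hpq
  have hτq : τ • q = q := MulAction.mem_stabilizer_iff.1 (o2_le _ hτ)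
  have hs' := hnorm τ hτ s hs
  have hτu := h.Wq q hqp τ hτ u (hb hu)
  -- `τ s τ⁻¹` on `τ u`
  have e1 : (τ * s * τ⁻¹) • (τ • u) = τ • u * (p * q) := by
    rw [← mul_smul]
    have : τ * s * τ⁻¹ * τ = τ * s := by group
    rw [this, mul_smul, hsu', smul_mul', hτp]
  -- but `τ u ∈ {u, u q}` and `τ s τ⁻¹ ∈ S`
  have e2 : (τ * s * τ⁻¹) • (τ • u) = τ • u ∨ (τ * s * τ⁻¹) • (τ • u) = τ • u * p := by
    rcases hτu with h1 | h1
    · rw [h1]; exact hu2 _ hs'
    · rw [h1, smul_mul', hSqq _ hs']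
      rcases hu2 _ hs' with h2 | h2
      · left; rw [h2]
      · right
        rw [h2, mul_assoc, mul_assoc, h.comm p q]
  rw [e1] at e2
  rcases e2 with h1 | h1
  · rw [mul_eq_left] at h1
    have h2 : p = q := by
      rw [← h.inv_eq q]
      exact eq_inv_of_mul_eq_one_left h1
    exact h.adj_ne hpq h2
  · rw [mul_right_inj, mul_eq_left] at h1
    exact h.pt_ne q hqp h1

/-! ### (J) -/

variable (hV : ∀ p q, adj p q → q ∉ br (U := U) (A p))
include hV

theorem mul_notMem [Finite U] {p q : U} (hpq : adj p q) : p * q ∉ br (U := U) (A p) := by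
  intro h1
  have h2 := h.self_mem_R (h.adj_pt _ _ hpq).1
  exact hV p q hpq ((mul_mem_cancel_left h2).1 h1)

/-- **(J)** `R(p) ∩ W(q) = ⟨p⟩` -/
theorem J [Finite U] {p q : U} (hpq : adj p q) {u : U} (hu : u ∈ br (U := U) (A p)) (hw : u ∈ W q) :
    u = 1 ∨ u = p := by
  obtain ⟨hp, hq⟩ := h.adj_pt _ _ hpq
  refine h.waist hpq (b := br (U := U) (A p) ⊓ W q) inf_le_right ?_ ?_ ?_ u ⟨hu, hw⟩
  · rintro g hg1 hg2 v ⟨hv1, hv2⟩
    exact ⟨h.smul_R' hp hg1 hv1, h.smul_W' hq hg2 hv2⟩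
  · exact fun h1 => hV p q hpq h1.1
  · exact fun h1 => h.mul_notMem hV hpq h1.1

/-- (I) `[W(q), A_p] ≤ ⟨p⟩` -/
theorem I [Finite U] {p q : U} (hpq : adj p q) {a : X} (ha : a ∈ A p) {w : U} (hw : w ∈ W q) :
    a • w = w ∨ a • w = w * p := by
  obtain ⟨hp, hq⟩ := h.adj_pt _ _ hpq
  have haq : a • q = q := h.A_W p hp a ha q (h.mem_W hpq)
  have h1 : a • w * w⁻¹ ∈ W q := mul_mem (h.smul_W' hq haq hw) (inv_mem hw)
  rcases h.J hV hpq (mem_br ha w) h1 with h2 | h2
  · left; rwa [mul_inv_eq_one] at h2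
  · right
    rw [mul_inv_eq_iff_eq_mul] at h2
    rw [h2, h.comm]

/-- (1) `R(p) ∩ R(q) = 1` -/
theorem R_inf [Finite U] {p q : U} (hpq : adj p q) {u : U} (hu : u ∈ br (U := U) (A p))
    (hu' : u ∈ br (U := U) (A q)) : u = 1 := by
  by_contra hu1
  obtain ⟨hp, hq⟩ := h.adj_pt _ _ hpq
  obtain ⟨S, hS2, hSp, hSq, -, hfix⟩ := h.fixL p q hpq
  obtain ⟨m, ⟨hm, hm'⟩, hm1, hmf⟩ := exists_fixed_mod hS2 h.sq (K := br (U := U) (A p) ⊓ br (U := U) (A q)) (Y := ⊥)
    (fun g hg m hm => ⟨h.smul_R' hp (MulAction.mem_stabilizer_iff.1 (hSp hg)) hm.1,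
      h.smul_R' hq (MulAction.mem_stabilizer_iff.1 (hSq hg)) hm.2⟩)
    (fun g _ m hm => by rw [mem_bot] at hm ⊢; rw [hm, smul_one])
    ⟨u, ⟨hu, hu'⟩, fun h1 => hu1 (mem_bot.1 h1)⟩
  rcases hfix m (fun s hs => by
    have := hmf s hs
    rwa [mem_bot, mul_inv_eq_one] at this) with h1 | h1 | h1 | h1
  · exact absurd (mem_bot.2 h1) hm1
  · exact hV q p (h.adj_symm _ _ hpq) (h1 ▸ hm')
  · exact hV p q hpq (h1 ▸ hm)
  · exact h.mul_notMem hV hpq (h1 ▸ hm)

/-- **(E1)** an atom moving `W(q)` consists of transvections -/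
theorem E1 [Finite X] [Finite U] {p q : U} (hpq : adj p q) {B : Subgroup X} (hB : Atom U B) (hBA : B ≤ A p)
    (hmv : ∃ b ∈ B, ∃ w ∈ W q, b • w ≠ w) : ∀ b ∈ B, ∀ u : U, b • u = u ∨ b • u = u * p := by
  obtain ⟨hp, hq⟩ := h.adj_pt _ _ hpq
  let K : Subgroup X :=
    { carrier := {b | b ∈ B ∧ ∀ w ∈ W q, b • w = w}
      one_mem' := ⟨one_mem _, fun w _ => one_smul X w⟩
      mul_mem' := fun {a b} ha hb => ⟨mul_mem ha.1 hb.1, fun w hw => by rw [mul_smul, hb.2 w hw, ha.2 w hw]⟩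
      inv_mem' := fun {a} ha => ⟨inv_mem ha.1, fun w hw => by rw [inv_smul_eq_iff, ha.2 w hw]⟩ }
  have hKB : K ≤ B := fun b hb => hb.1
  let C : Subgroup U := W q ⊓ cv U (B : Set X)
  have hBsq : ∀ b ∈ B, b * b = 1 := fun b hb => h.A_sq p hp b (hBA hb)
  have hle : Nat.card B * Nat.card C ≤ Nat.card K * Nat.card (W q) :=
    Core.pairing h.sq _ B K rfl hBsq (fun b hb w hw => h.I hV hpq (hBA hb) hw) (fun b hb => h.A_stab hp (hBA hb)) hKB
      (fun b hb => ⟨fun h1 => h1.2, fun h1 => ⟨hb, h1⟩⟩) C (fun w => Iff.rfl)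
  have htop := Core.atom_eq (U := U) hB hKB (Y := W q) (C := C) (fun b hb => hb.2) (by
      intro h1
      obtain ⟨b, hb, w, hw, hne⟩ := hmv
      rw [← h1] at hb
      exact hne (hb.2 w hw)) (fun w => Iff.rfl)
    (h.no1 p hp K ((hKB.trans hBA).trans (h.A_le p hp)) fun b hb => hBsq b (hKB hb)) hle
  intro b hb u
  obtain ⟨y, hy, he⟩ := h.comm_le htop hb u
  rcases h.I hV hpq (hBA hb) hy with h1 | h1
  · left
    rw [h1, mul_inv_cancel, mul_inv_eq_one] at he
    exact he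
  · right
    rw [h1, h.comm y p, mul_inv_cancel_right, mul_inv_eq_iff_eq_mul] at he
    rw [he, h.comm]

omit hV in
/-- **THEOREM WD** (families generated by atoms) -/
theorem main [Finite X] [Finite U] : (∃ p q, adj p q ∧ q ∈ br (U := U) (A p)) ∨
    ∃ p ∈ pt, ∃ B ≤ A p, Atom U B ∧ ∀ b ∈ B, ∀ u : U, b • u = u ∨ b • u = u * p := by
  by_contra hcon
  push Not at hcon
  obtain ⟨h1, h2⟩ := hcon
  have hV : ∀ p q, adj p q → q ∉ br (U := U) (A p) := h1
  refine h.toCore.false_of (fun p hp => h.self_mem_R hp) (fun p q hpq u hu hu' => h.R_inf hV hpq hu hu') ?_ ?_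
  · intro p w w' hw hw' he
    have hp := (h.adj_pt _ _ hw).2
    have h3 := h.self_mem_R (h.adj_pt _ _ hw').1
    rw [← he] at h3
    rcases h.J hV hw h3 (h.mem_W (h.adj_symm _ _ hw')) with h4 | h4
    · exact absurd h4 (h.pt_ne _ (h.adj_pt _ _ hw').1)
    · exact h4.symm
  intro p q hpq a ha w hw
  obtain ⟨hp, hq⟩ := h.adj_pt _ _ hpq
  refine h.atm p hp w ?_ a ha
  intro B hBA hB
  by_contra hcon
  push Not at hcon
  obtain ⟨b, hb, hne⟩ := hcon
  obtain ⟨b', hb', u, hu1, hu2⟩ := h2 p hp B hBA hB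
  rcases h.E1 hV hpq hB hBA ⟨b, hb, w, hw, hne⟩ b' hb' u with h3 | h3
  · exact hu1 h3
  · exact hu2 h3

end Sit

end Cfsg.Agent.Omega.TC.WD
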