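import Cfsg.Agent.Omega.TC.WD

/-!
# THEOREM WD from base data (CARD #18791 (h), #20661)

`Base X x V T A` : `X` acts faithfully on the elementary abelian 2-group `U = ⟨x^X⟩`, `T` a Sylow 2-subgroup of `X` with
`C_U(T) = ⟨x⟩`, `V` a `T`-invariant four-group containing `x`, `N_X(V)` transitive on `V#`, `X = ⟨C_x, N_X(V)⟩`,
`O₂(C_x)` moves `V`; `A ⊴ C_x`, `A ≤ O₂(C_x)` elementary abelian, quadratic, exact, centralising the lines on `x`;
`no1`, `no2` : (NO) for `X` on `U` and for `C_x` on `W(x)/x`.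

* `Base.main` : **`V ≤ [U, A]`, or an atom `B ≤ A` consists of transvections with centre `x`.**
-/

set_option autoImplicit false

namespace Cfsg.Agent.Omega.TC.WD

open Subgroup Cfsg Cfsg.Agent.ZN Cfsg.Agent.ClassTwoFusion.Quad
open Cfsg.Agent.Omega.NOThree.NoOver (card_mul_le fo fo_mul_le)
open Cfsg.Agent.ZN.ChoiceBase (cj mem_cj cj_mono cj_one cj_cj cj_inv_cj cj_cj_inv cj_le_iff card_cj
  mem_normalizer_iff_cj mem_normalizer_of_cj_le cj_normalizer)
open Cfsg.Agent.MinSimple.VModule (o2_isPGroup o2_le le_o2 le_normalizer_o2 o2_le_of_sylow)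

variable {X : Type*} [Group X] {U : Type*} [Group U] [MulDistribMulAction X U]

/-- collinearity -/
def adj (X : Type*) [Group X] {U : Type*} [Group U] [MulDistribMulAction X U] (x : U) (V : Subgroup U) (p q : U) :
    Prop := ∃ g : X, ∃ y ∈ V, y ≠ 1 ∧ y ≠ x ∧ g • x = p ∧ g • y = q

/-- the subgroup generated by the lines on `p` -/
def Wl (X : Type*) [Group X] {U : Type*} [Group U] [MulDistribMulAction X U] (x : U) (V : Subgroup U) (p : U) :
    Subgroup U := closure ({p} ∪ {q | adj X x V p q})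

/-- the stabiliser of `V` in `C_X(x)` -/
def stV (X : Type*) [Group X] {U : Type*} [Group U] [MulDistribMulAction X U] (x : U) (V : Subgroup U) :
    Subgroup X where
  carrier := {g | g • x = x ∧ ∀ v : U, g • v ∈ V ↔ v ∈ V}
  one_mem' := ⟨one_smul X x, fun v => by rw [one_smul]⟩
  mul_mem' := fun {a b} ha hb => ⟨by rw [mul_smul, hb.1, ha.1], fun v => by rw [mul_smul, ha.2, hb.2]⟩
  inv_mem' := fun {a} ha => ⟨by rw [inv_smul_eq_iff, ha.1], fun v => by rw [← ha.2, smul_inv_smul]⟩

/-- **base data** -/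
structure Base (X : Type*) [Group X] {U : Type*} [Group U] [MulDistribMulAction X U] (x : U) (V : Subgroup U)
    (T A : Subgroup X) : Prop where
  sq : ∀ u : U, u * u = 1
  faith : ∀ g : X, (∀ u : U, g • u = u) → g = 1
  ne : x ≠ 1
  mem : x ∈ V
  card : Nat.card V = 4
  two : IsPGroup 2 T
  syl : ¬ 2 ∣ T.index
  Tx : ∀ t ∈ T, t • x = x
  TV : ∀ t ∈ T, ∀ v ∈ V, t • v ∈ V
  fixT : ∀ u : U, (∀ t ∈ T, t • u = u) → u = 1 ∨ u = x
  trV : ∀ y ∈ V, y ≠ 1 → ∃ g : X, g • x = y ∧ ∀ v ∈ V, g • v ∈ V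
  gen : ∀ Y : Subgroup X, MulAction.stabilizer X x ≤ Y → (∀ g : X, (∀ v ∈ V, g • v ∈ V) → g ∈ Y) → Y = ⊤
  mvQ : ∃ τ ∈ o2 (MulAction.stabilizer X x), ∃ v ∈ V, τ • v ≠ v
  span : closure {u | ∃ g : X, g • x = u} = (⊤ : Subgroup U)
  A_le : A ≤ o2 (MulAction.stabilizer X x)
  A_nor : ∀ g : X, g • x = x → ∀ a ∈ A, g * a * g⁻¹ ∈ A
  A_sq : ∀ a ∈ A, a * a = 1
  A_ex : Ex U A
  A_quad : ∀ a ∈ A, ∀ b ∈ A, ∀ u : U, b • (a • u * u⁻¹) = a • u * u⁻¹
  A_V : ∀ a ∈ A, ∀ v ∈ V, a • v = v
  A_ne : A ≠ ⊥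
  no1 : ∀ B ≤ o2 (MulAction.stabilizer X x), (∀ b ∈ B, b * b = 1) →
    Nat.card B * Nat.card (cv U (B : Set X)) ≤ Nat.card U
  no2 : ∀ B ≤ o2 (stV X x V), (∀ b ∈ B, b * b = 1) → ∀ K ≤ B,
    (∀ b ∈ B, (∀ w ∈ Wl X x V x, b • w = w ∨ b • w = w * x) → b ∈ K) →
    ∀ C : Subgroup U, C ≤ Wl X x V x → (∀ w ∈ C, ∀ b ∈ B, b • w = w) →
    Nat.card B * Nat.card C ≤ Nat.card K * Nat.card (Wl X x V x)

/-! ### conjugation -/

theorem o2_stab (g : X) (p : U) [Finite X] :
    o2 (MulAction.stabilizer X (g • p)) = cj g (o2 (MulAction.stabilizer X p)) := by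
  have hst : ∀ (g : X) (p : U), MulAction.stabilizer X (g • p) = cj g (MulAction.stabilizer X p) := by
    intro g p
    ext y
    rw [mem_cj, MulAction.mem_stabilizer_iff, MulAction.mem_stabilizer_iff, mul_smul, mul_smul, inv_smul_eq_iff]
  have key : ∀ (g : X) (L : Subgroup X), cj g (o2 L) ≤ o2 (cj g L) := by
    intro g L
    refine le_o2 (cj_mono g (o2_le _)) ((o2_isPGroup _).map _) ?_
    rw [← cj_normalizer]
    exact cj_mono g (le_normalizer_o2 _)
  apply le_antisymm
  · rw [hst]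
    have h1 := key g⁻¹ (cj g (MulAction.stabilizer X p))
    rw [cj_inv_cj] at h1
    have h2 := cj_mono g h1
    rwa [cj_cj_inv] at h2
  · rw [hst]
    exact key g _

theorem cv_cj (g : X) (B : Subgroup X) (u : U) :
    g • u ∈ cv U ((cj g B : Subgroup X) : Set X) ↔ u ∈ cv U (B : Set X) := by
  constructor
  · intro h b hb
    have h1 : g * b * g⁻¹ ∈ cj g B := by
      rw [mem_cj]
      have : g⁻¹ * (g * b * g⁻¹) * g = b := by group
      rw [this]
      exact hb
    have h2 := h _ h1
    rw [mul_smul, mul_smul, inv_smul_smul, smul_left_cancel_iff] at h2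
    exact h2
  · intro h b hb
    have h1 := h _ (mem_cj.1 hb)
    rw [mul_smul, mul_smul, inv_smul_eq_iff] at h1
    exact h1

theorem card_cv_cj (g : X) (B : Subgroup X) :
    Nat.card (cv U ((cj g B : Subgroup X) : Set X)) = Nat.card (cv U (B : Set X)) := by
  refine Nat.card_congr ⟨fun z => ⟨g⁻¹ • (z : U), ?_⟩, fun z => ⟨g • (z : U), (cv_cj g B _).2 z.2⟩, ?_, ?_⟩
  · have h1 := z.2
    rw [← smul_inv_smul g (z : U), cv_cj] at h1
    exact h1
  · intro z; exact Subtype.ext (smul_inv_smul _ _)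
  · intro z; exact Subtype.ext (inv_smul_smul _ _)

theorem ex_cj (g : X) {B : Subgroup X} : Ex U (cj g B) ↔ Ex U B := by
  unfold Ex
  rw [card_cj, card_cv_cj]

theorem atom_cj (g : X) {B : Subgroup X} (hB : Atom U B) : Atom U (cj g B) where
  ne := by
    intro h1
    apply hB.ne
    have h2 := congrArg (cj g⁻¹) h1
    rw [cj_inv_cj] at h2
    rw [h2]
    exact Subgroup.map_bot _
  ex := (ex_cj g).2 hB.ex
  min := by
    intro C hC hex
    have h1 : cj g⁻¹ C < B := by
      refine lt_of_le_of_ne (by rw [cj_le_iff, inv_inv]; exact hC.le) fun h2 => ?_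
      have h3 := congrArg (cj g) h2
      rw [cj_cj_inv] at h3
      exact hC.ne h3
    have h2 := hB.min _ h1 ((ex_cj _).2 hex)
    have h3 := congrArg (cj g) h2
    rw [cj_cj_inv] at h3
    rw [h3]
    exact Subgroup.map_bot _

theorem cj_eq_self [Finite X] {g : X} {A : Subgroup X} (hA : ∀ a ∈ A, g * a * g⁻¹ ∈ A) : cj g A = A := by
  refine eq_of_le_of_card_ge ?_ (card_cj g A).ge
  intro y hy
  rw [mem_cj] at hy
  have h1 := hA _ hy
  have : g * (g⁻¹ * y * g) * g⁻¹ = y := by group
  rwa [this] at h1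

namespace Base

variable {x : U} {V : Subgroup U} {T A : Subgroup X} (h : Base X x V T A)
include h

theorem inv_eq (u : U) : u⁻¹ = u := (eq_inv_of_mul_eq_one_left (h.sq u)).symm

theorem comm (u v : U) : u * v = v * u := by
  have h2 : u * v = (u * v)⁻¹ := eq_inv_of_mul_eq_one_left (h.sq (u * v))
  rw [mul_inv_rev, h.inv_eq, h.inv_eq] at h2
  exact h2

theorem V_cases [Finite U] {y z : U} (hy : y ∈ V) (hy1 : y ≠ 1) (hyx : y ≠ x) (hz : z ∈ V) :
    z = 1 ∨ z = x ∨ z = y ∨ z = x * y := by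
  by_contra hcon
  push Not at hcon
  obtain ⟨h1, h2, h3, h4⟩ := hcon
  have hsub : ({1, x, y, x * y, z} : Set U) ⊆ (V : Set U) := by
    rintro u (rfl | rfl | rfl | rfl | rfl)
    · exact one_mem V
    · exact h.mem
    · exact hy
    · exact mul_mem h.mem hy
    · exact hz
  have h5 := Set.ncard_le_ncard hsub (Set.toFinite _)
  have hxy1 : x * y ≠ 1 := by
    intro h6
    apply hyx
    rw [← h.inv_eq x]
    exact eq_inv_of_mul_eq_one_right h6
  have hxyx : x * y ≠ x := fun h6 => hy1 (mul_eq_left.1 h6)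
  have hxyy : x * y ≠ y := fun h6 => h.ne (mul_eq_right.1 h6)
  have h6 : ({1, x, y, x * y, z} : Set U).ncard = 5 := by
    rw [Set.ncard_insert_of_notMem, Set.ncard_insert_of_notMem, Set.ncard_insert_of_notMem, Set.ncard_pair]
    · exact fun h7 => h4 h7.symm
    · rintro (h7 | h7)
      · exact hxyy h7.symm
      · exact h3 (Set.mem_singleton_iff.1 h7).symm
    · rintro (h7 | h7 | h7)
      · exact hyx h7.symm
      · exact hxyx h7.symm
      · exact h2 (Set.mem_singleton_iff.1 h7).symm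
    · rintro (h7 | h7 | h7 | h7)
      · exact h.ne h7.symm
      · exact hy1 h7.symm
      · exact hxy1 h7.symm
      · exact h1 (Set.mem_singleton_iff.1 h7).symm
  have h7 : (V : Set U).ncard = 4 := h.card
  omega

omit h in
theorem mem_smul_V [Finite U] {g : X} (hg : ∀ v ∈ V, g • v ∈ V) (v : U) : g • v ∈ V ↔ v ∈ V := by
  refine ⟨fun h1 => ?_, hg v⟩
  let f : V → V := fun v => ⟨g • (v : U), hg v v.2⟩
  have hf : Function.Injective f := by
    intro a b hab
    exact Subtype.ext (smul_left_cancel g (congrArg Subtype.val hab))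
  obtain ⟨w, hw⟩ := (Finite.injective_iff_surjective.1 hf) ⟨g • v, h1⟩
  have h2 : g • (w : U) = g • v := congrArg Subtype.val hw
  rw [← smul_left_cancel g h2]
  exact w.2

/-! ### collinearity -/

theorem adj_symm' {p q : U} [Finite U] (hpq : adj X x V p q) : adj X x V q p := by
  obtain ⟨g, y, hy, hy1, hyx, rfl, rfl⟩ := hpq
  obtain ⟨k, hk, hkV⟩ := h.trV y hy hy1
  refine ⟨g * k, k⁻¹ • x, ?_, ?_, ?_, ?_, ?_⟩
  · rw [← mem_smul_V hkV, smul_inv_smul]
    exact h.mem
  · intro h1
    rw [inv_smul_eq_iff, smul_one] at h1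
    exact h.ne h1
  · intro h1
    rw [inv_smul_eq_iff, hk] at h1
    exact hyx h1.symm
  · rw [mul_smul, hk]
  · rw [mul_smul, smul_inv_smul]

theorem adj_mul' {p q : U} (hpq : adj X x V p q) : adj X x V p (p * q) := by
  obtain ⟨g, y, hy, hy1, hyx, rfl, rfl⟩ := hpq
  refine ⟨g, x * y, mul_mem h.mem hy, ?_, fun h6 => hy1 (mul_eq_left.1 h6), rfl, smul_mul' _ _ _⟩
  intro h6
  apply hyx
  rw [← h.inv_eq x]
  exact eq_inv_of_mul_eq_one_right h6

theorem exists_y [Finite U] : ∃ y ∈ V, y ≠ 1 ∧ y ≠ x := by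
  by_contra hcon
  push Not at hcon
  have hsub : (V : Set U) ⊆ ({1, x} : Set U) := by
    intro v hv
    by_cases h1 : v = 1
    · exact Or.inl h1
    · exact Or.inr (Set.mem_singleton_iff.2 (hcon v hv h1))
  have h1 := Set.ncard_le_ncard hsub (Set.toFinite _)
  have h2 : ({1, x} : Set U).ncard ≤ 2 := Set.ncard_insert_le _ _ |>.trans (by simp)
  have h3 : (V : Set U).ncard = 4 := h.card
  omega

/-! ### the Sylow group and its subgroup `C_T(V)` -/

theorem o2_le_T [Finite X] : o2 (MulAction.stabilizer X x) ≤ T := by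
  refine o2_le_of_sylow h.two fun h1 => h.syl (h1.trans ?_)
  exact relIndex_dvd_index_of_le (fun t ht => MulAction.mem_stabilizer_iff.2 (h.Tx t ht))

theorem swap [Finite X] [Finite U] : ∃ τ ∈ o2 (MulAction.stabilizer X x), ∀ y ∈ V, y ≠ 1 → y ≠ x → τ • y = x * y := by
  obtain ⟨τ, hτ, v, hv, hne⟩ := h.mvQ
  have hT := h.o2_le_T hτ
  have hτx := h.Tx τ hT
  have hv1 : v ≠ 1 := by rintro rfl; exact hne (smul_one _)
  have hvx : v ≠ x := by rintro rfl; exact hne hτx
  have hτv : τ • v = x * v := by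
    rcases h.V_cases hv hv1 hvx (h.TV τ hT v hv) with h1 | h1 | h1 | h1
    · exact absurd (smul_left_cancel τ (h1.trans (smul_one τ).symm)) hv1
    · rw [← hτx, smul_left_cancel_iff] at h1
      exact absurd h1 hvx
    · exact absurd h1 hne
    · exact h1
  refine ⟨τ, hτ, fun y hy hy1 hyx => ?_⟩
  rcases h.V_cases hv hv1 hvx hy with h1 | h1 | h1 | h1
  · exact absurd h1 hy1
  · exact absurd h1 hyx
  · rw [h1]; exact hτv
  · rw [h1, smul_mul', hτx, hτv]

/-- fixed points of `C_T(V)` -/
theorem fixV [Finite X] [Finite U] {u : U} (hu : ∀ t ∈ T, (∀ v ∈ V, t • v = v) → t • u = u) : u ∈ V := by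
  obtain ⟨τ, hτ, hτV⟩ := h.swap
  obtain ⟨y, hy, hy1, hyx⟩ := h.exists_y
  have hT := h.o2_le_T hτ
  have hτx := h.Tx τ hT
  have hτy := hτV y hy hy1 hyx
  -- every element of `T` is in `C_T(V)` or in `τ C_T(V)`
  have hcase : ∀ t ∈ T, (∀ v ∈ V, t • v = v) ∨ ∀ v ∈ V, (τ⁻¹ * t) • v = v := by
    intro t ht
    have key : ∀ s ∈ T, s • y = y → ∀ v ∈ V, s • v = v := by
      intro s hs hsy v hv
      rcases h.V_cases hy hy1 hyx hv with h1 | h1 | h1 | h1
      · rw [h1, smul_one]
      · rw [h1]; exact h.Tx s hs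
      · rw [h1]; exact hsy
      · rw [h1, smul_mul', h.Tx s hs, hsy]
    rcases h.V_cases hy hy1 hyx (h.TV t ht y hy) with h1 | h1 | h1 | h1
    · exact absurd (smul_left_cancel t (h1.trans (smul_one t).symm)) hy1
    · rw [← h.Tx t ht, smul_left_cancel_iff] at h1
      exact absurd h1 hyx
    · exact Or.inl (key t ht h1)
    · refine Or.inr (key _ (mul_mem (inv_mem hT) ht) ?_)
      rw [mul_smul, inv_smul_eq_iff, h1, hτy]
  let F : Subgroup U :=
    { carrier := {u | ∀ t ∈ T, (∀ v ∈ V, t • v = v) → t • u = u}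
      one_mem' := fun t _ _ => smul_one t
      mul_mem' := fun {a b} ha hb t ht htv => by rw [smul_mul', ha t ht htv, hb t ht htv]
      inv_mem' := fun {a} ha t ht htv => by rw [smul_inv', ha t ht htv] }
  have hVF : V ≤ F := fun v hv t _ htv => htv v hv
  -- `u ↦ u (τ u)` maps `F` to `{1, x}` with kernel `{1, x}`
  have hsqV : ∀ v ∈ V, (τ * τ) • v = v := by
    intro v hv
    rcases h.V_cases hy hy1 hyx hv with h1 | h1 | h1 | h1
    · rw [h1, smul_one]
    · rw [h1, mul_smul, hτx, hτx]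
    · rw [h1, mul_smul, hτy, smul_mul', hτx, hτy, ← mul_assoc, h.sq, one_mul]
    · rw [h1, mul_smul, smul_mul', hτx, hτy, ← mul_assoc, h.sq, one_mul, hτy]
  have hfixed : ∀ u ∈ F, τ • u = u → u = 1 ∨ u = x := by
    intro u hu hτu
    refine h.fixT u fun t ht => ?_
    rcases hcase t ht with h1 | h1
    · exact hu t ht h1
    · have h2 := hu (τ⁻¹ * t) (mul_mem (inv_mem hT) ht) h1
      rw [mul_smul, inv_smul_eq_iff, hτu] at h2
      exact h2
  have hF : ∀ u ∈ F, τ • u * u = 1 ∨ τ • u * u = x := by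
    intro u hu
    have h1 : (τ * τ) • u = u := hu _ (mul_mem hT hT) hsqV
    refine hfixed _ ?_ ?_
    · intro t ht htv
      have h2 : t • τ • u = τ • u := by
        have h3 := hu (τ⁻¹ * t * τ) (mul_mem (mul_mem (inv_mem hT) ht) hT) fun v hv => by
          rw [mul_smul, mul_smul, htv _ (h.TV τ hT v hv), inv_smul_smul]
        rw [mul_smul, mul_smul, inv_smul_eq_iff] at h3
        exact h3
      rw [smul_mul', h2, hu t ht htv]
    · rw [smul_mul', ← mul_smul, h1, h.comm]
  rcases hF u hu with h1 | h1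
  · have h2 : τ • u = u := by
      rw [← h.inv_eq u]
      have h3 : τ • u = u⁻¹ := eq_inv_of_mul_eq_one_left h1
      rw [h.inv_eq u] at h3 ⊢
      exact h3
    rcases hfixed u hu h2 with h3 | h3
    · rw [h3]; exact one_mem V
    · rw [h3]; exact h.mem
  · -- `u y` is fixed by `τ`
    have h2 : τ • (u * y) = u * y := by
      have h3 : τ • u = x * u := by
        rw [← h1, mul_assoc, h.sq, mul_one]
      rw [smul_mul', h3, hτy]
      have h4 : x * u * (x * y) = (x * x) * (u * y) := by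
        rw [mul_assoc, mul_assoc, ← mul_assoc u x y, h.comm u x, mul_assoc x u y]
      rw [h4, h.sq, one_mul]
    have h5 : u * y ∈ F := mul_mem (show u ∈ F from hu) (hVF hy)
    have h6 : u * y ∈ V := by
      rcases hfixed _ h5 h2 with h3 | h3
      · rw [h3]; exact one_mem V
      · rw [h3]; exact h.mem
    exact (mul_mem_cancel_right hy).1 h6

/-! ### the family `A_p` -/

open Classical in
/-- `A_p = A^g` for `p = g x` -/
noncomputable def fam (x : U) (A : Subgroup X) (p : U) : Subgroup X :=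
  if hp : ∃ g : X, g • x = p then cj hp.choose A else ⊥

omit h in
theorem fam_eq [Finite X] (hn : ∀ g : X, g • x = x → ∀ a ∈ A, g * a * g⁻¹ ∈ A) (g : X) :
    fam x A (g • x) = cj g A := by
  have hp : ∃ k : X, k • x = g • x := ⟨g, rfl⟩
  have h1 : fam x A (g • x) = cj hp.choose A := by
    unfold fam
    rw [dif_pos hp]
  rw [h1]
  have h2 : (g⁻¹ * hp.choose) • x = x := by
    rw [mul_smul, hp.choose_spec, inv_smul_smul]
  have h3 : cj (g⁻¹ * hp.choose) A = A := by
    refine cj_eq_self ?_ 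
    exact hn _ h2
  rw [← cj_cj] at h3
  have h4 := congrArg (cj g) h3
  rwa [cj_cj_inv] at h4

/-! ### atoms -/

omit h in
theorem fo_eq (B : Subgroup X) : fo U B = Nat.card B * Nat.card (cv U (B : Set X)) := rfl

/-- exact subgroups of `A` are closed under products -/
theorem ex_sup [Finite X] [Finite U] {B D : Subgroup X} (hB : B ≤ A) (hD : D ≤ A) (hBe : Ex U B) (hDe : Ex U D) :
    Ex U (B ⊔ D) := by
  have hcomm : ∀ a ∈ A, ∀ b ∈ A, a * b = b * a := by
    intro a ha b hb
    have h1 := h.A_sq _ (mul_mem ha hb)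
    have h2 : a⁻¹ = a := (eq_inv_of_mul_eq_one_left (h.A_sq a ha)).symm
    have h3 : b⁻¹ = b := (eq_inv_of_mul_eq_one_left (h.A_sq b hb)).symm
    have h4 : a * b = (a * b)⁻¹ := eq_inv_of_mul_eq_one_left h1
    rw [mul_inv_rev, h2, h3] at h4
    exact h4
  have hn : B ≤ normalizer (D : Set X) := by
    intro b hb
    rw [mem_normalizer_iff]
    intro d
    constructor
    · intro hd
      rw [hcomm b (hB hb) d (hD hd), mul_inv_cancel_right]
      exact hd
    · intro hd
      have h1 : b⁻¹ * (b * d * b⁻¹) * b = b * d * b⁻¹ := by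
        rw [hcomm _ (inv_mem (hB hb)) _ (hD hd), inv_mul_cancel_right]
      have h2 : b⁻¹ * (b * d * b⁻¹) * b = d := by group
      rw [h2] at h1
      rw [h1]
      exact hd
  have h1 := fo_mul_le (M := U) hn
  rw [fo_eq, fo_eq, fo_eq, fo_eq, hBe, hDe] at h1
  have h2 : Nat.card (B ⊔ D : Subgroup X) * Nat.card (cv U ((B ⊔ D : Subgroup X) : Set X)) ≤ Nat.card U :=
    h.no1 _ ((sup_le hB hD).trans h.A_le) fun b hb => h.A_sq b (sup_le hB hD hb)
  have h3 : Nat.card (B ⊓ D : Subgroup X) * Nat.card (cv U ((B ⊓ D : Subgroup X) : Set X)) ≤ Nat.card U :=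
    h.no1 _ ((inf_le_left.trans hB).trans h.A_le) fun b hb => h.A_sq b (hB hb.1)
  have hU : 0 < Nat.card U := Nat.card_pos
  refine le_antisymm h2 ?_
  by_contra hlt
  rw [not_le] at hlt
  have h4 := lt_of_lt_of_le (Nat.mul_lt_mul_of_pos_right hlt hU) h1
  have h5 := Nat.mul_le_mul_left (Nat.card (B ⊔ D : Subgroup X) * Nat.card (cv U ((B ⊔ D : Subgroup X) : Set X))) h3
  exact absurd (lt_of_lt_of_le h4 h5) (lt_irrefl _)

/-- there is an atom in `A` -/
theorem exists_atom [Finite X] : ∃ B ≤ A, Atom U B := by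
  classical
  obtain ⟨B, ⟨hBA, hBe, hB1⟩, hmin⟩ := Set.exists_min_image {B : Subgroup X | B ≤ A ∧ Ex U B ∧ B ≠ ⊥}
    (fun B => Nat.card B) (Set.toFinite _) ⟨A, le_refl A, h.A_ex, h.A_ne⟩
  refine ⟨B, hBA, hB1, hBe, fun C hC hCe => ?_⟩
  by_contra hC1
  have h1 := hmin C ⟨hC.le.trans hBA, hCe, hC1⟩
  exact hC.ne (eq_of_le_of_card_ge hC.le h1)

theorem reduce [Finite X] [Finite U] : ∃ A' ≤ A, Base X x V T A' ∧
    ∀ w : U, (∀ B ≤ A', Atom U B → ∀ b ∈ B, b • w = w) → ∀ a ∈ A', a • w = w := by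
  classical
  obtain ⟨B, hBA, hB⟩ := h.exists_atom
  let 𝒮 : Set (Subgroup X) := {D | ∃ g : X, g • x = x ∧ D = cj g B}
  let A' : Subgroup X := sSup 𝒮
  have hcjA : ∀ g : X, g • x = x → cj g B ≤ A := by
    intro g hg y hy
    rw [mem_cj] at hy
    have h1 := h.A_nor g hg _ (hBA hy)
    have : g * (g⁻¹ * y * g) * g⁻¹ = y := by group
    rwa [this] at h1
  have hA'A : A' ≤ A := sSup_le (by rintro _ ⟨g, hg, rfl⟩; exact hcjA g hg)
  have hmem : ∀ g : X, g • x = x → cj g B ≤ A' := fun g hg => le_sSup ⟨g, hg, rfl⟩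
  have hBA' : B ≤ A' := by
    have h1 := hmem 1 (one_smul X x)
    rwa [cj_one] at h1
  -- a maximal exact subgroup of `A'`
  obtain ⟨D, ⟨hDA', hDe⟩, hmax⟩ := Set.exists_max_image {D : Subgroup X | D ≤ A' ∧ Ex U D}
    (fun D => Nat.card D) (Set.toFinite _) ⟨B, hBA', hB.ex⟩
  have hall : A' ≤ D := by
    refine sSup_le ?_
    rintro _ ⟨g, hg, rfl⟩
    have h1 : Ex U (cj g B ⊔ D) := h.ex_sup (hcjA g hg) (hDA'.trans hA'A) ((ex_cj g).2 hB.ex) hDe
    have h2 := hmax _ ⟨sup_le (hmem g hg) hDA', h1⟩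
    have h3 : D = cj g B ⊔ D := eq_of_le_of_card_ge le_sup_right h2
    rw [h3]
    exact le_sup_left
  have hex : Ex U A' := by
    have h1 : A' = D := le_antisymm hall hDA'
    rw [h1]
    exact hDe
  refine ⟨A', hA'A, ?_, ?_⟩
  · exact
    { sq := h.sq, faith := h.faith, ne := h.ne, mem := h.mem, card := h.card, two := h.two, syl := h.syl, Tx := h.Tx
      TV := h.TV, fixT := h.fixT, trV := h.trV, gen := h.gen, mvQ := h.mvQ, span := h.span
      A_le := hA'A.trans h.A_le
      A_nor := by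
        intro g hg a ha
        have h1 : cj g A' ≤ A' := by
          rw [cj_le_iff]
          refine sSup_le ?_
          rintro _ ⟨k, hk, rfl⟩
          have h2 := cj_mono g⁻¹ (hmem (g * k) (by rw [mul_smul, hk, hg]))
          rw [cj_cj, inv_mul_cancel_left] at h2
          exact h2
        refine h1 (mem_cj.2 ?_)
        have : g⁻¹ * (g * a * g⁻¹) * g = a := by group
        rwa [this]
      A_sq := fun a ha => h.A_sq a (hA'A ha)
      A_ex := hex
      A_quad := fun a ha b hb u => h.A_quad a (hA'A ha) b (hA'A hb) u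
      A_V := fun a ha v hv => h.A_V a (hA'A ha) v hv
      A_ne := fun h1 => hB.ne (le_bot_iff.1 (h1 ▸ hBA'))
      no1 := h.no1
      no2 := h.no2 }
  · intro w hw
    have h1 : A' ≤ MulAction.stabilizer X w := by
      refine sSup_le ?_
      rintro _ ⟨g, hg, rfl⟩ b hb
      exact MulAction.mem_stabilizer_iff.2 (hw _ (hmem g hg) (atom_cj g hB) b hb)
    exact fun a ha => MulAction.mem_stabilizer_iff.1 (h1 ha)

/-! ### the situation -/

/-- the component of `x` -/
theorem conn [Finite U] {Δ : Set U} (hx : x ∈ Δ) (hΔ : ∀ p ∈ Δ, ∀ q, adj X x V p q → q ∈ Δ) :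
    ∀ g : X, g • x ∈ Δ := by
  let Γ : Set U := {p | ∀ Δ : Set U, x ∈ Δ → (∀ p ∈ Δ, ∀ q, adj X x V p q → q ∈ Δ) → p ∈ Δ}
  have hΓx : x ∈ Γ := fun Δ hx _ => hx
  have hΓ : ∀ p ∈ Γ, ∀ q, adj X x V p q → q ∈ Γ := fun p hp q hpq Δ hx hΔ => hΔ p (hp Δ hx hΔ) q hpq
  have hadj : ∀ (g : X) (p q : U), adj X x V p q → adj X x V (g • p) (g • q) := by
    rintro g p q ⟨k, y, hy, hy1, hyx, rfl, rfl⟩
    exact ⟨g * k, y, hy, hy1, hyx, mul_smul _ _ _, mul_smul _ _ _⟩
  -- `g x ∈ Γ ==> g Γ ⊆ Γ`... in the form: `p ∈ Γ → g p ∈ Γ`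
  have hgΓ : ∀ g : X, g • x ∈ Γ → ∀ p ∈ Γ, g • p ∈ Γ := by
    intro g hg p hp
    exact hp {p | g • p ∈ Γ} hg (fun p hp q hpq => hΓ _ hp _ (hadj g p q hpq))
  let Y : Subgroup X :=
    { carrier := {g | g • x ∈ Γ ∧ g⁻¹ • x ∈ Γ}
      one_mem' := by
        refine ⟨?_, ?_⟩
        · rw [one_smul]; exact hΓx
        · rw [inv_one, one_smul]; exact hΓx
      mul_mem' := fun {a b} ha hb => ⟨by rw [mul_smul]; exact hgΓ a ha.1 _ hb.1, by
        rw [mul_inv_rev, mul_smul]; exact hgΓ b⁻¹ hb.2 _ ha.2⟩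
      inv_mem' := fun {a} ha => ⟨ha.2, by rw [inv_inv]; exact ha.1⟩ }
  have hV : ∀ v ∈ V, v ≠ 1 → v ∈ Γ := by
    intro v hv hv1
    by_cases hvx : v = x
    · rw [hvx]; exact hΓx
    · exact hΓ x hΓx v ⟨1, v, hv, hv1, hvx, one_smul _ _, one_smul _ _⟩
  have hY : Y = ⊤ := by
    refine h.gen Y (fun g hg => ?_) fun g hg => ?_
    · rw [MulAction.mem_stabilizer_iff] at hg
      refine ⟨by rw [hg]; exact hΓx, ?_⟩
      have : g⁻¹ • x = x := by rw [inv_smul_eq_iff, hg]
      rw [this]; exact hΓx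
    · refine ⟨hV _ (hg x h.mem) fun h1 => h.ne (smul_left_cancel g (h1.trans (smul_one g).symm)), hV _ ?_ ?_⟩
      · rw [← mem_smul_V hg, smul_inv_smul]
        exact h.mem
      · intro h1
        exact h.ne (smul_left_cancel g⁻¹ (h1.trans (smul_one _).symm))
  intro g
  have hg : g ∈ Y := by rw [hY]; exact mem_top g
  exact hg.1 Δ hx hΔ

theorem toSit [Finite X] [Finite U] (hatm : ∀ w : U, (∀ B ≤ A, Atom U B → ∀ b ∈ B, b • w = w) → ∀ a ∈ A, a • w = w) :
    Sit X {u : U | ∃ g : X, g • x = u} (adj X x V) (Wl X x V) (fam x A) := by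
  have hfam : ∀ g : X, fam x A (g • x) = cj g A := fam_eq h.A_nor
  have hst : ∀ (g : X) (p : U) (y : X), y ∈ MulAction.stabilizer X (g • p) ↔ g⁻¹ * y * g ∈ MulAction.stabilizer X p := by
    intro g p y
    rw [MulAction.mem_stabilizer_iff, MulAction.mem_stabilizer_iff, mul_smul, mul_smul, inv_smul_eq_iff]
  have hadj : ∀ (g : X) (p q : U), adj X x V p q → adj X x V (g • p) (g • q) := by
    rintro g p q ⟨k, y, hy, hy1, hyx, rfl, rfl⟩
    exact ⟨g * k, y, hy, hy1, hyx, mul_smul _ _ _, mul_smul _ _ _⟩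
  have hWl : ∀ (g : X) (p w : U), w ∈ Wl X x V p → g • w ∈ Wl X x V (g • p) := by
    intro g p w hw
    unfold Wl at hw ⊢
    induction hw using closure_induction with
    | mem z hz =>
      rcases hz with hz | hz
      · rw [Set.mem_singleton_iff] at hz
        rw [hz]
        exact subset_closure (Or.inl rfl)
      · exact subset_closure (Or.inr (hadj g p z hz))
    | one => rw [smul_one]; exact one_mem _
    | mul x y _ _ hx hy => rw [smul_mul']; exact mul_mem hx hy
    | inv x _ hx => rw [smul_inv']; exact inv_mem hx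
  obtain ⟨τ, hτ, hτV⟩ := h.swap
  have hoT := h.o2_le_T
  exact
  { sq := h.sq
    faith := h.faith
    pt_ne := by
      rintro _ ⟨g, rfl⟩ h1
      exact h.ne (smul_left_cancel g (h1.trans (smul_one g).symm))
    trans := by
      rintro _ ⟨g, rfl⟩ _ ⟨k, rfl⟩
      exact ⟨k * g⁻¹, by rw [mul_smul, inv_smul_smul]⟩
    adj_pt := by
      intro p q hpq
      have h1 := h.adj_symm' hpq
      obtain ⟨g, y, -, -, -, hg, -⟩ := hpq
      obtain ⟨k, y', -, -, -, hk, -⟩ := h1
      exact ⟨⟨g, hg⟩, ⟨k, hk⟩⟩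
    adj_symm := fun p q hpq => h.adj_symm' hpq
    adj_smul := hadj
    adj_mul := fun p q hpq => h.adj_mul' hpq
    W_eq := fun p _ => rfl
    Wq := by
      rintro _ ⟨g, rfl⟩ τ hτ w hw
      have hτx : τ • g • x = g • x := MulAction.mem_stabilizer_iff.1 (o2_le _ hτ)
      have hτ' : g⁻¹ * τ * g ∈ T := by
        rw [o2_stab, mem_cj] at hτ
        exact hoT hτ
      have hmul : ∀ a b : U, (τ • a = a ∨ τ • a = a * (g • x)) → (τ • b = b ∨ τ • b = b * (g • x)) →
          (τ • (a * b) = a * b ∨ τ • (a * b) = a * b * (g • x)) := by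
        rintro a b (ha | ha) (hb | hb)
        · left; rw [smul_mul', ha, hb]
        · right; rw [smul_mul', ha, hb, mul_assoc]
        · right; rw [smul_mul', ha, hb, mul_assoc, mul_assoc, h.comm (g • x) b]
        · left
          rw [smul_mul', ha, hb]
          have : a * (g • x) * (b * (g • x)) = a * b * ((g • x) * (g • x)) := by
            rw [mul_assoc, mul_assoc, ← mul_assoc (g • x) b (g • x), h.comm (g • x) b, mul_assoc b]
          rw [this, h.sq, mul_one]
      unfold Wl at hw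
      induction hw using closure_induction with
      | mem z hz =>
        rcases hz with hz | ⟨k, y, hy, hy1, hyx, hk, rfl⟩
        · rw [Set.mem_singleton_iff] at hz
          rw [hz]
          exact Or.inl hτx
        · -- `k⁻¹ τ k ∈ T`
          have h1 : k⁻¹ * τ * k ∈ T := by
            rw [← hk, o2_stab, mem_cj] at hτ
            exact hoT hτ
          have h2 := h.TV _ h1 y hy
          have h3 : τ • k • y = k • ((k⁻¹ * τ * k) • y) := by
            rw [← mul_smul, ← mul_smul]
            congr 1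
            group
          rw [h3]
          rcases h.V_cases hy hy1 hyx h2 with h4 | h4 | h4 | h4
          · exact absurd (smul_left_cancel _ (h4.trans (smul_one _).symm)) hy1
          · rw [← h.Tx _ h1, smul_left_cancel_iff] at h4
            exact absurd h4 hyx
          · left; rw [h4]
          · right; rw [h4, smul_mul', hk, h.comm]
      | one => left; exact smul_one τ
      | mul a b _ _ ha hb => exact hmul a b ha hb
      | inv a _ ha => rw [h.inv_eq]; exact ha
    mv := by
      intro p q hpq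
      obtain ⟨g, y, hy, hy1, hyx, rfl, rfl⟩ := h.adj_symm' hpq
      refine ⟨g * τ * g⁻¹, ?_, ?_⟩
      · rw [o2_stab, mem_cj]
        have : g⁻¹ * (g * τ * g⁻¹) * g = τ := by group
        rwa [this]
      · rw [mul_smul, mul_smul, inv_smul_smul, hτV y hy hy1 hyx, smul_mul', h.comm]
    fixS := by
      rintro _ ⟨g, rfl⟩
      refine ⟨cj g T, h.two.map _, ?_, ?_⟩
      · intro y hy
        rw [mem_cj] at hy
        rw [hst]
        exact MulAction.mem_stabilizer_iff.2 (h.Tx _ hy)
      · intro u hu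
        have h1 := h.fixT (g⁻¹ • u) fun t ht => by
          have h2 := hu (g * t * g⁻¹) (by
            rw [mem_cj]
            have : g⁻¹ * (g * t * g⁻¹) * g = t := by group
            rwa [this])
          rw [mul_smul, mul_smul, ← eq_inv_smul_iff] at h2
          exact h2
        rcases h1 with h1 | h1
        · left
          rw [inv_smul_eq_iff, smul_one] at h1
          exact h1
        · right
          rw [inv_smul_eq_iff] at h1
          exact h1
    fixL := by
      intro p q hpq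
      obtain ⟨g, y, hy, hy1, hyx, rfl, rfl⟩ := h.adj_symm' hpq
      let S₀ : Subgroup X :=
        { carrier := {t | t ∈ T ∧ ∀ v ∈ V, t • v = v}
          one_mem' := ⟨one_mem _, fun v _ => one_smul X v⟩
          mul_mem' := fun {a b} ha hb => ⟨mul_mem ha.1 hb.1, fun v hv => by rw [mul_smul, hb.2 v hv, ha.2 v hv]⟩
          inv_mem' := fun {a} ha => ⟨inv_mem ha.1, fun v hv => by rw [inv_smul_eq_iff, ha.2 v hv]⟩ }
      have hmemS : ∀ s, s ∈ cj g S₀ → g⁻¹ * s * g ∈ T ∧ ∀ v ∈ V, (g⁻¹ * s * g) • v = v := fun s hs => mem_cj.1 hs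
      have hS₀T : S₀ ≤ T := fun t ht => ht.1
      refine ⟨cj g S₀, (h.two.to_le hS₀T).map _, ?_, ?_, ?_, ?_⟩
      · intro s hs
        rw [hst]
        exact MulAction.mem_stabilizer_iff.2 ((hmemS s hs).2 y hy)
      · intro s hs
        rw [hst]
        exact MulAction.mem_stabilizer_iff.2 ((hmemS s hs).2 x h.mem)
      · intro σ hσ s hs
        rw [o2_stab, mem_cj] at hσ
        have hσT := hoT hσ
        obtain ⟨h1, h2⟩ := hmemS s hs
        rw [mem_cj]
        have e : g⁻¹ * (σ * s * σ⁻¹) * g = (g⁻¹ * σ * g) * (g⁻¹ * s * g) * (g⁻¹ * σ * g)⁻¹ := by group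
        rw [e]
        refine ⟨mul_mem (mul_mem hσT h1) (inv_mem hσT), fun v hv => ?_⟩
        rw [mul_smul, mul_smul, h2 _ (h.TV _ (inv_mem hσT) v hv), smul_inv_smul]
      · intro u hu
        have h1 : g⁻¹ • u ∈ V := h.fixV fun t ht htv => by
          have h2 := hu (g * t * g⁻¹) (by
            rw [mem_cj]
            have : g⁻¹ * (g * t * g⁻¹) * g = t := by group
            rw [this]
            exact ⟨ht, htv⟩)
          rw [mul_smul, mul_smul, ← eq_inv_smul_iff] at h2
          exact h2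
        rcases h.V_cases hy hy1 hyx h1 with h3 | h3 | h3 | h3
        · left; rw [inv_smul_eq_iff, smul_one] at h3; exact h3
        · right; right; left; rw [inv_smul_eq_iff] at h3; exact h3
        · right; left; rw [inv_smul_eq_iff] at h3; exact h3
        · right; right; right
          rw [inv_smul_eq_iff, smul_mul', h.comm] at h3
          exact h3
    A_smul := by
      rintro g _ ⟨k, rfl⟩
      rw [← mul_smul, hfam, hfam, cj_cj]
    A_le := by
      rintro _ ⟨g, rfl⟩
      rw [hfam, o2_stab]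
      exact cj_mono g h.A_le
    A_sq := by
      rintro _ ⟨g, rfl⟩ a ha
      rw [hfam, mem_cj] at ha
      have h1 := h.A_sq _ ha
      have h2 : a * a = g * ((g⁻¹ * a * g) * (g⁻¹ * a * g)) * g⁻¹ := by group
      rw [h2, h1, mul_one, mul_inv_cancel]
    A_ex := by
      rintro _ ⟨g, rfl⟩
      rw [hfam]
      exact (ex_cj g).2 h.A_ex
    A_quad := by
      rintro _ ⟨g, rfl⟩ a ha b hb u
      rw [hfam, mem_cj] at ha hb
      have h1 := h.A_quad _ ha _ hb (g⁻¹ • u)
      have e : ∀ (c : X) (v : U), c • v = g • ((g⁻¹ * c * g) • (g⁻¹ • v)) := by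
        intro c v
        rw [← mul_smul, ← mul_smul]
        congr 1
        group
      rw [e b, e a, smul_mul', inv_smul_smul, smul_inv', h1, smul_mul', smul_inv', smul_inv_smul]
    A_W := by
      rintro _ ⟨g, rfl⟩ a ha w hw
      rw [hfam, mem_cj] at ha
      have e : ∀ (v : U), a • v = g • ((g⁻¹ * a * g) • (g⁻¹ • v)) := by
        intro v
        rw [← mul_smul, ← mul_smul]
        congr 1
        group
      unfold Wl at hw
      induction hw using closure_induction with
      | mem z hz =>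
        rcases hz with hz | ⟨k, y, hy, hy1, hyx, hk, rfl⟩
        · rw [Set.mem_singleton_iff] at hz
          rw [hz, e, inv_smul_smul, h.A_V _ ha x h.mem]
        · have h1 : (k⁻¹ * g) • x = x := by rw [mul_smul, inv_smul_eq_iff, hk]
          have h2 := h.A_nor _ h1 _ ha
          have h3 : k⁻¹ * g * (g⁻¹ * a * g) * (k⁻¹ * g)⁻¹ = k⁻¹ * a * k := by group
          rw [h3] at h2
          have h4 := h.A_V _ h2 y hy
          rw [mul_smul, mul_smul, inv_smul_eq_iff] at h4
          exact h4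
      | one => exact smul_one a
      | mul a b _ _ ha hb => rw [smul_mul', ha, hb]
      | inv a _ ha => rw [smul_inv', ha]
    A_ne := by
      rintro _ ⟨g, rfl⟩ h1
      rw [hfam] at h1
      apply h.A_ne
      have h2 := congrArg (cj g⁻¹) h1
      rw [cj_inv_cj] at h2
      rw [h2]
      exact Subgroup.map_bot _
    atm := by
      rintro _ ⟨g, rfl⟩ w hw a ha
      rw [hfam, mem_cj] at ha
      have h1 := hatm (g⁻¹ • w) (fun B hBA hB b hb => by
        have h2 := hw (cj g B) (by rw [hfam]; exact cj_mono g hBA) (atom_cj g hB) (g * b * g⁻¹) (by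
          rw [mem_cj]
          have : g⁻¹ * (g * b * g⁻¹) * g = b := by group
          rwa [this])
        rw [mul_smul, mul_smul, ← eq_inv_smul_iff] at h2
        exact h2) _ ha
      rw [mul_smul, mul_smul, smul_inv_smul, smul_left_cancel_iff] at h1
      exact h1
    no1 := by
      rintro _ ⟨g, rfl⟩ B hB hBsq
      rw [o2_stab] at hB
      have h1 := h.no1 (cj g⁻¹ B) (by rw [cj_le_iff, inv_inv]; exact hB) (by
        intro b hb
        rw [mem_cj, inv_inv] at hb
        have h2 := hBsq _ hb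
        have h3 : b * b = g⁻¹ * ((g * b * g⁻¹) * (g * b * g⁻¹)) * g := by group
        rw [h3, h2, mul_one, inv_mul_cancel])
      rwa [card_cj, card_cv_cj] at h1
    no2 := by
      intro p q hpq B hBq hBp hBsq K hKB hK C hCW hC
      obtain ⟨g, y, hy, hy1, hyx, rfl, rfl⟩ := hpq
      rw [o2_stab] at hBq
      have hBq' : cj g⁻¹ B ≤ o2 (MulAction.stabilizer X y) := by rw [cj_le_iff, inv_inv]; exact hBq
      have hBx : cj g⁻¹ B ≤ MulAction.stabilizer X x := by
        intro b hb
        rw [mem_cj, inv_inv] at hb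
        have h1 := hBp hb
        rw [hst] at h1
        have : g⁻¹ * (g * b * g⁻¹) * g = b := by group
        rwa [this] at h1
      -- `O₂(C_y) ∩ C_x ≤ O₂(C_X(V)) ≤ O₂(N)`
      let Cv : Subgroup X :=
        { carrier := {g | ∀ v ∈ V, g • v = v}
          one_mem' := fun v _ => one_smul X v
          mul_mem' := fun {a b} ha hb v hv => by rw [mul_smul, hb v hv, ha v hv]
          inv_mem' := fun {a} ha v hv => by rw [inv_smul_eq_iff, ha v hv] }
      have hCv : ∀ g : X, g • x = x → g • y = y → g ∈ Cv := by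
        intro g hgx hgy v hv
        rcases h.V_cases hy hy1 hyx hv with h1 | h1 | h1 | h1
        · rw [h1, smul_one]
        · rw [h1, hgx]
        · rw [h1, hgy]
        · rw [h1, smul_mul', hgx, hgy]
      have hBV : cj g⁻¹ B ≤ o2 (stV X x V) := by
        have h1 : o2 (MulAction.stabilizer X y) ⊓ Cv ≤ o2 Cv := by
          refine le_o2 inf_le_right ((o2_isPGroup _).to_le inf_le_left) ?_
          intro z hz
          have hz' : z ∈ MulAction.stabilizer X y := MulAction.mem_stabilizer_iff.2 (hz y hy)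
          have h2 := le_normalizer_o2 (MulAction.stabilizer X y) hz'
          rw [mem_normalizer_iff] at h2 ⊢
          intro b
          rw [mem_inf, mem_inf, ← h2 b]
          refine and_congr_right fun _ => ⟨fun hb => mul_mem (mul_mem hz hb) (inv_mem hz), fun hb => ?_⟩
          have : b = z⁻¹ * (z * b * z⁻¹) * z := by group
          rw [this]
          exact mul_mem (mul_mem (inv_mem hz) hb) hz
        have h2 : Cv ≤ stV X x V := fun z hz => ⟨hz x h.mem, fun v => mem_smul_V (fun v hv => by rw [hz v hv]; exact hv) v⟩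
        have h3 : stV X x V ≤ normalizer (Cv : Set X) := by
          intro z hz
          apply mem_normalizer_of_cj_le
          intro b hb v hv
          rw [mem_cj] at hb
          have h4 : z⁻¹ • v ∈ V := (((stV X x V).inv_mem hz).2 v).2 hv
          have h5 := hb _ h4
          rw [mul_smul, mul_smul, smul_inv_smul, smul_left_cancel_iff] at h5
          exact h5
        have h4 : o2 Cv ≤ o2 (stV X x V) := by
          refine le_o2 ((o2_le _).trans h2) (o2_isPGroup _) ?_
          intro z hz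
          rw [mem_normalizer_iff_cj]
          have h6 := h3 hz
          rw [mem_normalizer_iff_cj] at h6
          have h7 : cj z (o2 Cv) ≤ o2 (cj z Cv) := by
            refine le_o2 (cj_mono z (o2_le _)) ((o2_isPGroup _).map _) ?_
            rw [← cj_normalizer]
            exact cj_mono z (le_normalizer_o2 _)
          rw [h6] at h7
          exact eq_of_le_of_card_ge h7 (card_cj z _).ge
        refine le_trans ?_ (h1.trans h4)
        intro b hb
        exact ⟨hBq' hb, hCv b (MulAction.mem_stabilizer_iff.1 (hBx hb))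
          (MulAction.mem_stabilizer_iff.1 (o2_le _ (hBq' hb)))⟩
      let C' : Subgroup U := C.map (MulDistribMulAction.toMonoidHom U g⁻¹)
      have hC'm : ∀ w, w ∈ C' ↔ g • w ∈ C := by
        intro w
        constructor
        · rintro ⟨c, hc, rfl⟩
          change g • g⁻¹ • c ∈ C
          rw [smul_inv_smul]
          exact hc
        · intro hw
          exact ⟨g • w, hw, inv_smul_smul g w⟩
      have hinj : Function.Injective (MulDistribMulAction.toMonoidHom U g⁻¹) :=
        fun a b hab => smul_left_cancel g⁻¹ hab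
      have hcardC : Nat.card C' = Nat.card C := card_map_of_injective hinj
      have hcardW : Nat.card (Wl X x V (g • x)) = Nat.card (Wl X x V x) := by
        refine Nat.card_congr ⟨fun z => ⟨g⁻¹ • (z : U), ?_⟩, fun z => ⟨g • (z : U), hWl g x _ z.2⟩, ?_, ?_⟩
        · have h1 := hWl g⁻¹ _ _ z.2
          rwa [inv_smul_smul] at h1
        · intro z; exact Subtype.ext (smul_inv_smul _ _)
        · intro z; exact Subtype.ext (inv_smul_smul _ _)
      have h1 := h.no2 (cj g⁻¹ B) hBV (by
          intro b hb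
          rw [mem_cj, inv_inv] at hb
          have h2 := hBsq _ hb
          have h3 : b * b = g⁻¹ * ((g * b * g⁻¹) * (g * b * g⁻¹)) * g := by group
          rw [h3, h2, mul_one, inv_mul_cancel]) (cj g⁻¹ K) (cj_mono _ hKB) (by
          intro b hb hbw
          rw [mem_cj, inv_inv] at hb ⊢
          refine hK _ hb fun w hw => ?_
          have h2 := hWl g⁻¹ _ _ hw
          rw [inv_smul_smul] at h2
          rcases hbw _ h2 with h3 | h3
          · left
            rw [mul_smul, mul_smul, h3, smul_inv_smul]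
          · right
            rw [mul_smul, mul_smul, h3, smul_mul', smul_inv_smul]) C' (by
          intro w hw
          rw [hC'm] at hw
          have h2 := hWl g⁻¹ _ _ (hCW hw)
          rwa [inv_smul_smul, inv_smul_smul] at h2) (by
          intro w hw b hb
          rw [hC'm] at hw
          rw [mem_cj, inv_inv] at hb
          have h2 := hC _ hw _ hb
          rw [mul_smul, mul_smul, inv_smul_smul, smul_left_cancel_iff] at h2
          exact h2)
      rwa [card_cj, card_cj, hcardC, ← hcardW] at h1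
    conn := by
      rintro Δ hΔ ⟨p, hp⟩ hcl
      obtain ⟨g, rfl⟩ := hΔ hp
      rintro _ ⟨k, rfl⟩
      have h1 := h.conn (Δ := {u | g • u ∈ Δ}) hp (fun p hp q hpq => hcl _ hp _ (hadj g p q hpq)) (g⁻¹ * k)
      change g • (g⁻¹ * k) • x ∈ Δ at h1
      rwa [← mul_smul, mul_inv_cancel_left] at h1
    span := h.span
    pt_nonempty := ⟨x, 1, one_smul X x⟩ }

/-- **THEOREM WD** -/
theorem main [Finite X] [Finite U] : V ≤ br (U := U) A ∨
    ∃ B ≤ A, Atom U B ∧ ∀ b ∈ B, ∀ u : U, b • u = u ∨ b • u = u * x := by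
  obtain ⟨A', hA'A, h', hatm⟩ := h.reduce
  have hS := h'.toSit hatm
  have hfam : ∀ g : X, fam x A' (g • x) = cj g A' := fam_eq h'.A_nor
  have hbr : ∀ {B D : Subgroup X}, B ≤ D → br (U := U) B ≤ br D := fun hBD => br_le fun b hb u => mem_br (hBD hb) u
  rcases hS.main with ⟨p, q, hpq, hq⟩ | ⟨_, ⟨g, rfl⟩, B, hBA, hB, htr⟩
  · left
    have hxp := hS.self_mem_R (hS.adj_pt _ _ hpq).1
    obtain ⟨g, y, hy, hy1, hyx, rfl, rfl⟩ := hpq
    rw [hfam] at hq hxp
    have h1 := smul_br g⁻¹ hq
    have h2 := smul_br g⁻¹ hxp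
    rw [cj_inv_cj, inv_smul_smul] at h1 h2
    intro v hv
    refine hbr hA'A ?_
    rcases h.V_cases hy hy1 hyx hv with h3 | h3 | h3 | h3
    · rw [h3]; exact one_mem _
    · rw [h3]; exact h2
    · rw [h3]; exact h1
    · rw [h3]; exact mul_mem h2 h1
  · right
    refine ⟨cj g⁻¹ B, ?_, atom_cj _ hB, ?_⟩
    · rw [hfam] at hBA
      refine le_trans ?_ hA'A
      rw [cj_le_iff, inv_inv]
      exact hBA
    · intro b hb u
      rw [mem_cj, inv_inv] at hb
      rcases htr _ hb (g • u) with h1 | h1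
      · left
        rw [mul_smul, mul_smul, inv_smul_smul, smul_left_cancel_iff] at h1
        exact h1
      · right
        rw [mul_smul, mul_smul, inv_smul_smul, ← smul_mul', smul_left_cancel_iff] at h1
        exact h1

end Base

end Cfsg.Agent.Omega.TC.WD
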